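import Groth.Agent.H41.GrModSections
import Groth.Agent.H8.QCohPushLocal
import Mathlib

/-!
# The module `M(n)~` on `Proj` of a graded ring is quasi-coherent

`isQuasicoherent_tilde`: for a graded module `M` over a graded ring `A` (gradings by additive
subgroups), `GrMod.tilde 𝒜 ℳ n` is a quasi-coherent module on `Proj 𝒜`.  By `rfl` this covers the
frozen `GrTilde.tilde`, `Twist.twist` and `GrTwist.twist`.
-/

set_option autoImplicit false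
set_option linter.style.haveILetI false
universe u

open CategoryTheory AlgebraicGeometry HomogeneousIdeal TopologicalSpace Opposite

noncomputable section

namespace Groth.Agent.H41.GrModQCoh

variable {A σ : Type u} [CommRing A] [SetLike σ A] [AddSubgroupClass σ A] (𝒜 : ℕ → σ) [GradedRing 𝒜]

/-! ### Sections of the structure sheaf -/

/-- The value at a point of a section of the structure sheaf of `Proj`. -/
abbrev rval {U : (Proj 𝒜).Opens} (a : Γ(Proj 𝒜, U)) (x : U) : GrTwist.A0 𝒜 x.1 :=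
  (a : GrTwist.O (𝒜 := 𝒜) (op U)).1 x

theorem rval_res {V W : (Proj 𝒜).Opens} (h : V ≤ W) (a : Γ(Proj 𝒜, W)) (x : V) :
    rval 𝒜 ((Proj 𝒜).presheaf.map (homOfLE h).op a) x = rval 𝒜 a ⟨x.1, h x.2⟩ := rfl

theorem rval_pow {U : (Proj 𝒜).Opens} (a : Γ(Proj 𝒜, U)) (N : ℕ) (x : U) :
    rval 𝒜 (a ^ N) x = rval 𝒜 a x ^ N := rfl

theorem mem_basicOpen_iff {U : (Proj 𝒜).Opens} (a : Γ(Proj 𝒜, U)) (x : Proj 𝒜) (hx : x ∈ U) :
    x ∈ (Proj 𝒜).basicOpen a ↔ IsUnit (rval 𝒜 a ⟨x, hx⟩) := by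
  refine ((Proj 𝒜).mem_basicOpen a x hx).trans ?_
  have e : Proj.stalkIso' 𝒜 x ((ProjectiveSpectrum.Proj.structureSheaf 𝒜).presheaf.germ U x hx a) =
      rval 𝒜 a ⟨x, hx⟩ := Proj.stalkIso'_germ 𝒜 U x hx a
  rw [← e]
  exact (isUnit_map_iff (Proj.stalkIso' 𝒜 x) _).symm

theorem exists_frac_of_section {d : ℕ} (hd : 0 < d) {f : A} (hf : f ∈ 𝒜 d)
    (a : Γ(Proj 𝒜, Proj.basicOpen 𝒜 f)) :
    ∃ (k : ℕ) (g : A), g ∈ 𝒜 (k • d) ∧ ∀ x : Proj.basicOpen 𝒜 f,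
      (rval 𝒜 a x).val = Localization.mk g (⟨f ^ k, fun h =>
        (ProjectiveSpectrum.mem_basicOpen 𝒜 f x.1).mp x.2 (x.1.isPrime.mem_of_pow_mem k h)⟩ :
        x.1.asHomogeneousIdeal.toIdeal.primeCompl) := by
  obtain ⟨z, rfl⟩ :=
    (ConcreteCategory.bijective_of_isIso (Proj.basicOpenIsoAway 𝒜 f hf hd).hom).2 a
  obtain ⟨k, g, hg, rfl⟩ := HomogeneousLocalization.Away.mk_surjective 𝒜 hf z
  exact ⟨k, g, hg, fun x => rfl⟩

theorem mem_basicOpen_frac_iff {d : ℕ} (hd : 0 < d) {f : A} (hf : f ∈ 𝒜 d)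
    (a : Γ(Proj 𝒜, Proj.basicOpen 𝒜 f)) (k : ℕ) (g : A)
    (ha : ∀ x : Proj.basicOpen 𝒜 f,
      (rval 𝒜 a x).val = Localization.mk g (⟨f ^ k, fun h =>
        (ProjectiveSpectrum.mem_basicOpen 𝒜 f x.1).mp x.2 (x.1.isPrime.mem_of_pow_mem k h)⟩ :
        x.1.asHomogeneousIdeal.toIdeal.primeCompl))
    (x : Proj 𝒜) :
    x ∈ (Proj 𝒜).basicOpen a ↔ f ∉ x.asHomogeneousIdeal ∧ g ∉ x.asHomogeneousIdeal := by
  constructor
  · intro hx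
    have hxf : x ∈ Proj.basicOpen 𝒜 f := (Proj 𝒜).basicOpen_le a hx
    refine ⟨hxf, ?_⟩
    have h1 := (mem_basicOpen_iff 𝒜 a x hxf).mp hx
    rw [← HomogeneousLocalization.isUnit_iff_isUnit_val, ha ⟨x, hxf⟩, Localization.mk_eq_mk',
      IsLocalization.AtPrime.isUnit_mk'_iff] at h1
    exact h1
  · rintro ⟨hxf, hxg⟩
    refine (mem_basicOpen_iff 𝒜 a x hxf).mpr ?_
    rw [← HomogeneousLocalization.isUnit_iff_isUnit_val, ha ⟨x, hxf⟩, Localization.mk_eq_mk',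
      IsLocalization.AtPrime.isUnit_mk'_iff]
    exact hxg

/-! ### Sections of `M(n)~` -/

variable {M τ : Type u} [AddCommGroup M] [Module A M] [SetLike τ M] [AddSubgroupClass τ M]
  (ℳ : ℕ → τ) [SetLike.GradedSMul 𝒜 ℳ] (n : ℤ)

theorem sect_ext {W : (Proj 𝒜).Opens} (s t : Γ(GrMod.tilde 𝒜 ℳ n, W))
    (h : ∀ x : W, GrMod.val s x = GrMod.val t x) : s = t :=
  Subtype.ext (funext fun x => Subtype.ext (h x))

theorem val_smul {W : (Proj 𝒜).Opens} (r : Γ(Proj 𝒜, W)) (s : Γ(GrMod.tilde 𝒜 ℳ n, W)) (x : W) :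
    GrMod.val (r • s) x = (rval 𝒜 r x).val • GrMod.val s x :=
  GrMod.coe_smul_val n x.1 _ _

theorem val_res {V W : (Proj 𝒜).Opens} (h : V ≤ W) (s : Γ(GrMod.tilde 𝒜 ℳ n, W)) (x : V) :
    GrMod.val ((GrMod.tilde 𝒜 ℳ n).presheaf.map (homOfLE h).op s) x =
      GrMod.val s ⟨x.1, h x.2⟩ := rfl

theorem val_zero {W : (Proj 𝒜).Opens} (x : W) :
    GrMod.val (0 : Γ(GrMod.tilde 𝒜 ℳ n, W)) x = 0 := rfl

/-- The section given by one fraction `m / s`. -/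
def fracSect (U : (Proj 𝒜).Opens) {i j : ℕ} (hij : (i : ℤ) = j + n) (m : ℳ i) (s : 𝒜 j)
    (hs : ∀ x : U, (s : A) ∉ x.1.asHomogeneousIdeal) : Γ(GrMod.tilde 𝒜 ℳ n, U) :=
  (⟨fun x => ⟨LocalizedModule.mk (m : M) ⟨(s : A), hs x⟩,
      Submodule.subset_span ⟨i, j, m, s, hs x, hij, rfl⟩⟩,
    fun x => ⟨U, x.2, 𝟙 _, i, j, m, s, hs, Or.inl hij, fun _ => rfl⟩⟩ :
    GrMod.sect 𝒜 ℳ n (op U))

theorem val_fracSect (U : (Proj 𝒜).Opens) {i j : ℕ} (hij : (i : ℤ) = j + n) (m : ℳ i) (s : 𝒜 j)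
    (hs : ∀ x : U, (s : A) ∉ x.1.asHomogeneousIdeal) (x : U) :
    GrMod.val (fracSect 𝒜 ℳ n U hij m s hs) x = LocalizedModule.mk (m : M) ⟨(s : A), hs x⟩ := rfl

variable [DirectSum.Decomposition ℳ]

theorem hex {d : ℕ} (hd : 0 < d) {f : A} (hf : f ∈ 𝒜 d) (a : Γ(Proj 𝒜, Proj.basicOpen 𝒜 f))
    (y : Γ(GrMod.tilde 𝒜 ℳ n, (Proj 𝒜).basicOpen a)) :
    ∃ (N : ℕ) (x : Γ(GrMod.tilde 𝒜 ℳ n, Proj.basicOpen 𝒜 f)),
      ((Proj 𝒜).presheaf.map (homOfLE ((Proj 𝒜).basicOpen_le a)).op a) ^ N • y =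
        (GrMod.tilde 𝒜 ℳ n).presheaf.map (homOfLE ((Proj 𝒜).basicOpen_le a)).op x := by
  obtain ⟨k, g, hg, ha⟩ := exists_frac_of_section 𝒜 hd hf a
  have hW := mem_basicOpen_frac_iff 𝒜 hd hf a k g ha
  have hfg : f * g ∈ 𝒜 (d + k • d) := SetLike.mul_mem_graded hf hg
  have hle : ProjectiveSpectrum.basicOpen 𝒜 (f * g) ≤ (Proj 𝒜).basicOpen a := fun x hx =>
    (hW x).mpr ⟨fun h => hx (Ideal.mul_mem_right _ _ h), fun h => hx (Ideal.mul_mem_left _ _ h)⟩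
  obtain ⟨K, i, m, hi, hy⟩ := GrModSections.sections_eq_fraction 𝒜 ℳ n (Nat.add_pos_left hd _) hfg
    ((GrMod.tilde 𝒜 ℳ n).presheaf.map (homOfLE hle).op y)
  have hdeg : (i : ℤ) = ((K * (k + 1)) • d : ℕ) + n := by
    rw [hi]; simp only [smul_eq_mul]; push_cast; ring
  refine ⟨K, fracSect 𝒜 ℳ n (Proj.basicOpen 𝒜 f) hdeg m
    ⟨f ^ (K * (k + 1)), SetLike.pow_mem_graded _ hf⟩
    (fun x h => (ProjectiveSpectrum.mem_basicOpen 𝒜 f x.1).mp x.2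
      (x.1.isPrime.mem_of_pow_mem _ h)), ?_⟩
  refine sect_ext 𝒜 ℳ n _ _ fun x => ?_
  obtain ⟨hxf, hxg⟩ := (hW x.1).mp x.2
  have hxf' : x.1 ∈ Proj.basicOpen 𝒜 f := hxf
  have hxfg : x.1 ∈ ProjectiveSpectrum.basicOpen 𝒜 (f * g) := fun h =>
    (x.1.isPrime.mem_or_mem h).elim hxf hxg
  have hfk : f ^ k ∈ x.1.asHomogeneousIdeal.toIdeal.primeCompl := fun h =>
    hxf (x.1.isPrime.mem_of_pow_mem k h)
  have hfgK : (f * g) ^ K ∈ x.1.asHomogeneousIdeal.toIdeal.primeCompl := fun h =>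
    hxfg (x.1.isPrime.mem_of_pow_mem K h)
  have h2 : GrMod.val y x = LocalizedModule.mk (m : M) ⟨(f * g) ^ K, hfgK⟩ := hy ⟨x.1, hxfg⟩
  have h3 : (rval 𝒜 (((Proj 𝒜).presheaf.map (homOfLE ((Proj 𝒜).basicOpen_le a)).op a) ^ K) x).val =
      Localization.mk (g ^ K) (⟨f ^ k, hfk⟩ ^ K) := by
    have e1 : rval 𝒜 (((Proj 𝒜).presheaf.map (homOfLE ((Proj 𝒜).basicOpen_le a)).op a) ^ K) x =
        (rval 𝒜 a ⟨x.1, hxf'⟩) ^ K := rfl
    have e2 : (rval 𝒜 a ⟨x.1, hxf'⟩).val = Localization.mk g ⟨f ^ k, hfk⟩ := ha ⟨x.1, hxf'⟩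
    rw [e1, HomogeneousLocalization.val_pow, e2, Localization.mk_pow]
  rw [val_smul, h3, h2, val_res, val_fracSect, LocalizedModule.mk_smul_mk, LocalizedModule.mk_eq]
  refine ⟨1, ?_⟩
  have key : f ^ (K * (k + 1)) • (g ^ K • (m : M)) = ((f ^ k) ^ K * (f * g) ^ K) • (m : M) := by
    rw [smul_smul]; congr 1; ring
  rw [one_smul, one_smul]
  exact key

theorem hzero {d : ℕ} (hd : 0 < d) {f : A} (hf : f ∈ 𝒜 d) (a : Γ(Proj 𝒜, Proj.basicOpen 𝒜 f))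
    (x₀ : Γ(GrMod.tilde 𝒜 ℳ n, Proj.basicOpen 𝒜 f))
    (h0 : (GrMod.tilde 𝒜 ℳ n).presheaf.map (homOfLE ((Proj 𝒜).basicOpen_le a)).op x₀ = 0) :
    ∃ N : ℕ, a ^ N • x₀ = 0 := by
  obtain ⟨k, g, hg, ha⟩ := exists_frac_of_section 𝒜 hd hf a
  have hW := mem_basicOpen_frac_iff 𝒜 hd hf a k g ha
  have hfg : f * g ∈ 𝒜 (d + k • d) := SetLike.mul_mem_graded hf hg
  obtain ⟨K, i, m, hi, hx₀⟩ := GrModSections.sections_eq_fraction 𝒜 ℳ n hd hf x₀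
  have hloc : ∀ x : ProjectiveSpectrum 𝒜, f * g ∉ x.asHomogeneousIdeal →
      ∃ c : A, c ∉ x.asHomogeneousIdeal ∧ c • (m : M) = 0 := by
    intro x hx
    have hxf : f ∉ x.asHomogeneousIdeal := fun h => hx (Ideal.mul_mem_right _ _ h)
    have hxg : g ∉ x.asHomogeneousIdeal := fun h => hx (Ideal.mul_mem_left _ _ h)
    have hxW : x ∈ (Proj 𝒜).basicOpen a := (hW x).mpr ⟨hxf, hxg⟩
    have hfK : f ^ K ∈ x.asHomogeneousIdeal.toIdeal.primeCompl := fun h =>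
      hxf (x.isPrime.mem_of_pow_mem K h)
    have h1 : GrMod.val x₀ ⟨x, hxf⟩ = 0 := by
      have := congrArg (fun s => GrMod.val s ⟨x, hxW⟩) h0
      exact this
    have h2 : LocalizedModule.mk (m : M) ⟨f ^ K, hfK⟩ = (0 : GrMod.LocMod 𝒜 (M := M) x) :=
      (hx₀ ⟨x, hxf⟩).symm.trans h1
    rw [← LocalizedModule.zero_mk (1 : x.asHomogeneousIdeal.toIdeal.primeCompl),
      LocalizedModule.mk_eq] at h2
    obtain ⟨u, hu⟩ := h2
    refine ⟨u.1, u.2, ?_⟩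
    rw [smul_zero, smul_zero, one_smul] at hu
    exact hu
  obtain ⟨N, hN⟩ := GrModSections.exists_pow_smul_eq_zero_of_forall_localized_eq_zero 𝒜 ℳ
    (Nat.add_pos_left hd _) hfg m.2 hloc
  refine ⟨N, sect_ext 𝒜 ℳ n _ _ fun x => ?_⟩
  have hxf : f ∉ x.1.asHomogeneousIdeal := (ProjectiveSpectrum.mem_basicOpen 𝒜 f x.1).mp x.2
  have hfk : f ^ k ∈ x.1.asHomogeneousIdeal.toIdeal.primeCompl := fun h =>
    hxf (x.1.isPrime.mem_of_pow_mem k h)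
  have hfK : f ^ K ∈ x.1.asHomogeneousIdeal.toIdeal.primeCompl := fun h =>
    hxf (x.1.isPrime.mem_of_pow_mem K h)
  have hfN : f ^ N ∈ x.1.asHomogeneousIdeal.toIdeal.primeCompl := fun h =>
    hxf (x.1.isPrime.mem_of_pow_mem N h)
  have e2 : (rval 𝒜 (a ^ N) x).val = Localization.mk (g ^ N) (⟨f ^ k, hfk⟩ ^ N) := by
    have e1 : rval 𝒜 (a ^ N) x = (rval 𝒜 a x) ^ N := rfl
    have e2' : (rval 𝒜 a x).val = Localization.mk g ⟨f ^ k, hfk⟩ := ha x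
    rw [e1, HomogeneousLocalization.val_pow, e2', Localization.mk_pow]
  have e3 : GrMod.val x₀ x = LocalizedModule.mk (m : M) ⟨f ^ K, hfK⟩ := hx₀ x
  rw [val_smul, e2, e3, LocalizedModule.mk_smul_mk, val_zero,
    ← LocalizedModule.zero_mk (1 : x.1.asHomogeneousIdeal.toIdeal.primeCompl),
    LocalizedModule.mk_eq]
  refine ⟨⟨f ^ N, hfN⟩, ?_⟩
  have key : f ^ N • (g ^ N • (m : M)) = 0 := by rw [smul_smul, ← mul_pow]; exact hN
  rw [smul_zero, smul_zero, one_smul]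
  exact key

/-- `M(n)~` is quasi-coherent. -/
theorem isQuasicoherent_tilde : (GrMod.tilde 𝒜 ℳ n).IsQuasicoherent := by
  refine Groth.Agent.H8.isQuasicoherent_of_sections_cover (GrMod.tilde 𝒜 ℳ n)
    (ι := {p : ℕ × A // 0 < p.1 ∧ p.2 ∈ 𝒜 p.1}) (fun p => Proj.basicOpen 𝒜 p.1.2) ?_
    (fun p => Proj.isAffineOpen_basicOpen 𝒜 p.1.2 p.2.2 p.2.1)
    (fun p a y => hex 𝒜 ℳ n p.2.1 p.2.2 a y) (fun p a x h => hzero 𝒜 ℳ n p.2.1 p.2.2 a x h)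
  show ⨆ p : {p : ℕ × A // 0 < p.1 ∧ p.2 ∈ 𝒜 p.1}, Proj.basicOpen 𝒜 p.1.2 = ⊤
  refine eq_top_iff.mpr fun x _ => Opens.mem_iSup.mpr ?_
  by_contra hcon
  push Not at hcon
  apply x.not_irrelevant_le
  rw [HomogeneousIdeal.irrelevant_le]
  intro i hi s hs
  by_contra hsx
  exact hcon ⟨(i, s), hi, hs⟩ hsx

end Groth.Agent.H41.GrModQCoh
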