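import Groth.Agent.H18.TensorModIso
import Groth.Agent.H8.IsoCover
import Mathlib

/-!
# Gluing a bilinear pairing of modules from a local, valuewise relation

A relation `R W s t w` ("`w` is the product of `s` and `t` over `W`") which determines `w`, is
local, is compatible with restriction, has local solutions and is bilinear yields a morphism of
presheaves of modules `L ⊗ L' ⟶ L''`; a local generator of `L'` against which the pairing is
bijective makes the induced map `tensorMod L L' ⟶ L''` an isomorphism.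
-/

set_option autoImplicit false
set_option linter.style.haveILetI false
universe u

open CategoryTheory AlgebraicGeometry TopologicalSpace Opposite MonoidalCategory
open Groth.Agent.H8 Groth.Agent.H18
open scoped TensorProduct

noncomputable section

namespace Groth.Agent.H41.BilinGlue

/-- If `N` is generated by `σ` and `s ↦ f (s ⊗ σ)` is bijective then `f` is bijective. -/
theorem bijective_lift_of_generator_right {R M N P : Type*} [CommRing R] [AddCommGroup M]
    [Module R M] [AddCommGroup N] [Module R N] [AddCommGroup P] [Module R P]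
    (f : M ⊗[R] N →ₗ[R] P) (σ : N) (hσ : Function.Surjective (fun r : R => r • σ))
    (hf : Function.Bijective (fun s : M => f (s ⊗ₜ[R] σ))) : Function.Bijective f := by
  have hrep : ∀ z : M ⊗[R] N, ∃ s : M, z = s ⊗ₜ[R] σ := by
    intro z
    induction z using TensorProduct.induction_on with
    | zero => exact ⟨0, (TensorProduct.zero_tmul _ _).symm⟩
    | tmul m t =>
      obtain ⟨r, rfl⟩ := hσ t
      exact ⟨r • m, (TensorProduct.smul_tmul r m σ).symm⟩
    | add z₁ z₂ h₁ h₂ =>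
      obtain ⟨t₁, rfl⟩ := h₁
      obtain ⟨t₂, rfl⟩ := h₂
      exact ⟨t₁ + t₂, (TensorProduct.add_tmul _ _ _).symm⟩
  constructor
  · intro z₁ z₂ h
    obtain ⟨t₁, rfl⟩ := hrep z₁
    obtain ⟨t₂, rfl⟩ := hrep z₂
    rw [hf.1 h]
  · intro p
    obtain ⟨t, ht⟩ := hf.2 p
    exact ⟨t ⊗ₜ σ, ht⟩

variable {X : Scheme.{u}} (L L' L'' : X.Modules)

/-- The axioms on a product relation. -/
structure GlueRel (R : ∀ W : X.Opens, Γ(L, W) → Γ(L', W) → Γ(L'', W) → Prop) : Prop where
  unique : ∀ (W : X.Opens) (s : Γ(L, W)) (t : Γ(L', W)) (w w' : Γ(L'', W)),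
    R W s t w → R W s t w' → w = w'
  res : ∀ {W V : X.Opens} (h : V ≤ W) (s : Γ(L, W)) (t : Γ(L', W)) (w : Γ(L'', W)), R W s t w →
    R V (L.presheaf.map (homOfLE h).op s) (L'.presheaf.map (homOfLE h).op t)
      (L''.presheaf.map (homOfLE h).op w)
  of_local : ∀ (W : X.Opens) (s : Γ(L, W)) (t : Γ(L', W)) (w : Γ(L'', W)),
    (∀ x ∈ W, ∃ (V : X.Opens) (h : V ≤ W), x ∈ V ∧
      R V (L.presheaf.map (homOfLE h).op s) (L'.presheaf.map (homOfLE h).op t)
        (L''.presheaf.map (homOfLE h).op w)) → R W s t w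
  exists_local : ∀ (W : X.Opens) (s : Γ(L, W)) (t : Γ(L', W)), ∀ x ∈ W,
    ∃ (V : X.Opens) (h : V ≤ W), x ∈ V ∧ ∃ w : Γ(L'', V),
      R V (L.presheaf.map (homOfLE h).op s) (L'.presheaf.map (homOfLE h).op t) w
  add_left : ∀ (W : X.Opens) (s s' : Γ(L, W)) (t : Γ(L', W)) (w w' : Γ(L'', W)),
    R W s t w → R W s' t w' → R W (s + s') t (w + w')
  add_right : ∀ (W : X.Opens) (s : Γ(L, W)) (t t' : Γ(L', W)) (w w' : Γ(L'', W)),
    R W s t w → R W s t' w' → R W s (t + t') (w + w')
  smul_left : ∀ (W : X.Opens) (a : Γ(X, W)) (s : Γ(L, W)) (t : Γ(L', W)) (w : Γ(L'', W)),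
    R W s t w → R W (a • s) t (a • w)
  smul_right : ∀ (W : X.Opens) (a : Γ(X, W)) (s : Γ(L, W)) (t : Γ(L', W)) (w : Γ(L'', W)),
    R W s t w → R W s (a • t) (a • w)

namespace GlueRel

variable {L L' L''} {R : ∀ W : X.Opens, Γ(L, W) → Γ(L', W) → Γ(L'', W) → Prop}

theorem exists_mul (hR : GlueRel L L' L'' R) (W : X.Opens) (s : Γ(L, W)) (t : Γ(L', W)) :
    ∃ w : Γ(L'', W), R W s t w := by
  classical
  choose V hV hxV τ hτ using fun x : W => hR.exists_local W s t x.1 x.2
  have hcompat : TopCat.Presheaf.IsCompatible L''.presheaf V τ := by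
    intro x y
    change L''.presheaf.map (homOfLE (inf_le_left : V x ⊓ V y ≤ V x)).op (τ x) =
      L''.presheaf.map (homOfLE (inf_le_right : V x ⊓ V y ≤ V y)).op (τ y)
    have h1 := hR.res (inf_le_left : V x ⊓ V y ≤ V x) _ _ _ (hτ x)
    have h2 := hR.res (inf_le_right : V x ⊓ V y ≤ V y) _ _ _ (hτ y)
    rw [res_res, res_res] at h1 h2
    exact hR.unique _ _ _ _ _ h1 h2
  have hcover : W ≤ iSup V := fun x hx => Opens.mem_iSup.mpr ⟨⟨x, hx⟩, hxV ⟨x, hx⟩⟩
  obtain ⟨w, hw, -⟩ := TopCat.Sheaf.existsUnique_gluing' (F := ⟨L''.presheaf, L''.isSheaf⟩)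
    V W (fun x => homOfLE (hV x)) hcover τ hcompat
  refine ⟨w, hR.of_local W s t w fun x hx => ⟨V ⟨x, hx⟩, hV ⟨x, hx⟩, hxV ⟨x, hx⟩, ?_⟩⟩
  have h1 : L''.presheaf.map (homOfLE (hV ⟨x, hx⟩)).op w = τ ⟨x, hx⟩ := hw ⟨x, hx⟩
  rw [h1]
  exact hτ ⟨x, hx⟩

/-- The product determined by the relation. -/
def mul (hR : GlueRel L L' L'' R) (W : X.Opens) (s : Γ(L, W)) (t : Γ(L', W)) : Γ(L'', W) :=
  (hR.exists_mul W s t).choose

theorem mul_spec (hR : GlueRel L L' L'' R) (W : X.Opens) (s : Γ(L, W)) (t : Γ(L', W)) :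
    R W s t (hR.mul W s t) := (hR.exists_mul W s t).choose_spec

theorem mul_eq (hR : GlueRel L L' L'' R) {W : X.Opens} {s : Γ(L, W)} {t : Γ(L', W)}
    {w : Γ(L'', W)} (h : R W s t w) : hR.mul W s t = w :=
  hR.unique _ _ _ _ _ (hR.mul_spec W s t) h

theorem mul_res (hR : GlueRel L L' L'' R) {W V : X.Opens} (h : V ≤ W) (s : Γ(L, W))
    (t : Γ(L', W)) :
    hR.mul V (L.presheaf.map (homOfLE h).op s) (L'.presheaf.map (homOfLE h).op t) =
      L''.presheaf.map (homOfLE h).op (hR.mul W s t) :=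
  hR.mul_eq (hR.res h s t _ (hR.mul_spec W s t))

set_option backward.isDefEq.respectTransparency false in
/-- The pairing as a morphism of presheaves of modules. -/
def hom (hR : GlueRel L L' L'' R) :
    TensorModIso.tensorPre' L L' ⟶
      (PresheafOfModules.restrictScalars (𝟙 X.ringCatSheaf.obj)).obj L''.val where
  app U := ModuleCat.MonoidalCategory.tensorLift
    (R := ↑((X.sheaf.obj ⋙ forget₂ CommRingCat RingCat).obj U))
    (M₁ := L.val.obj U) (M₂ := L'.val.obj U)
    (M₃ := ((PresheafOfModules.restrictScalars (𝟙 X.ringCatSheaf.obj)).obj L''.val).obj U)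
    (fun (s : Γ(L, U.unop)) (t : Γ(L', U.unop)) => hR.mul U.unop s t)
    (fun s s' t => hR.mul_eq (hR.add_left _ _ _ _ _ _ (hR.mul_spec _ s t) (hR.mul_spec _ s' t)))
    (fun r s t => hR.mul_eq (hR.smul_left _ r _ _ _ (hR.mul_spec _ s t)))
    (fun s t t' => hR.mul_eq (hR.add_right _ _ _ _ _ _ (hR.mul_spec _ s t) (hR.mul_spec _ s t')))
    (fun r s t => hR.mul_eq (hR.smul_right _ r _ _ _ (hR.mul_spec _ s t)))
  naturality {U V} f := by
    refine ModuleCat.MonoidalCategory.tensor_ext (fun s t => ?_)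
    have hle : V.unop ≤ U.unop := f.unop.le
    have hf : f = (homOfLE hle).op := Quiver.Hom.unop_inj (Subsingleton.elim _ _)
    subst hf
    exact (hR.mul_res hle s t)

set_option backward.isDefEq.respectTransparency false in
/-- The induced map `tensorMod L L' ⟶ L''` is an isomorphism as soon as, locally, `L'` has a
generator against which the pairing is bijective. -/
theorem nonempty_iso (hR : GlueRel L L' L'' R)
    (hloc : ∀ (U : X.Opens) (x : X), x ∈ U → ∃ V : X.Opens, ∃ _ : V ≤ U, x ∈ V ∧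
      ∃ σ : Γ(L', V), Function.Surjective (fun r : Γ(X, V) => r • σ) ∧
        Function.Bijective (fun s : Γ(L, V) => hR.mul V s σ)) :
    Nonempty (CohB1.tensorMod L L' ≅ L'') := by
  refine TensorModIso.nonempty_tensorMod_iso _ _ _ hR.hom ?_
  intro U x hx
  obtain ⟨V, hVU, hxV, σ, h1, h2⟩ := hloc U x hx
  refine ⟨V, hVU, hxV, ?_⟩
  exact bijective_lift_of_generator_right
    (R := ↑((X.sheaf.obj ⋙ forget₂ CommRingCat RingCat).obj (op V)))
    (M := ↑(L.val.obj (op V))) (N := ↑(L'.val.obj (op V)))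
    (P := ↑(((PresheafOfModules.restrictScalars (𝟙 X.ringCatSheaf.obj)).obj L''.val).obj (op V)))
    (hR.hom.app (op V)).hom σ h1 h2

end GlueRel

end Groth.Agent.H41.BilinGlue
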