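import Groth.Prelude.Def_GrMod3
import Mathlib

/-!
# Sections of `M(n)~` over `D₊(f)` are fractions, for gradings by additive subgroups

Port to the generality of `GrMod` (gradings by additive subgroups) of the library of helper18
(`H18/GradedModule`, `H18/TildeSections`, written for gradings by submodules over a base ring).
-/

set_option autoImplicit false
universe u

namespace Groth.Agent.H41.GrModSections

open AlgebraicGeometry HomogeneousIdeal TopologicalSpace Opposite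

section
variable {A σ : Type u} [CommRing A] [SetLike σ A] [AddSubgroupClass σ A] (𝒜 : ℕ → σ) [GradedRing 𝒜]

/-- Homogeneous basic opens form a basis. -/
theorem exists_homogeneous_basicOpen_subset (V : Opens (ProjectiveSpectrum.top 𝒜))
    (x : ProjectiveSpectrum 𝒜) (hx : x ∈ V) :
    ∃ (k : ℕ) (a : A), a ∈ 𝒜 k ∧ a ∉ x.asHomogeneousIdeal ∧
      ∀ y : ProjectiveSpectrum 𝒜, a ∉ y.asHomogeneousIdeal → y ∈ V := by
  obtain ⟨_, ⟨r, rfl⟩, hxr, hrV⟩ :=
    (ProjectiveSpectrum.isTopologicalBasis_basic_opens 𝒜).exists_subset_of_mem_open hx V.2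
  have hrx : r ∉ x.asHomogeneousIdeal := hxr
  have h1 : ¬ ∀ k, (DirectSum.decompose 𝒜 r k : A) ∈ x.asHomogeneousIdeal.toIdeal := by
    intro h
    exact hrx ((x.asHomogeneousIdeal.isHomogeneous.mem_iff).mpr h)
  push Not at h1
  obtain ⟨k, hk⟩ := h1
  refine ⟨k, _, SetLike.coe_mem _, hk, fun y hy => hrV ?_⟩
  show r ∉ y.asHomogeneousIdeal
  intro hr
  exact hy ((y.asHomogeneousIdeal.isHomogeneous.mem_iff).mp hr k)

/-- `f` lies in the radical of the ideal generated by homogeneous elements whose basic opens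
cover `D₊(f)`. -/
theorem mem_radical_span_of_cover {ι : Type*} (t : Finset ι) (g : ι → A)
    (hg : ∀ x ∈ t, ∃ k, g x ∈ 𝒜 k) {d : ℕ} (hd : 0 < d) {f : A} (hf : f ∈ 𝒜 d)
    (hcov : ∀ y : ProjectiveSpectrum 𝒜, f ∉ y.asHomogeneousIdeal →
      ∃ x ∈ t, g x ∉ y.asHomogeneousIdeal) :
    f ∈ (Ideal.span (Set.range fun x : t => g x.1)).radical := by
  rw [Ideal.radical_eq_sInf, Ideal.mem_sInf]
  rintro P ⟨hIP, hP⟩
  by_contra hfP
  have hcore : (P.homogeneousCore 𝒜).toIdeal.IsPrime := hP.homogeneousCore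
  have hle : (P.homogeneousCore 𝒜).toIdeal ≤ P := Ideal.toIdeal_homogeneousCore_le 𝒜 P
  have hfQ : f ∉ P.homogeneousCore 𝒜 := fun h => hfP (hle h)
  let y : ProjectiveSpectrum 𝒜 := ⟨P.homogeneousCore 𝒜, hcore,
    fun hirr => hfQ (hirr (HomogeneousIdeal.mem_irrelevant_of_mem 𝒜 hd hf))⟩
  obtain ⟨x, hxt, hgx⟩ := hcov y hfQ
  apply hgx
  obtain ⟨k, hk⟩ := hg x hxt
  exact Ideal.mem_homogeneousCore_of_homogeneous_of_mem ⟨k, hk⟩
    (hIP (Ideal.subset_span ⟨⟨x, hxt⟩, rfl⟩))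


variable {M τ : Type u} [AddCommGroup M] [Module A M] [SetLike τ M] [AddSubgroupClass τ M]
  (ℳ : ℕ → τ) [DirectSum.Decomposition ℳ] [SetLike.GradedSMul 𝒜 ℳ]

/-- If `c` kills a homogeneous element `m`, so does each homogeneous component of `c`. -/
theorem component_smul_eq_zero {i : ℕ} {m : M} (hm : m ∈ ℳ i) {c : A} (hc : c • m = 0) (j : ℕ) :
    (DirectSum.decompose 𝒜 c j : A) • m = 0 := by
  classical
  have hsum : c • m = ∑ l ∈ (DirectSum.decompose 𝒜 c).support, (DirectSum.decompose 𝒜 c l : A) • m := by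
    conv_lhs => rw [← DirectSum.sum_support_decompose 𝒜 c, Finset.sum_smul]
  have hmem : ∀ l, (DirectSum.decompose 𝒜 c l : A) • m ∈ ℳ (l + i) := fun l =>
    SetLike.GradedSMul.smul_mem (i := l) (j := i) (SetLike.coe_mem _) hm
  have key : ((DirectSum.decompose ℳ (c • m)) (j + i) : M) = (DirectSum.decompose 𝒜 c j : A) • m := by
    rw [hsum, DirectSum.decompose_sum, DFinsupp.finsetSum_apply, AddSubmonoidClass.coe_finsetSum]
    rw [Finset.sum_eq_single j]
    · exact DirectSum.decompose_of_mem_same ℳ (hmem j)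
    · intro l _ hlj
      exact DirectSum.decompose_of_mem_ne ℳ (hmem l) (by omega)
    · intro hj
      have : DirectSum.decompose 𝒜 c j = 0 := by simpa using hj
      rw [this]
      simp
  rw [← key, hc, DirectSum.decompose_zero]
  rfl


/-- If a homogeneous element `m` becomes zero in the localization of the module at every point of
`D₊(f)`, with `f` homogeneous of positive degree, a power of `f` kills `m`. -/
theorem exists_pow_smul_eq_zero_of_forall_localized_eq_zero {d : ℕ} (hd : 0 < d) {f : A}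
    (hf : f ∈ 𝒜 d) {i : ℕ} {m : M} (hm : m ∈ ℳ i)
    (h : ∀ x : ProjectiveSpectrum 𝒜, f ∉ x.asHomogeneousIdeal →
      ∃ c : A, c ∉ x.asHomogeneousIdeal ∧ c • m = 0) :
    ∃ N : ℕ, f ^ N • m = 0 := by
  classical
  let I : Ideal A := LinearMap.ker (LinearMap.toSpanSingleton A M m)
  have hI : ∀ a : A, a ∈ I ↔ a • m = 0 := fun a => by
    simp [I, LinearMap.mem_ker, LinearMap.toSpanSingleton_apply]
  by_contra hcon
  push Not at hcon
  have hfrad : f ∉ I.radical := by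
    rintro ⟨N, hN⟩
    exact hcon N ((hI _).mp hN)
  rw [Ideal.radical_eq_sInf, Ideal.mem_sInf] at hfrad
  push Not at hfrad
  obtain ⟨P, ⟨hIP, hP⟩, hfP⟩ := hfrad
  have hcore : (P.homogeneousCore 𝒜).toIdeal.IsPrime := hP.homogeneousCore
  have hle : (P.homogeneousCore 𝒜).toIdeal ≤ P := Ideal.toIdeal_homogeneousCore_le 𝒜 P
  have hfQ : f ∉ P.homogeneousCore 𝒜 := fun hfQ => hfP (hle hfQ)
  let x : ProjectiveSpectrum 𝒜 :=
    ⟨P.homogeneousCore 𝒜, hcore, fun hirr => hfQ (hirr (HomogeneousIdeal.mem_irrelevant_of_mem 𝒜 hd hf))⟩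
  obtain ⟨c, hcx, hcm⟩ := h x hfQ
  apply hcx
  show c ∈ (P.homogeneousCore 𝒜).toIdeal
  rw [(P.homogeneousCore 𝒜).isHomogeneous.mem_iff]
  intro j
  apply Ideal.mem_homogeneousCore_of_homogeneous_of_mem ⟨j, SetLike.coe_mem _⟩
  apply hIP
  rw [hI]
  exact component_smul_eq_zero 𝒜 ℳ hm hcm j


/-- Multiplication by a homogeneous element shifts homogeneous components. -/
theorem coe_decompose_smul_of_mem {p : ℕ} {a : A} (ha : a ∈ 𝒜 p) (z : M) (i : ℕ) :
    (DirectSum.decompose ℳ (a • z) (p + i) : M) = a • (DirectSum.decompose ℳ z i : M) := by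
  classical
  refine DirectSum.Decomposition.inductionOn ℳ ?_ ?_ ?_ z
  · simp
  · intro j w
    have hmem : a • (w : M) ∈ ℳ (p + j) := SetLike.GradedSMul.smul_mem ha w.2
    by_cases hji : j = i
    · subst hji
      rw [DirectSum.decompose_of_mem_same ℳ hmem, DirectSum.decompose_of_mem_same ℳ w.2]
    · rw [DirectSum.decompose_of_mem_ne ℳ hmem (by omega),
        DirectSum.decompose_of_mem_ne ℳ w.2 hji, smul_zero]
  · intro z z' hz hz'
    rw [smul_add, DirectSum.decompose_add, DirectSum.decompose_add, DirectSum.add_apply,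
      DirectSum.add_apply, AddMemClass.coe_add, AddMemClass.coe_add, smul_add, hz, hz']


variable (n : ℤ) {d : ℕ} (hd : 0 < d) {f : A} (hf : f ∈ 𝒜 d)
  (s : GrMod.sect 𝒜 ℳ n (op (ProjectiveSpectrum.basicOpen 𝒜 f)))

include hd hf in
/-- Near each point of `D₊(f)`, the section is `m'/h` with `h` homogeneous of positive degree,
`D₊(h) ⊆ D₊(f)`, and `deg m' = deg h + n`. -/
theorem local_form (x : ProjectiveSpectrum.basicOpen 𝒜 f) :
    ∃ (e : ℕ) (h : A) (i' : ℕ) (m' : M), 0 < e ∧ h ∈ 𝒜 e ∧ m' ∈ ℳ i' ∧ (i' : ℤ) = e + n ∧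
      h ∉ x.1.asHomogeneousIdeal ∧
      (∀ y : ProjectiveSpectrum 𝒜, h ∉ y.asHomogeneousIdeal → f ∉ y.asHomogeneousIdeal) ∧
      ∀ (y : ProjectiveSpectrum 𝒜) (hyU : y ∈ ProjectiveSpectrum.basicOpen 𝒜 f)
        (hy : h ∉ y.asHomogeneousIdeal),
        ((s.1 ⟨y, hyU⟩ : GrMod.tildeAt 𝒜 ℳ n y) : GrMod.LocMod 𝒜 (M := M) y) =
          LocalizedModule.mk m' ⟨h, hy⟩ := by
  obtain ⟨V, hxV, iV, i, j, ⟨m, hm⟩, ⟨t, ht⟩, tnin, hcase, hw⟩ := s.2 x
  replace hcase : (i : ℤ) = j + n ∨ m = 0 := hcase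
  obtain ⟨k, a, ha, hax, haV⟩ := exists_homogeneous_basicOpen_subset 𝒜 V x.1 hxV
  have hfx : f ∉ x.1.asHomogeneousIdeal := (ProjectiveSpectrum.mem_basicOpen 𝒜 f x.1).mp x.2
  have htx : t ∉ x.1.asHomogeneousIdeal := tnin ⟨x.1, hxV⟩
  have h0mem : a * f * t ∈ 𝒜 (k + d + j) :=
    SetLike.mul_mem_graded (SetLike.mul_mem_graded ha hf) ht
  have h0x : a * f * t ∉ x.1.asHomogeneousIdeal := fun hh =>
    (x.1.isPrime.mem_or_mem hh).elim (fun h2 => (x.1.isPrime.mem_or_mem h2).elim hax hfx) htx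
  have h0f : ∀ y : ProjectiveSpectrum 𝒜, a * f * t ∉ y.asHomogeneousIdeal →
      f ∉ y.asHomogeneousIdeal := fun y hy hfy =>
    hy (Ideal.mul_mem_right _ _ (Ideal.mul_mem_left _ _ hfy))
  have h0a : ∀ y : ProjectiveSpectrum 𝒜, a * f * t ∉ y.asHomogeneousIdeal →
      a ∉ y.asHomogeneousIdeal := fun y hy hay =>
    hy (Ideal.mul_mem_right _ _ (Ideal.mul_mem_right _ _ hay))
  have h0t : ∀ y : ProjectiveSpectrum 𝒜, a * f * t ∉ y.asHomogeneousIdeal →
      t ∉ y.asHomogeneousIdeal := fun y hy hty =>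
    hy (Ideal.mul_mem_left _ _ hty)
  -- the value of the section near `x`
  have hval : ∀ (y : ProjectiveSpectrum 𝒜) (hyU : y ∈ ProjectiveSpectrum.basicOpen 𝒜 f)
      (hy : a * f * t ∉ y.asHomogeneousIdeal),
      ((s.1 ⟨y, hyU⟩ : GrMod.tildeAt 𝒜 ℳ n y) : GrMod.LocMod 𝒜 (M := M) y) =
        LocalizedModule.mk m ⟨t, h0t y hy⟩ := fun y hyU hy =>
    hw ⟨y, haV y (h0a y hy)⟩
  rcases hcase with hc | hc
  · refine ⟨k + d + j, a * f * t, k + d + i, (a * f) • m, by omega, h0mem,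
      SetLike.GradedSMul.smul_mem (SetLike.mul_mem_graded ha hf) hm, by push_cast; omega,
      h0x, h0f, fun y hyU hy => ?_⟩
    rw [hval y hyU hy]
    have haf : a * f ∉ y.asHomogeneousIdeal := fun hh =>
      hy (Ideal.mul_mem_right _ _ hh)
    exact (LocalizedModule.mk_cancel_common_left
      (⟨a * f, haf⟩ : y.asHomogeneousIdeal.toIdeal.primeCompl) ⟨t, h0t y hy⟩ m).symm
  · -- zero section
    have hpos : 0 < k + d + j := by omega
    have hNmem : (a * f * t) ^ (n.natAbs + 1) ∈ 𝒜 ((n.natAbs + 1) • (k + d + j)) :=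
      SetLike.pow_mem_graded _ h0mem
    have hnn : 0 ≤ (((n.natAbs + 1) • (k + d + j) : ℕ) : ℤ) + n := by
      have h1 : (n.natAbs : ℤ) ≤ (((n.natAbs + 1) • (k + d + j) : ℕ) : ℤ) := by
        have : n.natAbs ≤ (n.natAbs + 1) • (k + d + j) := by
          rw [smul_eq_mul]
          exact le_trans (Nat.le_succ _) (Nat.le_mul_of_pos_right _ hpos)
        exact_mod_cast this
      have h2 : -n ≤ (n.natAbs : ℤ) := by
        rw [Int.natCast_natAbs]
        exact neg_le_abs n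
      omega
    refine ⟨(n.natAbs + 1) • (k + d + j), (a * f * t) ^ (n.natAbs + 1),
      ((((n.natAbs + 1) • (k + d + j) : ℕ) : ℤ) + n).toNat, 0, ?_, hNmem, zero_mem _,
      Int.toNat_of_nonneg hnn, fun hh => h0x (x.1.isPrime.mem_of_pow_mem _ hh),
      fun y hy => h0f y (fun hh => hy (Ideal.pow_mem_of_mem _ hh _ (Nat.succ_pos _))),
      fun y hyU hy => ?_⟩
    · rw [smul_eq_mul]
      exact Nat.mul_pos (Nat.succ_pos _) hpos
    · have hy0 : a * f * t ∉ y.asHomogeneousIdeal := fun hh =>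
        hy (Ideal.pow_mem_of_mem _ hh _ (Nat.succ_pos _))
      rw [hval y hyU hy0, hc, LocalizedModule.zero_mk, LocalizedModule.zero_mk]

include hd hf in
/-- Every section of `M(n)~` over `D₊(f)` is one fraction `m/f^k`. -/
theorem sections_eq_fraction :
    ∃ (k i : ℕ) (m : ℳ i), (i : ℤ) = k * d + n ∧
      ∀ x : ProjectiveSpectrum.basicOpen 𝒜 f,
        ((s.1 x : GrMod.tildeAt 𝒜 ℳ n x.1) : GrMod.LocMod 𝒜 (M := M) x.1) =
          (LocalizedModule.mk (m : M) ⟨f ^ k, fun h =>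
            (ProjectiveSpectrum.mem_basicOpen 𝒜 f x.1).mp x.2
              (x.1.isPrime.mem_of_pow_mem k h)⟩ : GrMod.LocMod 𝒜 (M := M) x.1) := by
  classical
  choose e h i' m' he hh hm' hdeg hhx hhf hval using local_form 𝒜 ℳ n hd hf s
  -- finite subcover
  have hcompact : IsCompact (ProjectiveSpectrum.basicOpen 𝒜 f : Set (ProjectiveSpectrum 𝒜)) :=
    (Proj.isAffineOpen_basicOpen 𝒜 f hf hd).isCompact
  obtain ⟨t, ht⟩ := hcompact.elim_finite_subcover
    (fun x : ProjectiveSpectrum.basicOpen 𝒜 f =>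
      (ProjectiveSpectrum.basicOpen 𝒜 (h x) : Set (ProjectiveSpectrum 𝒜)))
    (fun x => (ProjectiveSpectrum.basicOpen 𝒜 (h x)).2)
    (fun y hy => Set.mem_iUnion.mpr ⟨⟨y, hy⟩, hhx ⟨y, hy⟩⟩)
  -- agreement up to powers
  have hpow : ∀ x x' : ProjectiveSpectrum.basicOpen 𝒜 f, ∃ N : ℕ,
      (h x * h x') ^ N • (h x' • m' x - h x • m' x') = 0 := by
    intro x x'
    have hdeg_eq : e x' + i' x = e x + i' x' := by
      have h1 := hdeg x
      have h2 := hdeg x'
      omega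
    have humem : h x' • m' x - h x • m' x' ∈ ℳ (e x' + i' x) := by
      refine sub_mem (SetLike.GradedSMul.smul_mem (hh x') (hm' x)) ?_
      rw [hdeg_eq]
      exact SetLike.GradedSMul.smul_mem (hh x) (hm' x')
    refine exists_pow_smul_eq_zero_of_forall_localized_eq_zero 𝒜 ℳ
      (Nat.add_pos_left (he x) _) (SetLike.mul_mem_graded (hh x) (hh x')) humem ?_
    intro y hy
    have hy1 : h x ∉ y.asHomogeneousIdeal := fun h1 => hy (Ideal.mul_mem_right _ _ h1)
    have hy2 : h x' ∉ y.asHomogeneousIdeal := fun h2 => hy (Ideal.mul_mem_left _ _ h2)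
    have hyU : y ∈ ProjectiveSpectrum.basicOpen 𝒜 f := hhf x y hy1
    have e1 := hval x y hyU hy1
    have e2 := hval x' y hyU hy2
    have e3 := e1.symm.trans e2
    rw [LocalizedModule.mk_eq] at e3
    obtain ⟨c, hc⟩ := e3
    refine ⟨c.1, c.2, ?_⟩
    rw [smul_sub]
    exact sub_eq_zero.mpr hc
  choose Nf hNf using hpow
  obtain ⟨N, hN⟩ : ∃ N : ℕ, ∀ x ∈ t, ∀ x' ∈ t,
      (h x * h x') ^ N • (h x' • m' x - h x • m' x') = 0 := by
    refine ⟨∑ p ∈ t ×ˢ t, Nf p.1 p.2, fun x hx x' hx' => ?_⟩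
    have hle : Nf x x' ≤ ∑ p ∈ t ×ˢ t, Nf p.1 p.2 :=
      Finset.single_le_sum (f := fun p : ProjectiveSpectrum.basicOpen 𝒜 f ×
        ProjectiveSpectrum.basicOpen 𝒜 f => Nf p.1 p.2) (fun _ _ => Nat.zero_le _)
        (Finset.mk_mem_product hx hx')
    obtain ⟨r, hr⟩ := Nat.exists_eq_add_of_le hle
    rw [hr, pow_add, mul_comm ((h x * h x') ^ Nf x x'), mul_smul, hNf, smul_zero]
  -- new data
  obtain ⟨H, hH⟩ : ∃ H : ProjectiveSpectrum.basicOpen 𝒜 f → A, ∀ x, H x = h x ^ (N + 1) :=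
    ⟨_, fun _ => rfl⟩
  obtain ⟨Mx, hMx⟩ : ∃ Mx : ProjectiveSpectrum.basicOpen 𝒜 f → M, ∀ x, Mx x = h x ^ N • m' x :=
    ⟨_, fun _ => rfl⟩
  have hHmem : ∀ x, H x ∈ 𝒜 ((N + 1) • e x) := fun x => by
    rw [hH]
    exact SetLike.pow_mem_graded _ (hh x)
  have hMmem : ∀ x, Mx x ∈ ℳ (N • e x + i' x) := fun x => by
    rw [hMx]
    exact SetLike.GradedSMul.smul_mem (SetLike.pow_mem_graded N (hh x)) (hm' x)
  have hagree : ∀ x ∈ t, ∀ x' ∈ t, H x' • Mx x = H x • Mx x' := by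
    intro x hx x' hx'
    have h0 := hN x hx x' hx'
    rw [smul_sub, sub_eq_zero] at h0
    rw [hH, hH, hMx, hMx]
    calc h x' ^ (N + 1) • (h x ^ N • m' x) = (h x * h x') ^ N • h x' • m' x := by
          rw [← mul_smul, ← mul_smul]
          congr 1
          ring
      _ = (h x * h x') ^ N • h x • m' x' := h0
      _ = h x ^ (N + 1) • (h x' ^ N • m' x') := by
          rw [← mul_smul, ← mul_smul]
          congr 1
          ring
  have hvalH : ∀ (x : ProjectiveSpectrum.basicOpen 𝒜 f) (y : ProjectiveSpectrum 𝒜)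
      (hyU : y ∈ ProjectiveSpectrum.basicOpen 𝒜 f) (hy : h x ∉ y.asHomogeneousIdeal),
      ∃ hy' : H x ∉ y.asHomogeneousIdeal,
        ((s.1 ⟨y, hyU⟩ : GrMod.tildeAt 𝒜 ℳ n y) : GrMod.LocMod 𝒜 (M := M) y) =
          LocalizedModule.mk (Mx x) ⟨H x, hy'⟩ := by
    intro x y hyU hy
    have hyN : h x ^ N ∉ y.asHomogeneousIdeal := fun hh' => hy (y.isPrime.mem_of_pow_mem _ hh')
    have hy' : H x ∉ y.asHomogeneousIdeal := by
      rw [hH]
      exact fun hh' => hy (y.isPrime.mem_of_pow_mem _ hh')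
    refine ⟨hy', ?_⟩
    rw [hval x y hyU hy]
    have h1 := (LocalizedModule.mk_cancel_common_left
      (⟨h x ^ N, hyN⟩ : y.asHomogeneousIdeal.toIdeal.primeCompl) ⟨h x, hy⟩ (m' x)).symm
    rw [h1]
    congr 1
    · exact (hMx x).symm
    · refine Subtype.ext ?_
      show h x ^ N * h x = H x
      rw [hH, pow_succ]
  -- partition of unity
  have hrad : f ∈ (Ideal.span (Set.range fun x : t => H x.1)).radical := by
    refine mem_radical_span_of_cover 𝒜 t H (fun x _ => ⟨_, hHmem x⟩) hd hf ?_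
    intro y hy
    obtain ⟨x, hxt, hxy⟩ := Set.mem_iUnion₂.mp
      (ht (show y ∈ (ProjectiveSpectrum.basicOpen 𝒜 f : Set (ProjectiveSpectrum 𝒜)) from hy))
    refine ⟨x, hxt, ?_⟩
    rw [hH]
    exact fun hh' => hxy (y.isPrime.mem_of_pow_mem _ hh')
  obtain ⟨K, hK⟩ := hrad
  rw [Ideal.mem_span_range_iff_exists_fun] at hK
  obtain ⟨c0, hc0⟩ := hK
  obtain ⟨k, hk⟩ : ∃ k : ℕ, k = n.natAbs + K := ⟨_, rfl⟩
  obtain ⟨c, hcdef⟩ : ∃ c : t → A, ∀ x, c x = f ^ n.natAbs * c0 x := ⟨_, fun _ => rfl⟩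
  have hc : ∑ x : t, c x * H x.1 = f ^ k := by
    rw [hk, pow_add, ← hc0, Finset.mul_sum]
    refine Finset.sum_congr rfl fun x _ => ?_
    rw [hcdef, mul_assoc]
  have hnn : 0 ≤ (k : ℤ) * d + n := by
    have h1 : (n.natAbs : ℤ) ≤ (k : ℤ) * d := by
      have : n.natAbs ≤ k * d := by
        rw [hk]
        exact le_trans (Nat.le_add_right _ _) (Nat.le_mul_of_pos_right _ hd)
      exact_mod_cast this
    have h2 : -n ≤ (n.natAbs : ℤ) := by
      rw [Int.natCast_natAbs]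
      exact neg_le_abs n
    linarith
  obtain ⟨i, hi⟩ : ∃ i : ℕ, (i : ℤ) = (k : ℤ) * d + n :=
    ⟨((k : ℤ) * d + n).toNat, Int.toNat_of_nonneg hnn⟩
  obtain ⟨z, hz⟩ : ∃ z : M, z = ∑ x : t, c x • Mx x.1 := ⟨_, rfl⟩
  have hkey : ∀ x₀ ∈ t, H x₀ • (DirectSum.decompose ℳ z i : M) = f ^ k • Mx x₀ := by
    intro x₀ hx₀
    have hsum : H x₀ • z = f ^ k • Mx x₀ := by
      rw [hz, Finset.smul_sum, ← hc, Finset.sum_smul]
      refine Finset.sum_congr rfl fun x _ => ?_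
      rw [smul_comm (H x₀) (c x) (Mx x.1), hagree x.1 x.2 x₀ hx₀, mul_smul]
    have hidx : k • d + (N • e x₀ + i' x₀) = (N + 1) • e x₀ + i := by
      have h1 := hdeg x₀
      have h2 : ((k • d + (N • e x₀ + i' x₀) : ℕ) : ℤ) = (((N + 1) • e x₀ + i : ℕ) : ℤ) := by
        simp only [smul_eq_mul]
        push_cast
        linarith
      exact_mod_cast h2
    have hmem : f ^ k • Mx x₀ ∈ ℳ ((N + 1) • e x₀ + i) := by
      rw [← hidx]
      exact SetLike.GradedSMul.smul_mem (SetLike.pow_mem_graded k hf) (hMmem x₀)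
    rw [← coe_decompose_smul_of_mem 𝒜 ℳ (hHmem x₀) z i, hsum,
      DirectSum.decompose_of_mem_same ℳ hmem]
  refine ⟨k, i, ⟨(DirectSum.decompose ℳ z i : M), SetLike.coe_mem _⟩, hi, fun y => ?_⟩
  obtain ⟨x₀, hx₀t, hx₀y⟩ := Set.mem_iUnion₂.mp (ht y.2)
  obtain ⟨hy', hv⟩ := hvalH x₀ y.1 y.2 hx₀y
  refine hv.trans ?_
  rw [LocalizedModule.mk_eq]
  refine ⟨1, ?_⟩
  rw [one_smul, one_smul]
  exact (hkey x₀ hx₀t).symm

end
end Groth.Agent.H41.GrModSections
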