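import Groth.Prelude.Def_LambdaRing
import Mathlib.Tactic
import Mathlib.RingTheory.PowerSeries.WellKnown

set_option autoImplicit false
universe u

namespace Groth.Agent.H41

open PowerSeries Finset LambdaRing

variable {K : Type u} [CommRing K] [LambdaOps K]

theorem lamSeries_add (x y : K) : lamSeries (x + y) = lamSeries x * lamSeries y := by
  ext k
  rw [PowerSeries.coeff_mul, Finset.Nat.sum_antidiagonal_eq_sum_range_succ_mk]
  simp only [lamSeries, PowerSeries.coeff_mk]
  exact LambdaOps.lam_add k x y

theorem constantCoeff_lamSeries (x : K) : PowerSeries.constantCoeff (lamSeries x) = 1 := by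
  rw [← PowerSeries.coeff_zero_eq_constantCoeff_apply]
  simp [lamSeries, LambdaOps.lam_zero]

theorem isUnit_lamSeries (x : K) : IsUnit (lamSeries x) := by
  rw [PowerSeries.isUnit_iff_constantCoeff, constantCoeff_lamSeries]
  exact isUnit_one

theorem lamSeries_zero : lamSeries (0 : K) = 1 := by
  have h : lamSeries (0 : K) * lamSeries (0 : K) = lamSeries (0 : K) * 1 := by
    rw [← lamSeries_add, add_zero, mul_one]
  exact (isUnit_lamSeries (0 : K)).mul_left_cancel h

theorem lamSeries_multiset_sum (s : Multiset K) :
    lamSeries s.sum = (s.map lamSeries).prod := by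
  induction s using Multiset.induction_on with
  | empty => simp [lamSeries_zero]
  | cons a s ih => simp [lamSeries_add, ih]

theorem lamSeries_of_isLine (P : PosStructure K) (u : K) (hu : P.IsLine u) :
    lamSeries u = 1 + PowerSeries.C u * PowerSeries.X := by
  ext i
  simp only [lamSeries, PowerSeries.coeff_mk, map_add, PowerSeries.coeff_one]
  rcases i with _ | _ | i
  · simp [LambdaOps.lam_zero]
  · simp [LambdaOps.lam_one]
  · have h : LambdaOps.lam (i + 2) u = 0 := by
      apply P.lam_eq_zero u hu.1
      rw [hu.2]
      push_cast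
      linarith
    rw [h]
    rw [show i + 1 + 1 = (i + 1) + 1 from rfl, PowerSeries.coeff_succ_mul_X]
    simp

/-- the augmentation applied coefficientwise to `λ_t` of a sum of line elements -/
theorem map_aug_lamSeries_lines (P : PosStructure K) (s : Multiset K)
    (hs : ∀ u ∈ s, P.IsLine u) :
    PowerSeries.map P.aug (lamSeries s.sum) = (1 + PowerSeries.X : PowerSeries ℤ) ^ (Multiset.card s) := by
  induction s using Multiset.induction_on with
  | empty => simp [lamSeries_zero]
  | cons a s ih =>
    have ha : P.IsLine a := hs a (Multiset.mem_cons_self a s)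
    have hs' : ∀ u ∈ s, P.IsLine u := fun u hu => hs u (Multiset.mem_cons_of_mem hu)
    rw [Multiset.sum_cons, lamSeries_add, map_mul, ih hs', lamSeries_of_isLine P a ha,
      Multiset.card_cons, pow_succ']
    congr 1
    simp [ha.2]

theorem aug_multiset_sum_lines (P : PosStructure K) (s : Multiset K)
    (hs : ∀ u ∈ s, P.IsLine u) : P.aug s.sum = (Multiset.card s : ℤ) := by
  induction s using Multiset.induction_on with
  | empty => simp
  | cons a s ih =>
    have ha : P.IsLine a := hs a (Multiset.mem_cons_self a s)
    have hs' : ∀ u ∈ s, P.IsLine u := fun u hu => hs u (Multiset.mem_cons_of_mem hu)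
    rw [Multiset.sum_cons, map_add, ih hs', ha.2, Multiset.card_cons]
    push_cast; ring

/-- Under the splitting property, `ε(λ_t(e)) = (1 + t)^{ε(e)}` for a positive element `e`. -/
theorem map_aug_lamSeries (P : PosStructure K) (hK : HasSplitting K P) (e : K) (he : e ∈ P.pos) :
    PowerSeries.map P.aug (lamSeries e) = (1 + PowerSeries.X : PowerSeries ℤ) ^ (P.aug e).toNat := by
  obtain ⟨C, hKC, hC⟩ := hK
  obtain ⟨L', _, f, hf, s, hs, hsum⟩ := hC ⟨K, P⟩ hKC e he
  have hcard : (P.aug e).toNat = Multiset.card s := by
    have h1 : P.aug e = (Multiset.card s : ℤ) := by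
      rw [← aug_multiset_sum_lines L'.posStr s hs, hsum]
      exact (hf.aug_comp e).symm
    rw [h1]; simp
  have h2 : PowerSeries.map P.aug (lamSeries e) =
      PowerSeries.map L'.posStr.aug (lamSeries (f e)) := by
    ext i
    simp only [PowerSeries.coeff_map, lamSeries, PowerSeries.coeff_mk]
    rw [← hf.isLambdaHom i e]
    exact (hf.aug_comp _).symm
  rw [h2, ← hsum, map_aug_lamSeries_lines L'.posStr s hs, hcard]

theorem aug_lam_eq_choose (P : PosStructure K) (hK : HasSplitting K P) (e : K) (he : e ∈ P.pos)
    (i : ℕ) : P.aug (LambdaOps.lam i e) = ((P.aug e).toNat.choose i : ℤ) := by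
  have h := congrArg (PowerSeries.coeff i) (map_aug_lamSeries P hK e he)
  rw [PowerSeries.coeff_map] at h
  simp only [lamSeries, PowerSeries.coeff_mk] at h
  rw [h]
  have : ((1 + PowerSeries.X : PowerSeries ℤ)) = ((1 + Polynomial.X : Polynomial ℤ) : PowerSeries ℤ) := by
    simp
  rw [this, ← Polynomial.coe_pow, Polynomial.coeff_coe, Polynomial.coeff_one_add_X_pow]

end Groth.Agent.H41
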