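import Mathlib.AlgebraicGeometry.Restrict
import Mathlib.AlgebraicGeometry.Gluing
import Mathlib.AlgebraicGeometry.Cover.Open

/-!
# Gluing morphisms defined on a family of open subschemes
-/

set_option autoImplicit false
universe u

namespace Groth.Agent.H41.GlueOpens

open CategoryTheory AlgebraicGeometry TopologicalSpace Limits

variable {X Z : Scheme.{u}}

/-- Two morphisms out of an open subscheme agreeing on a family of smaller opens covering it
are equal. -/
theorem hom_ext_of_le (V : X.Opens) {κ : Type*} (W : κ → X.Opens) (hW : ∀ k, W k ≤ V)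
    (hcov : ∀ x ∈ V, ∃ k, x ∈ W k) (a b : (V : Scheme.{u}) ⟶ Z)
    (hab : ∀ k, X.homOfLE (hW k) ≫ a = X.homOfLE (hW k) ≫ b) : a = b := by
  let 𝒰 : (V : Scheme.{u}).OpenCover :=
    { I₀ := κ
      X := fun k => W k
      f := fun k => X.homOfLE (hW k)
      mem₀ := by
        rw [Scheme.presieve₀_mem_precoverage_iff]
        refine ⟨fun x => ?_, fun k => inferInstance⟩
        obtain ⟨k, hk⟩ := hcov x.1 x.2
        exact ⟨k, ⟨⟨x.1, hk⟩, Scheme.homOfLE_apply' (hW k) x.1 hk⟩⟩ }
  exact 𝒰.hom_ext a b hab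

/-- Morphisms defined on the members of an open cover, agreeing locally on the overlaps, glue
uniquely. -/
theorem existsUnique_glue {ι : Type*} (U : ι → X.Opens) (hU : IsOpenCover U)
    (g : ∀ i, (U i : Scheme.{u}) ⟶ Z)
    (hg : ∀ i j, ∀ x ∈ U i ⊓ U j, ∃ (W : X.Opens) (h1 : W ≤ U i) (h2 : W ≤ U j), x ∈ W ∧
      X.homOfLE h1 ≫ g i = X.homOfLE h2 ≫ g j) :
    ∃! h : X ⟶ Z, ∀ i, (U i).ι ≫ h = g i := by
  have compat : ∀ i j, X.homOfLE (inf_le_left : U i ⊓ U j ≤ U i) ≫ g i =
      X.homOfLE (inf_le_right : U i ⊓ U j ≤ U j) ≫ g j := by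
    intro i j
    choose W h1 h2 hxW hWeq using hg i j
    refine hom_ext_of_le (U i ⊓ U j) (fun k : {x // x ∈ U i ⊓ U j} => W k.1 k.2)
      (fun k => le_inf (h1 k.1 k.2) (h2 k.1 k.2)) (fun x hx => ⟨⟨x, hx⟩, hxW x hx⟩) _ _
      (fun k => ?_)
    rw [← Category.assoc, ← Category.assoc, Scheme.homOfLE_homOfLE, Scheme.homOfLE_homOfLE]
    exact hWeq k.1 k.2
  have hpb : ∀ i j : ι, pullback.fst (U i).ι (U j).ι ≫ g i = pullback.snd (U i).ι (U j).ι ≫ g j := by
    intro i j
    have hrange : Set.range (pullback.fst (U i).ι (U j).ι ≫ (U i).ι) ⊆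
        Set.range (U i ⊓ U j).ι := by
      rintro _ ⟨p, rfl⟩
      rw [Scheme.Opens.range_ι]
      refine ⟨?_, ?_⟩
      · exact ((pullback.fst (U i).ι (U j).ι) p).2
      · rw [pullback.condition]
        exact ((pullback.snd (U i).ι (U j).ι) p).2
    have he : IsOpenImmersion.lift (U i ⊓ U j).ι (pullback.fst (U i).ι (U j).ι ≫ (U i).ι) hrange ≫
        (U i ⊓ U j).ι = pullback.fst _ _ ≫ (U i).ι := IsOpenImmersion.lift_fac _ _ _
    have h1 : pullback.fst (U i).ι (U j).ι =
        IsOpenImmersion.lift (U i ⊓ U j).ι (pullback.fst (U i).ι (U j).ι ≫ (U i).ι) hrange ≫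
          X.homOfLE inf_le_left := by
      rw [← cancel_mono (U i).ι, Category.assoc, Scheme.homOfLE_ι, he]
    have h2 : pullback.snd (U i).ι (U j).ι =
        IsOpenImmersion.lift (U i ⊓ U j).ι (pullback.fst (U i).ι (U j).ι ≫ (U i).ι) hrange ≫
          X.homOfLE inf_le_right := by
      rw [← cancel_mono (U j).ι, Category.assoc, Scheme.homOfLE_ι, he]
      exact pullback.condition.symm
    rw [h1, h2, Category.assoc, Category.assoc, compat i j]
  refine ⟨(X.openCoverOfIsOpenCover U hU).glueMorphisms g hpb,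
    fun i => (X.openCoverOfIsOpenCover U hU).ι_glueMorphisms g hpb i, fun h' hh' => ?_⟩
  refine (X.openCoverOfIsOpenCover U hU).hom_ext _ _ fun i => ?_
  rw [(X.openCoverOfIsOpenCover U hU).ι_glueMorphisms g hpb i]
  exact hh' i

end Groth.Agent.H41.GlueOpens
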