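import Mathlib
import Groth.Prelude.Def_Omega3
import Groth.Prelude.Def_MoreMor
import Groth.Agent.H70.UTTrans.Defs

set_option autoImplicit false
universe u
open AlgebraicGeometry CategoryTheory Limits
open Groth.Agent.H70.UTTrans

namespace Groth.Agent.H41.UTS_RS

theorem exists_retraction {A B C' C C'' : Type u} [CommRing A] [CommRing B] [CommRing C']
    [CommRing C] [CommRing C'']
    {φ : A →+* B} {γ' : B →+* C'} {πC' : C' →+* C} {γ'' : A →+* C''} {πC'' : C'' →+* C}
    (hC' : UnivProp γ' πC') (hC'' : UnivProp γ'' πC'')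
    (κ : C'' →+* C') (hκ₁ : κ.comp γ'' = γ'.comp φ) (hκ₂ : πC'.comp κ = πC'')
    (hlift : ∀ (D : Type u) [CommRing D] (L : Ideal D), L ^ 2 = ⊥ →
      ∀ (β : B →+* D ⧸ L) (α : A →+* D), (Ideal.Quotient.mk L).comp α = β.comp φ →
        ∃ l : B →+* D, (Ideal.Quotient.mk L).comp l = β ∧ l.comp φ = α) :
    ∃ σ : C' →+* C'', σ.comp κ = RingHom.id C'' ∧ πC''.comp σ = πC' := by
  classical
  set L : Ideal C'' := RingHom.ker πC'' with hLdef
  have hL : L ^ 2 = ⊥ := hC''.2.1
  let e : C ≃+* C'' ⧸ L := (RingHom.quotientKerEquivOfSurjective hC''.1).symm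
  have he : ∀ x : C'', e (πC'' x) = Ideal.Quotient.mk L x := by
    intro x
    apply (RingHom.quotientKerEquivOfSurjective hC''.1).injective
    simp only [e, RingEquiv.apply_symm_apply]
    exact (RingHom.quotientKerEquivOfSurjective_apply_mk hC''.1 x).symm
  have he' : (e : C →+* C'' ⧸ L).comp πC'' = Ideal.Quotient.mk L := by
    ext x; exact he x
  set iso : C →+* C'' ⧸ L := (e : C →+* C'' ⧸ L) with hiso
  -- β and α
  set β : B →+* C'' ⧸ L := iso.comp (πC'.comp γ') with hβ
  have hcomm : (Ideal.Quotient.mk L).comp γ'' = β.comp φ := by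
    ext a
    have h1 := congrArg (fun f => f a) hκ₁
    have h2 := congrArg (fun f => f (γ'' a)) hκ₂
    simp only [RingHom.comp_apply] at h1 h2
    simp only [hβ, RingHom.comp_apply]
    rw [← h1, h2]
    exact (he _).symm
  obtain ⟨l, hl₁, hl₂⟩ := hlift C'' L hL β γ'' hcomm
  -- universal property of C'
  obtain ⟨σ, ⟨hσ₁, hσ₂⟩, -⟩ := hC'.2.2 C'' l L hL iso (by rw [hl₁])
  refine ⟨σ, ?_, ?_⟩
  · -- uniqueness for C''
    obtain ⟨τ, -, huniq⟩ := hC''.2.2 C'' γ'' L hL iso (by
      rw [← RingHom.comp_assoc, he'])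
    have h1 : σ.comp κ = τ := by
      apply huniq
      refine ⟨?_, ?_⟩
      · rw [RingHom.comp_assoc, hκ₁, ← RingHom.comp_assoc, hσ₁, hl₂]
      · rw [← RingHom.comp_assoc, hσ₂, RingHom.comp_assoc, hκ₂]
    have h2 : RingHom.id C'' = τ := by
      apply huniq
      refine ⟨RingHom.id_comp _, ?_⟩
      rw [RingHom.comp_id, he']
    rw [h1, ← h2]
  · ext x
    apply e.injective
    have := congrArg (fun f => f x) hσ₂
    simp only [RingHom.comp_apply] at this
    change iso (πC'' (σ x)) = iso (πC' x)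
    rw [← this]
    exact he (σ x)

end Groth.Agent.H41.UTS_RS
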