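import Groth.Agent.H41.Natural

/-!
# `S♮`: the diagonal ring map `δ`, the retraction `ρ`, radical / finite type / Noetherian transfer
-/

set_option autoImplicit false
set_option linter.unusedSectionVars false

namespace Groth.Agent.H41.Natural

open DirectSum

section Delta

variable {R A : Type*} [CommRing R] [CommRing A] [Algebra R A]
  (𝒜 : ℕ → Submodule R A) [GradedAlgebra 𝒜]

/-- The components of `δ`. -/
noncomputable def deltaF (i : ℕ) : 𝒜 i →+ Polynomial A :=
  ((Polynomial.monomial i : A →ₗ[A] Polynomial A).toAddMonoidHom).comp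
    (𝒜 i).subtype.toAddMonoidHom

theorem deltaF_apply (i : ℕ) (x : 𝒜 i) : deltaF 𝒜 i x = Polynomial.monomial i (x : A) := rfl

theorem deltaF_one : deltaF 𝒜 0 (@GradedMonoid.GOne.one ℕ (fun i => 𝒜 i) _ _) = 1 := by
  rw [deltaF_apply]; simp

theorem deltaF_mul {i j : ℕ} (ai : 𝒜 i) (aj : 𝒜 j) :
    deltaF 𝒜 (i + j) (@GradedMonoid.GMul.mul ℕ (fun i => 𝒜 i) _ _ _ _ ai aj) =
      deltaF 𝒜 i ai * deltaF 𝒜 j aj := by
  simp only [deltaF_apply]
  simp [Polynomial.monomial_mul_monomial]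

/-- The ring homomorphism `δ : A → A[X]`, `a ↦ Σ a_m X^m`. -/
noncomputable def delta : A →+* Polynomial A :=
  (DirectSum.toSemiring (deltaF 𝒜) (deltaF_one 𝒜) (deltaF_mul 𝒜)).comp
  (DirectSum.decomposeRingEquiv 𝒜 : A →+* ⨁ i, 𝒜 i)

theorem delta_of_mem {m : ℕ} {a : A} (ha : a ∈ 𝒜 m) :
    delta 𝒜 a = Polynomial.monomial m a := by
  have h : DirectSum.decompose 𝒜 a = DirectSum.of (fun i => 𝒜 i) m ⟨a, ha⟩ :=
    DirectSum.decompose_of_mem 𝒜 ha
  show (DirectSum.toSemiring (deltaF 𝒜) (deltaF_one 𝒜) (deltaF_mul 𝒜))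
    (DirectSum.decompose 𝒜 a) = _
  rw [h, DirectSum.toSemiring_of, deltaF_apply]

theorem delta_mem_of {S : Subring (Polynomial A)}
    (h : ∀ m, ∀ a ∈ 𝒜 m, Polynomial.monomial m a ∈ S) (c : A) : delta 𝒜 c ∈ S := by
  classical
  have h1 : delta 𝒜 c = ∑ i ∈ (decompose 𝒜 c).support, delta 𝒜 (decompose 𝒜 c i : A) := by
    rw [← map_sum, DirectSum.sum_support_decompose 𝒜 c]
  rw [h1]
  exact sum_mem fun i _ => by
    rw [delta_of_mem 𝒜 (SetLike.coe_mem _)]; exact h i _ (SetLike.coe_mem _)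

/-- additive map `ρ̃ : A[X] → A`, `Σ p_k X^k ↦ Σ (p_k)_k`. -/
noncomputable def rhoLin : Polynomial A →ₗ[R] A :=
  Polynomial.lsum (fun k => GradedAlgebra.proj 𝒜 k)

theorem rhoLin_monomial (k : ℕ) (a : A) :
    rhoLin 𝒜 (Polynomial.monomial k a) = GradedAlgebra.proj 𝒜 k a := by
  simp [rhoLin, Polynomial.lsum_apply]

theorem proj_mul_of_mem_ge {k l : ℕ} {a a' : A} (ha : a ∈ ge 𝒜 k) (ha' : a' ∈ ge 𝒜 l) :
    GradedAlgebra.proj 𝒜 (k + l) (a * a') =
      GradedAlgebra.proj 𝒜 k a * GradedAlgebra.proj 𝒜 l a' := by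
  simp only [GradedAlgebra.proj_apply]
  rw [DirectSum.decompose_mul, DirectSum.coe_mul_apply_eq_sum_antidiagonal]
  rw [Finset.sum_eq_single (k, l)]
  · intro ij hij hne
    rw [Finset.mem_antidiagonal] at hij
    by_cases h1 : ij.1 < k
    · have : ((decompose 𝒜 a) ij.1 : A) = 0 := by
        have := ge_le_ker_proj 𝒜 h1 ha
        simpa [GradedAlgebra.proj_apply] using this
      rw [this, zero_mul]
    · have h2 : ij.2 < l := by
        by_contra h2
        apply hne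
        exact Prod.ext (by simp; omega) (by simp; omega)
      have : ((decompose 𝒜 a') ij.2 : A) = 0 := by
        have := ge_le_ker_proj 𝒜 h2 ha'
        simpa [GradedAlgebra.proj_apply] using this
      rw [this, mul_zero]
  · intro h; simp at h

/-- A Noetherian `ℕ`-graded ring is of finite type over its degree-zero part. -/
theorem finiteType_of_isNoetherianRing [IsNoetherianRing A] : Algebra.FiniteType (𝒜 0) A := by
  classical
  obtain ⟨s, hs⟩ := (isNoetherianRing_iff_ideal_fg A).1 inferInstance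
    (HomogeneousIdeal.irrelevant 𝒜).toIdeal
  let s' : Finset A :=
    s.biUnion (fun x => (decompose 𝒜 x).support.image (fun i => (decompose 𝒜 x i : A)))
  refine ⟨⟨s', ?_⟩⟩
  set T := Algebra.adjoin (𝒜 0) (s' : Set A) with hT
  have hcomp : ∀ x ∈ s, ∀ i, (decompose 𝒜 x i : A) ∈ T := by
    intro x hx i
    by_cases hi : i ∈ (decompose 𝒜 x).support
    · exact Algebra.subset_adjoin (Finset.mem_coe.2 (Finset.mem_biUnion.2
        ⟨x, hx, Finset.mem_image.2 ⟨i, hi, rfl⟩⟩))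
    · have h0 : decompose 𝒜 x i = 0 := by
        by_contra h; exact hi (DFinsupp.mem_support_iff.2 h)
      rw [h0]; exact zero_mem _
  have hzero : ∀ x ∈ s, (decompose 𝒜 x 0 : A) = 0 := by
    intro x hx
    have : x ∈ (HomogeneousIdeal.irrelevant 𝒜).toIdeal := by
      rw [← hs]; exact Ideal.subset_span hx
    exact this
  have main : ∀ m, ∀ a ∈ 𝒜 m, a ∈ T := by
    intro m
    induction m using Nat.strong_induction_on with
    | _ m ih =>
      intro a ha
      rcases Nat.eq_zero_or_pos m with rfl | hm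
      · exact Subalgebra.algebraMap_mem T (⟨a, ha⟩ : 𝒜 0)
      · have haI : a ∈ Ideal.span (s : Set A) := by
          rw [hs]; exact HomogeneousIdeal.mem_irrelevant_of_mem 𝒜 hm ha
        have hQ : ∀ x ∈ Ideal.span (s : Set A), ∀ c : A,
            GradedAlgebra.proj 𝒜 m (c * x) ∈ T := by
          intro x hx
          induction hx using Submodule.span_induction with
          | mem x hx =>
            intro c
            have hsum : c * x = ∑ i ∈ (decompose 𝒜 x).support, c * (decompose 𝒜 x i : A) := by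
              rw [← Finset.mul_sum, DirectSum.sum_support_decompose]
            rw [hsum, map_sum]
            refine sum_mem fun i hi => ?_
            rw [GradedAlgebra.proj_apply,
              DirectSum.coe_decompose_mul_of_right_mem 𝒜 m (SetLike.coe_mem (decompose 𝒜 x i))]
            split_ifs with him
            · have hi0 : i ≠ 0 := by
                rintro rfl
                exact (DFinsupp.mem_support_iff.1 hi) (Subtype.ext (hzero x hx))
              exact mul_mem (ih (m - i) (by omega) _ (SetLike.coe_mem _)) (hcomp x hx i)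
            · exact zero_mem _
          | zero => intro c; simp
          | add x y _ _ hx hy => intro c; rw [mul_add, map_add]; exact add_mem (hx c) (hy c)
          | smul c' x _ hx => intro c; rw [smul_eq_mul, ← mul_assoc]; exact hx (c * c')
        have := hQ a haI 1
        rw [one_mul, proj_of_mem 𝒜 ha] at this
        exact this
  rw [eq_top_iff]
  intro a _
  rw [← DirectSum.sum_support_decompose 𝒜 a]
  exact sum_mem fun i _ => main i _ (SetLike.coe_mem _)

end Delta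

section Main

variable {R A B : Type*} [CommRing R] [CommRing A] [Algebra R A]
  (𝒜 : ℕ → Submodule R A) [GradedAlgebra 𝒜] [CommRing B] [Algebra R B]
  (ℬ : ℕ → Submodule R B) [GradedAlgebra ℬ]
  (φ : B →ₐ[R] Polynomial A) (hφ : Function.Injective φ)
  (hdeg : ∀ n : ℕ, Submodule.map φ.toLinearMap (ℬ n) = Submodule.map (mon R n) (ge 𝒜 n))

include hφ hdeg

theorem delta_mem_range (c : A) : ∃ y : B, φ y = delta 𝒜 c := by
  have : delta 𝒜 c ∈ (φ : B →+* Polynomial A).range := by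
    apply delta_mem_of 𝒜
    intro m a ha
    obtain ⟨b, -, hb⟩ := exists_of_mem_ge 𝒜 ℬ φ hdeg (le_ge 𝒜 le_rfl ha)
    exact ⟨b, hb⟩
  obtain ⟨y, hy⟩ := this
  exact ⟨y, hy⟩

/-- Core of S8312. -/
theorem irrelevant_radical
    {ι : Type*} (d : ι → ℕ) (f : ι → A) (hf : ∀ a, f a ∈ 𝒜 (d a))
    (hrad : ∀ g ∈ (HomogeneousIdeal.irrelevant 𝒜).toIdeal,
      ∃ n : ℕ, 0 < n ∧ g ^ n ∈ Ideal.span (Set.range f))
    (fn : ι → B) (hfn : ∀ a, φ (fn a) = Polynomial.monomial (d a) (f a)) :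
    ∀ g ∈ (HomogeneousIdeal.irrelevant ℬ).toIdeal,
      ∃ n : ℕ, 0 < n ∧ g ^ n ∈ Ideal.span (Set.range fn) := by
  set J := Ideal.span (Set.range fn) with hJ
  have h1 : ∀ x ∈ Ideal.span (Set.range f), ∃ y ∈ J, φ y = delta 𝒜 x := by
    intro x hx
    induction hx using Submodule.span_induction with
    | mem x hx =>
      obtain ⟨a, rfl⟩ := hx
      exact ⟨fn a, Ideal.subset_span ⟨a, rfl⟩, by rw [hfn, delta_of_mem 𝒜 (hf a)]⟩
    | zero => exact ⟨0, J.zero_mem, by simp⟩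
    | add x y _ _ hx hy =>
      obtain ⟨x', hx', ex⟩ := hx
      obtain ⟨y', hy', ey⟩ := hy
      exact ⟨x' + y', J.add_mem hx' hy', by rw [map_add, map_add, ex, ey]⟩
    | smul c x _ hx =>
      obtain ⟨x', hx', ex⟩ := hx
      obtain ⟨c', ec⟩ := delta_mem_range 𝒜 ℬ φ hφ hdeg c
      exact ⟨c' * x', J.mul_mem_left c' hx', by rw [map_mul, smul_eq_mul, map_mul, ex, ec]⟩
  have h2 : ∀ m, 0 < m → ∀ a ∈ 𝒜 m, ∀ g : B, φ g = Polynomial.monomial m a →
      g ∈ J.radical := by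
    intro m hm a ha g hg
    have haI : a ∈ (HomogeneousIdeal.irrelevant 𝒜).toIdeal :=
      HomogeneousIdeal.mem_irrelevant_of_mem 𝒜 hm ha
    obtain ⟨n, -, hn⟩ := hrad a haI
    obtain ⟨y, hy, ey⟩ := h1 _ hn
    have : g ^ n = y := by
      apply hφ
      rw [map_pow, hg, ey, Polynomial.monomial_pow,
        delta_of_mem 𝒜 (SetLike.pow_mem_graded n ha), smul_eq_mul, mul_comm n m]
    exact Ideal.mem_radical_iff.2 ⟨n, this ▸ hy⟩
  have h3 : ∀ k, 0 < k → ∀ m, k ≤ m → ∀ a ∈ 𝒜 m, ∀ g : B,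
      φ g = Polynomial.monomial k a → g ∈ J.radical := by
    intro k hk m hkm a ha g hg
    obtain ⟨g', -, hg'⟩ := exists_of_mem_ge 𝒜 ℬ φ hdeg (le_ge 𝒜 le_rfl ha)
    obtain ⟨c, -, hc⟩ := exists_of_mem_ge 𝒜 ℬ φ hdeg (n := 0) (a := a ^ (m - k))
      (by rw [ge_zero]; trivial)
    have hg'rad : g' ∈ J.radical := h2 m (by omega) a ha g' hg'
    have e : g ^ m = c * g' ^ k := by
      apply hφ
      rw [map_pow, map_mul, map_pow, hg, hg', hc, Polynomial.monomial_pow,
        Polynomial.monomial_pow, Polynomial.monomial_mul_monomial, ← pow_add,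
        Nat.sub_add_cancel hkm, zero_add, mul_comm]
    have hgm : g ^ m ∈ J.radical := by
      rw [e]; exact Ideal.mul_mem_left _ _ (Ideal.pow_mem_of_mem _ hg'rad k hk)
    obtain ⟨n, hn⟩ := Ideal.mem_radical_iff.1 hgm
    exact Ideal.mem_radical_iff.2 ⟨m * n, by rw [pow_mul]; exact hn⟩
  have h4 : ∀ k, 0 < k → ∀ a ∈ ge 𝒜 k, ∃ g ∈ J.radical, φ g = Polynomial.monomial k a := by
    intro k hk a ha
    refine Submodule.iSup_induction (p := fun m => ⨆ (_ : k ≤ m), 𝒜 m)
      (motive := fun a => ∃ g ∈ J.radical, φ g = Polynomial.monomial k a) ha ?_ ?_ ?_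
    · intro m x hx
      by_cases hkm : k ≤ m
      · have hx' : x ∈ 𝒜 m := by simpa [hkm] using hx
        obtain ⟨g, -, hg⟩ := exists_of_mem_ge 𝒜 ℬ φ hdeg (le_ge 𝒜 hkm hx')
        exact ⟨g, h3 k hk m hkm x hx' g hg, hg⟩
      · have hx' : x = 0 := by simpa [hkm] using hx
        exact ⟨0, zero_mem _, by simp [hx']⟩
    · exact ⟨0, zero_mem _, by simp⟩
    · rintro x y ⟨gx, hgx, ex⟩ ⟨gy, hgy, ey⟩
      exact ⟨gx + gy, add_mem hgx hgy, by rw [map_add, map_add, ex, ey]⟩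
  have h5 : (HomogeneousIdeal.irrelevant ℬ).toIdeal ≤ J.radical := by
    rw [HomogeneousIdeal.toIdeal_irrelevant_le]
    intro k hk g hg
    have hg' : g ∈ ℬ k := hg
    obtain ⟨a, ha, e⟩ := (mem_iff 𝒜 ℬ φ hφ hdeg).1 hg'
    obtain ⟨g', hg'r, e'⟩ := h4 k hk a ha
    have : g = g' := hφ (e.trans e'.symm)
    rw [this]; exact hg'r
  intro g hg
  obtain ⟨n, hn⟩ := Ideal.mem_radical_iff.1 (h5 hg)
  exact ⟨n + 1, Nat.succ_pos n, by rw [pow_succ]; exact Ideal.mul_mem_right _ _ hn⟩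

theorem rhoLin_mul (x y : B) :
    rhoLin 𝒜 (φ (x * y)) = rhoLin 𝒜 (φ x) * rhoLin 𝒜 (φ y) := by
  revert y
  refine DirectSum.Decomposition.inductionOn ℬ
    (motive := fun x => ∀ y, rhoLin 𝒜 (φ (x * y)) = rhoLin 𝒜 (φ x) * rhoLin 𝒜 (φ y)) ?_ ?_ ?_ x
  · intro y; simp
  · intro k x y
    refine DirectSum.Decomposition.inductionOn ℬ
      (motive := fun y => rhoLin 𝒜 (φ (↑x * y)) = rhoLin 𝒜 (φ ↑x) * rhoLin 𝒜 (φ y)) ?_ ?_ ?_ y
    · simp
    · intro l y
      obtain ⟨a, ha, ea⟩ := (mem_iff 𝒜 ℬ φ hφ hdeg).1 x.2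
      obtain ⟨a', ha', ea'⟩ := (mem_iff 𝒜 ℬ φ hφ hdeg).1 y.2
      rw [map_mul, ea, ea', Polynomial.monomial_mul_monomial, rhoLin_monomial, rhoLin_monomial,
        rhoLin_monomial, proj_mul_of_mem_ge 𝒜 ha ha']
    · intro y y' hy hy'
      simp only [mul_add, map_add, hy, hy']
  · intro x x' hx hx' y
    simp only [add_mul, map_add, hx, hx']

/-- The retraction `ρ : B → A`, `Σ p_k X^k ↦ Σ (p_k)_k`, a surjective ring homomorphism carrying
`ℬ 0` onto `𝒜 0`. -/
noncomputable def rho : B →+* A where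
  toFun b := rhoLin 𝒜 (φ b)
  map_one' := by
    rw [map_one, ← Polynomial.monomial_zero_one, rhoLin_monomial,
      proj_of_mem 𝒜 SetLike.GradedOne.one_mem]
  map_zero' := by simp
  map_add' x y := by rw [map_add, map_add]
  map_mul' x y := rhoLin_mul 𝒜 ℬ φ hφ hdeg x y

theorem rho_of_monomial {b : B} {k : ℕ} {a : A} (h : φ b = Polynomial.monomial k a) :
    rho 𝒜 ℬ φ hφ hdeg b = GradedAlgebra.proj 𝒜 k a := by
  show rhoLin 𝒜 (φ b) = _
  rw [h, rhoLin_monomial]

theorem rho_surjective : Function.Surjective (rho 𝒜 ℬ φ hφ hdeg) := by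
  intro a
  refine DirectSum.Decomposition.inductionOn 𝒜
    (motive := fun a => ∃ b, rho 𝒜 ℬ φ hφ hdeg b = a) ?_ ?_ ?_ a
  · exact ⟨0, map_zero _⟩
  · intro m a
    obtain ⟨b, -, hb⟩ := exists_of_mem_ge 𝒜 ℬ φ hdeg (le_ge 𝒜 le_rfl a.2)
    exact ⟨b, by rw [rho_of_monomial 𝒜 ℬ φ hφ hdeg hb, proj_of_mem 𝒜 a.2]⟩
  · rintro a a' ⟨b, rfl⟩ ⟨b', rfl⟩; exact ⟨b + b', map_add _ _ _⟩

theorem rho_mem_zero {c : B} (hc : c ∈ ℬ 0) : rho 𝒜 ℬ φ hφ hdeg c ∈ 𝒜 0 := by
  obtain ⟨a, -, e⟩ := (mem_iff 𝒜 ℬ φ hφ hdeg).1 hc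
  rw [rho_of_monomial 𝒜 ℬ φ hφ hdeg e, GradedAlgebra.proj_apply]
  exact SetLike.coe_mem _

/-- S8275, direction `⇒`. -/
theorem finiteType_of_natural (h : Algebra.FiniteType (ℬ 0) B) : Algebra.FiniteType (𝒜 0) A := by
  classical
  obtain ⟨s, hs⟩ := h.out
  refine ⟨⟨s.image (rho 𝒜 ℬ φ hφ hdeg), ?_⟩⟩
  rw [eq_top_iff]
  rintro a -
  obtain ⟨y, rfl⟩ := rho_surjective 𝒜 ℬ φ hφ hdeg a
  have hy : y ∈ Algebra.adjoin (ℬ 0) (s : Set B) := by rw [hs]; trivial
  induction hy using Algebra.adjoin_induction with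
  | mem x hx =>
    exact Algebra.subset_adjoin (Finset.mem_coe.2 (Finset.mem_image_of_mem _ hx))
  | algebraMap r =>
    have : rho 𝒜 ℬ φ hφ hdeg (algebraMap (ℬ 0) B r) ∈ 𝒜 0 := rho_mem_zero 𝒜 ℬ φ hφ hdeg r.2
    exact Subalgebra.algebraMap_mem _ (⟨_, this⟩ : 𝒜 0)
  | add x y _ _ hx hy => rw [map_add]; exact add_mem hx hy
  | mul x y _ _ hx hy => rw [map_mul]; exact mul_mem hx hy

/-- S8275, direction `⇐`. -/
theorem natural_finiteType (h : Algebra.FiniteType (𝒜 0) A) : Algebra.FiniteType (ℬ 0) B := by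
  classical
  have := h
  obtain ⟨s, hs, hhom⟩ := GradedAlgebra.exists_finset_adjoin_eq_top_and_homogeneous_ne_zero 𝒜
  choose! n hn using hhom
  let yf : A → ℕ → B := fun x k => Function.invFun φ (Polynomial.monomial k x)
  have hyf : ∀ x ∈ s, ∀ k ≤ n x, φ (yf x k) = Polynomial.monomial k x := by
    intro x hx k hk
    apply Function.invFun_eq
    obtain ⟨b, -, hb⟩ := exists_of_mem_ge 𝒜 ℬ φ hdeg (le_ge 𝒜 hk (hn x hx).2)
    exact ⟨b, hb⟩
  let G : Finset B := s.biUnion (fun x => (Finset.range (n x + 1)).image (yf x))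
  refine ⟨⟨G, ?_⟩⟩
  set T := Algebra.adjoin (ℬ 0) (G : Set B) with hT
  have hconst : ∀ a : A, ∃ t ∈ T, φ t = Polynomial.monomial 0 a := by
    intro a
    obtain ⟨b, hb, e⟩ := exists_of_mem_ge 𝒜 ℬ φ hdeg (n := 0) (a := a) (by rw [ge_zero]; trivial)
    exact ⟨b, Subalgebra.algebraMap_mem T (⟨b, hb⟩ : ℬ 0), e⟩
  let S : ℕ → AddSubmonoid A := fun k =>
    { carrier := {c | ∃ t ∈ T, φ t = Polynomial.monomial k c}
      zero_mem' := ⟨0, zero_mem _, by simp⟩
      add_mem' := by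
        rintro a b ⟨t, ht, e⟩ ⟨t', ht', e'⟩
        exact ⟨t + t', add_mem ht ht', by rw [map_add, map_add, e, e']⟩ }
  have hS : ∀ k c, c ∈ S k ↔ ∃ t ∈ T, φ t = Polynomial.monomial k c := fun _ _ => Iff.rfl
  have hSmul : ∀ k l a b, a ∈ S k → b ∈ S l → a * b ∈ S (k + l) := by
    intro k l a b ha hb
    obtain ⟨t, ht, e⟩ := (hS _ _).1 ha
    obtain ⟨t', ht', e'⟩ := (hS _ _).1 hb
    exact (hS _ _).2 ⟨t * t', mul_mem ht ht',
      by rw [map_mul, e, e', Polynomial.monomial_mul_monomial]⟩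
  have hP : ∀ a : A, ∀ m k, k ≤ m → GradedAlgebra.proj 𝒜 m a ∈ S k := by
    intro a
    have ha : a ∈ Algebra.adjoin (𝒜 0) (s : Set A) := by rw [hs]; trivial
    induction ha using Algebra.adjoin_induction with
    | mem x hx =>
      intro m k hk
      by_cases hm : n x = m
      · subst hm
        rw [proj_of_mem 𝒜 (hn x hx).2]
        refine (hS _ _).2 ⟨yf x k, Algebra.subset_adjoin ?_, hyf x hx k hk⟩
        exact Finset.mem_coe.2 (Finset.mem_biUnion.2
          ⟨x, hx, Finset.mem_image.2 ⟨k, Finset.mem_range.2 (by omega), rfl⟩⟩)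
      · rw [proj_of_mem_ne 𝒜 (hn x hx).2 hm]; exact zero_mem _
    | algebraMap r =>
      intro m k hk
      by_cases hm : 0 = m
      · subst hm
        have hk0 : k = 0 := by omega
        subst hk0
        have hr : algebraMap (𝒜 0) A r ∈ 𝒜 0 := r.2
        rw [proj_of_mem 𝒜 hr]
        exact (hS _ _).2 (hconst _)
      · have hr : algebraMap (𝒜 0) A r ∈ 𝒜 0 := r.2
        rw [proj_of_mem_ne 𝒜 hr hm]; exact zero_mem _
    | add x y _ _ hx hy =>
      intro m k hk
      rw [map_add]; exact add_mem (hx m k hk) (hy m k hk)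
    | mul x y _ _ hx hy =>
      intro m k hk
      rw [GradedAlgebra.proj_apply, DirectSum.decompose_mul,
        DirectSum.coe_mul_apply_eq_sum_antidiagonal]
      refine sum_mem fun ij hij => ?_
      rw [Finset.mem_antidiagonal] at hij
      have e : min ij.1 k + (k - min ij.1 k) = k := by omega
      have h1 := hx ij.1 (min ij.1 k) (min_le_left _ _)
      have h2 := hy ij.2 (k - min ij.1 k) (by omega)
      rw [GradedAlgebra.proj_apply] at h1 h2
      have := hSmul _ _ _ _ h1 h2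
      rwa [e] at this
  rw [eq_top_iff]
  intro b _
  refine DirectSum.Decomposition.inductionOn ℬ (motive := fun b => b ∈ T) (zero_mem _) ?_
    (fun _ _ => add_mem) b
  intro k b
  obtain ⟨a, ha, e⟩ := (mem_iff 𝒜 ℬ φ hφ hdeg).1 b.2
  have haS : a ∈ S k := by
    rw [← DirectSum.sum_support_decompose 𝒜 a]
    refine sum_mem fun m _ => ?_
    by_cases hkm : k ≤ m
    · have := hP a m k hkm
      rwa [GradedAlgebra.proj_apply] at this
    · have h0 := ge_le_ker_proj 𝒜 (not_le.1 hkm) ha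
      rw [LinearMap.mem_ker, GradedAlgebra.proj_apply] at h0
      rw [h0]; exact zero_mem _
  obtain ⟨t, ht, et⟩ := (hS _ _).1 haS
  have : (b : B) = t := hφ (e.trans et.symm)
  rw [this]; exact ht

/-- The ring isomorphism `ℬ 0 ≃ A`, `c ↦` constant coefficient of `φ c`. -/
theorem zero_isNoetherianRing [IsNoetherianRing A] : IsNoetherianRing (ℬ 0) := by
  let f : ℬ 0 →+* A :=
    (Polynomial.constantCoeff).comp ((φ : B →+* Polynomial A).comp (algebraMap (ℬ 0) B))
  have hf : ∀ c : ℬ 0, ∀ a, φ (c : B) = Polynomial.monomial 0 a → f c = a := by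
    intro c a h
    show Polynomial.constantCoeff (φ (c : B)) = a
    rw [h]; simp
  have inj : Function.Injective f := by
    rw [injective_iff_map_eq_zero]
    intro c hc
    obtain ⟨a, -, e⟩ := (mem_iff 𝒜 ℬ φ hφ hdeg).1 c.2
    have : a = 0 := by rw [← hf c a e, hc]
    rw [this, map_zero] at e
    exact Subtype.ext (hφ (e.trans (map_zero φ).symm))
  have surj : Function.Surjective f := by
    intro a
    obtain ⟨b, hb, e⟩ := exists_of_mem_ge 𝒜 ℬ φ hdeg (n := 0) (a := a) (by rw [ge_zero]; trivial)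
    exact ⟨⟨b, hb⟩, hf ⟨b, hb⟩ a e⟩
  exact isNoetherianRing_of_ringEquiv A (RingEquiv.ofBijective f ⟨inj, surj⟩).symm

/-- S8276. -/
theorem natural_isNoetherianRing_iff : IsNoetherianRing B ↔ IsNoetherianRing A := by
  constructor
  · intro h
    exact isNoetherianRing_of_surjective B A (rho 𝒜 ℬ φ hφ hdeg) (rho_surjective 𝒜 ℬ φ hφ hdeg)
  · intro h
    have hft : Algebra.FiniteType (𝒜 0) A := finiteType_of_isNoetherianRing 𝒜
    have hftB : Algebra.FiniteType (ℬ 0) B := natural_finiteType 𝒜 ℬ φ hφ hdeg hft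
    have : IsNoetherianRing (ℬ 0) := zero_isNoetherianRing 𝒜 ℬ φ hφ hdeg
    exact Algebra.FiniteType.isNoetherianRing (ℬ 0) B

end Main

end Groth.Agent.H41.Natural
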