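import Mathlib
import Groth.Agent.H8.QCohAffine
import Groth.Agent.H8.QCohQcqs
import Groth.Agent.H8.IsoCover

/-!
# Gluing morphisms of quasi-coherent modules from an affine family

* `hom_ext_of_affine_cover`: two morphisms out of a quasi-coherent module which agree on the
  sections over the members of an affine open cover are equal.
* `exists_hom_of_affine_family`: a compatible family of linear maps between the sections of two
  quasi-coherent modules over the members of a (locally directed) affine open cover comes from a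
  morphism of modules.
-/

set_option autoImplicit false
set_option linter.style.haveILetI false
universe u
open CategoryTheory CategoryTheory.Limits AlgebraicGeometry TopologicalSpace Opposite
open Groth.Agent.H8

noncomputable section

namespace Groth.Agent.H41.ModGlue

variable {X : Scheme.{u}}

/-! ### Morphisms agreeing on an affine cover -/

theorem app_basicOpen_eq {A B : X.Modules} [A.IsQuasicoherent] (φ₁ φ₂ : A ⟶ B) {U : X.Opens}
    (hU : IsAffineOpen U) (h : ∀ x : Γ(A, U), φ₁.app U x = φ₂.app U x) (a : Γ(X, U))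
    (z : Γ(A, X.basicOpen a)) :
    φ₁.app (X.basicOpen a) z = φ₂.app (X.basicOpen a) z := by
  obtain ⟨n, x, hx⟩ := exists_smul_eq_res hU A a z
  have hua : IsUnit (X.presheaf.map (homOfLE (X.basicOpen_le a)).op a) :=
    RingedSpace.isUnit_res_basicOpen X.toRingedSpace a
  have h1 : ∀ φ : A ⟶ B,
      (X.presheaf.map (homOfLE (X.basicOpen_le a)).op a) ^ n • φ.app (X.basicOpen a) z =
        B.presheaf.map (homOfLE (X.basicOpen_le a)).op (φ.app U x) := by
    intro φ
    rw [← Scheme.Modules.Hom.app_smul, hx, app_res]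
  have h2 := (h1 φ₁).trans ((congrArg _ (h x)).trans (h1 φ₂).symm)
  exact (hua.pow n).smul_left_cancel.mp h2

/-- Two morphisms out of a quasi-coherent module agreeing on the sections over the members of an
affine open cover are equal. -/
theorem hom_ext_of_affine_cover {A B : X.Modules} [A.IsQuasicoherent] (φ₁ φ₂ : A ⟶ B)
    {ι : Type*} (U : ι → X.Opens) (hU : IsOpenCover U) (hU' : ∀ i, IsAffineOpen (U i))
    (h : ∀ i (x : Γ(A, U i)), φ₁.app (U i) x = φ₂.app (U i) x) : φ₁ = φ₂ := by
  refine Scheme.Modules.hom_ext _ _ fun W => ?_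
  refine ConcreteCategory.hom_ext _ _ fun x => ?_
  refine section_eq_of_cover B _ _ fun y hy => ?_
  obtain ⟨i, hyi⟩ : ∃ i, y ∈ U i := by
    have : y ∈ (⨆ i, U i : X.Opens) := by rw [hU.iSup_eq_top]; trivial
    exact Opens.mem_iSup.mp this
  obtain ⟨a, ha, hya⟩ := (hU' i).exists_basicOpen_le ⟨y, hy⟩ hyi
  refine ⟨X.basicOpen a, ha, hya, ?_⟩
  rw [← app_res, ← app_res]
  exact app_basicOpen_eq φ₁ φ₂ (hU' i) (h i) a _

/-! ### Localising a linear map between sections over an affine open -/

lemma isUnit_res_of_le_basicOpen {U W : X.Opens} (a : Γ(X, U)) (hW : W ≤ X.basicOpen a) :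
    IsUnit (X.presheaf.map (homOfLE (hW.trans (X.basicOpen_le a))).op a) := by
  have h1 : IsUnit (X.presheaf.map (homOfLE (X.basicOpen_le a)).op a) :=
    RingedSpace.isUnit_res_basicOpen X.toRingedSpace a
  have h2 := h1.map (X.presheaf.map (homOfLE hW).op).hom
  rw [← ringRes_res hW (X.basicOpen_le a) a]
  exact h2

section LocMap

variable {F G : X.Modules} [F.IsQuasicoherent] [G.IsQuasicoherent] {U : X.Opens}
  (hU : IsAffineOpen U) (ψ : Γ(F, U) →ₗ[Γ(X, U)] Γ(G, U)) (a : Γ(X, U))

/-- The localisation at `a` of a linear map between the sections over an affine open. -/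
def locMap : Γ(F, X.basicOpen a) →+ Γ(G, X.basicOpen a) :=
  letI := moduleSectionBasicOpen F a
  letI := moduleSectionBasicOpen G a
  haveI := isLocalizedModule_resBasicOpenₗ hU F a
  haveI := isLocalizedModule_resBasicOpenₗ hU G a
  (IsLocalizedModule.map (Submonoid.powers a) (resBasicOpenₗ F a) (resBasicOpenₗ G a)
    ψ).toAddMonoidHom

lemma locMap_res (x : Γ(F, U)) :
    locMap hU ψ a (F.presheaf.map (homOfLE (X.basicOpen_le a)).op x) =
      G.presheaf.map (homOfLE (X.basicOpen_le a)).op (ψ x) := by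
  letI := moduleSectionBasicOpen F a
  letI := moduleSectionBasicOpen G a
  haveI := isLocalizedModule_resBasicOpenₗ hU F a
  haveI := isLocalizedModule_resBasicOpenₗ hU G a
  exact IsLocalizedModule.map_apply (Submonoid.powers a) (resBasicOpenₗ F a)
    (resBasicOpenₗ G a) ψ x

lemma locMap_smul (r : Γ(X, U)) (z : Γ(F, X.basicOpen a)) :
    locMap hU ψ a (X.presheaf.map (homOfLE (X.basicOpen_le a)).op r • z) =
      X.presheaf.map (homOfLE (X.basicOpen_le a)).op r • locMap hU ψ a z := by
  letI := moduleSectionBasicOpen F a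
  letI := moduleSectionBasicOpen G a
  haveI := isLocalizedModule_resBasicOpenₗ hU F a
  haveI := isLocalizedModule_resBasicOpenₗ hU G a
  exact (IsLocalizedModule.map (Submonoid.powers a) (resBasicOpenₗ F a) (resBasicOpenₗ G a)
    ψ).map_smul r z

/-- The localised map is linear over the sections of the structure sheaf over `D(a)`. -/
lemma locMap_smul' (s : Γ(X, X.basicOpen a)) (z : Γ(F, X.basicOpen a)) :
    locMap hU ψ a (s • z) = s • locMap hU ψ a z := by
  haveI := hU.isLocalization_basicOpen a
  obtain ⟨n, r, hr⟩ := IsLocalization.Away.surj a s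
  have hua : IsUnit (X.presheaf.map (homOfLE (X.basicOpen_le a)).op a) :=
    RingedSpace.isUnit_res_basicOpen X.toRingedSpace a
  have hr' : (X.presheaf.map (homOfLE (X.basicOpen_le a)).op a) ^ n * s =
      X.presheaf.map (homOfLE (X.basicOpen_le a)).op r := by
    rw [mul_comm]; exact hr
  refine ((hua.pow n).smul_left_cancel).mp ?_
  have h1 := locMap_smul hU ψ a (a ^ n) (s • z)
  rw [map_pow, ← mul_smul, hr', locMap_smul] at h1
  rw [← h1, ← hr', mul_smul]

end LocMap

/-! ### Families -/

section Family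

variable {F G : X.Modules} [F.IsQuasicoherent] [G.IsQuasicoherent] {ι : Type*} (U : ι → X.Opens)
  (hU' : ∀ i, IsAffineOpen (U i)) (ψ : ∀ i, Γ(F, U i) →ₗ[Γ(X, U i)] Γ(G, U i))

/-- Compatibility of the localised maps when passing to a smaller member of the family. -/
lemma locMap_compat {k i : ι} (hki : U k ≤ U i)
    (hc : ∀ x : Γ(F, U i), ψ k (F.presheaf.map (homOfLE hki).op x) =
      G.presheaf.map (homOfLE hki).op (ψ i x))
    (a : Γ(X, U i)) (b : Γ(X, U k)) (hba : X.basicOpen b ≤ X.basicOpen a)
    (z : Γ(F, X.basicOpen a)) :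
    locMap (hU' k) (ψ k) b (F.presheaf.map (homOfLE hba).op z) =
      G.presheaf.map (homOfLE hba).op (locMap (hU' i) (ψ i) a z) := by
  obtain ⟨n, x, hx⟩ := exists_smul_eq_res (hU' i) F a z
  have hbU : X.basicOpen b ≤ U i := hba.trans (X.basicOpen_le a)
  have hu : IsUnit (X.presheaf.map (homOfLE hbU).op a) := isUnit_res_of_le_basicOpen a hba
  have hu'' : X.presheaf.map (homOfLE (X.basicOpen_le b)).op
      (X.presheaf.map (homOfLE hki).op a) = X.presheaf.map (homOfLE hbU).op a :=
    ringRes_res _ _ _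
  have hu' : X.presheaf.map (homOfLE hba).op
      (X.presheaf.map (homOfLE (X.basicOpen_le a)).op a) = X.presheaf.map (homOfLE hbU).op a :=
    ringRes_res _ _ _
  have e1 : (X.presheaf.map (homOfLE hbU).op a) ^ n • F.presheaf.map (homOfLE hba).op z =
      F.presheaf.map (homOfLE (X.basicOpen_le b)).op (F.presheaf.map (homOfLE hki).op x) := by
    rw [res_res F, ← hu', ← map_pow, ← res_smul F, hx, res_res F]
  have hL : (X.presheaf.map (homOfLE hbU).op a) ^ n •
      locMap (hU' k) (ψ k) b (F.presheaf.map (homOfLE hba).op z) =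
      G.presheaf.map (homOfLE hbU).op (ψ i x) := by
    rw [← hu'', ← map_pow, ← locMap_smul, map_pow, hu'', e1, locMap_res, hc, res_res G]
  have hR : (X.presheaf.map (homOfLE hbU).op a) ^ n •
      G.presheaf.map (homOfLE hba).op (locMap (hU' i) (ψ i) a z) =
      G.presheaf.map (homOfLE hbU).op (ψ i x) := by
    rw [← hu', ← map_pow, ← res_smul G, ← map_pow, ← locMap_smul, map_pow, hx, locMap_res,
      res_res G]
  exact (hu.pow n).smul_left_cancel.mp (hL.trans hR.symm)

/-- The family is locally directed, compatibly with the given linear maps. -/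
def FamDirected : Prop :=
  ∀ (i j : ι) (y : X), y ∈ U i → y ∈ U j → ∃ k, y ∈ U k ∧ ∃ (hki : U k ≤ U i) (hkj : U k ≤ U j),
    (∀ x : Γ(F, U i), ψ k (F.presheaf.map (homOfLE hki).op x) =
      G.presheaf.map (homOfLE hki).op (ψ i x)) ∧
    (∀ x : Γ(F, U j), ψ k (F.presheaf.map (homOfLE hkj).op x) =
      G.presheaf.map (homOfLE hkj).op (ψ j x))

variable (hdir : FamDirected U ψ)

include hdir in
lemma locMap_natural (p q : Σ i, Γ(X, U i)) (hpq : X.basicOpen p.2 ≤ X.basicOpen q.2)
    (z : Γ(F, X.basicOpen q.2)) :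
    locMap (hU' p.1) (ψ p.1) p.2 (F.presheaf.map (homOfLE hpq).op z) =
      G.presheaf.map (homOfLE hpq).op (locMap (hU' q.1) (ψ q.1) q.2 z) := by
  obtain ⟨i, a⟩ := p
  obtain ⟨j, a'⟩ := q
  dsimp only at hpq z ⊢
  refine section_eq_of_cover G _ _ fun y hy => ?_
  have hyi : y ∈ U i := X.basicOpen_le a hy
  have hyj : y ∈ U j := X.basicOpen_le a' (hpq hy)
  obtain ⟨k, hyk, hki, hkj, hci, hcj⟩ := hdir i j y hyi hyj
  have hb : X.basicOpen (X.presheaf.map (homOfLE hki).op a) ≤ X.basicOpen a :=
    basicOpen_res_le hki a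
  have hyb : y ∈ X.basicOpen (X.presheaf.map (homOfLE hki).op a) :=
    mem_basicOpen_res hki a y hyk hy
  refine ⟨X.basicOpen (X.presheaf.map (homOfLE hki).op a), hb, hyb, ?_⟩
  have hL := locMap_compat U hU' ψ hki hci a (X.presheaf.map (homOfLE hki).op a) hb
    (F.presheaf.map (homOfLE hpq).op z)
  have hR := locMap_compat U hU' ψ hkj hcj a' (X.presheaf.map (homOfLE hki).op a)
    (hb.trans hpq) z
  rw [res_res F] at hL
  rw [← hL, res_res G, ← hR]

/-- The natural transformation on the basis of basic opens of the members of the family. -/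
def basisNat :
    (inducedFunctor (fun p : Σ i, Γ(X, U i) => X.basicOpen p.2)).op ⋙ F.presheaf ⟶
      (inducedFunctor (fun p : Σ i, Γ(X, U i) => X.basicOpen p.2)).op ⋙ G.presheaf where
  app p := AddCommGrpCat.ofHom (locMap (hU' p.unop.1) (ψ p.unop.1) p.unop.2)
  naturality p q g := by
    refine ConcreteCategory.hom_ext _ _ fun z => ?_
    exact locMap_natural U hU' ψ hdir q.unop p.unop (leOfHom g.unop.hom) z

variable (hU : IsOpenCover U)

/-- The glued morphism of abelian presheaves. -/
def gluePresheafHom : F.presheaf ⟶ G.presheaf :=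
  TopCat.Sheaf.restrictHomEquivHom F.presheaf ⟨G.presheaf, G.isSheaf⟩
    (isBasis_basicOpen_of_affine_cover U hU hU') (basisNat U hU' ψ hdir)

lemma gluePresheafHom_app_basicOpen (i : ι) (a : Γ(X, U i)) (z : Γ(F, X.basicOpen a)) :
    (gluePresheafHom U hU' ψ hdir hU).app (op (X.basicOpen a)) z =
      locMap (hU' i) (ψ i) a z := by
  have := TopCat.Sheaf.extend_hom_app F.presheaf ⟨G.presheaf, G.isSheaf⟩
    (isBasis_basicOpen_of_affine_cover U hU hU') (basisNat U hU' ψ hdir) ⟨i, a⟩
  exact congr($this z)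

omit [F.IsQuasicoherent] [G.IsQuasicoherent] in
lemma presheafHom_res (Φ : F.presheaf ⟶ G.presheaf) {V W : X.Opens} (h : V ≤ W) (x : Γ(F, W)) :
    Φ.app (op V) (F.presheaf.map (homOfLE h).op x) =
      G.presheaf.map (homOfLE h).op (Φ.app (op W) x) :=
  congr($(Φ.naturality (homOfLE h).op) x)

lemma glue_smul (W : X.Opens) (r : Γ(X, W)) (x : Γ(F, W)) :
    (gluePresheafHom U hU' ψ hdir hU).app (op W) (r • x) =
      r • (gluePresheafHom U hU' ψ hdir hU).app (op W) x := by
  refine section_eq_of_cover G _ _ fun y hy => ?_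
  obtain ⟨i, hyi⟩ : ∃ i, y ∈ U i := by
    have : y ∈ (⨆ i, U i : X.Opens) := by rw [hU.iSup_eq_top]; trivial
    exact Opens.mem_iSup.mp this
  obtain ⟨a, ha, hya⟩ := (hU' i).exists_basicOpen_le ⟨y, hy⟩ hyi
  refine ⟨X.basicOpen a, ha, hya, ?_⟩
  have key := gluePresheafHom_app_basicOpen U hU' ψ hdir hU i a
  rw [← presheafHom_res _ ha, res_smul F, res_smul G, ← presheafHom_res _ ha, key, key]
  exact locMap_smul' (hU' i) (ψ i) a _ _

/-- The glued morphism of modules. -/
def glueHom : F ⟶ G :=
  (SheafOfModules.Hom.mk (PresheafOfModules.homMk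
    (show F.val.presheaf ⟶ G.val.presheaf from gluePresheafHom U hU' ψ hdir hU)
    (fun W r m => glue_smul U hU' ψ hdir hU W.unop r m)) : SheafOfModules.Hom F G)

lemma glueHom_app (W : X.Opens) (x : Γ(F, W)) :
    (glueHom U hU' ψ hdir hU).app W x = (gluePresheafHom U hU' ψ hdir hU).app (op W) x := rfl

/-- A compatible family of linear maps between the sections of two quasi-coherent modules over the
members of a locally directed affine open cover is induced by a morphism of modules. -/
theorem exists_hom_of_affine_family (U : ι → X.Opens)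
    (hU' : ∀ i, IsAffineOpen (U i)) (ψ : ∀ i, Γ(F, U i) →ₗ[Γ(X, U i)] Γ(G, U i))
    (hdir : FamDirected U ψ) (hU : IsOpenCover U) :
    ∃ φ : F ⟶ G, ∀ i (x : Γ(F, U i)), φ.app (U i) x = ψ i x := by
  refine ⟨glueHom U hU' ψ hdir hU, fun i x => ?_⟩
  refine section_eq_of_cover G _ _ fun y hy => ?_
  have h1 : X.basicOpen (1 : Γ(X, U i)) = U i := X.basicOpen_one
  refine ⟨X.basicOpen (1 : Γ(X, U i)), X.basicOpen_le _, by rw [h1]; exact hy, ?_⟩
  rw [glueHom_app, ← presheafHom_res, gluePresheafHom_app_basicOpen, locMap_res]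

end Family

end Groth.Agent.H41.ModGlue
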