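import Groth.Agent.H41.AffAlgLib
import Groth.Agent.S8255
import Groth.Prelude.Def_RelSpec

/-!
# Fibre products of schemes affine over `S` give pushouts of direct image algebras
-/

set_option autoImplicit false
universe u
open CategoryTheory CategoryTheory.Limits AlgebraicGeometry TopologicalSpace Opposite

namespace Groth.Agent.H41.AffAlgLib

section cat
universe v w
variable {C : Type w} [Category.{v} C]

theorem isPushout_of_existsUnique {W X Y Z : C} {f : W ⟶ X} {g : W ⟶ Y} {inl : X ⟶ Z}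
    {inr : Y ⟶ Z} (w : f ≫ inl = g ≫ inr)
    (h : ∀ (T : C) (α : X ⟶ T) (β : Y ⟶ T), f ≫ α = g ≫ β →
      ∃! γ : Z ⟶ T, inl ≫ γ = α ∧ inr ≫ γ = β) :
    IsPushout f g inl inr :=
  ⟨⟨w⟩, ⟨PushoutCocone.IsColimit.mk w
    (fun s => Classical.choose (h s.pt s.inl s.inr s.condition).exists)
    (fun s => (Classical.choose_spec (h s.pt s.inl s.inr s.condition).exists).1)
    (fun s => (Classical.choose_spec (h s.pt s.inl s.inr s.condition).exists).2)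
    (fun s m h1 h2 => (h s.pt s.inl s.inr s.condition).unique ⟨h1, h2⟩
      (Classical.choose_spec (h s.pt s.inl s.inr s.condition).exists))⟩⟩

end cat

variable {S : Scheme.{u}}

section
variable {X₁ X₂ X₃ : Scheme.{u}} (f₁ : X₁ ⟶ S) (f₂ : X₂ ⟶ S) (f₃ : X₃ ⟶ S)

theorem algHom_comp (h : X₂ ⟶ X₁) (w : h ≫ f₁ = f₂) (h' : X₃ ⟶ X₂) (w' : h' ≫ f₂ = f₃)
    (w'' : (h' ≫ h) ≫ f₁ = f₃) :
    AffAlg.algHom f₁ f₂ h w ≫ AffAlg.algHom f₂ f₃ h' w' = AffAlg.algHom f₁ f₃ (h' ≫ h) w'' := by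
  refine NatTrans.ext (funext fun U => ?_)
  have e₁ : f₂ ⁻¹ᵁ U.unop ≤ h ⁻¹ᵁ (f₁ ⁻¹ᵁ U.unop) := by rw [← Scheme.Hom.comp_preimage, w]
  have e₂ : f₃ ⁻¹ᵁ U.unop ≤ h' ⁻¹ᵁ (f₂ ⁻¹ᵁ U.unop) := by rw [← Scheme.Hom.comp_preimage, w']
  have e₃ : f₃ ⁻¹ᵁ U.unop ≤ (h' ≫ h) ⁻¹ᵁ (f₁ ⁻¹ᵁ U.unop) := by
    rw [← Scheme.Hom.comp_preimage, w'']
  show (AffAlg.algHom f₁ f₂ h w).app (op U.unop) ≫ (AffAlg.algHom f₂ f₃ h' w').app (op U.unop) =
    (AffAlg.algHom f₁ f₃ (h' ≫ h) w'').app (op U.unop)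
  rw [algHom_app f₁ f₂ h w U.unop e₁, algHom_app f₂ f₃ h' w' U.unop e₂,
    algHom_app f₁ f₃ (h' ≫ h) w'' U.unop e₃, Scheme.Hom.appLE_comp_appLE]

variable [IsAffineHom f₁] [IsAffineHom f₂] [IsAffineHom f₃]

/-- `A(h)` as a morphism of quasi-coherent algebras -/
noncomputable def Amap (h : X₂ ⟶ X₁) (w : h ≫ f₁ = f₂) :
    RelSpec.QCAlg.directImage f₁ ⟶ RelSpec.QCAlg.directImage f₂ :=
  ⟨AffAlg.algHom f₁ f₂ h w, AffAlg.algHom_comm f₁ f₂ h w⟩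

theorem Amap_congr {h h' : X₂ ⟶ X₁} (e : h = h') (w : h ≫ f₁ = f₂) (w' : h' ≫ f₁ = f₂) :
    Amap f₁ f₂ h w = Amap f₁ f₂ h' w' := by
  subst e; rfl

theorem Amap_comp (h : X₂ ⟶ X₁) (w : h ≫ f₁ = f₂) (h' : X₃ ⟶ X₂) (w' : h' ≫ f₂ = f₃)
    (w'' : (h' ≫ h) ≫ f₁ = f₃) :
    Amap f₁ f₂ h w ≫ Amap f₂ f₃ h' w' = Amap f₁ f₃ (h' ≫ h) w'' :=
  RelSpec.QCAlg.hom_ext (algHom_comp f₁ f₂ f₃ h w h' w' w'')

theorem Amap_injective {h h' : X₂ ⟶ X₁} (w : h ≫ f₁ = f₂) (w' : h' ≫ f₁ = f₂)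
    (e : Amap f₁ f₂ h w = Amap f₁ f₂ h' w') : h = h' := by
  have e1 : AffAlg.algOf f₁ f₂ ⟨h, w⟩ = AffAlg.algOf f₁ f₂ ⟨h', w'⟩ :=
    Subtype.ext (congrArg RelSpec.QCAlg.Hom.hom e)
  exact congrArg Subtype.val ((algOf_bijective f₁ f₂).1 e1)

theorem Amap_surjective (φ : RelSpec.QCAlg.directImage f₁ ⟶ RelSpec.QCAlg.directImage f₂) :
    ∃ (h : X₂ ⟶ X₁) (w : h ≫ f₁ = f₂), Amap f₁ f₂ h w = φ := by
  obtain ⟨⟨h, w⟩, hφ⟩ := (algOf_bijective f₁ f₂).2 ⟨φ.hom, φ.comm⟩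
  exact ⟨h, w, RelSpec.QCAlg.hom_ext (congrArg Subtype.val hφ)⟩

end

theorem exists_gammaIso (C : RelSpec.QCAlg S) :
    ∃ e : RelSpec.QCAlg.directImage C.π ≅ C, e.hom = C.gammaHom := by
  have hiso : IsIso C.gammaMap := Groth.Agent.S8255.result C
  obtain ⟨ginv, h1, h2⟩ := hiso.out
  have hcomm : C.str ≫ ginv = C.π.c := by
    rw [← C.π_c_gammaMap, Category.assoc, h1, Category.comp_id]
  exact ⟨⟨C.gammaHom, ⟨ginv, hcomm⟩, RelSpec.QCAlg.hom_ext h1, RelSpec.QCAlg.hom_ext h2⟩, rfl⟩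

theorem isPushout_Amap {X X' Y Z : Scheme.{u}} (gY : Y ⟶ S) (gX : X ⟶ S) (gX' : X' ⟶ S)
    (gZ : Z ⟶ S) [IsAffineHom gY] [IsAffineHom gX] [IsAffineHom gX'] [IsAffineHom gZ]
    (f : X ⟶ Y) (f' : X' ⟶ Y) (p : Z ⟶ X) (p' : Z ⟶ X')
    (wf : f ≫ gY = gX) (wf' : f' ≫ gY = gX') (wp : p ≫ gX = gZ) (wp' : p' ≫ gX' = gZ)
    (hZ : IsPullback p p' f f') :
    IsPushout (Amap gY gX f wf) (Amap gY gX' f' wf') (Amap gX gZ p wp)
      (Amap gX' gZ p' wp') := by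
  have wpf : (p ≫ f) ≫ gY = gZ := by rw [Category.assoc, wf, wp]
  have wpf' : (p' ≫ f') ≫ gY = gZ := by rw [Category.assoc, wf', wp']
  refine isPushout_of_existsUnique ?_ ?_
  · rw [Amap_comp gY gX gZ f wf p wp wpf, Amap_comp gY gX' gZ f' wf' p' wp' wpf']
    exact Amap_congr gY gZ hZ.w wpf wpf'
  · intro C α β hαβ
    obtain ⟨e, he⟩ := exists_gammaIso C
    obtain ⟨hα, wα, eα⟩ := Amap_surjective gX C.π (α ≫ e.inv)
    obtain ⟨hβ, wβ, eβ⟩ := Amap_surjective gX' C.π (β ≫ e.inv)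
    have w1 : (hα ≫ f) ≫ gY = C.π := by rw [Category.assoc, wf, wα]
    have w2 : (hβ ≫ f') ≫ gY = C.π := by rw [Category.assoc, wf', wβ]
    have hcompat : hα ≫ f = hβ ≫ f' := by
      apply Amap_injective gY C.π w1 w2
      rw [← Amap_comp gY gX C.π f wf hα wα w1, ← Amap_comp gY gX' C.π f' wf' hβ wβ w2, eα, eβ,
        ← Category.assoc, ← Category.assoc, hαβ]
    have hk1 : hZ.lift hα hβ hcompat ≫ p = hα := hZ.lift_fst _ _ _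
    have hk2 : hZ.lift hα hβ hcompat ≫ p' = hβ := hZ.lift_snd _ _ _
    have wk : hZ.lift hα hβ hcompat ≫ gZ = C.π := by
      rw [← wp, ← Category.assoc, hk1, wα]
    have wkp : (hZ.lift hα hβ hcompat ≫ p) ≫ gX = C.π := by rw [hk1, wα]
    have wkp' : (hZ.lift hα hβ hcompat ≫ p') ≫ gX' = C.π := by rw [hk2, wβ]
    refine ⟨Amap gZ C.π (hZ.lift hα hβ hcompat) wk ≫ e.hom, ⟨?_, ?_⟩, ?_⟩
    · rw [← Category.assoc, Amap_comp gX gZ C.π p wp _ wk wkp, Amap_congr gX C.π hk1 wkp wα, eα,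
        Category.assoc, e.inv_hom_id, Category.comp_id]
    · rw [← Category.assoc, Amap_comp gX' gZ C.π p' wp' _ wk wkp',
        Amap_congr gX' C.π hk2 wkp' wβ, eβ, Category.assoc, e.inv_hom_id, Category.comp_id]
    · rintro γ₁ ⟨hγ1, hγ2⟩
      obtain ⟨k₁, wk₁, ek₁⟩ := Amap_surjective gZ C.π (γ₁ ≫ e.inv)
      have wk₁p : (k₁ ≫ p) ≫ gX = C.π := by rw [Category.assoc, wp, wk₁]
      have wk₁p' : (k₁ ≫ p') ≫ gX' = C.π := by rw [Category.assoc, wp', wk₁]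
      have h1 : k₁ ≫ p = hα := by
        apply Amap_injective gX C.π wk₁p wα
        rw [← Amap_comp gX gZ C.π p wp k₁ wk₁ wk₁p, ek₁, eα, ← Category.assoc, hγ1]
      have h2 : k₁ ≫ p' = hβ := by
        apply Amap_injective gX' C.π wk₁p' wβ
        rw [← Amap_comp gX' gZ C.π p' wp' k₁ wk₁ wk₁p', ek₁, eβ, ← Category.assoc, hγ2]
      have hk : k₁ = hZ.lift hα hβ hcompat :=
        hZ.hom_ext (by rw [h1, hk1]) (by rw [h2, hk2])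
      have h3 : γ₁ = (γ₁ ≫ e.inv) ≫ e.hom := by
        rw [Category.assoc, e.inv_hom_id, Category.comp_id]
      refine h3.trans ?_
      rw [← ek₁]
      congr 1
      exact Amap_congr gZ C.π hk wk₁ wk

end Groth.Agent.H41.AffAlgLib
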