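import Mathlib
import Groth.Agent.H25.MagDefs
import Groth.Agent.H91.SchDom

/-!
# (MG-A) Zariski locality of `Ext` (helper41, squad piece for helper25 / S18295)
-/

set_option autoImplicit false
universe u
open CategoryTheory Limits AlgebraicGeometry MonoidalCategory CartesianMonoidalCategory MonObj
open Magnet Magnet.MonAct
open scoped TensorProduct
open Groth.Agent.H91.MagnetDense Groth.Agent.H25.Mag

namespace Groth.Agent.H41.MG_A

attribute [local instance 10] algZ

variable {S : Scheme.{u}} {M : Type} [AddCommMonoid M]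

/-- The open cover of `(A(K) ⊗ T).left` induced by an open cover of `T.left`. -/
noncomputable def cov (K : Type) [AddCommMonoid K] (T : Over S)
    (𝒰 : Scheme.OpenCover.{u} T.left) : Scheme.OpenCover.{u} (AMonS S K ⊗ T).left :=
  Scheme.Cover.mkOfCovers 𝒰.I₀ (fun j => (AMonS S K ⊗ Over.mk (𝒰.f j ≫ T.hom)).left)
    (fun j => (AMonS S K ◁ (Over.homMk (𝒰.f j) rfl : Over.mk (𝒰.f j ≫ T.hom) ⟶ T)).left)
    (fun y => by
      obtain ⟨i, z, hz⟩ := 𝒰.exists_eq ((pullback.snd (AMonS S K).hom T.hom) y)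
      have hy : y ∈ Set.range
          ((AMonS S K ◁ (Over.homMk (𝒰.f i) rfl : Over.mk (𝒰.f i ≫ T.hom) ⟶ T)).left) := by
        rw [Over.whiskerLeft_left, Scheme.Pullback.range_map]
        exact ⟨⟨(pullback.fst (AMonS S K).hom T.hom) y, rfl⟩, z, hz⟩
      obtain ⟨w, hw⟩ := hy
      exact ⟨i, w, hw⟩)
    (fun j => by
      rw [Over.whiskerLeft_left]
      have : IsOpenImmersion
          (Over.homMk (𝒰.f j) rfl : Over.mk (𝒰.f j ≫ T.hom) ⟶ T).left := by
        change IsOpenImmersion (𝒰.f j)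
        infer_instance
      infer_instance)

@[simp] lemma cov_f (K : Type) [AddCommMonoid K] (T : Over S)
    (𝒰 : Scheme.OpenCover.{u} T.left) (j : 𝒰.I₀) :
    (cov K T 𝒰).f j =
      (AMonS S K ◁ (Over.homMk (𝒰.f j) rfl : Over.mk (𝒰.f j ≫ T.hom) ⟶ T)).left := rfl

theorem ext_of_openCover (N : AddSubmonoid M) {X T : Over S} [IsSeparated X.hom]
    (ψ : AMonS S M ⊗ T ⟶ X) (𝒰 : Scheme.OpenCover.{u} T.left)
    (h : ∀ j, Ext N ((AMonS S M ◁ (Over.homMk (𝒰.f j) rfl : Over.mk (𝒰.f j ≫ T.hom) ⟶ T)) ≫ ψ)) :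
    Ext N ψ := by
  classical
  let Tj : 𝒰.I₀ → Over S := fun j => Over.mk (𝒰.f j ≫ T.hom)
  let ιj : ∀ j, Tj j ⟶ T := fun j => Over.homMk (𝒰.f j) rfl
  choose φ hφ using h
  have hφ' : ∀ j, (AMonS.map S N.subtype ▷ Tj j) ≫ φ j = (AMonS S M ◁ ιj j) ≫ ψ := hφ
  -- compatibility on overlaps
  have hov : ∀ i j : 𝒰.I₀, pullback.fst ((cov N T 𝒰).f i) ((cov N T 𝒰).f j) ≫ (φ i).left =
      pullback.snd ((cov N T 𝒰).f i) ((cov N T 𝒰).f j) ≫ (φ j).left := by
    intro i j
    let Tij : Over S := Over.mk (pullback.fst (𝒰.f i) (𝒰.f j) ≫ 𝒰.f i ≫ T.hom)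
    let a : Tij ⟶ Tj i := Over.homMk (pullback.fst (𝒰.f i) (𝒰.f j)) rfl
    let b : Tij ⟶ Tj j := Over.homMk (pullback.snd (𝒰.f i) (𝒰.f j)) (by
      change pullback.snd (𝒰.f i) (𝒰.f j) ≫ 𝒰.f j ≫ T.hom =
        pullback.fst (𝒰.f i) (𝒰.f j) ≫ 𝒰.f i ≫ T.hom
      rw [pullback.condition_assoc])
    have hab : a ≫ ιj i = b ≫ ιj j := by
      ext1
      exact pullback.condition
    have key : (AMonS S N ◁ a) ≫ φ i = (AMonS S N ◁ b) ≫ φ j := by
      have := dense S N.subtype Subtype.val_injective Tij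
      apply Groth.Agent.H91.SchDom.ext_of_dominant (AMonS.map S N.subtype ▷ Tij)
      rw [← whisker_exchange_assoc, ← whisker_exchange_assoc, hφ' i, hφ' j,
        ← MonoidalCategory.whiskerLeft_comp_assoc, ← MonoidalCategory.whiskerLeft_comp_assoc, hab]
    -- comparison map from the overlap of the cover to `A(N) ⊗ T_ij`
    let P := pullback ((cov N T 𝒰).f i) ((cov N T 𝒰).f j)
    let p1 : P ⟶ (AMonS S N ⊗ Tj i).left := pullback.fst _ _
    let p2 : P ⟶ (AMonS S N ⊗ Tj j).left := pullback.snd _ _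
    have hcond : p1 ≫ (AMonS S N ◁ ιj i).left = p2 ≫ (AMonS S N ◁ ιj j).left :=
      pullback.condition
    have h1 : p1 ≫ pullback.fst (AMonS S N).hom (Tj i).hom =
        p2 ≫ pullback.fst (AMonS S N).hom (Tj j).hom := by
      have := congr($hcond ≫ pullback.fst (AMonS S N).hom T.hom)
      simpa only [Category.assoc, Over.whiskerLeft_left_fst] using this
    have h2 : (p1 ≫ pullback.snd (AMonS S N).hom (Tj i).hom) ≫ 𝒰.f i =
        (p2 ≫ pullback.snd (AMonS S N).hom (Tj j).hom) ≫ 𝒰.f j := by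
      have := congr($hcond ≫ pullback.snd (AMonS S N).hom T.hom)
      simp only [Category.assoc, Over.whiskerLeft_left_snd] at this
      simp only [Category.assoc]
      exact this
    let q : P ⟶ pullback (𝒰.f i) (𝒰.f j) := pullback.lift _ _ h2
    have hq : (p1 ≫ pullback.fst (AMonS S N).hom (Tj i).hom) ≫ (AMonS S N).hom = q ≫ Tij.hom := by
      change _ = q ≫ pullback.fst (𝒰.f i) (𝒰.f j) ≫ 𝒰.f i ≫ T.hom
      rw [pullback.lift_fst_assoc, Category.assoc, Category.assoc]
      congr 1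
      exact pullback.condition
    let c : P ⟶ (AMonS S N ⊗ Tij).left := pullback.lift _ _ hq
    have hc1 : c ≫ (AMonS S N ◁ a).left = p1 := by
      apply pullback.hom_ext
      · rw [Category.assoc, Over.whiskerLeft_left_fst]
        exact pullback.lift_fst _ _ _
      · rw [Category.assoc, Over.whiskerLeft_left_snd]
        rw [← Category.assoc]
        erw [pullback.lift_snd]
        exact pullback.lift_fst _ _ _
    have hc2 : c ≫ (AMonS S N ◁ b).left = p2 := by
      apply pullback.hom_ext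
      · rw [Category.assoc, Over.whiskerLeft_left_fst]
        erw [pullback.lift_fst]
        exact h1
      · rw [Category.assoc, Over.whiskerLeft_left_snd]
        rw [← Category.assoc]
        erw [pullback.lift_snd]
        exact pullback.lift_snd _ _ _
    change p1 ≫ (φ i).left = p2 ≫ (φ j).left
    rw [← hc1, ← hc2, Category.assoc, Category.assoc, ← Over.comp_left, ← Over.comp_left, key]
  let g : (AMonS S N ⊗ T).left ⟶ X.left :=
    (cov N T 𝒰).glueMorphisms (fun j => (φ j).left) hov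
  have hg : ∀ j, (AMonS S N ◁ ιj j).left ≫ g = (φ j).left := fun j =>
    (cov N T 𝒰).ι_glueMorphisms _ hov j
  have hgw : g ≫ X.hom = (AMonS S N ⊗ T).hom := by
    apply (cov N T 𝒰).hom_ext
    intro j
    change (AMonS S N ◁ ιj j).left ≫ g ≫ X.hom = (AMonS S N ◁ ιj j).left ≫ (AMonS S N ⊗ T).hom
    rw [← Category.assoc, hg j, Over.w, Over.w]
  refine ⟨Over.homMk g hgw, ?_⟩
  ext1
  apply (cov M T 𝒰).hom_ext
  intro j
  change (AMonS S M ◁ ιj j).left ≫ (AMonS.map S N.subtype ▷ T).left ≫ g =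
    (AMonS S M ◁ ιj j).left ≫ ψ.left
  rw [← Category.assoc, ← Over.comp_left, whisker_exchange, Over.comp_left, Category.assoc, hg j,
    ← Over.comp_left, ← Over.comp_left, hφ' j]

end Groth.Agent.H41.MG_A
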