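import Groth.Prelude.Def_AffAlg
import Groth.Agent.H41.GlueOpens
import Mathlib.AlgebraicGeometry.Sites.SmallAffineZariski
import Mathlib.Topology.Sheaves.Functors

/-!
# S-morphisms into a scheme affine over S are the same as algebra homomorphisms
-/

set_option autoImplicit false
universe u
open CategoryTheory CategoryTheory.Limits AlgebraicGeometry TopologicalSpace Opposite

namespace Groth.Agent.H41.AffAlgLib

variable {X Y S : Scheme.{u}} (f : X ⟶ S) (g : Y ⟶ S)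

theorem iSup_preimage_affineOpens' : ⨆ U : S.affineOpens, g ⁻¹ᵁ U.1 = ⊤ := by
  rw [eq_top_iff]
  intro x _
  have : g.base x ∈ (⨆ U : S.affineOpens, (U : S.Opens)) := by
    rw [iSup_affineOpens_eq_top]; trivial
  obtain ⟨U, hU⟩ := Opens.mem_iSup.1 this
  exact Opens.mem_iSup.2 ⟨U, hU⟩

theorem algHom_app (h : Y ⟶ X) (w : h ≫ f = g) (U : S.Opens)
    (e : g ⁻¹ᵁ U ≤ h ⁻¹ᵁ (f ⁻¹ᵁ U)) :
    (AffAlg.algHom f g h w).app (op U) = h.appLE (f ⁻¹ᵁ U) (g ⁻¹ᵁ U) e := by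
  subst w
  have h2 : h.appLE (f ⁻¹ᵁ U) ((h ≫ f) ⁻¹ᵁ U) e = h.app (f ⁻¹ᵁ U) :=
    h.appLE_eq_app (U := f ⁻¹ᵁ U)
  rw [h2]
  simp only [AffAlg.algHom]
  rfl

theorem ι_comp_eq (h : Y ⟶ X) {W : X.Opens} (hW : IsAffineOpen W) (Y' : Y.Opens)
    (e : Y' ≤ h ⁻¹ᵁ W) :
    Y'.toSpecΓ ≫ Spec.map (h.appLE W Y' e) ≫ hW.fromSpec = Y'.ι ≫ h := by
  rw [← Category.assoc, Scheme.Opens.toSpecΓ_SpecMap_appLE, Category.assoc,
    hW.toSpecΓ_fromSpec, Scheme.Hom.resLE_comp_ι]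

theorem specMap_eq_of_toSpecΓ_comp {Y' : Y.Opens} {R : CommRingCat.{u}} (a b : R ⟶ Γ(Y, Y'))
    (hab : Y'.toSpecΓ ≫ Spec.map a = Y'.toSpecΓ ≫ Spec.map b) : a = b := by
  have h1 := congrArg Scheme.Hom.appTop hab
  rw [Scheme.Hom.comp_appTop, Scheme.Hom.comp_appTop, Scheme.Opens.toSpecΓ_appTop] at h1
  have h2 : ((Spec.map a).appTop ≫ (Scheme.ΓSpecIso _).hom) ≫ Y'.topIso.inv =
      ((Spec.map b).appTop ≫ (Scheme.ΓSpecIso _).hom) ≫ Y'.topIso.inv := by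
    simpa only [Category.assoc] using h1
  rw [Scheme.ΓSpecIso_naturality, Scheme.ΓSpecIso_naturality] at h2
  exact (cancel_epi _).1 ((cancel_mono _).1 h2)

variable [IsAffineHom f]

/-- the local pieces of the morphism attached to an algebra homomorphism -/
noncomputable def mloc (ω : AffAlg.alg f ⟶ AffAlg.alg g) (U : S.Opens) (hU : IsAffineOpen U) :
    ((g ⁻¹ᵁ U : Y.Opens) : Scheme.{u}) ⟶ X :=
  (g ⁻¹ᵁ U).toSpecΓ ≫ Spec.map (ω.app (op U) : Γ(X, f ⁻¹ᵁ U) ⟶ Γ(Y, g ⁻¹ᵁ U)) ≫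
    (hU.preimage f).fromSpec

theorem mloc_res (ω : AffAlg.alg f ⟶ AffAlg.alg g) {U V : S.Opens} (hU : IsAffineOpen U)
    (hV : IsAffineOpen V) (hVU : V ≤ U) :
    Y.homOfLE (g.preimage_mono hVU) ≫ mloc f g ω U hU = mloc f g ω V hV := by
  unfold mloc
  have hn : (ω.app (op U) : Γ(X, f ⁻¹ᵁ U) ⟶ Γ(Y, g ⁻¹ᵁ U)) ≫
      Y.presheaf.map (homOfLE (g.preimage_mono hVU)).op =
      X.presheaf.map (homOfLE (f.preimage_mono hVU)).op ≫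
        (ω.app (op V) : Γ(X, f ⁻¹ᵁ V) ⟶ Γ(Y, g ⁻¹ᵁ V)) :=
    (ω.naturality (homOfLE hVU).op).symm
  rw [← Scheme.Opens.toSpecΓ_SpecMap_presheaf_map_assoc, ← Spec.map_comp_assoc, hn,
    Spec.map_comp_assoc,
    (hU.preimage f).map_fromSpec (hV.preimage f) (homOfLE (f.preimage_mono hVU)).op]

theorem exists_hom (ω : AffAlg.alg f ⟶ AffAlg.alg g) :
    ∃ h : Y ⟶ X, ∀ (U : S.Opens) (hU : IsAffineOpen U),
      (g ⁻¹ᵁ U).ι ≫ h = mloc f g ω U hU := by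
  obtain ⟨h, hh, -⟩ := GlueOpens.existsUnique_glue (X := Y) (Z := X)
    (fun U : S.affineOpens => g ⁻¹ᵁ U.1) (iSup_preimage_affineOpens' g)
    (fun U => mloc f g ω U.1 U.2) (by
      rintro ⟨U, hU⟩ ⟨U', hU'⟩ x hx
      obtain ⟨V, hV, hxV, hVle⟩ := Opens.isBasis_iff_nbhd.1 S.isBasis_affineOpens
        (show g.base x ∈ U ⊓ U' from ⟨hx.1, hx.2⟩)
      refine ⟨g ⁻¹ᵁ V, g.preimage_mono (hVle.trans inf_le_left),
        g.preimage_mono (hVle.trans inf_le_right), hxV, ?_⟩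
      show Y.homOfLE _ ≫ mloc f g ω U hU = Y.homOfLE _ ≫ mloc f g ω U' hU'
      rw [mloc_res f g ω hU hV (hVle.trans inf_le_left),
        mloc_res f g ω hU' hV (hVle.trans inf_le_right)])
  exact ⟨h, fun U hU => hh ⟨U, hU⟩⟩

theorem hom_comp (ω : AffAlg.alg f ⟶ AffAlg.alg g) (hω : f.c ≫ ω = g.c) (h : Y ⟶ X)
    (hh : ∀ (U : S.Opens) (hU : IsAffineOpen U), (g ⁻¹ᵁ U).ι ≫ h = mloc f g ω U hU) :
    h ≫ f = g := by
  refine (Y.openCoverOfIsOpenCover (fun U : S.affineOpens => g ⁻¹ᵁ U.1)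
    (iSup_preimage_affineOpens' g)).hom_ext _ _ fun U => ?_
  obtain ⟨U, hU0⟩ := U
  have hU : IsAffineOpen U := hU0
  show (g ⁻¹ᵁ U).ι ≫ h ≫ f = (g ⁻¹ᵁ U).ι ≫ g
  rw [← Category.assoc, hh U hU]
  unfold mloc
  simp only [Category.assoc]
  have h1 : (hU.preimage f).fromSpec ≫ f = Spec.map (f.app U) ≫ hU.fromSpec := by
    rw [← IsAffineOpen.SpecMap_appLE_fromSpec f hU (hU.preimage f) le_rfl,
      Scheme.Hom.appLE_eq_app]
  rw [h1, ← Spec.map_comp_assoc]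
  have h2 : f.app U ≫ (ω.app (op U) : Γ(X, f ⁻¹ᵁ U) ⟶ Γ(Y, g ⁻¹ᵁ U)) = g.app U :=
    NatTrans.congr_app hω (op U)
  rw [h2]
  have h3 := ι_comp_eq g hU (g ⁻¹ᵁ U) le_rfl
  rw [Scheme.Hom.appLE_eq_app] at h3
  exact h3

theorem algHom_eq (ω : AffAlg.alg f ⟶ AffAlg.alg g) (h : Y ⟶ X) (w : h ≫ f = g)
    (hh : ∀ (U : S.Opens) (hU : IsAffineOpen U), (g ⁻¹ᵁ U).ι ≫ h = mloc f g ω U hU) :
    AffAlg.algHom f g h w = ω := by
  apply (Functor.IsCoverDense.restrictHomEquivHom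
    (G := Scheme.AffineZariskiSite.toOpensFunctor S)
    (K := Opens.grothendieckTopology S) (ℱ := AffAlg.alg f)
    (ℱ' := (⟨AffAlg.alg g, TopCat.Sheaf.pushforward_sheaf_of_sheaf _ Y.sheaf.property⟩ :
      TopCat.Sheaf CommRingCat.{u} S.carrier))).symm.injective
  ext U : 2
  change (AffAlg.algHom f g h w).app (op U.unop.1) = ω.app (op U.unop.1)
  have e : g ⁻¹ᵁ U.unop.1 ≤ h ⁻¹ᵁ (f ⁻¹ᵁ U.unop.1) := by
    rw [← Scheme.Hom.comp_preimage, w]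
  rw [algHom_app f g h w U.unop.1 e]
  have hW : IsAffineOpen (f ⁻¹ᵁ U.unop.1) := (U.unop.2 : IsAffineOpen U.unop.1).preimage f
  apply specMap_eq_of_toSpecΓ_comp
  rw [← cancel_mono hW.fromSpec, Category.assoc, Category.assoc, ι_comp_eq h hW _ e,
    hh U.unop.1 U.unop.2]
  rfl

/-- EGA II 1.2.7: for `X` affine over `S`, `S`-morphisms `Y ⟶ X` correspond bijectively to
homomorphisms of algebras `f_* O_X ⟶ g_* O_Y`. -/
theorem algOf_bijective : Function.Bijective (AffAlg.algOf f g) := by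
  constructor
  · rintro ⟨h₁, w₁⟩ ⟨h₂, w₂⟩ heq
    have heq' : AffAlg.algHom f g h₁ w₁ = AffAlg.algHom f g h₂ w₂ := congrArg Subtype.val heq
    apply Subtype.ext
    show h₁ = h₂
    refine (Y.openCoverOfIsOpenCover (fun U : S.affineOpens => g ⁻¹ᵁ U.1)
      (iSup_preimage_affineOpens' g)).hom_ext _ _ fun U => ?_
    obtain ⟨U, hU0⟩ := U
    have hU : IsAffineOpen U := hU0
    show (g ⁻¹ᵁ U).ι ≫ h₁ = (g ⁻¹ᵁ U).ι ≫ h₂
    have e₁ : g ⁻¹ᵁ U ≤ h₁ ⁻¹ᵁ (f ⁻¹ᵁ U) := by rw [← Scheme.Hom.comp_preimage, w₁]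
    have e₂ : g ⁻¹ᵁ U ≤ h₂ ⁻¹ᵁ (f ⁻¹ᵁ U) := by rw [← Scheme.Hom.comp_preimage, w₂]
    rw [← ι_comp_eq h₁ (hU.preimage f) _ e₁, ← ι_comp_eq h₂ (hU.preimage f) _ e₂,
      ← algHom_app f g h₁ w₁ U e₁, ← algHom_app f g h₂ w₂ U e₂, heq']
  · rintro ⟨ω, hω⟩
    obtain ⟨h, hh⟩ := exists_hom f g ω
    have w := hom_comp f g ω hω h hh
    exact ⟨⟨h, w⟩, Subtype.ext (algHom_eq f g ω h w hh)⟩

end Groth.Agent.H41.AffAlgLib
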