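import Mathlib

/-!
# Sections of the affine space `𝔸(n; X)` over the preimage of an affine open (helper41)

For `W ⊆ X` affine open, `Γ(𝔸(n; X), π⁻¹ W)` is the polynomial ring `Γ(X, W)[n]`.
-/

set_option autoImplicit false
set_option linter.style.haveILetI false
universe u

open CategoryTheory CategoryTheory.Limits AlgebraicGeometry TopologicalSpace Opposite

noncomputable section

namespace Groth.Agent.H41.AffLinePoly

/-- for an open immersion, `appLE` onto the exact preimage is bijective -/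
theorem appLE_bijective_of_isOpenImmersion {X Y : Scheme.{u}} (f : X ⟶ Y) [IsOpenImmersion f]
    (U : Y.Opens) (hU : U ≤ f.opensRange) (V : X.Opens) (hV : V = f ⁻¹ᵁ U) :
    Function.Bijective (f.appLE U V hV.le).hom := by
  subst hV
  rw [Scheme.Hom.appLE_eq_app]
  haveI : IsIso (f.app U) := Scheme.Hom.isIso_app f U hU
  exact ConcreteCategory.bijective_of_isIso (f.app U)

theorem appLE_congr_hom {X Y : Scheme.{u}} {f f' : X ⟶ Y} (h : f = f') (U : Y.Opens)
    (V : X.Opens) (e : V ≤ f ⁻¹ᵁ U) :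
    f.appLE U V e = f'.appLE U V (h ▸ e) := by
  subst h; rfl

variable (n : Type u) (X : Scheme.{u})

theorem eval₂_bijective (W : X.Opens) (hW : IsAffineOpen W) :
    Function.Bijective (MvPolynomial.eval₂Hom ((𝔸(n; X) ↘ X).app W).hom
      (fun i => (𝔸(n; X).presheaf.map
        (homOfLE (le_top : (𝔸(n; X) ↘ X) ⁻¹ᵁ W ≤ ⊤)).op).hom (AffineSpace.coord X i))) := by
  haveI : IsAffine (W : Scheme.{u}) := hW
  let g : 𝔸(n; X) ⟶ X := 𝔸(n; X) ↘ X
  let gW : 𝔸(n; (W : Scheme.{u})) ⟶ (W : Scheme.{u}) := 𝔸(n; (W : Scheme.{u})) ↘ (W : Scheme.{u})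
  let j : (W : Scheme.{u}) ⟶ X := W.ι
  let m : 𝔸(n; (W : Scheme.{u})) ⟶ 𝔸(n; X) := AffineSpace.map n j
  have sq : IsPullback m gW g j := AffineSpace.isPullback_map j
  have h2 : m ≫ g = gW ≫ j := AffineSpace.map_over j
  haveI : IsOpenImmersion m :=
    MorphismProperty.of_isPullback sq.flip (inferInstance : IsOpenImmersion j)
  have hrange : g ⁻¹ᵁ W ≤ m.opensRange := by
    intro y hy
    obtain ⟨p, hp, -⟩ := Scheme.exists_preimage_of_isPullback sq y ⟨g.base y, hy⟩ rfl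
    exact ⟨p, hp⟩
  have hpre : (⊤ : 𝔸(n; (W : Scheme.{u})).Opens) = m ⁻¹ᵁ (g ⁻¹ᵁ W) := by
    have h1 : m ⁻¹ᵁ (g ⁻¹ᵁ W) = (m ≫ g) ⁻¹ᵁ W := rfl
    rw [h1, h2]
    show ⊤ = gW ⁻¹ᵁ (j ⁻¹ᵁ W)
    rw [Scheme.Opens.ι_preimage_self]
    rfl
  let β : Γ(𝔸(n; X), g ⁻¹ᵁ W) ⟶ Γ(𝔸(n; (W : Scheme.{u})), ⊤) := m.appLE (g ⁻¹ᵁ W) ⊤ hpre.le
  have hβ : Function.Bijective β.hom := appLE_bijective_of_isOpenImmersion m _ hrange ⊤ hpre
  let α : Γ(X, W) ⟶ Γ((W : Scheme.{u}), ⊤) := j.appLE W ⊤ W.ι_preimage_self.ge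
  have hα : Function.Bijective α.hom := ConcreteCategory.bijective_of_isIso α
  have hψ : Function.Bijective (MvPolynomial.eval₂Hom (gW.appTop).hom
      (AffineSpace.coord (W : Scheme.{u}))) := by
    have h := AffineSpace.isoOfIsAffine_hom_appTop (n := n) (S := (W : Scheme.{u}))
    have h3 : IsIso (CommRingCat.ofHom (MvPolynomial.eval₂Hom (gW.appTop).hom
        (AffineSpace.coord (W : Scheme.{u})))) := by
      have e : CommRingCat.ofHom (MvPolynomial.eval₂Hom (gW.appTop).hom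
          (AffineSpace.coord (W : Scheme.{u}))) =
          (Scheme.ΓSpecIso _).inv ≫ (AffineSpace.isoOfIsAffine n (W : Scheme.{u})).hom.appTop := by
        rw [h, Iso.inv_hom_id_assoc]
      haveI : IsIso ((AffineSpace.isoOfIsAffine n (W : Scheme.{u})).hom.appTop) := by
        have : IsIso (Scheme.Γ.map (AffineSpace.isoOfIsAffine n (W : Scheme.{u})).hom.op) :=
          inferInstance
        exact this
      rw [e]
      infer_instance
    exact (ConcreteCategory.isIso_iff_bijective _).1 h3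
  -- compatibility on constants
  have hC : g.app W ≫ β = α ≫ gW.appTop := by
    have e1 : g.app W ≫ β = (m ≫ g).appLE W ⊤ hpre.le :=
      (Scheme.Hom.comp_appLE m g W ⊤ hpre.le).symm
    have e2 : α ≫ gW.appTop = (gW ≫ j).appLE W ⊤ (h2 ▸ hpre.le) := by
      have e0 : gW.appTop = gW.appLE ⊤ ⊤ (le_refl _ : (⊤ : 𝔸(n; (W : Scheme.{u})).Opens) ≤ gW ⁻¹ᵁ ⊤) :=
        Scheme.Hom.app_eq_appLE gW
      rw [e0]
      exact Scheme.Hom.appLE_comp_appLE gW j W ⊤ ⊤ _ _
    rw [e1, e2]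
    exact appLE_congr_hom h2 _ _ _
  have hX : ∀ i, β.hom ((𝔸(n; X).presheaf.map
      (homOfLE (le_top : g ⁻¹ᵁ W ≤ ⊤)).op).hom (AffineSpace.coord X i)) =
      AffineSpace.coord (W : Scheme.{u}) i := by
    intro i
    have e1 : 𝔸(n; X).presheaf.map (homOfLE (le_top : g ⁻¹ᵁ W ≤ ⊤)).op ≫ β = m.appTop := by
      rw [Scheme.Hom.map_appLE]
      exact (Scheme.Hom.app_eq_appLE m).symm
    have e3 := congrArg (fun φ => φ.hom (AffineSpace.coord X i)) e1
    exact e3.trans (AffineSpace.map_appTop_coord j i)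
  -- the key identity
  have key : β.hom.comp (MvPolynomial.eval₂Hom (g.app W).hom
      (fun i => (𝔸(n; X).presheaf.map
        (homOfLE (le_top : g ⁻¹ᵁ W ≤ ⊤)).op).hom (AffineSpace.coord X i))) =
      (MvPolynomial.eval₂Hom (gW.appTop).hom (AffineSpace.coord (W : Scheme.{u}))).comp
        (MvPolynomial.map α.hom) := by
    apply MvPolynomial.ringHom_ext
    · intro a
      have e3 := congrArg (fun φ => φ.hom a) hC
      simp only [RingHom.comp_apply, MvPolynomial.coe_eval₂Hom, MvPolynomial.eval₂_C,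
        MvPolynomial.map_C]
      exact e3
    · intro i
      simp only [RingHom.comp_apply, MvPolynomial.coe_eval₂Hom, MvPolynomial.eval₂_X,
        MvPolynomial.map_X]
      exact hX i
  have hbij : Function.Bijective (β.hom.comp (MvPolynomial.eval₂Hom (g.app W).hom
      (fun i => (𝔸(n; X).presheaf.map
        (homOfLE (le_top : g ⁻¹ᵁ W ≤ ⊤)).op).hom (AffineSpace.coord X i)))) := by
    rw [key, RingHom.coe_comp]
    exact hψ.comp ⟨MvPolynomial.map_injective _ hα.1, MvPolynomial.map_surjective _ hα.2⟩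
  rw [RingHom.coe_comp] at hbij
  exact (Function.Bijective.of_comp_iff' hβ _).1 hbij

end Groth.Agent.H41.AffLinePoly
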