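import Groth.Agent.H41.BilinGlue
import Mathlib

/-!
# Restriction of a product relation to an open subscheme
-/

set_option autoImplicit false
set_option linter.style.haveILetI false
universe u

open CategoryTheory AlgebraicGeometry TopologicalSpace Opposite MonoidalCategory
open Groth.Agent.H8 Groth.Agent.H18

noncomputable section

namespace Groth.Agent.H41.BilinGlue

variable {X : Scheme.{u}} {L L' L'' : X.Modules}
  {R : ∀ W : X.Opens, Γ(L, W) → Γ(L', W) → Γ(L'', W) → Prop}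

set_option backward.isDefEq.respectTransparency false in
theorem GlueRel.restrict (hR : GlueRel L L' L'' R) (U : X.Opens) :
    GlueRel (L.restrict U.ι) (L'.restrict U.ι) (L''.restrict U.ι)
      (fun V (s : Γ(L.restrict U.ι, V)) (t : Γ(L'.restrict U.ι, V))
        (w : Γ(L''.restrict U.ι, V)) => R (U.ι ''ᵁ V) s t w) where
  unique V s t w w' H H' := hR.unique (U.ι ''ᵁ V) s t w w' H H'
  res {W V} h s t w H := hR.res (U.ι.image_mono h) s t w H
  of_local V s t w H := hR.of_local (U.ι ''ᵁ V) s t w (fun x hx => by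
    obtain ⟨x', hx'V, rfl⟩ := hx
    obtain ⟨V', h, hx'V', HV'⟩ := H x' hx'V
    exact ⟨U.ι ''ᵁ V', U.ι.image_mono h, ⟨x', hx'V', rfl⟩, HV'⟩)
  exists_local V s t x' hx' := by
    obtain ⟨W', hW', hxW', w, Hw⟩ :=
      hR.exists_local (U.ι ''ᵁ V) s t (U.ι.base x') ⟨x', hx', rfl⟩
    have hle : U.ι ''ᵁ ((U.ι ⁻¹ᵁ W') ⊓ V) ≤ W' := by
      rintro _ ⟨z, hz, rfl⟩
      exact hz.1
    refine ⟨(U.ι ⁻¹ᵁ W') ⊓ V, inf_le_right, ⟨hxW', hx'⟩, L''.presheaf.map (homOfLE hle).op w, ?_⟩
    have h1 := hR.res hle _ _ _ Hw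
    rw [res_res, res_res] at h1
    exact h1
  add_left V s s' t w w' := hR.add_left (U.ι ''ᵁ V) s s' t w w'
  add_right V s t t' w w' := hR.add_right (U.ι ''ᵁ V) s t t' w w'
  smul_left V a s t w H := hR.smul_left (U.ι ''ᵁ V) ((U.ι.appIso V).inv a) s t w H
  smul_right V a s t w H := hR.smul_right (U.ι ''ᵁ V) ((U.ι.appIso V).inv a) s t w H

set_option backward.isDefEq.respectTransparency false in
theorem GlueRel.restrict_mul (hR : GlueRel L L' L'' R) (U : X.Opens) (V : (↑U : Scheme.{u}).Opens)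
    (s : Γ(L.restrict U.ι, V)) (t : Γ(L'.restrict U.ι, V)) :
    (hR.restrict U).mul V s t = hR.mul (U.ι ''ᵁ V) s t :=
  (hR.restrict U).mul_eq (hR.mul_spec (U.ι ''ᵁ V) s t)

end Groth.Agent.H41.BilinGlue
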