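import Groth.Agent.H41.GrModMaps
import Groth.Prelude.Def_RelProj3
import Mathlib

/-!
# The comparison `M(n)~ ⟶ (Proj ψ)_* N(n)~` is bijective on small opens when `ψ`, `v` are
localizations at a degree-zero element
-/

set_option autoImplicit false
set_option linter.style.haveILetI false
set_option linter.unusedSectionVars false
universe u

open CategoryTheory AlgebraicGeometry HomogeneousIdeal TopologicalSpace Opposite
open Groth.Agent.H41.GrModQCoh Groth.Agent.H41.GrModMaps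

noncomputable section

namespace Groth.Agent.H41.CompLoc

variable {A σ : Type u} [CommRing A] [SetLike σ A] [AddSubgroupClass σ A] {𝒜 : ℕ → σ}
  [GradedRing 𝒜]
variable {M τ : Type u} [AddCommGroup M] [Module A M] [SetLike τ M] [AddSubgroupClass τ M]
  {ℳ : ℕ → τ} [SetLike.GradedSMul 𝒜 ℳ] [DirectSum.Decomposition ℳ]
variable {B σ' : Type u} [CommRing B] [SetLike σ' B] [AddSubgroupClass σ' B] {ℬ : ℕ → σ'}
  [GradedRing ℬ]
variable {N τ' : Type u} [AddCommGroup N] [Module B N] [SetLike τ' N] [AddSubgroupClass τ' N]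
  {𝒩 : ℕ → τ'} [SetLike.GradedSMul ℬ 𝒩] [DirectSum.Decomposition 𝒩]
variable (ψ : 𝒜 →+*ᵍ ℬ) (hψ : ℬ₊ ≤ (𝒜₊).map ψ) (v : M →ₛₗ[ψ.toRingHom] N)
  (hv : ∀ (i : ℕ) (m : M), m ∈ ℳ i → v m ∈ 𝒩 i)
  (c : A) (hc : c ∈ 𝒜 0) (hcu : IsUnit (ψ c))
  (hBs : ∀ b : B, ∃ (k : ℕ) (a : A), ψ c ^ k * b = ψ a)
  (hNs : ∀ x : N, ∃ (k : ℕ) (m : M), ψ c ^ k • x = v m)
  (hNi : ∀ m : M, v m = 0 → ∃ k : ℕ, c ^ k • m = 0)
  (n : ℤ)

include hcu in
theorem pow_not_mem (y : ProjectiveSpectrum ℬ) (e : ℕ) : ψ c ^ e ∉ y.asHomogeneousIdeal :=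
  fun h => y.isPrime.ne_top (Ideal.eq_top_of_isUnit_mem _ h (hcu.pow e))

include hcu hBs hNi in
theorem locModMap_injective (y : ProjectiveSpectrum ℬ) :
    Function.Injective (GrMod.locModMap ψ hψ v y) := by
  rw [injective_iff_map_eq_zero]
  intro q hq
  induction q using LocalizedModule.induction_on with
  | h m s =>
    rw [GrMod.locModMap_mk] at hq
    obtain ⟨b, hby, hb⟩ := exists_smul_eq_zero_of_mk_eq_zero ℬ y (v m) _ hq
    obtain ⟨k, a, ha⟩ := hBs b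
    have hψa : ψ a ∉ y.asHomogeneousIdeal := by
      rw [← ha]
      exact fun h => (y.isPrime.mem_or_mem h).elim (pow_not_mem ψ c hcu y k) hby
    have h1 : v (a • m) = 0 := by
      rw [v.map_smulₛₗ]
      show ψ a • v m = 0
      rw [← ha, mul_smul, hb, smul_zero]
    obtain ⟨k', hk'⟩ := hNi _ h1
    refine mk_eq_zero_of_smul_eq_zero 𝒜 _ m s (c ^ k' * a) ?_ ?_
    · show ψ (c ^ k' * a) ∉ y.asHomogeneousIdeal
      rw [map_mul, map_pow]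
      exact fun h => (y.isPrime.mem_or_mem h).elim (pow_not_mem ψ c hcu y k') hψa
    · rw [mul_smul]
      exact hk'

include hcu hBs hNi in
theorem mk_eq_of_map_eq (y : ProjectiveSpectrum ℬ) (m₁ m₂ : M)
    (s₁ s₂ : (ProjectiveSpectrum.comap ψ hψ y).asHomogeneousIdeal.toIdeal.primeCompl)
    (h : (LocalizedModule.mk (v m₁) ⟨ψ (s₁ : A), s₁.2⟩ : GrMod.LocMod ℬ (M := N) y) =
      LocalizedModule.mk (v m₂) ⟨ψ (s₂ : A), s₂.2⟩) :
    (LocalizedModule.mk m₁ s₁ : GrMod.LocMod 𝒜 (M := M) (ProjectiveSpectrum.comap ψ hψ y)) =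
      LocalizedModule.mk m₂ s₂ :=
  locModMap_injective ψ hψ v c hcu hBs hNi y h

include hv hc hBs hNs in
theorem exists_lift {i j : ℕ} (x : 𝒩 i) (b : ℬ j) :
    ∃ (m' : ℳ i) (s' : 𝒜 j) (e : ℕ), ψ (s' : A) = ψ c ^ e * (b : B) ∧
      ψ (s' : A) • (x : N) = (b : B) • v (m' : M) := by
  obtain ⟨k, m₀, hm₀⟩ := hNs (x : N)
  obtain ⟨l, a, ha⟩ := hBs (b : B)
  have hc0 : ∀ e : ℕ, c ^ e ∈ 𝒜 0 := fun e => by
    have := SetLike.pow_mem_graded e hc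
    rwa [smul_zero] at this
  have hψc0 : ∀ e : ℕ, ψ c ^ e ∈ ℬ 0 := fun e => by
    rw [← map_pow]
    exact ψ.map_mem (hc0 e)
  have hx' : ψ c ^ k • (x : N) ∈ 𝒩 i := by
    have := SetLike.GradedSMul.smul_mem (A := ℬ) (B := 𝒩) (hψc0 k) x.2
    rwa [vadd_eq_add, zero_add] at this
  have hb' : ψ c ^ l * (b : B) ∈ ℬ j := by
    have := SetLike.mul_mem_graded (A := ℬ) (hψc0 l) b.2
    rwa [zero_add] at this
  have e1 : v (DirectSum.decompose ℳ m₀ i : M) = ψ c ^ k • (x : N) := by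
    have h := decompose_map ℳ 𝒩 v.toAddMonoidHom (fun i m hm => hv i m hm) m₀ i
    have h' : (DirectSum.decompose 𝒩 (v m₀) i : N) = v (DirectSum.decompose ℳ m₀ i : M) := h
    rw [← h', ← hm₀, DirectSum.decompose_of_mem_same 𝒩 hx']
  have e2 : ψ (DirectSum.decompose 𝒜 a j : A) = ψ c ^ l * (b : B) := by
    rw [GradedRingHom.map_directSumDecompose, ← ha, DirectSum.decompose_of_mem_same ℬ hb']
  have hm' : c ^ l • (DirectSum.decompose ℳ m₀ i : M) ∈ ℳ i := by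
    have := SetLike.GradedSMul.smul_mem (A := 𝒜) (B := ℳ) (hc0 l)
      (DirectSum.decompose ℳ m₀ i).2
    rwa [vadd_eq_add, zero_add] at this
  have hs' : c ^ k * (DirectSum.decompose 𝒜 a j : A) ∈ 𝒜 j := by
    have := SetLike.mul_mem_graded (A := 𝒜) (hc0 k) (DirectSum.decompose 𝒜 a j).2
    rwa [zero_add] at this
  refine ⟨⟨_, hm'⟩, ⟨_, hs'⟩, k + l, ?_, ?_⟩
  · show ψ (c ^ k * (DirectSum.decompose 𝒜 a j : A)) = _
    rw [map_mul, map_pow, e2, pow_add, mul_assoc]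
  · show ψ (c ^ k * (DirectSum.decompose 𝒜 a j : A)) • (x : N) =
      (b : B) • v (c ^ l • (DirectSum.decompose ℳ m₀ i : M))
    rw [map_mul, map_pow, e2, v.map_smulₛₗ, e1]
    show (ψ c ^ k * (ψ c ^ l * (b : B))) • (x : N) =
      (b : B) • (ψ (c ^ l) • (ψ c ^ k • (x : N)))
    rw [map_pow, smul_smul, smul_smul]
    congr 1
    ring

include hv hc hcu hBs hNs in
theorem exists_local_lift {V' : (Proj ℬ).Opens} (t : Γ(GrMod.tilde ℬ 𝒩 n, V'))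
    (y : ProjectiveSpectrum ℬ) (hy : y ∈ V') :
    ∃ (V'' : (Proj ℬ).Opens) (_ : y ∈ V'') (hle : V'' ≤ V') (i j : ℕ) (m' : ℳ i) (s' : 𝒜 j),
      ((i : ℤ) = j + n ∨ (m' : M) = 0) ∧
      ∀ (z : ProjectiveSpectrum ℬ) (hz : z ∈ V''), ∃ hψs : ψ (s' : A) ∉ z.asHomogeneousIdeal,
        GrMod.val t ⟨z, hle hz⟩ = LocalizedModule.mk (v (m' : M)) ⟨ψ (s' : A), hψs⟩ := by
  obtain ⟨V'', hyV'', i₀, i, j, x, b, b_nin, hor, hfrac⟩ :=
    (t : GrMod.sect ℬ 𝒩 n (op V')).2 ⟨y, hy⟩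
  obtain ⟨m'', s', e, hs', heq⟩ := exists_lift ψ v hv c hc hBs hNs x b
  have hnin : ∀ (z : ProjectiveSpectrum ℬ) (hz : z ∈ V''),
      ψ (s' : A) ∉ z.asHomogeneousIdeal := by
    intro z hz h
    rw [hs'] at h
    exact (z.isPrime.mem_or_mem h).elim (pow_not_mem ψ c hcu z e) (b_nin ⟨z, hz⟩)
  rcases hor with hij | h0
  · refine ⟨V'', hyV'', i₀.le, i, j, m'', s', Or.inl hij, fun z hz => ⟨hnin z hz, ?_⟩⟩
    refine (hfrac ⟨z, hz⟩).trans ?_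
    refine LocalizedModule.mk_eq.mpr ⟨1, ?_⟩
    rw [one_smul, one_smul]
    exact heq
  · refine ⟨V'', hyV'', i₀.le, i, j, 0, s', Or.inr rfl, fun z hz => ⟨hnin z hz, ?_⟩⟩
    refine (hfrac ⟨z, hz⟩).trans ?_
    rw [h0]
    simp only [ZeroMemClass.coe_zero, map_zero, LocalizedModule.zero_mk]

/-- The relation defining the preimage section. -/
def Rel {V : (Proj 𝒜).Opens} (t : Γ(GrMod.tilde ℬ 𝒩 n, Proj.map ψ hψ ⁻¹ᵁ V))
    (x : ProjectiveSpectrum 𝒜) (q : GrMod.LocMod 𝒜 (M := M) x) : Prop :=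
  ∃ (i j : ℕ) (m' : ℳ i) (s' : 𝒜 j) (hs : (s' : A) ∉ x.asHomogeneousIdeal),
    ((i : ℤ) = j + n ∨ (m' : M) = 0) ∧ q = LocalizedModule.mk (m' : M) ⟨(s' : A), hs⟩ ∧
    ∀ (y : ProjectiveSpectrum ℬ) (_ : ProjectiveSpectrum.comap ψ hψ y = x)
      (hyV : y ∈ Proj.map ψ hψ ⁻¹ᵁ V),
      ∃ hψs : ψ (s' : A) ∉ y.asHomogeneousIdeal,
        GrMod.val t ⟨y, hyV⟩ = LocalizedModule.mk (v (m' : M)) ⟨ψ (s' : A), hψs⟩

theorem mk_mem_tildeAt {i j : ℕ} (m' : ℳ i) (s' : 𝒜 j) (x : ProjectiveSpectrum 𝒜)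
    (hs : (s' : A) ∉ x.asHomogeneousIdeal) (hor : (i : ℤ) = j + n ∨ (m' : M) = 0) :
    (LocalizedModule.mk (m' : M) ⟨(s' : A), hs⟩ : GrMod.LocMod 𝒜 (M := M) x) ∈
      GrMod.tildeAt 𝒜 ℳ n x := by
  rcases hor with hij | h0
  · exact Submodule.subset_span ⟨i, j, m', s', hs, hij, rfl⟩
  · rw [h0, LocalizedModule.zero_mk]
    exact zero_mem _

theorem Rel.mem {V : (Proj 𝒜).Opens} {t : Γ(GrMod.tilde ℬ 𝒩 n, Proj.map ψ hψ ⁻¹ᵁ V)}
    {x : ProjectiveSpectrum 𝒜} {q : GrMod.LocMod 𝒜 (M := M) x} (h : Rel (ℳ := ℳ) ψ hψ v n t x q) :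
    q ∈ GrMod.tildeAt 𝒜 ℳ n x := by
  obtain ⟨i, j, m', s', hs, hor, rfl, -⟩ := h
  exact mk_mem_tildeAt n m' s' x hs hor

include hv hc hcu hBs hNs in
theorem exists_rel {V : (Proj 𝒜).Opens}
    (hsurj : ∀ x ∈ V, ∃ y, ProjectiveSpectrum.comap ψ hψ y = x)
    (hinj : Function.Injective (ProjectiveSpectrum.comap ψ hψ))
    (t : Γ(GrMod.tilde ℬ 𝒩 n, Proj.map ψ hψ ⁻¹ᵁ V)) (x : ProjectiveSpectrum 𝒜) (hx : x ∈ V) :
    ∃ q, Rel (ℳ := ℳ) ψ hψ v n t x q := by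
  obtain ⟨y, rfl⟩ := hsurj x hx
  obtain ⟨V'', hyV'', hle, i, j, m', s', hor, hval⟩ :=
    exists_local_lift ψ v hv c hc hcu hBs hNs n t y hx
  obtain ⟨hψs, hv0⟩ := hval y hyV''
  refine ⟨_, i, j, m', s', hψs, hor, rfl, fun y' hy' hy'V => ?_⟩
  obtain rfl : y' = y := hinj hy'
  exact ⟨hψs, hv0⟩

include hc hcu hBs hNs hNi in
theorem comap_app_bijective (V : (Proj 𝒜).Opens)
    (hsurj : ∀ x ∈ V, ∃ y, ProjectiveSpectrum.comap ψ hψ y = x)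
    (hinj : Function.Injective (ProjectiveSpectrum.comap ψ hψ))
    (hopen : IsOpenMap (ProjectiveSpectrum.comap ψ hψ)) :
    Function.Bijective ((GrMod.comap ψ hψ v hv n).app V) := by
  constructor
  · intro s s' hss'
    refine sect_ext 𝒜 ℳ n s s' ?_
    rintro ⟨x, hxV⟩
    obtain ⟨y, rfl⟩ := hsurj x hxV
    exact locModMap_injective ψ hψ v c hcu hBs hNi y
      (congrArg (fun t : Γ(GrMod.tilde ℬ 𝒩 n, Proj.map ψ hψ ⁻¹ᵁ V) =>
        GrMod.val t ⟨y, hxV⟩) hss')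
  · intro t
    have hex := fun x : V =>
      exists_rel ψ hψ v hv c hc hcu hBs hNs n hsurj hinj t x.1 x.2
    choose q hq using hex
    let f : ∀ x : V, GrMod.tildeAt 𝒜 ℳ n x.1 := fun x => ⟨q x, Rel.mem ψ hψ v n (hq x)⟩
    have hf : (GrMod.isLocFrac 𝒜 ℳ n).pred f := by
      rintro ⟨x₀, hx₀⟩
      obtain ⟨y₀, rfl⟩ := hsurj x₀ hx₀
      obtain ⟨V'', hyV'', hle, i, j, m', s', hor, hval⟩ :=
        exists_local_lift ψ v hv c hc hcu hBs hNs n t y₀ hx₀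
      let U₀ : Opens (ProjectiveSpectrum.top 𝒜) :=
        ⟨ProjectiveSpectrum.comap ψ hψ '' V''.1, hopen _ V''.2⟩
      have hU₀V : U₀ ≤ V := by
        rintro _ ⟨z, hz, rfl⟩
        exact hle hz
      refine ⟨U₀, ⟨y₀, hyV'', rfl⟩, homOfLE hU₀V, i, j, m', s', ?_, hor, ?_⟩
      · rintro ⟨_, z, hz, rfl⟩
        exact (hval z hz).1
      · rintro ⟨_, z, hz, rfl⟩
        obtain ⟨i', j', m'', s'', hs'', hor', hqeq, hval'⟩ :=
          hq ⟨ProjectiveSpectrum.comap ψ hψ z, hle hz⟩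
        obtain ⟨hψs'', e1⟩ := hval' z rfl (hle hz)
        obtain ⟨hψs, e2⟩ := hval z hz
        show q ⟨ProjectiveSpectrum.comap ψ hψ z, _⟩ = _
        rw [hqeq]
        exact mk_eq_of_map_eq ψ hψ v c hcu hBs hNi z _ _ ⟨_, hs''⟩ ⟨_, hψs⟩
          (e1.symm.trans e2)
    refine ⟨(⟨f, hf⟩ : GrMod.sect 𝒜 ℳ n (op V)), ?_⟩
    refine sect_ext ℬ 𝒩 n _ t ?_
    rintro ⟨y, hyV⟩
    obtain ⟨i', j', m'', s'', hs'', hor', hqeq, hval'⟩ :=
      hq ⟨ProjectiveSpectrum.comap ψ hψ y, hyV⟩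
    obtain ⟨hψs'', e1⟩ := hval' y rfl hyV
    show GrMod.locModMap ψ hψ v y (q ⟨ProjectiveSpectrum.comap ψ hψ y, hyV⟩) = _
    rw [hqeq, e1]
    rfl

end Groth.Agent.H41.CompLoc
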