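import Mathlib

/-!
# Schematic density of `D_+(g)` in `Proj` for a non-zero-divisor `g`
-/

set_option autoImplicit false
universe u

open CategoryTheory AlgebraicGeometry TopologicalSpace Opposite
open HomogeneousLocalization
open scoped HomogeneousIdeal

namespace Groth.Agent.H41.ProjDense

variable {σ : Type*} {A : Type u} [CommRing A] [SetLike σ A] [AddSubgroupClass σ A]
  (𝒜 : ℕ → σ) [GradedRing 𝒜]

/-- the map `A_(f) → A_(fg)` is injective when `g` is a non-zero-divisor -/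
theorem awayMap_injective {d e : ℕ} {f g x : A} (hf : f ∈ 𝒜 d) (hg : g ∈ 𝒜 e) (hx : x = f * g)
    (hnz : g ∈ nonZeroDivisors A) : Function.Injective (awayMap 𝒜 hg hx) := by
  rw [injective_iff_map_eq_zero]
  intro a ha
  obtain ⟨n, a', ha', rfl⟩ := Away.mk_surjective 𝒜 hf a
  have hv : (awayMap 𝒜 hg hx (Away.mk 𝒜 hf n a' ha')).val = 0 := by
    rw [ha]; exact HomogeneousLocalization.val_zero
  rw [awayMap_mk, Away.val_mk, ← Localization.mk_zero (1 : Submonoid.powers x),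
    Localization.mk_eq_mk_iff, Localization.r_iff_exists] at hv
  obtain ⟨c, hc⟩ := hv
  obtain ⟨m, hm⟩ := (Submonoid.mem_powers_iff _ _).mp c.2
  simp only [OneMemClass.coe_one, one_mul, mul_zero] at hc
  rw [← hm, hx] at hc
  have h1 : g ^ (m + n) * (f ^ m * a') = 0 := by
    rw [← hc, mul_pow, pow_add]; ring
  have h2 : f ^ m * a' = 0 :=
    (mul_left_mem_nonZeroDivisors_eq_zero_iff (pow_mem hnz (m + n))).mp h1
  apply HomogeneousLocalization.val_injective
  rw [Away.val_mk, HomogeneousLocalization.val_zero, ← Localization.mk_zero (1 : Submonoid.powers f),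
    Localization.mk_eq_mk_iff, Localization.r_iff_exists]
  refine ⟨⟨f ^ m, pow_mem (Submonoid.mem_powers f) m⟩, ?_⟩
  simp only [OneMemClass.coe_one, one_mul, mul_zero]
  exact h2

/-- restriction `Γ(D_+(f)) → Γ(D_+(f) ∩ D_+(g))` is injective when `g` is a non-zero-divisor -/
theorem ι_app_injective {d e : ℕ} (hd : 0 < d) (he : 0 < e) {f g : A} (hf : f ∈ 𝒜 d)
    (hg : g ∈ 𝒜 e) (hnz : g ∈ nonZeroDivisors A) :
    Function.Injective ((Proj.basicOpen 𝒜 g).ι.app (Proj.basicOpen 𝒜 f)).hom := by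
  rw [injective_iff_map_eq_zero]
  intro s hs
  have hle : Proj.basicOpen 𝒜 (f * g) ≤
      (Proj.basicOpen 𝒜 g).ι ''ᵁ (Proj.basicOpen 𝒜 g).ι ⁻¹ᵁ Proj.basicOpen 𝒜 f := by
    rw [Scheme.Hom.image_preimage_eq_opensRange_inf, Scheme.Opens.opensRange_ι,
      Proj.basicOpen_mul]
    exact le_of_eq (inf_comm _ _)
  have hres : ((Proj 𝒜).presheaf.map
      (homOfLE (Proj.basicOpen_mono 𝒜 f (f * g) ⟨g, rfl⟩)).op).hom s = 0 := by
    have h1 : (Proj 𝒜).presheaf.map (homOfLE (Proj.basicOpen_mono 𝒜 f (f * g) ⟨g, rfl⟩)).op =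
        (Proj 𝒜).presheaf.map (homOfLE (Scheme.Hom.image_preimage_le (Proj.basicOpen 𝒜 g).ι
          (Proj.basicOpen 𝒜 f))).op ≫ (Proj 𝒜).presheaf.map (homOfLE hle).op := by
      rw [← Functor.map_comp]; rfl
    rw [h1, CommRingCat.hom_comp, RingHom.comp_apply]
    have h2 : ((Proj 𝒜).presheaf.map (homOfLE (Scheme.Hom.image_preimage_le
        (Proj.basicOpen 𝒜 g).ι (Proj.basicOpen 𝒜 f))).op).hom s = 0 := hs
    rw [h2, map_zero]
  obtain ⟨a, rfl⟩ : ∃ a, (Proj.awayToSection 𝒜 f).hom a = s :=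
    (ConcreteCategory.bijective_of_isIso (Proj.basicOpenIsoAway 𝒜 f hf hd).hom).2 s
  have h3 := congrArg (fun k => k.hom a) (Proj.awayMap_awayToSection 𝒜 hg (rfl : f * g = f * g))
  have h4 : (Proj.awayToSection 𝒜 (f * g)).hom (awayMap 𝒜 hg rfl a) = 0 := h3.trans hres
  have h5 : awayMap 𝒜 hg (rfl : f * g = f * g) a = 0 := by
    apply (ConcreteCategory.bijective_of_isIso (Proj.basicOpenIsoAway 𝒜 (f * g)
      (SetLike.mul_mem_graded hf hg) (by omega : 0 < d + e)).hom).1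
    exact h4.trans (map_zero _).symm
  have h6 : a = 0 :=
    awayMap_injective 𝒜 hf hg rfl hnz (h5.trans (map_zero _).symm)
  rw [h6, map_zero]

theorem exists_pos_not_mem (x : Proj 𝒜) :
    ∃ (i : ℕ) (_ : 0 < i) (a : A) (_ : a ∈ 𝒜 i), a ∉ x.asHomogeneousIdeal := by
  by_contra hcon
  push Not at hcon
  apply x.not_irrelevant_le
  rw [HomogeneousIdeal.irrelevant_le]
  intro i hi a ha
  exact hcon i hi a ha

/-- `D_+(g)` is schematically dense in `Proj` when `g` is a non-zero-divisor -/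
theorem ker_ι_eq_bot {e : ℕ} (he : 0 < e) {g : A} (hg : g ∈ 𝒜 e)
    (hnz : g ∈ nonZeroDivisors A) : (Proj.basicOpen 𝒜 g).ι.ker = ⊥ := by
  rw [eq_bot_iff]
  refine Scheme.IdealSheafData.le_of_iSup_eq_top
    (ι := {p : ℕ × A // 0 < p.1 ∧ p.2 ∈ 𝒜 p.1})
    (fun p => ⟨Proj.basicOpen 𝒜 p.1.2, Proj.isAffineOpen_basicOpen 𝒜 p.1.2 p.2.2 p.2.1⟩) ?_ ?_
  · rw [eq_top_iff]
    intro x _
    obtain ⟨i, hi, a, ha, hax⟩ := exists_pos_not_mem 𝒜 x
    exact Opens.mem_iSup.mpr ⟨⟨(i, a), hi, ha⟩, (Proj.mem_basicOpen 𝒜 a x).mpr hax⟩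
  · intro p
    refine (Scheme.Hom.ideal_ker_le _ _).trans ?_
    intro s hs
    have h0 : s = 0 := ι_app_injective 𝒜 p.2.1 he p.2.2 hg hnz (hs.trans (map_zero _).symm)
    rw [h0]
    exact zero_mem _


/-! ### injectivity of `app` for composites -/

theorem app_image_injective {X Y : Scheme.{u}} (f : X ⟶ Y) [IsOpenImmersion f] (V : X.Opens) :
    Function.Injective (f.app (f ''ᵁ V)).hom := by
  have h : f.app (f ''ᵁ V) =
      (f.appIso V).hom ≫ X.presheaf.map (eqToHom (f.preimage_image_eq V)).op := by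
    rw [← f.appIso_inv_app V, Iso.hom_inv_id_assoc]
  rw [h]
  exact (ConcreteCategory.bijective_of_isIso _).1

theorem comp_app_apply {X Y Z : Scheme.{u}} (a : X ⟶ Y) (b : Y ⟶ Z) (W : Z.Opens)
    (x : Γ(Z, W)) :
    ((a ≫ b).app W).hom x = (a.app (b ⁻¹ᵁ W)).hom ((b.app W).hom x) :=
  congrArg (fun k => k.hom x) (Scheme.Hom.comp_app a b W)

theorem comp_app_injective {X Y Z : Scheme.{u}} (a : X ⟶ Y) (b : Y ⟶ Z) (W : Z.Opens)
    (hb : Function.Injective (b.app W).hom) (ha : Function.Injective (a.app (b ⁻¹ᵁ W)).hom) :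
    Function.Injective ((a ≫ b).app W).hom := by
  intro x y hxy
  rw [comp_app_apply, comp_app_apply] at hxy
  exact hb (ha hxy)

theorem app_injective_of_comp {X Y Z : Scheme.{u}} (a : X ⟶ Y) (b : Y ⟶ Z) (c : X ⟶ Z)
    (h : a ≫ b = c) (W : Z.Opens) (hc : Function.Injective (c.app W).hom) :
    Function.Injective (b.app W).hom := by
  subst h
  intro x y hxy
  apply hc
  rw [comp_app_apply, comp_app_apply, hxy]

theorem awayι_app_injective {d e : ℕ} (hd : 0 < d) (he : 0 < e) {f g : A} (hf : f ∈ 𝒜 d)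
    (hg : g ∈ 𝒜 e) (hnz : g ∈ nonZeroDivisors A) :
    Function.Injective ((Proj.awayι 𝒜 g hg he).app (Proj.basicOpen 𝒜 f)).hom := by
  have h : Proj.awayι 𝒜 g hg he =
      (Proj.basicOpenIsoSpec 𝒜 g hg he).inv ≫ (Proj.basicOpen 𝒜 g).ι := rfl
  rw [h]
  exact comp_app_injective _ _ _ (ι_app_injective 𝒜 hd he hf hg hnz)
    (ConcreteCategory.bijective_of_isIso _).1

end Groth.Agent.H41.ProjDense
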