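import Groth.Agent.H41.ProjPoly
import Groth.Agent.H41.ProjDense

/-!
# The canonical immersion of the affine cone into the projective cone
-/

set_option autoImplicit false
set_option linter.style.haveILetI false
universe u

open CategoryTheory CategoryTheory.Limits AlgebraicGeometry TopologicalSpace Opposite
open HomogeneousLocalization
open scoped HomogeneousIdeal

noncomputable section

namespace Groth.Agent.H41.ConeImmLib

open Groth.Agent.H41.RelConeLib Groth.Agent.H41.ProjConeLib Groth.Agent.H41.ProjQ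
  Groth.Agent.H41.ProjPoly Groth.Agent.H41.ProjDense

section poly

variable {Y : Scheme.{u}} {𝒮 𝒮h : RelProj.QCGrAlg Y} {ι : 𝒮.toQCAlg ⟶ 𝒮h.toQCAlg}
  {z : 𝒮h.presheaf.obj (op ⊤)} (h : RelCone.IsPolyOver 𝒮 𝒮h ι z)
  (U : Y.Opens) (hU : IsAffineOpen U)

include h hU in
theorem z_mem_nonZeroDivisors :
    RelCone.restrictTop 𝒮h z U ∈ nonZeroDivisors (𝒮h.presheaf.obj (op U)) := by
  rw [mem_nonZeroDivisors_iff_right]
  intro y hy
  obtain ⟨p, rfl⟩ := (h.bij U hU).2 y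
  have hX : Polynomial.eval₂RingHom (ι.hom.app (op U)).hom (RelCone.restrictTop 𝒮h z U)
      Polynomial.X = RelCone.restrictTop 𝒮h z U := Polynomial.eval₂_X _ _
  have e : Polynomial.eval₂RingHom (ι.hom.app (op U)).hom (RelCone.restrictTop 𝒮h z U)
      (p * Polynomial.X) = 0 := by
    rw [map_mul, hX]; exact hy
  have e2 : p * Polynomial.X = 0 := (h.bij U hU).1 (e.trans (map_zero _).symm)
  have e3 : p = 0 :=
    (mem_nonZeroDivisors_iff_right.mp Polynomial.X_mem_nonzeroDivisors) p e2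
  rw [e3, map_zero]

/-- ring homomorphisms out of `𝒮[z]_(z)` are determined on the fractions `ι(y)/z^k` -/
theorem ringHom_ext_away {T : Type*} [Semiring T]
    (f g : Away (𝒮h.deg U hU) (RelCone.restrictTop 𝒮h z U) →+* T)
    (hfg : ∀ (k : ℕ) (y : 𝒮.presheaf.obj (op U)) (_ : y ∈ 𝒮.deg U hU k)
      (hm : (ι.hom.app (op U)).hom y ∈ 𝒮h.deg U hU (k • 1)),
      f (Away.mk (𝒮h.deg U hU) (h.deg_z U hU) k _ hm) =
        g (Away.mk (𝒮h.deg U hU) (h.deg_z U hU) k _ hm)) :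
    f = g := by
  classical
  refine RingHom.ext fun q => ?_
  obtain ⟨a, ha⟩ : ∃ a, a = h.awayZToBase U hU q := ⟨_, rfl⟩
  have hmem : ∀ j, (ι.hom.app (op U)).hom
      (DirectSum.decompose (𝒮.deg U hU) a j : 𝒮.presheaf.obj (op U)) ∈ 𝒮h.deg U hU (j • 1) :=
    fun j => by simpa using h.graded U hU j _ (SetLike.coe_mem _)
  have hq : q = ∑ j ∈ (DirectSum.decompose (𝒮.deg U hU) a).support,
      Away.mk (𝒮h.deg U hU) (h.deg_z U hU) j _ (hmem j) := by
    apply (awayZToBase_bijective h U hU).1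
    rw [← ha, map_sum]
    conv_lhs => rw [← DirectSum.sum_support_decompose (𝒮.deg U hU) a]
    refine Finset.sum_congr rfl fun j _ => ?_
    rw [h.awayZToBase_of_val U hU _ _ j rfl, h.evalOne_ι]
  rw [hq, map_sum, map_sum]
  exact Finset.sum_congr rfl fun j _ => hfg j _ (SetLike.coe_mem _) (hmem j)

/-- `awayZToBase` commutes with restriction to basic opens -/
theorem awayZToBase_res (r : Γ(Y, U)) :
    (h.awayZToBase (Y.basicOpen r) (hU.basicOpen r)).comp
      (awayMapEq (𝒮h.res hU (hU.basicOpen r) (Y.basicOpen_le r)) (RelCone.restrictTop 𝒮h z U)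
        (RelCone.restrictTop 𝒮h z (Y.basicOpen r)) (res_restrictTop 𝒮h z (Y.basicOpen_le r))) =
    (𝒮.presheaf.map (homOfLE (Y.basicOpen_le r)).op).hom.comp (h.awayZToBase U hU) := by
  refine ringHom_ext_away h U hU _ _ fun k y hy hm => ?_
  have e : (𝒮h.res hU (hU.basicOpen r) (Y.basicOpen_le r)) ((ι.hom.app (op U)).hom y) =
      (ι.hom.app (op (Y.basicOpen r))).hom
        ((𝒮.presheaf.map (homOfLE (Y.basicOpen_le r)).op).hom y) :=
    congrArg (fun m => m.hom y) (ι.hom.naturality (homOfLE (Y.basicOpen_le r)).op).symm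
  have h1 : h.awayZToBase (Y.basicOpen r) (hU.basicOpen r)
      (Away.mk (𝒮h.deg (Y.basicOpen r) (hU.basicOpen r))
        (h.deg_z (Y.basicOpen r) (hU.basicOpen r)) k
        ((𝒮h.res hU (hU.basicOpen r) (Y.basicOpen_le r)) ((ι.hom.app (op U)).hom y))
        ((𝒮h.res hU (hU.basicOpen r) (Y.basicOpen_le r)).map_mem hm)) =
      h.evalOne (Y.basicOpen r) (hU.basicOpen r)
        ((𝒮h.res hU (hU.basicOpen r) (Y.basicOpen_le r)) ((ι.hom.app (op U)).hom y)) :=
    h.awayZToBase_of_val (Y.basicOpen r) (hU.basicOpen r) _ _ k rfl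
  have h2 : h.awayZToBase U hU (Away.mk (𝒮h.deg U hU) (h.deg_z U hU) k
      ((ι.hom.app (op U)).hom y) hm) = h.evalOne U hU ((ι.hom.app (op U)).hom y) :=
    h.awayZToBase_of_val U hU _ _ k rfl
  rw [RingHom.comp_apply, RingHom.comp_apply,
    awayMapEq_mk _ _ _ _ (h.deg_z U hU) (h.deg_z (Y.basicOpen r) (hU.basicOpen r)),
    h1, e, h.evalOne_ι, h2, h.evalOne_ι]

end poly

section cone

variable {Y PC : Scheme.{u}} {𝒮 𝒮h : RelProj.QCGrAlg Y} {ι : 𝒮.toQCAlg ⟶ 𝒮h.toQCAlg}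
  {z : 𝒮h.presheaf.obj (op ⊤)} (h : RelCone.IsPolyOver 𝒮 𝒮h ι z) (pC : PC ⟶ Y)
  (chartC : ∀ (U : Y.Opens) (hU : IsAffineOpen U),
    (((pC ⁻¹ᵁ U : PC.Opens) : Scheme.{u}) ≅ Proj (𝒮h.deg U hU)))
  (hPC : RelProj.IsRelProj 𝒮h pC chartC)

include hPC in
theorem chart_compat (U : Y.Opens) (hU : IsAffineOpen U) (r : Γ(Y, U)) :
    Spec.map (𝒮.presheaf.map (homOfLE (Y.basicOpen_le r)).op) ≫
      (Spec.map (CommRingCat.ofHom (h.awayZToBase U hU)) ≫
        Proj.awayι (𝒮h.deg U hU) (RelCone.restrictTop 𝒮h z U) (h.deg_z U hU) one_pos ≫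
          RelProj.emb pC chartC U hU) =
    Spec.map (CommRingCat.ofHom (h.awayZToBase (Y.basicOpen r) (hU.basicOpen r))) ≫
      Proj.awayι (𝒮h.deg (Y.basicOpen r) (hU.basicOpen r))
        (RelCone.restrictTop 𝒮h z (Y.basicOpen r)) (h.deg_z (Y.basicOpen r) (hU.basicOpen r))
        one_pos ≫ RelProj.emb pC chartC (Y.basicOpen r) (hU.basicOpen r) := by
  have h1 := RelProj.map_res_emb hPC U hU r
  have h2 := awayι_comp_map_eq (𝒮h.res hU (hU.basicOpen r) (Y.basicOpen_le r))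
    (𝒮h.irrelevant_le_map U hU r) one_pos (RelCone.restrictTop 𝒮h z U) (h.deg_z U hU)
    (RelCone.restrictTop 𝒮h z (Y.basicOpen r)) (res_restrictTop 𝒮h z (Y.basicOpen_le r))
    (h.deg_z (Y.basicOpen r) (hU.basicOpen r))
  have h3 : CommRingCat.ofHom (awayMapEq (𝒮h.res hU (hU.basicOpen r) (Y.basicOpen_le r))
      (RelCone.restrictTop 𝒮h z U) (RelCone.restrictTop 𝒮h z (Y.basicOpen r))
      (res_restrictTop 𝒮h z (Y.basicOpen_le r))) ≫
        CommRingCat.ofHom (h.awayZToBase (Y.basicOpen r) (hU.basicOpen r)) =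
      CommRingCat.ofHom (h.awayZToBase U hU) ≫
        𝒮.presheaf.map (homOfLE (Y.basicOpen_le r)).op :=
    CommRingCat.hom_ext (awayZToBase_res h U hU r)
  rw [← h1, reassoc_of% h2]
  simp only [← Spec.map_comp_assoc]
  rw [h3]

include hPC in
/-- existence and uniqueness of the canonical immersion -/
theorem existsUnique_coneImm :
    ∃! i : 𝒮.toQCAlg.spec ⟶ PC, RelCone.IsConeImm 𝒮 h pC chartC i :=
  existsUnique_of_charts 𝒮.toQCAlg
    (fun U hU => Spec.map (CommRingCat.ofHom (h.awayZToBase U hU)) ≫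
      Proj.awayι (𝒮h.deg U hU) (RelCone.restrictTop 𝒮h z U) (h.deg_z U hU) one_pos ≫
        RelProj.emb pC chartC U hU)
    (fun U hU r => chart_compat h pC chartC hPC U hU r)

omit h in
theorem iSup_opensRange_emb :
    ⨆ U : Y.affineOpens, (RelProj.emb pC chartC U.1 U.2).opensRange = ⊤ := by
  rw [eq_top_iff]
  intro x _
  obtain ⟨U, hU0, hxU, -⟩ := Opens.isBasis_iff_nbhd.1 Y.isBasis_affineOpens
    (show pC.base x ∈ (⊤ : Y.Opens) from trivial)
  refine Opens.mem_iSup.mpr ⟨⟨U, hU0⟩, ?_⟩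
  rw [ProjPoly.opensRange_emb]
  exact hxU

include hPC in
theorem coneImm_restrict_iff (Q : MorphismProperty Scheme.{u}) [Q.RespectsIso]
    (i : 𝒮.toQCAlg.spec ⟶ PC) (hi : RelCone.IsConeImm 𝒮 h pC chartC i)
    (U : Y.Opens) (hU : IsAffineOpen U) :
    Q (i ∣_ (RelProj.emb pC chartC U hU).opensRange) ↔
      Q (Spec.map (CommRingCat.ofHom (h.awayZToBase U hU)) ≫
        Proj.awayι (𝒮h.deg U hU) (RelCone.restrictTop 𝒮h z U) (h.deg_z U hU) one_pos) := by
  have hover := coneImm_over h pC chartC hPC i hi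
  have hcomm : 𝒮.toQCAlg.ι U hU ≫ i = (Spec.map (CommRingCat.ofHom (h.awayZToBase U hU)) ≫
      Proj.awayι (𝒮h.deg U hU) (RelCone.restrictTop 𝒮h z U) (h.deg_z U hU) one_pos) ≫
        RelProj.emb pC chartC U hU := by
    rw [hi U hU, Category.assoc]
  have hrange : (𝒮.toQCAlg.ι U hU).opensRange =
      i ⁻¹ᵁ (RelProj.emb pC chartC U hU).opensRange := by
    rw [ProjPoly.opensRange_emb, ← Scheme.Hom.comp_preimage, hover, 𝒮.toQCAlg.π_preimage U hU]
  exact restrict_iff Q i (RelProj.emb pC chartC U hU) (𝒮.toQCAlg.ι U hU) _ hcomm hrange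

include hPC in
theorem isOpenImmersion_coneImm (i : 𝒮.toQCAlg.spec ⟶ PC)
    (hi : RelCone.IsConeImm 𝒮 h pC chartC i) : IsOpenImmersion i := by
  refine IsZariskiLocalAtTarget.of_iSup_eq_top (P := @IsOpenImmersion)
    (fun U : Y.affineOpens => (RelProj.emb pC chartC U.1 U.2).opensRange)
    (iSup_opensRange_emb pC chartC) fun U => ?_
  refine (coneImm_restrict_iff h pC chartC hPC @IsOpenImmersion i hi U.1 U.2).mpr ?_
  haveI : IsIso (CommRingCat.ofHom (h.awayZToBase U.1 U.2)) :=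
    (ConcreteCategory.isIso_iff_bijective _).2 (awayZToBase_bijective h U.1 U.2)
  infer_instance

include hPC in
theorem isAffineHom_coneImm (i : 𝒮.toQCAlg.spec ⟶ PC)
    (hi : RelCone.IsConeImm 𝒮 h pC chartC i) : IsAffineHom i := by
  refine IsZariskiLocalAtTarget.of_iSup_eq_top (P := @IsAffineHom)
    (fun U : Y.affineOpens => (RelProj.emb pC chartC U.1 U.2).opensRange)
    (iSup_opensRange_emb pC chartC) fun U => ?_
  refine (coneImm_restrict_iff h pC chartC hPC @IsAffineHom i hi U.1 U.2).mpr ?_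
  haveI : IsIso (CommRingCat.ofHom (h.awayZToBase U.1 U.2)) :=
    (ConcreteCategory.isIso_iff_bijective _).2 (awayZToBase_bijective h U.1 U.2)
  haveI : IsAffineHom (Proj.awayι (𝒮h.deg U.1 U.2) (RelCone.restrictTop 𝒮h z U.1)
      (h.deg_z U.1 U.2) one_pos) := by
    haveI : IsAffineHom (Proj.awayι (𝒮h.deg U.1 U.2) (RelCone.restrictTop 𝒮h z U.1)
        (h.deg_z U.1 U.2) one_pos ≫ Proj.toSpecZero (𝒮h.deg U.1 U.2)) := by
      rw [Proj.awayι_toSpecZero]; infer_instance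
    exact IsAffineHom.of_comp _ (Proj.toSpecZero (𝒮h.deg U.1 U.2))
  infer_instance

/-- the projective cone is the schematic closure of the affine cone -/
theorem ker_coneImm (i : 𝒮.toQCAlg.spec ⟶ PC)
    (hi : RelCone.IsConeImm 𝒮 h pC chartC i) : i.ker = ⊥ := by
  rw [eq_bot_iff]
  refine Scheme.IdealSheafData.le_of_iSup_eq_top
    (ι := Σ U : Y.affineOpens,
      {p : ℕ × 𝒮h.presheaf.obj (op U.1) // 0 < p.1 ∧ p.2 ∈ 𝒮h.deg U.1 U.2 p.1})
    (fun s => ⟨(RelProj.emb pC chartC s.1.1 s.1.2) ''ᵁ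
        Proj.basicOpen (𝒮h.deg s.1.1 s.1.2) s.2.1.2,
      (Proj.isAffineOpen_basicOpen _ _ s.2.2.2 s.2.2.1).image_of_isOpenImmersion _⟩) ?_ ?_
  · rw [eq_top_iff]
    intro x _
    obtain ⟨U, hU0, hxU, -⟩ := Opens.isBasis_iff_nbhd.1 Y.isBasis_affineOpens
      (show pC.base x ∈ (⊤ : Y.Opens) from trivial)
    have hU : IsAffineOpen U := hU0
    obtain ⟨Q, rfl⟩ := exists_emb_eq pC chartC U hU x hxU
    obtain ⟨k, hk, a, ha, haQ⟩ := exists_pos_not_mem (𝒮h.deg U hU) Q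
    exact Opens.mem_iSup.mpr ⟨⟨⟨U, hU⟩, ⟨(k, a), hk, ha⟩⟩, Q,
      (Proj.mem_basicOpen _ a Q).mpr haQ, rfl⟩
  · rintro ⟨U, p⟩
    refine (Scheme.Hom.ideal_ker_le _ _).trans ?_
    intro s hs
    haveI : IsIso (CommRingCat.ofHom (h.awayZToBase U.1 U.2)) :=
      (ConcreteCategory.isIso_iff_bijective _).2 (awayZToBase_bijective h U.1 U.2)
    have hinj : Function.Injective (i.app ((RelProj.emb pC chartC U.1 U.2) ''ᵁ
        Proj.basicOpen (𝒮h.deg U.1 U.2) p.1.2)).hom := by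
      refine app_injective_of_comp (𝒮.toQCAlg.ι U.1 U.2) i _ (hi U.1 U.2) _ ?_
      refine comp_app_injective _ _ _ (comp_app_injective _ _ _
        (app_image_injective _ _) ?_) (ConcreteCategory.bijective_of_isIso _).1
      rw [Scheme.Hom.preimage_image_eq]
      exact awayι_app_injective (𝒮h.deg U.1 U.2) p.2.1 one_pos p.2.2 (h.deg_z U.1 U.2)
        (z_mem_nonZeroDivisors h U.1 U.2)
    have h0 : s = 0 := hinj (hs.trans (map_zero _).symm)
    rw [h0]
    exact zero_mem _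

include hPC in
omit h in
/-- an open characterised chartwise by `D_+(z)` is `zOpen` -/
theorem eq_zOpen_of_charts (Xz : PC.Opens)
    (hXz : ∀ (U : Y.Opens) (hU : IsAffineOpen U), Xz ⊓ pC ⁻¹ᵁ U =
      (pC ⁻¹ᵁ U).ι ''ᵁ ((chartC U hU).hom ⁻¹ᵁ
        Proj.basicOpen (𝒮h.deg U hU) (RelCone.restrictTop 𝒮h z U))) :
    Xz = zOpen (z := z) pC chartC := by
  refine Opens.ext (Set.ext fun x => ?_)
  show x ∈ Xz ↔ x ∈ zOpen (z := z) pC chartC
  obtain ⟨U, hU0, hxU, -⟩ := Opens.isBasis_iff_nbhd.1 Y.isBasis_affineOpens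
    (show pC.base x ∈ (⊤ : Y.Opens) from trivial)
  have hU : IsAffineOpen U := hU0
  obtain ⟨Q, rfl⟩ := exists_emb_eq pC chartC U hU x hxU
  rw [mem_zOpen_iff pC chartC hPC U hU Q]
  have hmem : (RelProj.emb pC chartC U hU).base Q ∈ pC ⁻¹ᵁ U := emb_mem_preimage pC chartC U hU Q
  have e1 : (RelProj.emb pC chartC U hU).base Q =
      (pC ⁻¹ᵁ U).ι.base ((chartC U hU).inv.base Q) := rfl
  have e2 : (chartC U hU).hom.base ((chartC U hU).inv.base Q) = Q :=
    congrArg (fun k => k.base Q) (chartC U hU).inv_hom_id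
  constructor
  · intro hx
    have h1 : (RelProj.emb pC chartC U hU).base Q ∈ Xz ⊓ pC ⁻¹ᵁ U := ⟨hx, hmem⟩
    rw [hXz U hU] at h1
    obtain ⟨w, hw, hwx⟩ := h1
    have hw' : w = (chartC U hU).inv.base Q :=
      (pC ⁻¹ᵁ U).ι.isOpenEmbedding.injective (hwx.trans e1)
    have hw2 : (chartC U hU).hom.base w ∈
        Proj.basicOpen (𝒮h.deg U hU) (RelCone.restrictTop 𝒮h z U) := hw
    rw [hw', e2] at hw2
    exact hw2
  · intro hQ
    have h1 : (RelProj.emb pC chartC U hU).base Q ∈ (pC ⁻¹ᵁ U).ι ''ᵁ ((chartC U hU).hom ⁻¹ᵁ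
        Proj.basicOpen (𝒮h.deg U hU) (RelCone.restrictTop 𝒮h z U)) := by
      refine ⟨(chartC U hU).inv.base Q, ?_, rfl⟩
      show (chartC U hU).hom.base ((chartC U hU).inv.base Q) ∈
        Proj.basicOpen (𝒮h.deg U hU) (RelCone.restrictTop 𝒮h z U)
      rw [e2]
      exact hQ
    rw [← hXz U hU] at h1
    exact h1.1

end cone

end Groth.Agent.H41.ConeImmLib
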