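import Groth.Agent.H41.RelProjLib2

set_option autoImplicit false
universe u

open CategoryTheory CategoryTheory.Limits AlgebraicGeometry TopologicalSpace Opposite
open HomogeneousLocalization
open scoped HomogeneousIdeal

namespace Groth.Agent.H41.RelProjLib

section frac
variable {A : Type u} [CommRing A]

/-- `a / t ^ n` in the localization away from `t`. -/
def frac (t : A) (a : A) (n : ℕ) : Localization.Away t := Localization.mk a ⟨t ^ n, n, rfl⟩

lemma frac_add (t a b : A) (n : ℕ) : frac t (a + b) n = frac t a n + frac t b n :=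
  (Localization.add_mk_self _ _ _).symm

lemma frac_zero (t : A) (n : ℕ) : frac t 0 n = 0 := Localization.mk_zero _

lemma frac_neg (t a : A) (n : ℕ) : frac t (-a) n = - frac t a n :=
  (Localization.neg_mk _ _).symm

lemma frac_sum {ι : Type*} (t : A) (s : Finset ι) (f : ι → A) (n : ℕ) :
    frac t (∑ i ∈ s, f i) n = ∑ i ∈ s, frac t (f i) n := Localization.mk_sum _ _ _

lemma frac_mul (t a b : A) {i j k : ℕ} (h : i + j = k) :
    frac t (a * b) k = frac t a i * frac t b j := by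
  subst h
  rw [frac, frac, frac, Localization.mk_mul]
  congr 1
  exact Subtype.ext (pow_add t i j)

lemma frac_mul_self (t a : A) (n : ℕ) : frac t (a * t) (n + 1) = frac t a n := by
  rw [frac, frac, Localization.mk_eq_mk_iff, Localization.r_iff_exists]
  refine ⟨1, ?_⟩
  show ((1 : Submonoid.powers t) : A) * (t ^ n * (a * t)) =
    ((1 : Submonoid.powers t) : A) * (t ^ (n + 1) * a)
  rw [pow_succ]; ring

end frac

section
variable {A σ : Type u} [CommRing A] [SetLike σ A] [AddSubgroupClass σ A]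

theorem finiteType_away (𝒜 : ℕ → σ) [GradedRing 𝒜] {O : Type u} [CommRing O] (φ₀ : O →+* 𝒜 0)
    (T : Finset A) (hT1 : ∀ t ∈ T, t ∈ 𝒜 1)
    (hT : ∀ x ∈ 𝒜 1, ∃ c : A → O, x = ∑ t ∈ T, ((φ₀ (c t) : 𝒜 0) : A) * t)
    (hgen : Subring.closure ((𝒜 0 : Set A) ∪ (𝒜 1 : Set A)) = ⊤) (t : A) (ht : t ∈ T) :
    ((fromZeroRingHom 𝒜 (Submonoid.powers t)).comp φ₀).FiniteType := by
  classical
  letI : Algebra O (Away 𝒜 t) := ((fromZeroRingHom 𝒜 (Submonoid.powers t)).comp φ₀).toAlgebra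
  have ht1 : t ∈ 𝒜 1 := hT1 t ht
  let gen : A → Away 𝒜 t := fun t' =>
    if h : t' ∈ 𝒜 1 then Away.mk 𝒜 ht1 1 t' (by simpa using h) else 0
  let W : Subalgebra O (Away 𝒜 t) :=
    Algebra.adjoin O ((T.image gen : Finset (Away 𝒜 t)) : Set (Away 𝒜 t))
  let V : Subring (Localization.Away t) :=
    W.toSubring.map (algebraMap (Away 𝒜 t) (Localization.Away t))
  have hV1 : ∀ r : O, frac t ((φ₀ r : 𝒜 0) : A) 0 ∈ V := by
    intro r
    refine ⟨algebraMap O (Away 𝒜 t) r, W.algebraMap_mem r, ?_⟩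
    show (fromZeroRingHom 𝒜 (Submonoid.powers t) (φ₀ r)).val = _
    rw [frac]
    show Localization.mk ((φ₀ r : 𝒜 0) : A) ⟨((1 : 𝒜 0) : A), _⟩ = _
    congr 1
    exact Subtype.ext (by simp)
  have hV2 : ∀ t' ∈ T, frac t t' 1 ∈ V := by
    intro t' ht'
    refine ⟨gen t', Algebra.subset_adjoin (Finset.mem_coe.2 (Finset.mem_image_of_mem gen ht')), ?_⟩
    simp only [gen, dif_pos (hT1 t' ht')]
    rfl
  have hV3 : ∀ x ∈ 𝒜 1, frac t x 1 ∈ V := by
    intro x hx
    obtain ⟨c, rfl⟩ := hT x hx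
    rw [frac_sum]
    refine Subring.sum_mem _ fun t' ht' => ?_
    rw [frac_mul t _ _ (zero_add 1)]
    exact Subring.mul_mem _ (hV1 _) (hV2 t' ht')
  have good0 : ∀ x ∈ 𝒜 0, ∀ n, frac t (GradedRing.proj 𝒜 n x) n ∈ V := by
    intro x hx n
    rw [GradedRing.proj_apply]
    by_cases hn : n = 0
    · subst hn
      rw [DirectSum.decompose_of_mem_same 𝒜 hx, ← frac_mul_self t x 0]
      exact hV3 _ (by simpa using SetLike.mul_mem_graded hx ht1)
    · rw [DirectSum.decompose_of_mem_ne 𝒜 hx (Ne.symm hn), frac_zero]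
      exact Subring.zero_mem _
  have good1 : ∀ x ∈ 𝒜 1, ∀ n, frac t (GradedRing.proj 𝒜 n x) n ∈ V := by
    intro x hx n
    rw [GradedRing.proj_apply]
    by_cases hn : n = 1
    · subst hn
      rw [DirectSum.decompose_of_mem_same 𝒜 hx]
      exact hV3 _ hx
    · rw [DirectSum.decompose_of_mem_ne 𝒜 hx (Ne.symm hn), frac_zero]
      exact Subring.zero_mem _
  have good : ∀ x : A, ∀ n, frac t (GradedRing.proj 𝒜 n x) n ∈ V := by
    intro x
    have hx : x ∈ Subring.closure ((𝒜 0 : Set A) ∪ (𝒜 1 : Set A)) := by rw [hgen]; trivial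
    refine Subring.closure_induction
      (p := fun x _ => ∀ n, frac t (GradedRing.proj 𝒜 n x) n ∈ V) ?_ ?_ ?_ ?_ ?_ ?_ hx
    · rintro x (hx | hx)
      · exact good0 x hx
      · exact good1 x hx
    · intro n; rw [map_zero, frac_zero]; exact Subring.zero_mem _
    · exact good0 1 SetLike.GradedOne.one_mem
    · intro x y _ _ hx hy n; rw [map_add, frac_add]; exact Subring.add_mem _ (hx n) (hy n)
    · intro x _ hx n; rw [map_neg, frac_neg]; exact Subring.neg_mem _ (hx n)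
    · intro x y _ _ hx hy n
      rw [GradedRing.proj_apply, DirectSum.decompose_mul,
        DirectSum.coe_mul_apply_eq_sum_antidiagonal, frac_sum]
      refine Subring.sum_mem _ fun ij hij => ?_
      rw [frac_mul t _ _ (Finset.HasAntidiagonal.mem_antidiagonal.1 hij)]
      have h1 := hx ij.1
      have h2 := hy ij.2
      rw [GradedRing.proj_apply] at h1 h2
      exact Subring.mul_mem _ h1 h2
  show Algebra.FiniteType O (Away 𝒜 t)
  refine ⟨⟨T.image gen, ?_⟩⟩
  rw [eq_top_iff]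
  rintro x -
  obtain ⟨n, a, ha, rfl⟩ := Away.mk_surjective 𝒜 ht1 x
  have ha' : a ∈ 𝒜 n := by simpa using ha
  have h := good a n
  rw [GradedRing.proj_apply, DirectSum.decompose_of_mem_same 𝒜 ha'] at h
  obtain ⟨w, hw, hwe⟩ := h
  have : w = Away.mk 𝒜 ht1 n a ha := HomogeneousLocalization.val_injective _ hwe
  rw [← this]; exact hw

set_option backward.isDefEq.respectTransparency.types false in
theorem lft_qc_of_genDegOne (𝒜 : ℕ → σ) [GradedRing 𝒜] (R : CommRingCat.{u})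
    (φ₀ : R ⟶ CommRingCat.of (𝒜 0)) (T : Finset A) (hT1 : ∀ t ∈ T, t ∈ 𝒜 1)
    (hT : ∀ x ∈ 𝒜 1, ∃ c : A → R, x = ∑ t ∈ T, ((φ₀.hom (c t) : 𝒜 0) : A) * t)
    (hgen : Subring.closure ((𝒜 0 : Set A) ∪ (𝒜 1 : Set A)) = ⊤) :
    LocallyOfFiniteType (Proj.toSpecZero 𝒜 ≫ Spec.map φ₀) ∧
      QuasiCompact (Proj.toSpecZero 𝒜 ≫ Spec.map φ₀) := by
  have hadj : Algebra.adjoin (𝒜 0) (Set.range (fun i : T => (i : A))) = ⊤ := by
    rw [eq_top_iff]
    intro x _
    have hx : x ∈ Subring.closure ((𝒜 0 : Set A) ∪ (𝒜 1 : Set A)) := by rw [hgen]; trivial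
    have hle : Subring.closure ((𝒜 0 : Set A) ∪ (𝒜 1 : Set A)) ≤
        (Algebra.adjoin (𝒜 0) (Set.range (fun i : T => (i : A)))).toSubring := by
      rw [Subring.closure_le]
      rintro y (hy | hy)
      · exact Subalgebra.algebraMap_mem _ (⟨y, hy⟩ : 𝒜 0)
      · obtain ⟨c, rfl⟩ := hT y hy
        refine Subalgebra.sum_mem _ fun t' ht' =>
          Subalgebra.mul_mem _ ?_ (Algebra.subset_adjoin ⟨⟨t', ht'⟩, rfl⟩)
        exact Subalgebra.algebraMap_mem _ (φ₀.hom (c t'))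
    exact hle hx
  have hcov : ⨆ i : T, Proj.basicOpen 𝒜 (i : A) = ⊤ :=
    Proj.iSup_basicOpen_eq_top' 𝒜 (ι := T) (fun i => (i : A)) (fun i => ⟨1, hT1 _ i.2⟩) hadj
  constructor
  · rw [IsZariskiLocalAtSource.iff_of_iSup_eq_top (P := @LocallyOfFiniteType) _ hcov]
    intro i
    have e : (Proj.basicOpenIsoSpec 𝒜 (i : A) (hT1 _ i.2) Nat.one_pos).inv ≫
        (Proj.basicOpen 𝒜 (i : A)).ι ≫ Proj.toSpecZero 𝒜 ≫ Spec.map φ₀ =
        Spec.map (φ₀ ≫ CommRingCat.ofHom (fromZeroRingHom 𝒜 (Submonoid.powers (i : A)))) := by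
      rw [Spec.map_comp, ← Proj.awayι_toSpecZero 𝒜 (i : A) (hT1 _ i.2) Nat.one_pos, Proj.awayι]
      simp only [Category.assoc]
    rw [← MorphismProperty.cancel_left_of_respectsIso (P := @LocallyOfFiniteType)
      (Proj.basicOpenIsoSpec 𝒜 (i : A) (hT1 _ i.2) Nat.one_pos).inv, e,
      HasRingHomProperty.Spec_iff (P := @LocallyOfFiniteType), CommRingCat.hom_comp,
      CommRingCat.hom_ofHom]
    exact finiteType_away 𝒜 φ₀.hom T hT1 hT hgen i i.2
  · rw [HasAffineProperty.iff_of_isAffine (P := @QuasiCompact)]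
    have H (i : T) : IsCompact (Proj.basicOpen 𝒜 (i : A)).1 := by
      rw [← Proj.opensRange_awayι _ _ (hT1 _ i.2) Nat.one_pos]
      exact isCompact_range (Proj.awayι _ _ (hT1 _ i.2) Nat.one_pos).continuous
    have := congr($(hcov).1)
    simp only [TopologicalSpace.Opens.iSup_mk, TopologicalSpace.Opens.carrier_eq_coe,
      TopologicalSpace.Opens.coe_mk, TopologicalSpace.Opens.coe_top] at this
    rw [← isCompact_univ_iff, ← this]
    exact isCompact_iUnion H

end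

set_option backward.isDefEq.respectTransparency.types false in
theorem finiteType_of_isRelProj_of_isGenDegOne {Y : Scheme.{u}} (𝒮 : RelProj.QCGrAlg Y)
    (hgen : 𝒮.IsGenDegOne) (hft : 𝒮.IsFTDeg 1) {P : Scheme.{u}} (p : P ⟶ Y)
    (chart : ∀ (U : Y.Opens) (hU : IsAffineOpen U),
      (((p ⁻¹ᵁ U : P.Opens) : Scheme.{u}) ≅ Proj (𝒮.deg U hU)))
    (hP : RelProj.IsRelProj 𝒮 p chart) : LocallyOfFiniteType p ∧ QuasiCompact p := by
  have key : ∀ (U : Y.Opens) (hU : IsAffineOpen U),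
      LocallyOfFiniteType (Proj.toSpecZero (𝒮.deg U hU) ≫ Spec.map (𝒮.strZero U hU)) ∧
      QuasiCompact (Proj.toSpecZero (𝒮.deg U hU) ≫ Spec.map (𝒮.strZero U hU)) := by
    intro U hU
    obtain ⟨T, hT1, hT⟩ := hft U hU
    refine lft_qc_of_genDegOne (𝒮.deg U hU) _ (𝒮.strZero U hU) T
      (fun t ht => hT1 (Finset.mem_coe.2 ht)) (fun x hx => ?_) (hgen U hU)
    obtain ⟨c, hc⟩ := hT x hx
    exact ⟨c, hc⟩
  exact ⟨of_affine_charts @LocallyOfFiniteType 𝒮 p chart hP fun U hU => (key U hU).1,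
    of_affine_charts @QuasiCompact 𝒮 p chart hP fun U hU => (key U hU).2⟩

end Groth.Agent.H41.RelProjLib
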