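import Groth.Agent.H41.GrModTN
import Groth.Agent.H8.QCohAffine
import Groth.Agent.H8.QCohQcqs
import Mathlib

/-!
# Under (TF) over a quasi-compact base, vanishing of `ℳ~` on a relative `Proj` forces (TN)
-/

set_option autoImplicit false
set_option linter.style.haveILetI false
universe u

open CategoryTheory CategoryTheory.Limits AlgebraicGeometry HomogeneousIdeal TopologicalSpace Opposite
open Groth.Agent.H8 Groth.Agent.H41.GrModQCoh Groth.Agent.H41.GrModMaps
  Groth.Agent.H41.RelTildeMaps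

namespace Groth.Agent.H41.RelTildeTN2

section Ring

variable {A σ : Type u} [CommRing A] [SetLike σ A] [AddSubgroupClass σ A] (𝒜 : ℕ → σ) [GradedRing 𝒜]

/-- If the ring is generated by its parts of degree `0` and `1`, the irrelevant ideal is generated
by the part of degree `1`. -/
theorem irrelevant_eq_span_of_closure
    (h : Subring.closure (((𝒜 0 : σ) : Set A) ∪ ((𝒜 1 : σ) : Set A)) = ⊤) :
    (𝒜₊).toIdeal = Ideal.span ((𝒜 1 : σ) : Set A) := by
  apply le_antisymm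
  · let B : Subring A :=
      { carrier := {x | x - GradedRing.projZeroRingHom 𝒜 x ∈ Ideal.span ((𝒜 1 : σ) : Set A)}
        mul_mem' := fun {x y} hx hy => by
          show x * y - GradedRing.projZeroRingHom 𝒜 (x * y) ∈ Ideal.span ((𝒜 1 : σ) : Set A)
          rw [map_mul]
          have e : x * y - GradedRing.projZeroRingHom 𝒜 x * GradedRing.projZeroRingHom 𝒜 y =
              (x - GradedRing.projZeroRingHom 𝒜 x) * y +
                GradedRing.projZeroRingHom 𝒜 x * (y - GradedRing.projZeroRingHom 𝒜 y) := by ring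
          rw [e]
          exact Ideal.add_mem _ (Ideal.mul_mem_right _ _ hx) (Ideal.mul_mem_left _ _ hy)
        one_mem' := by
          show (1 : A) - GradedRing.projZeroRingHom 𝒜 1 ∈ Ideal.span ((𝒜 1 : σ) : Set A)
          rw [map_one, sub_self]
          exact Ideal.zero_mem _
        add_mem' := fun {x y} hx hy => by
          show x + y - GradedRing.projZeroRingHom 𝒜 (x + y) ∈ Ideal.span ((𝒜 1 : σ) : Set A)
          rw [map_add]
          have e : x + y - (GradedRing.projZeroRingHom 𝒜 x + GradedRing.projZeroRingHom 𝒜 y) =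
              (x - GradedRing.projZeroRingHom 𝒜 x) + (y - GradedRing.projZeroRingHom 𝒜 y) := by
            ring
          rw [e]
          exact Ideal.add_mem _ hx hy
        zero_mem' := by
          show (0 : A) - GradedRing.projZeroRingHom 𝒜 0 ∈ Ideal.span ((𝒜 1 : σ) : Set A)
          rw [map_zero, sub_self]
          exact Ideal.zero_mem _
        neg_mem' := fun {x} hx => by
          show -x - GradedRing.projZeroRingHom 𝒜 (-x) ∈ Ideal.span ((𝒜 1 : σ) : Set A)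
          rw [map_neg]
          have e : -x - -GradedRing.projZeroRingHom 𝒜 x =
              -(x - GradedRing.projZeroRingHom 𝒜 x) := by ring
          rw [e]
          exact neg_mem hx }
    have hB : Subring.closure (((𝒜 0 : σ) : Set A) ∪ ((𝒜 1 : σ) : Set A)) ≤ B := by
      rw [Subring.closure_le]
      rintro x (hx | hx)
      · show x - GradedRing.projZeroRingHom 𝒜 x ∈ Ideal.span ((𝒜 1 : σ) : Set A)
        have e : GradedRing.projZeroRingHom 𝒜 x = x := by
          rw [GradedRing.projZeroRingHom_apply]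
          exact DirectSum.decompose_of_mem_same 𝒜 hx
        rw [e, sub_self]
        exact Ideal.zero_mem _
      · show x - GradedRing.projZeroRingHom 𝒜 x ∈ Ideal.span ((𝒜 1 : σ) : Set A)
        have e : GradedRing.projZeroRingHom 𝒜 x = 0 := by
          rw [GradedRing.projZeroRingHom_apply]
          exact DirectSum.decompose_of_mem_ne 𝒜 hx one_ne_zero
        rw [e, sub_zero]
        exact Ideal.subset_span hx
    intro a ha
    have haB : a ∈ B := hB (by rw [h]; exact Subring.mem_top a)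
    have ha0 : GradedRing.projZeroRingHom 𝒜 a = 0 := by
      rw [GradedRing.projZeroRingHom_apply, ← GradedRing.proj_apply]
      exact (HomogeneousIdeal.mem_irrelevant_iff 𝒜 a).mp ha
    have h1 : a - GradedRing.projZeroRingHom 𝒜 a ∈ Ideal.span ((𝒜 1 : σ) : Set A) := haB
    rwa [ha0, sub_zero] at h1
  · rw [Ideal.span_le]
    intro a ha
    exact HomogeneousIdeal.mem_irrelevant_of_mem 𝒜 Nat.one_pos ha

theorem fg_irrelevant_of_finset (hgen : (𝒜₊).toIdeal = Ideal.span ((𝒜 1 : σ) : Set A))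
    (T : Finset A) (hT : (T : Set A) ⊆ ((𝒜 1 : σ) : Set A))
    (hsp : ∀ x ∈ 𝒜 1, x ∈ Ideal.span (T : Set A)) : (𝒜₊).toIdeal.FG := by
  refine ⟨T, ?_⟩
  rw [hgen]
  apply le_antisymm
  · exact Ideal.span_mono hT
  · rw [Ideal.span_le]
    exact fun x hx => hsp x hx

end Ring

section Rel

variable {Y P : Scheme.{u}} (𝒮 : RelProj.QCGrAlg Y) (ℳ : RelProj.GrModule 𝒮)

/-- Vanishing of a graded piece passes to basic opens (for a quasi-coherent graded module). -/
theorem deg_eq_zero_basicOpen (hℳ : ((AMod.toOS 𝒮.toQCAlg).obj ℳ.mod).IsQuasicoherent)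
    (U : Y.Opens) (hU : IsAffineOpen U) (b : Γ(Y, U)) (k : ℕ)
    (h : ∀ m ∈ ℳ.deg U hU k, m = 0) (D : Y.Opens) (hD : IsAffineOpen D)
    (e : D = Y.basicOpen b) : ∀ m' ∈ ℳ.deg D hD k, m' = 0 := by
  subst e
  intro m' hm'
  haveI := hℳ
  obtain ⟨l, x, hx⟩ := exists_smul_eq_res hU ((AMod.toOS 𝒮.toQCAlg).obj ℳ.mod) b
    (show Γ((AMod.toOS 𝒮.toQCAlg).obj ℳ.mod, Y.basicOpen b) from m')
  have hx' : (𝒮.str.app (op (Y.basicOpen b))).hom
      ((Y.presheaf.map (homOfLE (Y.basicOpen_le b)).op b) ^ l) • m' =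
      ℳ.res hU (hU.basicOpen b) (Y.basicOpen_le b) x := hx
  have hc0 : (𝒮.str.app (op (Y.basicOpen b))).hom
      ((Y.presheaf.map (homOfLE (Y.basicOpen_le b)).op b) ^ l) ∈
      𝒮.deg (Y.basicOpen b) (hU.basicOpen b) 0 := 𝒮.str_mem _ _ _
  have hmem : (𝒮.str.app (op (Y.basicOpen b))).hom
      ((Y.presheaf.map (homOfLE (Y.basicOpen_le b)).op b) ^ l) • m' ∈
      ℳ.deg (Y.basicOpen b) (hU.basicOpen b) k := by
    have := SetLike.GradedSMul.smul_mem (A := 𝒮.deg (Y.basicOpen b) (hU.basicOpen b))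
      (B := ℳ.deg (Y.basicOpen b) (hU.basicOpen b)) (i := 0) (j := k) hc0 hm'
    rwa [vadd_eq_add, zero_add] at this
  have hdec : (DirectSum.decompose (ℳ.deg (Y.basicOpen b) (hU.basicOpen b))
      (ℳ.res hU (hU.basicOpen b) (Y.basicOpen_le b) x) k : ℳ.mod.val.obj (op (Y.basicOpen b))) =
      ℳ.res hU (hU.basicOpen b) (Y.basicOpen_le b)
        (DirectSum.decompose (ℳ.deg U hU) x k : ℳ.mod.val.obj (op U)) :=
    decompose_map (ℳ.deg U hU) (ℳ.deg (Y.basicOpen b) (hU.basicOpen b))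
      (ℳ.res hU (hU.basicOpen b) (Y.basicOpen_le b)).toAddMonoidHom
      (fun i m hm => ℳ.res_mem hU (hU.basicOpen b) (Y.basicOpen_le b) i m hm) x k
  have hzero : (𝒮.str.app (op (Y.basicOpen b))).hom
      ((Y.presheaf.map (homOfLE (Y.basicOpen_le b)).op b) ^ l) • m' = 0 := by
    rw [← DirectSum.decompose_of_mem_same _ hmem, hx', hdec, h _ (SetLike.coe_mem _), map_zero]
  have hunit : IsUnit ((𝒮.str.app (op (Y.basicOpen b))).hom
      ((Y.presheaf.map (homOfLE (Y.basicOpen_le b)).op b) ^ l)) := by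
    have h1 : IsUnit (Y.presheaf.map (homOfLE (Y.basicOpen_le b)).op b) :=
      RingedSpace.isUnit_res_basicOpen Y.toRingedSpace b
    exact (h1.pow l).map (𝒮.str.app (op (Y.basicOpen b))).hom
  exact hunit.smul_left_cancel.mp (hzero.trans (smul_zero _).symm)

variable (p : P ⟶ Y)
  (chart : ∀ (U : Y.Opens) (hU : IsAffineOpen U),
    (((p ⁻¹ᵁ U : P.Opens) : Scheme.{u}) ≅ Proj (𝒮.deg U hU)))
  (F : P.Modules)
  (lam : ∀ (U : Y.Opens) (hU : IsAffineOpen U),
    F ⟶ (Scheme.Modules.pushforward (RelProj.emb p chart U hU)).obj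
      (GrMod.tilde (𝒮.deg U hU) (ℳ.deg U hU) 0))
  (hF : RelProj.IsRelTilde 𝒮 p chart ℳ 0 F lam)

include hF in
/-- If `ℳ~ = 0` then all the sections of the chartwise modules vanish. -/
theorem sections_eq_zero_of_isZero (h0 : IsZero F) (U : Y.Opens) (hU : IsAffineOpen U)
    (V : (Proj (𝒮.deg U hU)).Opens) (s : Γ(GrMod.tilde (𝒮.deg U hU) (ℳ.deg U hU) 0, V)) :
    s = 0 := by
  have hpre : RelProj.emb p chart U hU ⁻¹ᵁ (RelProj.emb p chart U hU ''ᵁ V) ≤ V :=
    ((RelProj.emb p chart U hU).preimage_image_eq V).le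
  have hWle : RelProj.emb p chart U hU ''ᵁ V ≤ p ⁻¹ᵁ U := by
    rintro _ ⟨v, _, rfl⟩
    have : (RelProj.emb p chart U hU).base v ∈ (RelProj.emb p chart U hU).opensRange := ⟨v, rfl⟩
    rwa [opensRange_emb] at this
  obtain ⟨x, hx⟩ := (hF.bijective U hU _ hWle).2
    ((GrMod.tilde (𝒮.deg U hU) (ℳ.deg U hU) 0).presheaf.map (homOfLE hpre).op s)
  have hx0 : x = 0 :=
    congrArg (fun φ : F ⟶ F => φ.app (RelProj.emb p chart U hU ''ᵁ V) x)
      ((IsZero.iff_id_eq_zero F).mp h0)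
  have hres : (GrMod.tilde (𝒮.deg U hU) (ℳ.deg U hU) 0).presheaf.map (homOfLE hpre).op s = 0 := by
    rw [← hx, hx0]
    exact map_zero _
  refine sect_ext (𝒮.deg U hU) (ℳ.deg U hU) 0 _ _ fun y => ?_
  have hy' : y.1 ∈ RelProj.emb p chart U hU ⁻¹ᵁ (RelProj.emb p chart U hU ''ᵁ V) :=
    ⟨y.1, y.2, rfl⟩
  exact congrArg (fun τ : Γ(GrMod.tilde (𝒮.deg U hU) (ℳ.deg U hU) 0,
    RelProj.emb p chart U hU ⁻¹ᵁ (RelProj.emb p chart U hU ''ᵁ V)) => GrMod.val τ ⟨y.1, hy'⟩) hres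

include hF in
theorem isTN_of_isZero [CompactSpace Y] (hgen : 𝒮.IsGenDegOne) (hft : 𝒮.IsFTDeg 1)
    (hℳ : ((AMod.toOS 𝒮.toQCAlg).obj ℳ.mod).IsQuasicoherent) (hTF : ℳ.IsTF)
    (h0 : IsZero F) : ℳ.IsTN := by
  classical
  obtain ⟨n₁, hTF⟩ := hTF
  have hchart : ∀ U : Y.affineOpens, ∃ n : ℕ, ∀ k, n ≤ k → ∀ m ∈ ℳ.deg U.1 U.2 k, m = 0 := by
    rintro ⟨U, hU⟩
    have hgenU := irrelevant_eq_span_of_closure (𝒮.deg U hU) (hgen U hU)
    have hfgU : ((𝒮.deg U hU)₊).toIdeal.FG := by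
      obtain ⟨T, hT, hsp⟩ := hft U hU
      refine fg_irrelevant_of_finset (𝒮.deg U hU) hgenU T hT fun x hx => ?_
      obtain ⟨c, hc⟩ := hsp x hx
      rw [hc]
      exact Ideal.sum_mem _ fun t ht => Ideal.mul_mem_left _ _ (Ideal.subset_span ht)
    exact GrModTN.TN_of_sections_eq_zero (𝒮.deg U hU) (ℳ.deg U hU) hfgU hgenU ⟨n₁, hTF U hU⟩
      fun V s => sections_eq_zero_of_isZero 𝒮 ℳ p chart F lam hF h0 U hU V s
  choose nU hnU using hchart
  obtain ⟨t, ht⟩ := isCompact_univ.elim_finite_subcover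
    (fun U : Y.affineOpens => ((U.1 : Y.Opens) : Set Y)) (fun U => U.1.2) (fun y _ => by
      obtain ⟨U, hU, hyU, -⟩ := Opens.isBasis_iff_nbhd.mp Y.isBasis_affineOpens
        (show y ∈ (⊤ : Y.Opens) from trivial)
      exact Set.mem_iUnion.mpr ⟨⟨U, hU⟩, hyU⟩)
  refine ⟨t.sup nU, fun V hV k hk m hm => ?_⟩
  haveI : ((AMod.toOS 𝒮.toQCAlg).obj ℳ.mod).IsQuasicoherent := hℳ
  have key : (show Γ((AMod.toOS 𝒮.toQCAlg).obj ℳ.mod, V) from m) = 0 := by
    refine section_eq_of_cover ((AMod.toOS 𝒮.toQCAlg).obj ℳ.mod) _ _ fun y hyV => ?_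
    obtain ⟨U, hUt, hyU⟩ := Set.mem_iUnion₂.mp (ht (Set.mem_univ y))
    obtain ⟨a, b, e, hya⟩ := exists_basicOpen_le_affine_inter hV U.2 y ⟨hyV, hyU⟩
    refine ⟨Y.basicOpen a, Y.basicOpen_le a, hya, ?_⟩
    have hz : ∀ m' ∈ ℳ.deg (Y.basicOpen a) (hV.basicOpen a) k, m' = 0 :=
      deg_eq_zero_basicOpen 𝒮 ℳ hℳ U.1 U.2 b k (hnU U k ((Finset.le_sup hUt).trans hk))
        (Y.basicOpen a) (hV.basicOpen a) e
    have h1 := hz _ (ℳ.res_mem hV (hV.basicOpen a) (Y.basicOpen_le a) k m hm)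
    have h2 : ((AMod.toOS 𝒮.toQCAlg).obj ℳ.mod).presheaf.map (homOfLE (Y.basicOpen_le a)).op
        (0 : Γ((AMod.toOS 𝒮.toQCAlg).obj ℳ.mod, V)) = 0 := map_zero _
    rw [h2]
    exact h1
  exact key

end Rel

end Groth.Agent.H41.RelTildeTN2
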