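import Groth.Agent.H41.ProjQ6
import Groth.Agent.H41.ConeImmLib
import Groth.Agent.H41.RelProjFT
import Groth.Agent.H41.RelTildeTN2
import Mathlib.Algebra.Polynomial.Laurent
import Mathlib.RingTheory.PolynomialAlgebra

/-!
# Fibres of the retraction of the pointed projective cone

For `f` homogeneous of degree one, `𝒮[z]_(f) = 𝒮_(f)[z/f]`; the retraction of the pointed projective
cone onto `Proj(𝒮)` is locally the projection of an affine line.
-/

set_option autoImplicit false
universe u

open CategoryTheory CategoryTheory.Limits AlgebraicGeometry TopologicalSpace Opposite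
open HomogeneousLocalization
open scoped HomogeneousIdeal

noncomputable section

namespace Groth.Agent.H41.ConeFibre

open Groth.Agent.H41.RelConeLib Groth.Agent.H41.ProjConeLib Groth.Agent.H41.RelProjLib
  Groth.Agent.H41.ProjQ

attribute [local instance] Polynomial.algebra

/-! ### algebra -/

section alg

theorem frac_mul_pow {R : Type u} [CommRing R] (t a b : R) (i m : ℕ) :
    frac t a i * (frac t b 1) ^ m = frac t (a * b ^ m) (i + m) := by
  induction m with
  | zero => rw [pow_zero, pow_zero, mul_one, mul_one, Nat.add_zero]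
  | succ m ih =>
    rw [pow_succ, ← mul_assoc, ih, pow_succ, ← mul_assoc]
    exact (frac_mul t (a * b ^ m) b (by omega)).symm

theorem frac_one_mul {R : Type u} [CommRing R] (f : R) :
    frac f 1 1 * algebraMap R (Localization.Away f) f = 1 := by
  have h1 := IsLocalization.mk'_spec (Localization.Away f) (1 : R)
    (⟨f ^ 1, 1, rfl⟩ : Submonoid.powers f)
  rw [← Localization.mk_eq_mk', map_one] at h1
  simpa [frac, pow_one] using h1

variable {A B : Type u} [CommRing A] [CommRing B] {𝒜 : ℕ → AddSubgroup A} [GradedRing 𝒜]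
  {ℬ : ℕ → AddSubgroup B} [GradedRing ℬ] (ψ : 𝒜 →+*ᵍ ℬ) {ζ : B} (hζ : ζ ∈ ℬ 1)
  {f : A} (hf : f ∈ 𝒜 1)

/-- `ζ / ψ f` -/
def T0 : Away ℬ (ψ f) := Away.isLocalizationElem (ψ.map_mem hf) hζ

theorem val_T0 : (T0 ψ hζ hf).val = frac (ψ f) ζ 1 := by
  have h1 : (T0 ψ hζ hf).val =
      Localization.mk (ζ ^ 1) (⟨ψ f ^ 1, 1, rfl⟩ : Submonoid.powers (ψ f)) := rfl
  rw [h1, pow_one]
  rfl

/-- the comparison homomorphism `(Away 𝒜 f)[X] → Away ℬ (ψ f)`, `X ↦ ζ / ψ f` -/
def polyToAway : Polynomial (Away 𝒜 f) →+* Away ℬ (ψ f) :=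
  Polynomial.eval₂RingHom (Away.map ψ f) (T0 ψ hζ hf)

theorem polyToAway_C (r : Away 𝒜 f) :
    polyToAway ψ hζ hf (Polynomial.C r) = Away.map ψ f r := by
  rw [polyToAway, Polynomial.coe_eval₂RingHom, Polynomial.eval₂_C]

theorem polyToAway_X : polyToAway ψ hζ hf Polynomial.X = T0 ψ hζ hf := by
  rw [polyToAway, Polynomial.coe_eval₂RingHom, Polynomial.eval₂_X]

theorem val_map_mk (n : ℕ) (a : A) (ha : a ∈ 𝒜 (n • 1)) :
    (Away.map ψ f (Away.mk 𝒜 hf n a ha)).val = frac (ψ f) (ψ a) n := by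
  rw [Away.map_mk]
  rfl

theorem polyToAway_surjective
    (hexp : ∀ (k : ℕ) (b : B), b ∈ ℬ k → ∃ x : ℕ → A, (∀ m, x m ∈ 𝒜 (k - m)) ∧
      b = ∑ m ∈ Finset.range (k + 1), ψ (x m) * ζ ^ m) :
    Function.Surjective (polyToAway ψ hζ hf) := by
  classical
  intro q
  obtain ⟨n, b, hb, rfl⟩ := Away.mk_surjective ℬ (ψ.map_mem hf) q
  have hb' : b ∈ ℬ n := by simpa using hb
  obtain ⟨x, hx, hbx⟩ := hexp n b hb'
  have hx' : ∀ m, x m ∈ 𝒜 ((n - m) • 1) := fun m => by simpa using hx m
  refine ⟨∑ m ∈ Finset.range (n + 1),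
    Polynomial.C (Away.mk 𝒜 hf (n - m) (x m) (hx' m)) * Polynomial.X ^ m, ?_⟩
  apply HomogeneousLocalization.val_injective
  have e1 : polyToAway ψ hζ hf (∑ m ∈ Finset.range (n + 1),
      Polynomial.C (Away.mk 𝒜 hf (n - m) (x m) (hx' m)) * Polynomial.X ^ m) =
      ∑ m ∈ Finset.range (n + 1),
        Away.map ψ f (Away.mk 𝒜 hf (n - m) (x m) (hx' m)) * (T0 ψ hζ hf) ^ m := by
    rw [map_sum]
    refine Finset.sum_congr rfl fun m _ => ?_
    rw [map_mul, map_pow, polyToAway_C, polyToAway_X]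
  have e2 : (Away.mk ℬ (ψ.map_mem hf) n b hb).val = frac (ψ f) b n := rfl
  rw [e1, e2, ← HomogeneousLocalization.algebraMap_apply, map_sum]
  conv_rhs => rw [hbx, frac_sum]
  refine Finset.sum_congr rfl fun m hm => ?_
  rw [map_mul, map_pow, HomogeneousLocalization.algebraMap_apply,
    HomogeneousLocalization.algebraMap_apply, val_map_mk, val_T0, frac_mul_pow]
  have hmn : n - m + m = n := Nat.sub_add_cancel (Nat.lt_succ_iff.mp (Finset.mem_range.mp hm))
  rw [hmn]

variable (hbij : Function.Bijective (Polynomial.eval₂RingHom ψ.toRingHom ζ))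
include hbij

/-- `B ≅ A[X] → A_f[X]` -/
def theta0 (f : A) : B →+* Polynomial (Localization.Away f) :=
  (Polynomial.mapRingHom (algebraMap A (Localization.Away f))).comp
    (RingEquiv.ofBijective _ hbij).symm.toRingHom

theorem theta0_eval (f : A) (p : Polynomial A) :
    theta0 ψ hbij f (Polynomial.eval₂ ψ.toRingHom ζ p) =
      p.map (algebraMap A (Localization.Away f)) := by
  have e : (RingEquiv.ofBijective _ hbij).symm (Polynomial.eval₂ ψ.toRingHom ζ p) = p :=
    (RingEquiv.ofBijective _ hbij).symm_apply_apply p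
  show (Polynomial.mapRingHom _) ((RingEquiv.ofBijective _ hbij).symm
    (Polynomial.eval₂ ψ.toRingHom ζ p)) = _
  rw [e]
  rfl

theorem theta0_psi (f : A) (a : A) :
    theta0 ψ hbij f (ψ a) = Polynomial.C (algebraMap A (Localization.Away f) a) := by
  have h1 := theta0_eval ψ hbij f (Polynomial.C a)
  rw [Polynomial.eval₂_C, Polynomial.map_C] at h1
  exact h1

theorem theta0_zeta (f : A) : theta0 ψ hbij f ζ = Polynomial.X := by
  have h1 := theta0_eval ψ hbij f Polynomial.X
  rw [Polynomial.eval₂_X, Polynomial.map_X] at h1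
  exact h1

theorem isUnit_theta0 (f : A) : IsUnit (theta0 ψ hbij f (ψ f)) := by
  rw [theta0_psi]
  exact (IsLocalization.Away.algebraMap_isUnit f).map Polynomial.C

/-- `Away ℬ (ψ f) → A_f[X]` -/
def Theta (f : A) : Away ℬ (ψ f) →+* Polynomial (Localization.Away f) :=
  (IsLocalization.Away.lift (ψ f) (g := theta0 ψ hbij f) (isUnit_theta0 ψ hbij f)).comp
    (algebraMap (Away ℬ (ψ f)) (Localization.Away (ψ f)))

theorem Theta_of_val (f : A) (q : Away ℬ (ψ f)) (x : B) (k : ℕ) (hq : q.val = frac (ψ f) x k)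
    (W : Polynomial (Localization.Away f))
    (hW : theta0 ψ hbij f x = W * theta0 ψ hbij f (ψ f) ^ k) :
    Theta ψ hbij f q = W := by
  rw [Theta, RingHom.comp_apply, HomogeneousLocalization.algebraMap_apply, hq, frac,
    Localization.mk_eq_mk', IsLocalization.Away.lift, IsLocalization.lift_mk',
    Units.mul_inv_eq_iff_eq_mul, IsUnit.coe_liftRight]
  simpa [map_pow] using hW

include hf in
theorem Theta_map (r : Away 𝒜 f) :
    Theta ψ hbij f (Away.map ψ f r) =
      Polynomial.C (algebraMap (Away 𝒜 f) (Localization.Away f) r) := by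
  obtain ⟨n, a, ha, rfl⟩ := Away.mk_surjective 𝒜 hf r
  refine Theta_of_val ψ hbij f _ (ψ a) n (val_map_mk ψ hf n a ha) _ ?_
  rw [theta0_psi, theta0_psi, ← map_pow, ← map_mul]
  congr 1
  rw [HomogeneousLocalization.algebraMap_apply]
  show algebraMap A (Localization.Away f) a =
    Localization.mk a (⟨f ^ n, n, rfl⟩ : Submonoid.powers f) *
      algebraMap A (Localization.Away f) f ^ n
  rw [← map_pow, Localization.mk_eq_mk']
  exact (IsLocalization.mk'_spec (Localization.Away f) a
    (⟨f ^ n, n, rfl⟩ : Submonoid.powers f)).symm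

theorem Theta_T0 :
    Theta ψ hbij f (T0 ψ hζ hf) = Polynomial.C (frac f 1 1) * Polynomial.X := by
  refine Theta_of_val ψ hbij f _ ζ 1 (val_T0 ψ hζ hf) _ ?_
  rw [theta0_zeta, theta0_psi, pow_one, mul_assoc, mul_comm Polynomial.X, ← mul_assoc, ← map_mul,
    frac_one_mul, map_one, one_mul]

theorem Theta_comp : (Theta ψ hbij f).comp (polyToAway ψ hζ hf) =
    (Polynomial.compRingHom (Polynomial.C (frac f 1 1) * Polynomial.X)).comp
      (Polynomial.mapRingHom (algebraMap (Away 𝒜 f) (Localization.Away f))) := by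
  refine Polynomial.ringHom_ext (fun r => ?_) ?_
  · show Theta ψ hbij f (polyToAway ψ hζ hf (Polynomial.C r)) =
      ((Polynomial.C r).map (algebraMap (Away 𝒜 f) (Localization.Away f))).comp
        (Polynomial.C (frac f 1 1) * Polynomial.X)
    rw [polyToAway_C, Theta_map ψ hf hbij, Polynomial.map_C, Polynomial.C_comp]
  · show Theta ψ hbij f (polyToAway ψ hζ hf Polynomial.X) =
      ((Polynomial.X).map (algebraMap (Away 𝒜 f) (Localization.Away f))).comp
        (Polynomial.C (frac f 1 1) * Polynomial.X)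
    rw [polyToAway_X, Theta_T0 ψ hζ hf hbij, Polynomial.map_X, Polynomial.X_comp]

theorem polyToAway_injective : Function.Injective (polyToAway ψ hζ hf) := by
  rw [injective_iff_map_eq_zero]
  intro p hp
  have h1 : ((Theta ψ hbij f).comp (polyToAway ψ hζ hf)) p = 0 := by
    rw [RingHom.comp_apply, hp, map_zero]
  rw [Theta_comp ψ hζ hf hbij] at h1
  have h2 : (p.map (algebraMap (Away 𝒜 f) (Localization.Away f))).comp
      (Polynomial.C (frac f 1 1) * Polynomial.X) = 0 := h1
  have hu : frac f 1 1 ∈ nonZeroDivisors (Localization.Away f) :=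
    (IsUnit.of_mul_eq_one _ (frac_one_mul f)).mem_nonZeroDivisors
  rw [Polynomial.comp_C_mul_X_eq_zero_iff hu] at h2
  refine (Polynomial.map_eq_zero_iff ?_).mp h2
  intro a b hab
  exact HomogeneousLocalization.val_injective _ hab

variable (hexp : ∀ (k : ℕ) (b : B), b ∈ ℬ k → ∃ x : ℕ → A, (∀ m, x m ∈ 𝒜 (k - m)) ∧
      b = ∑ m ∈ Finset.range (k + 1), ψ (x m) * ζ ^ m)
include hexp

/-- `𝒮[z]_(f) = 𝒮_(f)[z/f]` -/
def polyEquivAway : Polynomial (Away 𝒜 f) ≃+* Away ℬ (ψ f) :=
  RingEquiv.ofBijective (polyToAway ψ hζ hf)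
    ⟨polyToAway_injective ψ hζ hf hbij, polyToAway_surjective ψ hζ hf hexp⟩

omit hbij in
include hζ hf in
theorem finiteType_away_map : (Away.map ψ f).FiniteType := by
  have e : Away.map ψ f = (polyToAway ψ hζ hf).comp
      (algebraMap (Away 𝒜 f) (Polynomial (Away 𝒜 f))) := by
    refine RingHom.ext fun r => ?_
    show _ = polyToAway ψ hζ hf (Polynomial.C r)
    rw [polyToAway_C]
  rw [e]
  exact RingHom.FiniteType.comp_surjective (RingHom.finiteType_algebraMap.mpr inferInstance)
    (polyToAway_surjective ψ hζ hf hexp)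

/-- the evaluation `𝒮[z]_(f) → K[X]` attached to `τ : 𝒮_(f) → K` -/
def evK {K : Type u} [CommRing K] (τ : Away 𝒜 f →+* K) : Away ℬ (ψ f) →+* Polynomial K :=
  (Polynomial.mapRingHom τ).comp (polyEquivAway ψ hζ hf hbij hexp).symm.toRingHom

theorem evK_T0 {K : Type u} [CommRing K] (τ : Away 𝒜 f →+* K) :
    evK ψ hζ hf hbij hexp τ (T0 ψ hζ hf) = Polynomial.X := by
  have hX : (polyEquivAway ψ hζ hf hbij hexp).symm (T0 ψ hζ hf) = Polynomial.X := by
    rw [RingEquiv.symm_apply_eq]
    exact (polyToAway_X ψ hζ hf).symm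
  show Polynomial.map τ ((polyEquivAway ψ hζ hf hbij hexp).symm (T0 ψ hζ hf)) = Polynomial.X
  rw [hX, Polynomial.map_X]

theorem isPushout_evK {K : Type u} [CommRing K] (τ : Away 𝒜 f →+* K) :
    IsPushout (CommRingCat.ofHom (Away.map ψ f)) (CommRingCat.ofHom τ)
      (CommRingCat.ofHom (evK ψ hζ hf hbij hexp τ))
      (CommRingCat.ofHom (algebraMap K (Polynomial K))) := by
  letI : Algebra (Away 𝒜 f) K := τ.toAlgebra
  have h0 := CommRingCat.isPushout_of_isPushout (Away 𝒜 f) (Polynomial (Away 𝒜 f)) K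
    (Polynomial K)
  refine h0.of_iso (Iso.refl _) (polyEquivAway ψ hζ hf hbij hexp).toCommRingCatIso (Iso.refl _)
    (Iso.refl _) ?_ ?_ ?_ ?_
  · rw [Iso.refl_hom, Category.id_comp]
    refine CommRingCat.hom_ext (RingHom.ext fun r => ?_)
    show polyToAway ψ hζ hf (Polynomial.C r) = Away.map ψ f r
    exact polyToAway_C ψ hζ hf r
  · rw [Iso.refl_hom, Iso.refl_hom, Category.id_comp, Category.comp_id]
  · rw [Iso.refl_hom, Category.comp_id]
    refine CommRingCat.hom_ext (RingHom.ext fun p => ?_)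
    show Polynomial.map τ p = Polynomial.map τ ((polyEquivAway ψ hζ hf hbij hexp).symm
      (polyEquivAway ψ hζ hf hbij hexp p))
    rw [RingEquiv.symm_apply_apply]
  · rw [Iso.refl_hom, Iso.refl_hom, Category.id_comp, Category.comp_id]

end alg

/-! ### geometry -/

section geom

variable {Y : Scheme.{u}} {𝒮 𝒮h : RelProj.QCGrAlg Y} {ι : 𝒮.toQCAlg ⟶ 𝒮h.toQCAlg}
  {z : 𝒮h.presheaf.obj (op ⊤)} (hz : RelCone.IsPolyOver 𝒮 𝒮h ι z)
  {PC : Scheme.{u}} (pC : PC ⟶ Y)
  (chartC : ∀ (U : Y.Opens) (hU : IsAffineOpen U),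
    (((pC ⁻¹ᵁ U : PC.Opens) : Scheme.{u}) ≅ Proj (𝒮h.deg U hU)))
  (hPC : RelProj.IsRelProj 𝒮h pC chartC)
  {P : Scheme.{u}} (p : P ⟶ Y)
  (chart : ∀ (U : Y.Opens) (hU : IsAffineOpen U),
    (((p ⁻¹ᵁ U : P.Opens) : Scheme.{u}) ≅ Proj (𝒮.deg U hU)))
  (hP : RelProj.IsRelProj 𝒮 p chart)

theorem hbij_at (U : Y.Opens) (hU : IsAffineOpen U) :
    Function.Bijective (Polynomial.eval₂RingHom
      (RelProj.gradedHomAt ι hz.graded U hU).toRingHom (RelCone.restrictTop 𝒮h z U)) :=
  hz.bij U hU

theorem hexp_at (U : Y.Opens) (hU : IsAffineOpen U) :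
    ∀ (k : ℕ) (b : 𝒮h.presheaf.obj (op U)), b ∈ 𝒮h.deg U hU k →
      ∃ x : ℕ → 𝒮.presheaf.obj (op U), (∀ m, x m ∈ 𝒮.deg U hU (k - m)) ∧
        b = ∑ m ∈ Finset.range (k + 1),
          (RelProj.gradedHomAt ι hz.graded U hU) (x m) * (RelCone.restrictTop 𝒮h z U) ^ m :=
  fun k b hb => exists_homogeneous_expansion hz U hU k b hb

/-- the lift of a standard chart of the pointed projective cone -/
def g0 (U : Y.Opens) (hU : IsAffineOpen U) {d : ℕ} (hd : 0 < d) (f : 𝒮.presheaf.obj (op U))
    (hf : f ∈ 𝒮.deg U hU d) :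
    Spec (CommRingCat.of (Away (𝒮h.deg U hU) ((RelProj.gradedHomAt ι hz.graded U hU) f))) ⟶
      ((RelCone.pointedProjCone 𝒮 hz pC chartC : PC.Opens) : Scheme.{u}) :=
  IsOpenImmersion.lift (RelCone.pointedProjCone 𝒮 hz pC chartC).ι
    (Proj.awayι (𝒮h.deg U hU) ((RelProj.gradedHomAt ι hz.graded U hU) f)
      ((RelProj.gradedHomAt ι hz.graded U hU).2 hf) hd ≫ RelProj.emb pC chartC U hU)
    (range_diag_subset ι hz.graded pC chartC hPC _
      (domQ_ofHom_eq ι hz.graded pC chartC hPC) U hU hd f hf)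

theorem g0_ι (U : Y.Opens) (hU : IsAffineOpen U) {d : ℕ} (hd : 0 < d)
    (f : 𝒮.presheaf.obj (op U)) (hf : f ∈ 𝒮.deg U hU d) :
    g0 hz pC chartC hPC U hU hd f hf ≫ (RelCone.pointedProjCone 𝒮 hz pC chartC).ι =
      Proj.awayι (𝒮h.deg U hU) ((RelProj.gradedHomAt ι hz.graded U hU) f)
        ((RelProj.gradedHomAt ι hz.graded U hU).2 hf) hd ≫ RelProj.emb pC chartC U hU :=
  IsOpenImmersion.lift_fac _ _ _

instance (U : Y.Opens) (hU : IsAffineOpen U) {d : ℕ} (hd : 0 < d)
    (f : 𝒮.presheaf.obj (op U)) (hf : f ∈ 𝒮.deg U hU d) :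
    IsOpenImmersion (g0 hz pC chartC hPC U hU hd f hf) := by
  have h : IsOpenImmersion (g0 hz pC chartC hPC U hU hd f hf ≫
      (RelCone.pointedProjCone 𝒮 hz pC chartC).ι) := by
    rw [g0_ι]; infer_instance
  exact IsOpenImmersion.of_comp _ (RelCone.pointedProjCone 𝒮 hz pC chartC).ι

variable (r : ((RelCone.pointedProjCone 𝒮 hz pC chartC : PC.Opens) : Scheme.{u}) ⟶ P)
  (hr : DiagEq ι hz.graded p chart pC chartC (RelCone.pointedProjCone 𝒮 hz pC chartC) r)

include hr in
theorem g0_r (U : Y.Opens) (hU : IsAffineOpen U) {d : ℕ} (hd : 0 < d)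
    (f : 𝒮.presheaf.obj (op U)) (hf : f ∈ 𝒮.deg U hU d) :
    g0 hz pC chartC hPC U hU hd f hf ≫ r =
      Spec.map (CommRingCat.ofHom (Away.map (RelProj.gradedHomAt ι hz.graded U hU) f)) ≫
        Proj.awayι (𝒮.deg U hU) f hf hd ≫ RelProj.emb p chart U hU :=
  hr U hU d hd f hf _ (g0_ι hz pC chartC hPC U hU hd f hf)

include hP hr in
theorem preimage_g0 (U : Y.Opens) (hU : IsAffineOpen U) {d : ℕ} (hd : 0 < d)
    (f : 𝒮.presheaf.obj (op U)) (hf : f ∈ 𝒮.deg U hU d) :
    r ⁻¹ᵁ ((RelProj.emb p chart U hU) ''ᵁ Proj.basicOpen (𝒮.deg U hU) f) =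
      (g0 hz pC chartC hPC U hU hd f hf).opensRange := by
  have hW : RelProj.domQ (RelProj.QGrHom.ofHom ι hz.graded) pC chartC =
      RelCone.pointedProjCone 𝒮 hz pC chartC := domQ_ofHom_eq ι hz.graded pC chartC hPC
  ext t
  constructor
  · intro ht
    have ht' : r.base t ∈ ((RelProj.emb p chart U hU) ''ᵁ
        Proj.basicOpen (𝒮.deg U hU) f : P.Opens) := ht
    rw [diagEq_preimage ι hz.graded p chart pC chartC hP hPC _ hW r hr U hU hd f hf] at ht'
    obtain ⟨Q, hQ, hQt⟩ := ht'
    have hQ' : Q ∈ Proj.basicOpen (𝒮h.deg U hU) ((RelProj.gradedHomAt ι hz.graded U hU) f) := hQ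
    rw [← Proj.opensRange_awayι (𝒮h.deg U hU) ((RelProj.gradedHomAt ι hz.graded U hU) f)
      ((RelProj.gradedHomAt ι hz.graded U hU).2 hf) hd] at hQ'
    obtain ⟨w, hw⟩ := hQ'
    refine ⟨w, ?_⟩
    apply (RelCone.pointedProjCone 𝒮 hz pC chartC).ι.isOpenEmbedding.injective
    have h1 := congrArg (fun k => k.base w) (g0_ι hz pC chartC hPC U hU hd f hf)
    exact h1.trans ((congrArg (fun q => (RelProj.emb pC chartC U hU).base q) hw).trans hQt)
  · rintro ⟨w, rfl⟩
    show r.base ((g0 hz pC chartC hPC U hU hd f hf).base w) ∈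
      ((RelProj.emb p chart U hU) ''ᵁ Proj.basicOpen (𝒮.deg U hU) f : P.Opens)
    have h2 : r.base ((g0 hz pC chartC hPC U hU hd f hf).base w) =
        (RelProj.emb p chart U hU).base ((Proj.awayι (𝒮.deg U hU) f hf hd).base
          ((Spec.map (CommRingCat.ofHom
            (Away.map (RelProj.gradedHomAt ι hz.graded U hU) f))).base w)) :=
      congrArg (fun k => k.base w) (g0_r hz pC chartC hPC p chart r hr U hU hd f hf)
    rw [h2]
    refine ⟨_, ?_, rfl⟩
    show _ ∈ Proj.basicOpen (𝒮.deg U hU) f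
    rw [← Proj.opensRange_awayι (𝒮.deg U hU) f hf hd]
    exact ⟨_, rfl⟩

include hP hr in
/-- over a standard open the retraction is `Spec` of `𝒮_(f) → 𝒮[z]_(f)` -/
theorem isPullback_g0 (U : Y.Opens) (hU : IsAffineOpen U) {d : ℕ} (hd : 0 < d)
    (f : 𝒮.presheaf.obj (op U)) (hf : f ∈ 𝒮.deg U hU d) :
    IsPullback (g0 hz pC chartC hPC U hU hd f hf)
      (Spec.map (CommRingCat.ofHom (Away.map (RelProj.gradedHomAt ι hz.graded U hU) f))) r
      (Proj.awayι (𝒮.deg U hU) f hf hd ≫ RelProj.emb p chart U hU) := by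
  refine (IsOpenImmersion.isPullback _ _ _ _
    (g0_r hz pC chartC hPC p chart r hr U hU hd f hf) ?_).flip
  rw [Scheme.Hom.opensRange_comp, Proj.opensRange_awayι]
  exact preimage_g0 hz pC chartC hPC p chart hP r hr U hU hd f hf

omit hz in
/-- degree-one standard opens cover `Proj(𝒮)` when `𝒮` is generated in degree one -/
theorem exists_standard_open_deg_one (hgen : 𝒮.IsGenDegOne) (x : P) :
    ∃ (U : Y.Opens) (hU : IsAffineOpen U) (f : 𝒮.presheaf.obj (op U))
      (hf : f ∈ 𝒮.deg U hU 1),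
      x ∈ Set.range (Proj.awayι (𝒮.deg U hU) f hf one_pos ≫ RelProj.emb p chart U hU).base := by
  obtain ⟨U, hU0, hxU, -⟩ := Opens.isBasis_iff_nbhd.mp Y.isBasis_affineOpens
    (show p.base x ∈ (⊤ : Y.Opens) from trivial)
  have hU : IsAffineOpen U := hU0
  obtain ⟨q, rfl⟩ := exists_emb_eq p chart U hU x hxU
  have hgenU := Groth.Agent.H41.RelTildeTN2.irrelevant_eq_span_of_closure (𝒮.deg U hU)
    (hgen U hU)
  obtain ⟨f, hf1, hfq⟩ : ∃ f ∈ 𝒮.deg U hU 1, f ∉ q.asHomogeneousIdeal := by
    by_contra hcon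
    push Not at hcon
    apply q.not_irrelevant_le
    intro a ha
    have h1 : a ∈ Ideal.span ((𝒮.deg U hU 1 : AddSubgroup _) :
        Set (𝒮.presheaf.obj (op U))) := by
      rw [← hgenU]; exact ha
    exact (Ideal.span_le (I := q.asHomogeneousIdeal.toIdeal)).mpr (fun b hb => hcon b hb) h1
  refine ⟨U, hU, f, hf1, ?_⟩
  have hq : q ∈ Proj.basicOpen (𝒮.deg U hU) f := (Proj.mem_basicOpen _ _ _).mpr hfq
  rw [← Proj.opensRange_awayι (𝒮.deg U hU) f hf1 one_pos] at hq
  obtain ⟨w, hw⟩ := hq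
  exact ⟨w, congrArg (fun k => (RelProj.emb p chart U hU).base k) hw⟩

include hPC hP hr in
theorem isAffineHom_r : IsAffineHom r := by
  refine isAffineHom_of_forall_exists_isAffineOpen (f := r) fun x => ?_
  obtain ⟨U, hU, d, hd, f, hf, hx⟩ := exists_standard_open p chart x
  refine ⟨_, hx, ?_, ?_⟩
  · exact (Proj.isAffineOpen_basicOpen (𝒮.deg U hU) f hf hd).image_of_isOpenImmersion _
  · rw [preimage_g0 hz pC chartC hPC p chart hP r hr U hU hd f hf]
    exact isAffineOpen_opensRange _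

/-- index type of the degree-one charts -/
structure Ch1 (𝒮 : RelProj.QCGrAlg Y) where
  U : Y.Opens
  hU : IsAffineOpen U
  f : 𝒮.presheaf.obj (op U)
  hf : f ∈ 𝒮.deg U hU 1

include hPC hP hr in
theorem locallyOfFiniteType_r (hgen : 𝒮.IsGenDegOne) : LocallyOfFiniteType r := by
  let 𝒰 : ((RelCone.pointedProjCone 𝒮 hz pC chartC : PC.Opens) : Scheme.{u}).OpenCover :=
    Scheme.Cover.mkOfCovers (Ch1 𝒮)
      (fun c => Spec (CommRingCat.of (Away (𝒮h.deg c.U c.hU)
        ((RelProj.gradedHomAt ι hz.graded c.U c.hU) c.f))))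
      (fun c => g0 hz pC chartC hPC c.U c.hU one_pos c.f c.hf)
      (fun t => by
        obtain ⟨U, hU, f, hf, hx⟩ := exists_standard_open_deg_one p chart hgen (r.base t)
        have ht : t ∈ r ⁻¹ᵁ ((RelProj.emb p chart U hU) ''ᵁ
            Proj.basicOpen (𝒮.deg U hU) f) := by
          show r.base t ∈ ((RelProj.emb p chart U hU) ''ᵁ
            Proj.basicOpen (𝒮.deg U hU) f : P.Opens)
          obtain ⟨w, hw⟩ := hx
          refine ⟨(Proj.awayι (𝒮.deg U hU) f hf one_pos).base w, ?_, hw⟩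
          show _ ∈ Proj.basicOpen (𝒮.deg U hU) f
          rw [← Proj.opensRange_awayι (𝒮.deg U hU) f hf one_pos]
          exact ⟨w, rfl⟩
        rw [preimage_g0 hz pC chartC hPC p chart hP r hr U hU one_pos f hf] at ht
        obtain ⟨w, hw⟩ := ht
        exact ⟨⟨U, hU, f, hf⟩, w, hw⟩)
      (fun c => inferInstance)
  refine IsZariskiLocalAtSource.of_openCover (P := @LocallyOfFiniteType) 𝒰 fun c => ?_
  show LocallyOfFiniteType (g0 hz pC chartC hPC c.U c.hU one_pos c.f c.hf ≫ r)
  rw [g0_r hz pC chartC hPC p chart r hr c.U c.hU one_pos c.f c.hf]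
  have h1 : LocallyOfFiniteType (Spec.map (CommRingCat.ofHom
      (Away.map (RelProj.gradedHomAt ι hz.graded c.U c.hU) c.f))) := by
    rw [HasRingHomProperty.Spec_iff (P := @LocallyOfFiniteType), CommRingCat.hom_ofHom]
    exact finiteType_away_map _ (hz.deg_z c.U c.hU) c.hf (hexp_at hz c.U c.hU)
  infer_instance

include hP hr in
/-- the fibre square of the retraction at a point -/
theorem exists_fibre_square (hgen : 𝒮.IsGenDegOne) (x : P) :
    ∃ (U : Y.Opens) (hU : IsAffineOpen U) (f : 𝒮.presheaf.obj (op U))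
      (hf : f ∈ 𝒮.deg U hU 1)
      (ev : Away (𝒮h.deg U hU) ((RelProj.gradedHomAt ι hz.graded U hU) f) →+*
        Polynomial (P.residueField x)),
      ev (T0 (RelProj.gradedHomAt ι hz.graded U hU) (hz.deg_z U hU) hf) = Polynomial.X ∧
      IsPullback (Spec.map (CommRingCat.ofHom ev) ≫ g0 hz pC chartC hPC U hU one_pos f hf)
        (Spec.map (CommRingCat.ofHom
          (algebraMap (P.residueField x) (Polynomial (P.residueField x)))))
        r (P.fromSpecResidueField x) := by
  obtain ⟨U, hU, f, hf, hx⟩ := exists_standard_open_deg_one p chart hgen x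
  have hrange : Set.range (P.fromSpecResidueField x).base ⊆
      Set.range (Proj.awayι (𝒮.deg U hU) f hf one_pos ≫ RelProj.emb p chart U hU).base := by
    rw [Scheme.range_fromSpecResidueField]
    rintro _ rfl
    exact hx
  obtain ⟨t, ht⟩ : ∃ t, t ≫ (Proj.awayι (𝒮.deg U hU) f hf one_pos ≫ RelProj.emb p chart U hU) =
      P.fromSpecResidueField x :=
    ⟨IsOpenImmersion.lift _ _ hrange, IsOpenImmersion.lift_fac _ _ _⟩
  let τ : Away (𝒮.deg U hU) f →+* (P.residueField x) := (Spec.preimage t).hom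
  have hτ : Spec.map (CommRingCat.ofHom τ) = t := Spec.map_preimage t
  have hpo := isPushout_evK (RelProj.gradedHomAt ι hz.graded U hU) (hz.deg_z U hU) hf
    (hbij_at hz U hU) (hexp_at hz U hU) τ
  have hpb1 := isPullback_SpecMap_of_isPushout _ _ _ _ hpo
  have hpb2 := isPullback_g0 hz pC chartC hPC p chart hP r hr U hU one_pos f hf
  have hpb := hpb1.paste_horiz hpb2
  rw [hτ, ht] at hpb
  exact ⟨U, hU, f, hf, _, evK_T0 (RelProj.gradedHomAt ι hz.graded U hU) (hz.deg_z U hU) hf
    (hbij_at hz U hU) (hexp_at hz U hU) τ, hpb⟩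

include hPC hP hr in
/-- the fibres of the retraction are affine lines -/
theorem exists_fibre_iso (hgen : 𝒮.IsGenDegOne) (x : P) :
    ∃ e : pullback r (P.fromSpecResidueField x) ≅
        Spec (CommRingCat.of (Polynomial (P.residueField x))),
      e.hom ≫ Spec.map (CommRingCat.ofHom
        (algebraMap (P.residueField x) (Polynomial (P.residueField x)))) =
        pullback.snd r (P.fromSpecResidueField x) := by
  obtain ⟨U, hU, f, hf, ev, -, hpb⟩ :=
    exists_fibre_square hz pC chartC hPC p chart hP r hr hgen x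
  refine ⟨hpb.isoPullback.symm, ?_⟩
  rw [Iso.symm_hom, Iso.inv_comp_eq, hpb.isoPullback_hom_snd]

end geom

/-! ### the pointed affine cone inside the pointed projective cone -/

section cone

variable {Y : Scheme.{u}} {𝒮 𝒮h : RelProj.QCGrAlg Y} {ι : 𝒮.toQCAlg ⟶ 𝒮h.toQCAlg}
  {z : 𝒮h.presheaf.obj (op ⊤)} (hz : RelCone.IsPolyOver 𝒮 𝒮h ι z)
  {PC : Scheme.{u}} (pC : PC ⟶ Y)
  (chartC : ∀ (U : Y.Opens) (hU : IsAffineOpen U),
    (((pC ⁻¹ᵁ U : PC.Opens) : Scheme.{u}) ≅ Proj (𝒮h.deg U hU)))
  (hPC : RelProj.IsRelProj 𝒮h pC chartC)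
  {P : Scheme.{u}} (p : P ⟶ Y)
  (chart : ∀ (U : Y.Opens) (hU : IsAffineOpen U),
    (((p ⁻¹ᵁ U : P.Opens) : Scheme.{u}) ≅ Proj (𝒮.deg U hU)))
  (hP : RelProj.IsRelProj 𝒮 p chart)
  (i : 𝒮.toQCAlg.spec ⟶ PC) (hi : RelCone.IsConeImm 𝒮 hz pC chartC i)
  (i' : ((RelCone.pointedCone 𝒮 : 𝒮.toQCAlg.spec.Opens) : Scheme.{u}) ⟶
    ((RelCone.pointedProjCone 𝒮 hz pC chartC : PC.Opens) : Scheme.{u}))
  (hi' : i' ≫ (RelCone.pointedProjCone 𝒮 hz pC chartC).ι = (RelCone.pointedCone 𝒮).ι ≫ i)

include hi hi' in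
/-- a point of a degree-one chart of the pointed projective cone lies in the pointed affine cone
iff `z / f` does not vanish there -/
theorem g0_mem_range_iff (U : Y.Opens) (hU : IsAffineOpen U) (f : 𝒮.presheaf.obj (op U))
    (hf : f ∈ 𝒮.deg U hU 1)
    (w : Spec (CommRingCat.of (Away (𝒮h.deg U hU) ((RelProj.gradedHomAt ι hz.graded U hU) f)))) :
    (g0 hz pC chartC hPC U hU one_pos f hf).base w ∈ Set.range i'.base ↔
      T0 (RelProj.gradedHomAt ι hz.graded U hU) (hz.deg_z U hU) hf ∉ w.asIdeal := by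
  have hQW : (RelCone.pointedProjCone 𝒮 hz pC chartC).ι.base
      ((g0 hz pC chartC hPC U hU one_pos f hf).base w) = (RelProj.emb pC chartC U hU).base
        ((Proj.awayι (𝒮h.deg U hU) ((RelProj.gradedHomAt ι hz.graded U hU) f)
          ((RelProj.gradedHomAt ι hz.graded U hU).2 hf) one_pos).base w) :=
    congrArg (fun k => k.base w) (g0_ι hz pC chartC hPC U hU one_pos f hf)
  have hQf : (Proj.awayι (𝒮h.deg U hU) ((RelProj.gradedHomAt ι hz.graded U hU) f)
      ((RelProj.gradedHomAt ι hz.graded U hU).2 hf) one_pos).base w ∈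
      Proj.basicOpen (𝒮h.deg U hU) ((RelProj.gradedHomAt ι hz.graded U hU) f) := by
    rw [← Proj.opensRange_awayι (𝒮h.deg U hU) ((RelProj.gradedHomAt ι hz.graded U hU) f)
      ((RelProj.gradedHomAt ι hz.graded U hU).2 hf) one_pos]
    exact ⟨w, rfl⟩
  have key := Proj.awayι_preimage_basicOpen (𝒮h.deg U hU)
    ((RelProj.gradedHomAt ι hz.graded U hU).2 hf) one_pos (hz.deg_z U hU) one_pos
  have hkey : T0 (RelProj.gradedHomAt ι hz.graded U hU) (hz.deg_z U hU) hf ∉ w.asIdeal ↔
      (Proj.awayι (𝒮h.deg U hU) ((RelProj.gradedHomAt ι hz.graded U hU) f)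
        ((RelProj.gradedHomAt ι hz.graded U hU).2 hf) one_pos).base w ∈
        Proj.basicOpen (𝒮h.deg U hU) (RelCone.restrictTop 𝒮h z U) := by
    have h1 := (congrArg (fun V : (Spec (CommRingCat.of (Away (𝒮h.deg U hU)
      ((RelProj.gradedHomAt ι hz.graded U hU) f)))).Opens => w ∈ V) key).to_iff
    exact h1.symm
  rw [hkey]
  constructor
  · rintro ⟨c', hc'⟩
    have e1 : (RelCone.pointedProjCone 𝒮 hz pC chartC).ι.base (i'.base c') =
        i.base ((RelCone.pointedCone 𝒮).ι.base c') := congrArg (fun k => k.base c') hi'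
    have h2 : (RelProj.emb pC chartC U hU).base
        ((Proj.awayι (𝒮h.deg U hU) ((RelProj.gradedHomAt ι hz.graded U hU) f)
          ((RelProj.gradedHomAt ι hz.graded U hU).2 hf) one_pos).base w) ∈
        (zOpen (z := z) pC chartC : Set PC) := by
      rw [← range_coneImm hz pC chartC i hi, ← hQW, ← hc', e1]
      exact ⟨_, rfl⟩
    exact (mem_zOpen_iff pC chartC hPC U hU _).mp h2
  · intro hQ
    obtain ⟨y, hy⟩ := exists_of_mem_basicOpen_z hz U hU _ hQ
    have hfy : f ∉ y.asIdeal := by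
      intro hfy
      have h4 := (mem_awayι_iff hz U hU y one_pos f hf).2 hfy
      rw [hy] at h4
      exact ((Proj.mem_basicOpen _ _ _).1 hQf) h4
    have hc : (𝒮.toQCAlg.ι U hU).base y ∈ RelCone.pointedCone 𝒮 := by
      rw [mem_pointedCone_iff, mem_vertexCompl_iff]
      exact ⟨f, HomogeneousIdeal.mem_irrelevant_of_mem _ one_pos hf, hfy⟩
    refine ⟨⟨_, hc⟩, ?_⟩
    apply (RelCone.pointedProjCone 𝒮 hz pC chartC).ι.isOpenEmbedding.injective
    have e1 : (RelCone.pointedProjCone 𝒮 hz pC chartC).ι.base (i'.base ⟨_, hc⟩) =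
        i.base ((𝒮.toQCAlg.ι U hU).base y) := congrArg (fun k => k.base ⟨_, hc⟩) hi'
    rw [e1, coneImm_apply hz pC chartC i hi U hU y, hy, hQW]

variable (r : ((RelCone.pointedProjCone 𝒮 hz pC chartC : PC.Opens) : Scheme.{u}) ⟶ P)
  (hr : DiagEq ι hz.graded p chart pC chartC (RelCone.pointedProjCone 𝒮 hz pC chartC) r)

include hPC hi hi' in
theorem isOpenImmersion_i' : IsOpenImmersion i' := by
  haveI : IsOpenImmersion i := Groth.Agent.H41.ConeImmLib.isOpenImmersion_coneImm hz pC chartC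
    hPC i hi
  haveI : IsOpenImmersion (i' ≫ (RelCone.pointedProjCone 𝒮 hz pC chartC).ι) := by
    rw [hi']; infer_instance
  exact IsOpenImmersion.of_comp i' (RelCone.pointedProjCone 𝒮 hz pC chartC).ι

include hPC hP hr hi hi' in
/-- the fibres of the projection of the pointed affine cone are punctured affine lines -/
theorem exists_fibre_iso_cone (hgen : 𝒮.IsGenDegOne) (x : P) :
    ∃ e : pullback (i' ≫ r) (P.fromSpecResidueField x) ≅
        Spec (CommRingCat.of (LaurentPolynomial (P.residueField x))),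
      e.hom ≫ Spec.map (CommRingCat.ofHom
        (algebraMap (P.residueField x) (LaurentPolynomial (P.residueField x)))) =
        pullback.snd (i' ≫ r) (P.fromSpecResidueField x) := by
  obtain ⟨U, hU, f, hf, ev, hev, hpb⟩ :=
    exists_fibre_square hz pC chartC hPC p chart hP r hr hgen x
  have hi'o : IsOpenImmersion i' := isOpenImmersion_i' hz pC chartC hPC i hi i' hi'
  let m : pullback (i' ≫ r) (P.fromSpecResidueField x) ⟶
      Spec (CommRingCat.of (Polynomial (P.residueField x))) :=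
    hpb.lift (pullback.fst (i' ≫ r) (P.fromSpecResidueField x) ≫ i')
      (pullback.snd (i' ≫ r) (P.fromSpecResidueField x))
      (by rw [Category.assoc]; exact pullback.condition)
  have hm1 : m ≫ (Spec.map (CommRingCat.ofHom ev) ≫ g0 hz pC chartC hPC U hU one_pos f hf) =
      pullback.fst (i' ≫ r) (P.fromSpecResidueField x) ≫ i' := hpb.lift_fst _ _ _
  have hm2 : m ≫ Spec.map (CommRingCat.ofHom
      (algebraMap (P.residueField x) (Polynomial (P.residueField x)))) =
      pullback.snd (i' ≫ r) (P.fromSpecResidueField x) := hpb.lift_snd _ _ _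
  have hbig : IsPullback (pullback.fst (i' ≫ r) (P.fromSpecResidueField x))
      (m ≫ Spec.map (CommRingCat.ofHom
        (algebraMap (P.residueField x) (Polynomial (P.residueField x)))))
      (i' ≫ r) (P.fromSpecResidueField x) := by
    rw [hm2]; exact IsPullback.of_hasPullback _ _
  have htop : IsPullback (pullback.fst (i' ≫ r) (P.fromSpecResidueField x)) m i'
      (Spec.map (CommRingCat.ofHom ev) ≫ g0 hz pC chartC hPC U hU one_pos f hf) :=
    IsPullback.of_bot hbig hm1.symm hpb
  haveI : IsOpenImmersion m := MorphismProperty.of_isPullback (P := @IsOpenImmersion) htop hi'o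
  haveI : IsOpenImmersion (Spec.map (CommRingCat.ofHom (algebraMap
      (Polynomial (P.residueField x)) (LaurentPolynomial (P.residueField x))))) :=
    IsOpenImmersion.of_isLocalization (Polynomial.X : Polynomial (P.residueField x))
  have hrange : Set.range m.base = Set.range (Spec.map (CommRingCat.ofHom (algebraMap
      (Polynomial (P.residueField x)) (LaurentPolynomial (P.residueField x))))).base := by
    have hL : ∀ v : Spec (CommRingCat.of (Polynomial (P.residueField x))),
        v ∈ Set.range (Spec.map (CommRingCat.ofHom (algebraMap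
          (Polynomial (P.residueField x)) (LaurentPolynomial (P.residueField x))))).base ↔
        Polynomial.X ∉ v.asIdeal := by
      intro v
      have h0 : Set.range (PrimeSpectrum.comap (algebraMap (Polynomial (P.residueField x))
          (LaurentPolynomial (P.residueField x)))) =
          ((PrimeSpectrum.basicOpen (Polynomial.X : Polynomial (P.residueField x)) :
            Opens (PrimeSpectrum (Polynomial (P.residueField x)))) :
              Set (PrimeSpectrum (Polynomial (P.residueField x)))) :=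
        PrimeSpectrum.localization_away_comap_range _ _
      constructor
      · rintro ⟨s, rfl⟩
        have h3 : PrimeSpectrum.comap (algebraMap (Polynomial (P.residueField x))
            (LaurentPolynomial (P.residueField x))) s ∈
            Set.range (PrimeSpectrum.comap (algebraMap (Polynomial (P.residueField x))
              (LaurentPolynomial (P.residueField x)))) := ⟨s, rfl⟩
        rw [h0] at h3
        exact h3
      · intro hv
        have h3 : v ∈ ((PrimeSpectrum.basicOpen (Polynomial.X : Polynomial (P.residueField x)) :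
            Opens (PrimeSpectrum (Polynomial (P.residueField x)))) :
              Set (PrimeSpectrum (Polynomial (P.residueField x)))) := hv
        rw [← h0] at h3
        obtain ⟨s, hs⟩ := h3
        exact ⟨s, hs⟩
    ext v
    rw [hL v]
    constructor
    · rintro ⟨s, rfl⟩
      have h1 : (g0 hz pC chartC hPC U hU one_pos f hf).base
          ((Spec.map (CommRingCat.ofHom ev)).base (m.base s)) =
          i'.base ((pullback.fst (i' ≫ r) (P.fromSpecResidueField x)).base s) :=
        congrArg (fun k => k.base s) hm1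
      have h2 : (g0 hz pC chartC hPC U hU one_pos f hf).base
          ((Spec.map (CommRingCat.ofHom ev)).base (m.base s)) ∈ Set.range i'.base :=
        ⟨_, h1.symm⟩
      rw [g0_mem_range_iff hz pC chartC hPC i hi i' hi' U hU f hf] at h2
      show Polynomial.X ∉ (m.base s).asIdeal
      intro hX
      apply h2
      show ev (T0 (RelProj.gradedHomAt ι hz.graded U hU) (hz.deg_z U hU) hf) ∈
        (m.base s).asIdeal
      rw [hev]; exact hX
    · intro hv
      have hv' : Polynomial.X ∉ v.asIdeal := hv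
      have h2 : (g0 hz pC chartC hPC U hU one_pos f hf).base
          ((Spec.map (CommRingCat.ofHom ev)).base v) ∈ Set.range i'.base := by
        rw [g0_mem_range_iff hz pC chartC hPC i hi i' hi' U hU f hf]
        intro hT
        apply hv'
        have h3 : ev (T0 (RelProj.gradedHomAt ι hz.graded U hU) (hz.deg_z U hU) hf) ∈
          v.asIdeal := hT
        rwa [hev] at h3
      obtain ⟨c', hc'⟩ := h2
      obtain ⟨s, -, hs2⟩ := AlgebraicGeometry.Scheme.exists_preimage_of_isPullback htop c' v hc'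
      exact ⟨s, hs2⟩
  refine ⟨IsOpenImmersion.isoOfRangeEq m _ hrange, ?_⟩
  have hfac := IsOpenImmersion.isoOfRangeEq_hom_fac m (Spec.map (CommRingCat.ofHom (algebraMap
      (Polynomial (P.residueField x)) (LaurentPolynomial (P.residueField x))))) hrange
  have halg : CommRingCat.ofHom
      (algebraMap (P.residueField x) (LaurentPolynomial (P.residueField x))) =
      CommRingCat.ofHom (algebraMap (P.residueField x) (Polynomial (P.residueField x))) ≫
        CommRingCat.ofHom (algebraMap (Polynomial (P.residueField x))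
          (LaurentPolynomial (P.residueField x))) := by
    refine CommRingCat.hom_ext (RingHom.ext fun a => ?_)
    show algebraMap (P.residueField x) (LaurentPolynomial (P.residueField x)) a =
      Polynomial.toLaurent (Polynomial.C a)
    rw [Polynomial.toLaurent_C]
    rfl
  rw [halg, Spec.map_comp, ← Category.assoc, hfac, hm2]

end cone

end Groth.Agent.H41.ConeFibre
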