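import Groth.Prelude.Def_RelProj
import Groth.Agent.H18.ProjClosedImm

set_option autoImplicit false
universe u

open CategoryTheory CategoryTheory.Limits AlgebraicGeometry TopologicalSpace Opposite
open HomogeneousLocalization
open scoped HomogeneousIdeal

namespace Groth.Agent.H41.RelProjLib

section
variable {A B σ τ : Type u} [CommRing A] [SetLike σ A] [AddSubgroupClass σ A]
  [CommRing B] [SetLike τ B] [AddSubgroupClass τ B]
  {𝒜 : ℕ → σ} {ℬ : ℕ → τ} [GradedRing 𝒜] [GradedRing ℬ]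

/-- The degree-zero part of a graded ring homomorphism. -/
def zeroHom (f : 𝒜 →+*ᵍ ℬ) : 𝒜 0 →+* ℬ 0 where
  toFun x := ⟨f (x : A), f.2 x.2⟩
  map_one' := Subtype.ext (map_one f)
  map_mul' x y := Subtype.ext (map_mul f (x : A) (y : A))
  map_zero' := Subtype.ext (map_zero f)
  map_add' x y := Subtype.ext (map_add f (x : A) (y : A))

@[simp] theorem zeroHom_coe (f : 𝒜 →+*ᵍ ℬ) (x : 𝒜 0) : ((zeroHom f x : ℬ 0) : B) = f (x : A) := rfl

theorem away_map_fromZero (f : 𝒜 →+*ᵍ ℬ) (s : A) (x : 𝒜 0) :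
    Away.map f s (fromZeroRingHom 𝒜 _ x) = fromZeroRingHom ℬ _ (zeroHom f x) := by
  apply HomogeneousLocalization.val_injective
  show (HomogeneousLocalization.mk (𝒜 := ℬ) (x := Submonoid.powers (f s))
      ⟨0, ⟨f (x : A), f.2 x.2⟩, ⟨f ((1 : 𝒜 0) : A), f.2 (1 : 𝒜 0).2⟩, _⟩).val =
    (HomogeneousLocalization.mk (𝒜 := ℬ) (x := Submonoid.powers (f s))
      ⟨0, zeroHom f x, 1, _⟩).val
  rw [HomogeneousLocalization.val_mk, HomogeneousLocalization.val_mk]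
  congr 1
  exact Subtype.ext (map_one f)

set_option backward.isDefEq.respectTransparency false in
/-- `Proj.map` is compatible with the structure morphisms to `Spec` of the degree-zero parts. -/
@[reassoc]
theorem map_toSpecZero (f : 𝒜 →+*ᵍ ℬ) (hf : ℬ₊ ≤ 𝒜₊.map f) :
    Proj.map f hf ≫ Proj.toSpecZero 𝒜 =
      Proj.toSpecZero ℬ ≫ Spec.map (CommRingCat.ofHom (zeroHom f)) := by
  refine (Proj.mapAffineOpenCover f hf).openCover.hom_ext _ _ fun s => ?_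
  simp only [Scheme.AffineOpenCover.openCover_f, Proj.mapAffineOpenCover_f]
  rw [Proj.awayι_comp_map_assoc f hf s.1.2 _ s.2.2, Proj.awayι_toSpecZero,
    Proj.awayι_toSpecZero_assoc, ← Spec.map_comp, ← Spec.map_comp]
  congr 1
  ext x
  exact congrArg HomogeneousLocalization.val (away_map_fromZero f _ x)

end

section
variable {Y : Scheme.{u}}

theorem iSup_preimage_affineOpens {P : Scheme.{u}} (p : P ⟶ Y) :
    ⨆ U : Y.affineOpens, p ⁻¹ᵁ U.1 = ⊤ := by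
  rw [eq_top_iff]
  intro x _
  have : p.base x ∈ (⨆ U : Y.affineOpens, (U : Y.Opens)) := by
    rw [iSup_affineOpens_eq_top]; trivial
  obtain ⟨U, hU⟩ := Opens.mem_iSup.1 this
  exact Opens.mem_iSup.2 ⟨U, hU⟩

theorem strZero_comp_zeroHom {𝒜 ℬ : RelProj.QCGrAlg Y} (φ : 𝒜.toQCAlg ⟶ ℬ.toQCAlg)
    (hφ : RelProj.IsGradedHom φ) (U : Y.Opens) (hU : IsAffineOpen U) :
    𝒜.strZero U hU ≫ CommRingCat.ofHom (zeroHom (RelProj.gradedHomAt φ hφ U hU)) =
      ℬ.strZero U hU := by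
  ext r
  show (φ.hom.app (op U)).hom ((𝒜.str.app (op U)).hom r) = (ℬ.str.app (op U)).hom r
  have h0 := NatTrans.congr_app φ.comm (op U)
  rw [NatTrans.comp_app] at h0
  rw [← h0]; rfl

/-- The morphism of relative Proj's induced by a graded homomorphism is a morphism over the base. -/
theorem relProjMap_comp {𝒜 ℬ : RelProj.QCGrAlg Y} (φ : 𝒜.toQCAlg ⟶ ℬ.toQCAlg)
    (hφ : RelProj.IsGradedHom φ)
    (hirr : ∀ (U : Y.Opens) (hU : IsAffineOpen U),
      (ℬ.deg U hU)₊ ≤ ((𝒜.deg U hU)₊).map (RelProj.gradedHomAt φ hφ U hU))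
    {PA PB : Scheme.{u}} (pA : PA ⟶ Y) (pB : PB ⟶ Y)
    (chartA : ∀ (U : Y.Opens) (hU : IsAffineOpen U),
      (((pA ⁻¹ᵁ U : PA.Opens) : Scheme.{u}) ≅ Proj (𝒜.deg U hU)))
    (chartB : ∀ (U : Y.Opens) (hU : IsAffineOpen U),
      (((pB ⁻¹ᵁ U : PB.Opens) : Scheme.{u}) ≅ Proj (ℬ.deg U hU)))
    (hA : RelProj.IsRelProj 𝒜 pA chartA) (hB : RelProj.IsRelProj ℬ pB chartB)
    (h : PB ⟶ PA) (hh : RelProj.IsRelProjMap φ hφ hirr chartA chartB h) : h ≫ pA = pB := by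
  refine (PB.openCoverOfIsOpenCover (fun U : Y.affineOpens => pB ⁻¹ᵁ U.1)
    (iSup_preimage_affineOpens pB)).hom_ext _ _ fun U => ?_
  obtain ⟨U, hU0⟩ := U
  have hU : IsAffineOpen U := hU0
  show (pB ⁻¹ᵁ U).ι ≫ h ≫ pA = (pB ⁻¹ᵁ U).ι ≫ pB
  rw [← Category.assoc, hh U hU]
  simp only [Category.assoc]
  rw [← hA.chart_over U hU, Iso.inv_hom_id_assoc, ← hB.chart_over U hU,
    map_toSpecZero_assoc, ← Spec.map_comp_assoc, strZero_comp_zeroHom]

/-- A surjective graded homomorphism induces a closed immersion of relative Proj's. -/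
theorem isClosedImmersion_relProjMap {𝒜 ℬ : RelProj.QCGrAlg Y} (φ : 𝒜.toQCAlg ⟶ ℬ.toQCAlg)
    (hφ : RelProj.IsGradedHom φ)
    (hsurj : ∀ (U : Y.Opens) (hU : IsAffineOpen U), Function.Surjective (φ.hom.app (op U)).hom)
    (hirr : ∀ (U : Y.Opens) (hU : IsAffineOpen U),
      (ℬ.deg U hU)₊ ≤ ((𝒜.deg U hU)₊).map (RelProj.gradedHomAt φ hφ U hU))
    {PA PB : Scheme.{u}} (pA : PA ⟶ Y) (pB : PB ⟶ Y)
    (chartA : ∀ (U : Y.Opens) (hU : IsAffineOpen U),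
      (((pA ⁻¹ᵁ U : PA.Opens) : Scheme.{u}) ≅ Proj (𝒜.deg U hU)))
    (chartB : ∀ (U : Y.Opens) (hU : IsAffineOpen U),
      (((pB ⁻¹ᵁ U : PB.Opens) : Scheme.{u}) ≅ Proj (ℬ.deg U hU)))
    (hA : RelProj.IsRelProj 𝒜 pA chartA) (hB : RelProj.IsRelProj ℬ pB chartB)
    (h : PB ⟶ PA) (hh : RelProj.IsRelProjMap φ hφ hirr chartA chartB h) :
    IsClosedImmersion h := by
  have hcomp : h ≫ pA = pB := relProjMap_comp φ hφ hirr pA pB chartA chartB hA hB h hh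
  refine IsZariskiLocalAtTarget.of_iSup_eq_top (P := @IsClosedImmersion)
    (fun U : Y.affineOpens => pA ⁻¹ᵁ U.1) (iSup_preimage_affineOpens pA) fun U => ?_
  obtain ⟨U, hU0⟩ := U
  have hU : IsAffineOpen U := hU0
  show IsClosedImmersion (h ∣_ (pA ⁻¹ᵁ U))
  have e : h ⁻¹ᵁ (pA ⁻¹ᵁ U) = pB ⁻¹ᵁ U := by
    rw [← Scheme.Hom.comp_preimage, hcomp]
  have key : h ∣_ (pA ⁻¹ᵁ U) = (PB.isoOfEq e).hom ≫ (chartB U hU).hom ≫
      Proj.map (RelProj.gradedHomAt φ hφ U hU) (hirr U hU) ≫ (chartA U hU).inv := by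
    rw [← cancel_mono (pA ⁻¹ᵁ U).ι, morphismRestrict_ι]
    simp only [Category.assoc]
    rw [← hh U hU, Scheme.isoOfEq_hom_ι_assoc]
  rw [key]
  have : IsClosedImmersion (Proj.map (RelProj.gradedHomAt φ hφ U hU) (hirr U hU)) :=
    Groth.Agent.H18.proj_map_isClosedImmersion (RelProj.gradedHomAt φ hφ U hU)
      (fun b => hsurj U hU b) (hirr U hU)
  infer_instance

end

end Groth.Agent.H41.RelProjLib
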