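import Mathlib
import Groth.Agent.H23.Coprod
import Groth.Agent.H41.RelProjLib
import Groth.Agent.H41.RelTildeTN2
import Groth.Prelude.Def_RelProj2

/-!
# Closed immersions out of a coproduct; disjointness of induced maps of relative `Proj`s (helper41)

* `isClosedImmersion_coprod_desc`: two closed immersions with disjoint images induce a closed
  immersion out of the coproduct.
* `ne_of_relProjMap`: two morphisms of relative `Proj`s induced by graded homomorphisms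
  `φ₁ : 𝒜 ⟶ ℬ₁`, `φ₂ : 𝒜 ⟶ ℬ₂` have disjoint images as soon as `𝒜` is generated in degree one and
  `𝒜_1 = (ker φ₁)_1 + (ker φ₂)_1` over affine opens.
-/

set_option autoImplicit false
set_option linter.style.haveILetI false
universe u
open CategoryTheory CategoryTheory.Limits AlgebraicGeometry TopologicalSpace Opposite
open scoped HomogeneousIdeal

namespace Groth.Agent.H41.CoprodClosedImm

/-- Two closed immersions with disjoint images induce a closed immersion out of the coproduct. -/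
theorem isClosedImmersion_coprod_desc {X' X'' Y : Scheme.{u}} (f' : X' ⟶ Y) (f'' : X'' ⟶ Y)
    [IsClosedImmersion f'] [IsClosedImmersion f'']
    (hdisj : ∀ (x : X') (y : X''), f'.base x ≠ f''.base y) :
    IsClosedImmersion (coprod.desc f' f'') := by
  have hstalk : SurjectiveOnStalks (coprod.desc f' f'') := by
    rw [IsZariskiLocalAtSource.iff_of_openCover (P := @SurjectiveOnStalks)
      (coprodOpenCover.{_, 0} X' X'')]
    rintro (i | i)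
    · show SurjectiveOnStalks ((coprod.inl : X' ⟶ X' ⨿ X'') ≫ coprod.desc f' f'')
      rw [coprod.inl_desc]
      infer_instance
    · show SurjectiveOnStalks ((coprod.inr : X'' ⟶ X' ⨿ X'') ≫ coprod.desc f' f'')
      rw [coprod.inr_desc]
      infer_instance
  have hfun : ∀ w : X' ⊕ X'', (coprod.desc f' f'').base (coprodMk X' X'' w) =
      Sum.elim (⇑f'.base) (⇑f''.base) w := by
    rintro (x | y)
    · rw [coprodMk_inl]
      exact Groth.Agent.H23.desc_inl_apply f' f'' x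
    · rw [coprodMk_inr]
      exact Groth.Agent.H23.desc_inr_apply f' f'' y
  have hinj : Function.Injective (Sum.elim (⇑f'.base) (⇑f''.base)) := by
    rintro (x₁ | y₁) (x₂ | y₂) h
    · exact congrArg Sum.inl (f'.isClosedEmbedding.injective h)
    · exact (hdisj x₁ y₂ h).elim
    · exact (hdisj x₂ y₁ h.symm).elim
    · exact congrArg Sum.inr (f''.isClosedEmbedding.injective h)
  have hce0 : Topology.IsClosedEmbedding (Sum.elim (⇑f'.base) (⇑f''.base)) :=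
    Topology.IsClosedEmbedding.sumElim f'.isClosedEmbedding f''.isClosedEmbedding hinj
  have hce : Topology.IsClosedEmbedding (coprod.desc f' f'').base := by
    have h1 := hce0.comp (coprodMk X' X'').symm.isClosedEmbedding
    have h2 : (Sum.elim (⇑f'.base) (⇑f''.base)) ∘ ⇑(coprodMk X' X'').symm =
        ⇑(coprod.desc f' f'').base := by
      funext z
      obtain ⟨w, rfl⟩ := (coprodMk X' X'').surjective z
      rw [Function.comp_apply, Homeomorph.symm_apply_apply]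
      exact (hfun w).symm
    rw [h2] at h1
    exact h1
  exact { toSurjectiveOnStalks := hstalk, isClosedEmbedding := hce }

section RelProj

variable {Y : Scheme.{u}}

theorem opensRange_emb' {𝒮 : RelProj.QCGrAlg Y} {P : Scheme.{u}} (p : P ⟶ Y)
    (chart : ∀ (U : Y.Opens) (hU : IsAffineOpen U),
      (((p ⁻¹ᵁ U : P.Opens) : Scheme.{u}) ≅ Proj (𝒮.deg U hU)))
    (U : Y.Opens) (hU : IsAffineOpen U) :
    (RelProj.emb p chart U hU).opensRange = p ⁻¹ᵁ U := by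
  unfold RelProj.emb
  rw [Scheme.Hom.opensRange_comp_of_isIso, Scheme.Opens.opensRange_ι]

/-- Chartwise description of an induced morphism of relative `Proj`s, through the chart
immersions. -/
theorem emb_comp_relProjMap {𝒜 ℬ : RelProj.QCGrAlg Y} (φ : 𝒜.toQCAlg ⟶ ℬ.toQCAlg)
    (hφ : RelProj.IsGradedHom φ)
    (hirr : ∀ (U : Y.Opens) (hU : IsAffineOpen U),
      (ℬ.deg U hU)₊ ≤ ((𝒜.deg U hU)₊).map (RelProj.gradedHomAt φ hφ U hU))
    {PA PB : Scheme.{u}} {pA : PA ⟶ Y} {pB : PB ⟶ Y}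
    (chartA : ∀ (U : Y.Opens) (hU : IsAffineOpen U),
      (((pA ⁻¹ᵁ U : PA.Opens) : Scheme.{u}) ≅ Proj (𝒜.deg U hU)))
    (chartB : ∀ (U : Y.Opens) (hU : IsAffineOpen U),
      (((pB ⁻¹ᵁ U : PB.Opens) : Scheme.{u}) ≅ Proj (ℬ.deg U hU)))
    (h : PB ⟶ PA) (hh : RelProj.IsRelProjMap φ hφ hirr chartA chartB h)
    (U : Y.Opens) (hU : IsAffineOpen U) :
    RelProj.emb pB chartB U hU ≫ h =
      Proj.map (RelProj.gradedHomAt φ hφ U hU) (hirr U hU) ≫ RelProj.emb pA chartA U hU := by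
  unfold RelProj.emb
  rw [Category.assoc, hh U hU, Iso.inv_hom_id_assoc]

/-- Disjointness of the images of two induced morphisms of relative `Proj`s. -/
theorem ne_of_relProjMap {P P₁ P₂ : Scheme.{u}} {𝒜 ℬ₁ ℬ₂ : RelProj.QCGrAlg Y}
    (hgen : 𝒜.IsGenDegOne)
    (φ₁ : 𝒜.toQCAlg ⟶ ℬ₁.toQCAlg) (hφ₁ : RelProj.IsGradedHom φ₁)
    (φ₂ : 𝒜.toQCAlg ⟶ ℬ₂.toQCAlg) (hφ₂ : RelProj.IsGradedHom φ₂)
    (hirr₁ : ∀ (U : Y.Opens) (hU : IsAffineOpen U),
      (ℬ₁.deg U hU)₊ ≤ ((𝒜.deg U hU)₊).map (RelProj.gradedHomAt φ₁ hφ₁ U hU))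
    (hirr₂ : ∀ (U : Y.Opens) (hU : IsAffineOpen U),
      (ℬ₂.deg U hU)₊ ≤ ((𝒜.deg U hU)₊).map (RelProj.gradedHomAt φ₂ hφ₂ U hU))
    (hker : ∀ (U : Y.Opens) (hU : IsAffineOpen U) (s : 𝒜.presheaf.obj (op U)),
      s ∈ 𝒜.deg U hU 1 → ∃ s₁ s₂ : 𝒜.presheaf.obj (op U), s = s₁ + s₂ ∧
        (φ₁.hom.app (op U)).hom s₁ = 0 ∧ (φ₂.hom.app (op U)).hom s₂ = 0)
    (p : P ⟶ Y) (p₁ : P₁ ⟶ Y) (p₂ : P₂ ⟶ Y)
    (chart : ∀ (U : Y.Opens) (hU : IsAffineOpen U),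
      (((p ⁻¹ᵁ U : P.Opens) : Scheme.{u}) ≅ Proj (𝒜.deg U hU)))
    (chart₁ : ∀ (U : Y.Opens) (hU : IsAffineOpen U),
      (((p₁ ⁻¹ᵁ U : P₁.Opens) : Scheme.{u}) ≅ Proj (ℬ₁.deg U hU)))
    (chart₂ : ∀ (U : Y.Opens) (hU : IsAffineOpen U),
      (((p₂ ⁻¹ᵁ U : P₂.Opens) : Scheme.{u}) ≅ Proj (ℬ₂.deg U hU)))
    (hP : RelProj.IsRelProj 𝒜 p chart) (hP₁ : RelProj.IsRelProj ℬ₁ p₁ chart₁)
    (hP₂ : RelProj.IsRelProj ℬ₂ p₂ chart₂)
    (h₁ : P₁ ⟶ P) (hh₁ : RelProj.IsRelProjMap φ₁ hφ₁ hirr₁ chart chart₁ h₁)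
    (h₂ : P₂ ⟶ P) (hh₂ : RelProj.IsRelProjMap φ₂ hφ₂ hirr₂ chart chart₂ h₂)
    (x : P₁) (y : P₂) : h₁.base x ≠ h₂.base y := by
  intro hxy
  have hcomp₁ : h₁ ≫ p = p₁ :=
    Groth.Agent.H41.RelProjLib.relProjMap_comp φ₁ hφ₁ hirr₁ p p₁ chart chart₁ hP hP₁ h₁ hh₁
  have hcomp₂ : h₂ ≫ p = p₂ :=
    Groth.Agent.H41.RelProjLib.relProjMap_comp φ₂ hφ₂ hirr₂ p p₂ chart chart₂ hP hP₂ h₂ hh₂
  obtain ⟨U, hU, hzU, -⟩ := Opens.isBasis_iff_nbhd.mp Y.isBasis_affineOpens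
    (show p.base (h₁.base x) ∈ (⊤ : Y.Opens) from trivial)
  have hxU : x ∈ p₁ ⁻¹ᵁ U := by
    show p₁.base x ∈ U
    rw [← hcomp₁]
    exact hzU
  have hyU : y ∈ p₂ ⁻¹ᵁ U := by
    show p₂.base y ∈ U
    rw [← hcomp₂]
    show p.base (h₂.base y) ∈ U
    rw [← hxy]
    exact hzU
  obtain ⟨a₀, ha₀⟩ : ∃ a₀, (RelProj.emb p₁ chart₁ U hU).base a₀ = x := by
    have h : x ∈ (RelProj.emb p₁ chart₁ U hU).opensRange := by
      rw [opensRange_emb']
      exact hxU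
    exact h
  obtain ⟨b₀, hb₀⟩ : ∃ b₀, (RelProj.emb p₂ chart₂ U hU).base b₀ = y := by
    have h : y ∈ (RelProj.emb p₂ chart₂ U hU).opensRange := by
      rw [opensRange_emb']
      exact hyU
    exact h
  have e₁ : h₁.base x = (RelProj.emb p chart U hU).base
      ((Proj.map (RelProj.gradedHomAt φ₁ hφ₁ U hU) (hirr₁ U hU)).base a₀) := by
    rw [← ha₀]
    exact congrArg (fun k : Proj (ℬ₁.deg U hU) ⟶ P => k.base a₀)
      (emb_comp_relProjMap φ₁ hφ₁ hirr₁ chart chart₁ h₁ hh₁ U hU)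
  have e₂ : h₂.base y = (RelProj.emb p chart U hU).base
      ((Proj.map (RelProj.gradedHomAt φ₂ hφ₂ U hU) (hirr₂ U hU)).base b₀) := by
    rw [← hb₀]
    exact congrArg (fun k : Proj (ℬ₂.deg U hU) ⟶ P => k.base b₀)
      (emb_comp_relProjMap φ₂ hφ₂ hirr₂ chart chart₂ h₂ hh₂ U hU)
  have hc : (Proj.map (RelProj.gradedHomAt φ₁ hφ₁ U hU) (hirr₁ U hU)).base a₀ =
      (Proj.map (RelProj.gradedHomAt φ₂ hφ₂ U hU) (hirr₂ U hU)).base b₀ :=
    (RelProj.emb p chart U hU).isOpenEmbedding.injective (e₁.symm.trans (hxy.trans e₂))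
  have mem₁ : ∀ s₁ : 𝒜.presheaf.obj (op U), (φ₁.hom.app (op U)).hom s₁ = 0 →
      s₁ ∈ ((Proj.map (RelProj.gradedHomAt φ₁ hφ₁ U hU) (hirr₁ U hU)).base
        a₀).asHomogeneousIdeal := by
    intro s₁ hs₁
    show (RelProj.gradedHomAt φ₁ hφ₁ U hU) s₁ ∈ a₀.asHomogeneousIdeal
    have h0 : (RelProj.gradedHomAt φ₁ hφ₁ U hU) s₁ = 0 := hs₁
    rw [h0]
    exact zero_mem _
  have mem₂ : ∀ s₂ : 𝒜.presheaf.obj (op U), (φ₂.hom.app (op U)).hom s₂ = 0 →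
      s₂ ∈ ((Proj.map (RelProj.gradedHomAt φ₂ hφ₂ U hU) (hirr₂ U hU)).base
        b₀).asHomogeneousIdeal := by
    intro s₂ hs₂
    show (RelProj.gradedHomAt φ₂ hφ₂ U hU) s₂ ∈ b₀.asHomogeneousIdeal
    have h0 : (RelProj.gradedHomAt φ₂ hφ₂ U hU) s₂ = 0 := hs₂
    rw [h0]
    exact zero_mem _
  rw [← hc] at mem₂
  apply ((Proj.map (RelProj.gradedHomAt φ₁ hφ₁ U hU) (hirr₁ U hU)).base a₀).not_irrelevant_le
  have hgenU := Groth.Agent.H41.RelTildeTN2.irrelevant_eq_span_of_closure (𝒜.deg U hU)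
    (hgen U hU)
  intro b hb
  have h1 : b ∈ Ideal.span ((𝒜.deg U hU 1 : AddSubgroup _) : Set (𝒜.presheaf.obj (op U))) := by
    rw [← hgenU]
    exact hb
  refine (Ideal.span_le (I := ((Proj.map (RelProj.gradedHomAt φ₁ hφ₁ U hU) (hirr₁ U hU)).base
    a₀).asHomogeneousIdeal.toIdeal)).mpr (fun s hs => ?_) h1
  obtain ⟨s₁, s₂, rfl, hs₁, hs₂⟩ := hker U hU s hs
  exact add_mem (mem₁ s₁ hs₁) (mem₂ s₂ hs₂)

end RelProj

end Groth.Agent.H41.CoprodClosedImm
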