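import Mathlib
import Groth.Agent.H8.FreeRes
import Groth.Agent.H8.QCohQcqs
import Groth.Agent.H22.CoprodMod
import Groth.Agent.H22.QCohLimits
import Groth.Agent.H22.FTExt

/-!
# A module on a scheme covered by two disjoint opens is determined by its two restrictions (helper41)

* `isIso_unitLift j₁ j₂ hdisj hcov N` : `N ⟶ j₁_* (N|U₁) ⊞ j₂_* (N|U₂)` is an isomorphism.
* `nonempty_iso_of_restrict` : two modules whose restrictions to `U₁` and to `U₂` are isomorphic are isomorphic.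
* `nonempty_iso_of_pullback_coprod` : the same on `X ⨿ X'` for `Scheme.Modules.pullback` along `coprod.inl/inr`.
-/

set_option autoImplicit false
set_option linter.style.haveILetI false
universe u
open CategoryTheory CategoryTheory.Limits AlgebraicGeometry TopologicalSpace Opposite

noncomputable section

namespace Groth.Agent.H41.CoprodModIso

open AlgebraicGeometry.Scheme.Modules

variable {Z U₁ U₂ : Scheme.{u}} (j₁ : U₁ ⟶ Z) (j₂ : U₂ ⟶ Z) [IsOpenImmersion j₁] [IsOpenImmersion j₂]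

/-- The target `j₁_* (N|U₁) ⊞ j₂_* (N|U₂)`. -/
abbrev tgt (N : Z.Modules) : Z.Modules :=
  (pushforward j₁).obj ((restrictFunctor j₁).obj N) ⊞ (pushforward j₂).obj ((restrictFunctor j₂).obj N)

/-- The canonical map `N ⟶ j₁_* (N|U₁) ⊞ j₂_* (N|U₂)`. -/
def unitLift (N : Z.Modules) : N ⟶ tgt j₁ j₂ N :=
  biprod.lift ((restrictAdjunction j₁).unit.app N) ((restrictAdjunction j₂).unit.app N)

lemma fst_unitLift_app (N : Z.Modules) (V : Z.Opens) (s : Γ(N, V)) :
    (biprod.fst : tgt j₁ j₂ N ⟶ _).app V ((unitLift j₁ j₂ N).app V s) =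
      N.presheaf.map (homOfLE (j₁.image_preimage_le V)).op s :=
  congrArg (fun k : N ⟶ (pushforward j₁).obj ((restrictFunctor j₁).obj N) => k.app V s)
    (biprod.lift_fst ((restrictAdjunction j₁).unit.app N) ((restrictAdjunction j₂).unit.app N))

lemma snd_unitLift_app (N : Z.Modules) (V : Z.Opens) (s : Γ(N, V)) :
    (biprod.snd : tgt j₁ j₂ N ⟶ _).app V ((unitLift j₁ j₂ N).app V s) =
      N.presheaf.map (homOfLE (j₂.image_preimage_le V)).op s :=
  congrArg (fun k : N ⟶ (pushforward j₂).obj ((restrictFunctor j₂).obj N) => k.app V s)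
    (biprod.lift_snd ((restrictAdjunction j₁).unit.app N) ((restrictAdjunction j₂).unit.app N))

lemma bijective_of_le_fst (hdisj : j₁.opensRange ⊓ j₂.opensRange = ⊥) (N : Z.Modules) (V : Z.Opens)
    (hV : V ≤ j₁.opensRange) : Function.Bijective ((unitLift j₁ j₂ N).app V) := by
  have h1 : j₁ ''ᵁ (j₁ ⁻¹ᵁ V) = V := by
    rw [j₁.image_preimage_eq_opensRange_inf, inf_eq_right]; exact hV
  have h2 : j₂ ''ᵁ (j₂ ⁻¹ᵁ V) = ⊥ := by
    rw [j₂.image_preimage_eq_opensRange_inf]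
    refine eq_bot_iff.mpr ?_
    calc j₂.opensRange ⊓ V ≤ j₂.opensRange ⊓ j₁.opensRange := inf_le_inf_left _ hV
      _ = j₁.opensRange ⊓ j₂.opensRange := inf_comm _ _
      _ = ⊥ := hdisj
  constructor
  · intro s t hst
    have e := congrArg (fun z => (biprod.fst : tgt j₁ j₂ N ⟶ _).app V z) hst
    simp only [fst_unitLift_app] at e
    have e' := congrArg (fun z => N.presheaf.map (homOfLE h1.ge).op z) e
    simp only [Groth.Agent.H8.res_res, Groth.Agent.H22.SubSh.res_self'] at e'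
    exact e'
  · intro z
    let z₁ : Γ(N, j₁ ''ᵁ (j₁ ⁻¹ᵁ V)) := (biprod.fst : tgt j₁ j₂ N ⟶ _).app V z
    refine ⟨N.presheaf.map (homOfLE h1.ge).op z₁, ?_⟩
    rw [← Groth.Agent.H22.QCohLimits.biprod_total_app V z,
      ← Groth.Agent.H22.QCohLimits.biprod_total_app V
        ((unitLift j₁ j₂ N).app V (N.presheaf.map (homOfLE h1.ge).op z₁))]
    congr 2
    · rw [fst_unitLift_app, Groth.Agent.H8.res_res, Groth.Agent.H22.SubSh.res_self']
    · exact Groth.Agent.H22.AmpleCoprod.eq_of_eq_bot N h2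
        (show Γ(N, j₂ ''ᵁ (j₂ ⁻¹ᵁ V)) from (biprod.snd : tgt j₁ j₂ N ⟶ _).app V
          ((unitLift j₁ j₂ N).app V (N.presheaf.map (homOfLE h1.ge).op z₁)))
        (show Γ(N, j₂ ''ᵁ (j₂ ⁻¹ᵁ V)) from (biprod.snd : tgt j₁ j₂ N ⟶ _).app V z)

lemma bijective_of_le_snd (hdisj : j₁.opensRange ⊓ j₂.opensRange = ⊥) (N : Z.Modules) (V : Z.Opens)
    (hV : V ≤ j₂.opensRange) : Function.Bijective ((unitLift j₁ j₂ N).app V) := by
  have h1 : j₂ ''ᵁ (j₂ ⁻¹ᵁ V) = V := by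
    rw [j₂.image_preimage_eq_opensRange_inf, inf_eq_right]; exact hV
  have h2 : j₁ ''ᵁ (j₁ ⁻¹ᵁ V) = ⊥ := by
    rw [j₁.image_preimage_eq_opensRange_inf]
    refine eq_bot_iff.mpr ?_
    calc j₁.opensRange ⊓ V ≤ j₁.opensRange ⊓ j₂.opensRange := inf_le_inf_left _ hV
      _ = ⊥ := hdisj
  constructor
  · intro s t hst
    have e := congrArg (fun z => (biprod.snd : tgt j₁ j₂ N ⟶ _).app V z) hst
    simp only [snd_unitLift_app] at e
    have e' := congrArg (fun z => N.presheaf.map (homOfLE h1.ge).op z) e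
    simp only [Groth.Agent.H8.res_res, Groth.Agent.H22.SubSh.res_self'] at e'
    exact e'
  · intro z
    let z₂ : Γ(N, j₂ ''ᵁ (j₂ ⁻¹ᵁ V)) := (biprod.snd : tgt j₁ j₂ N ⟶ _).app V z
    refine ⟨N.presheaf.map (homOfLE h1.ge).op z₂, ?_⟩
    rw [← Groth.Agent.H22.QCohLimits.biprod_total_app V z,
      ← Groth.Agent.H22.QCohLimits.biprod_total_app V
        ((unitLift j₁ j₂ N).app V (N.presheaf.map (homOfLE h1.ge).op z₂))]
    congr 2
    · exact Groth.Agent.H22.AmpleCoprod.eq_of_eq_bot N h2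
        (show Γ(N, j₁ ''ᵁ (j₁ ⁻¹ᵁ V)) from (biprod.fst : tgt j₁ j₂ N ⟶ _).app V
          ((unitLift j₁ j₂ N).app V (N.presheaf.map (homOfLE h1.ge).op z₂)))
        (show Γ(N, j₁ ''ᵁ (j₁ ⁻¹ᵁ V)) from (biprod.fst : tgt j₁ j₂ N ⟶ _).app V z)
    · rw [snd_unitLift_app, Groth.Agent.H8.res_res, Groth.Agent.H22.SubSh.res_self']

theorem isIso_unitLift (hdisj : j₁.opensRange ⊓ j₂.opensRange = ⊥)
    (hcov : j₁.opensRange ⊔ j₂.opensRange = ⊤) (N : Z.Modules) : IsIso (unitLift j₁ j₂ N) := by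
  let ι := {V : Z.Opens // V ≤ j₁.opensRange ∨ V ≤ j₂.opensRange}
  refine Groth.Agent.H8.isIso_of_bijective_basis (unitLift j₁ j₂ N) (fun V : ι => V.1) ?_ ?_
  · rw [Opens.isBasis_iff_nbhd]
    intro W x hx
    have hx' : x ∈ j₁.opensRange ⊔ j₂.opensRange := by rw [hcov]; trivial
    rcases (Opens.mem_sup.mp hx') with h | h
    · exact ⟨W ⊓ j₁.opensRange, ⟨⟨W ⊓ j₁.opensRange, Or.inl inf_le_right⟩, rfl⟩, ⟨hx, h⟩, inf_le_left⟩
    · exact ⟨W ⊓ j₂.opensRange, ⟨⟨W ⊓ j₂.opensRange, Or.inr inf_le_right⟩, rfl⟩, ⟨hx, h⟩, inf_le_left⟩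
  · rintro ⟨V, hV | hV⟩
    · exact bijective_of_le_fst j₁ j₂ hdisj N V hV
    · exact bijective_of_le_snd j₁ j₂ hdisj N V hV

/-- Two modules whose restrictions to the two pieces of a disjoint open cover are isomorphic are isomorphic. -/
theorem nonempty_iso_of_restrict (hdisj : j₁.opensRange ⊓ j₂.opensRange = ⊥)
    (hcov : j₁.opensRange ⊔ j₂.opensRange = ⊤) (M N : Z.Modules)
    (ρ₁ : (restrictFunctor j₁).obj M ≅ (restrictFunctor j₁).obj N)
    (ρ₂ : (restrictFunctor j₂).obj M ≅ (restrictFunctor j₂).obj N) : Nonempty (M ≅ N) := by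
  haveI := isIso_unitLift j₁ j₂ hdisj hcov M
  haveI := isIso_unitLift j₁ j₂ hdisj hcov N
  exact ⟨asIso (unitLift j₁ j₂ M) ≪≫
    biprod.mapIso ((pushforward j₁).mapIso ρ₁) ((pushforward j₂).mapIso ρ₂) ≪≫
      (asIso (unitLift j₁ j₂ N)).symm⟩

/-- The same with inverse images. -/
theorem nonempty_iso_of_pullback (hdisj : j₁.opensRange ⊓ j₂.opensRange = ⊥)
    (hcov : j₁.opensRange ⊔ j₂.opensRange = ⊤) (M N : Z.Modules)
    (ρ₁ : (Scheme.Modules.pullback j₁).obj M ≅ (Scheme.Modules.pullback j₁).obj N)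
    (ρ₂ : (Scheme.Modules.pullback j₂).obj M ≅ (Scheme.Modules.pullback j₂).obj N) : Nonempty (M ≅ N) :=
  nonempty_iso_of_restrict j₁ j₂ hdisj hcov M N
    ((restrictFunctorIsoPullback j₁).app M ≪≫ ρ₁ ≪≫ ((restrictFunctorIsoPullback j₁).app N).symm)
    ((restrictFunctorIsoPullback j₂).app M ≪≫ ρ₂ ≪≫ ((restrictFunctorIsoPullback j₂).app N).symm)

/-- On a coproduct of schemes: a module is determined by its inverse images on the two summands. -/
theorem nonempty_iso_of_pullback_coprod {X X' : Scheme.{u}} (M N : (X ⨿ X').Modules)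
    (ρ₁ : (Scheme.Modules.pullback (coprod.inl : X ⟶ X ⨿ X')).obj M ≅
      (Scheme.Modules.pullback (coprod.inl : X ⟶ X ⨿ X')).obj N)
    (ρ₂ : (Scheme.Modules.pullback (coprod.inr : X' ⟶ X ⨿ X')).obj M ≅
      (Scheme.Modules.pullback (coprod.inr : X' ⟶ X ⨿ X')).obj N) : Nonempty (M ≅ N) := by
  refine nonempty_iso_of_pullback (coprod.inl : X ⟶ X ⨿ X') (coprod.inr : X' ⟶ X ⨿ X') ?_ ?_ M N ρ₁ ρ₂
  · refine eq_bot_iff.mpr ?_
    rintro z ⟨⟨x, hx⟩, ⟨y, hy⟩⟩
    exact (inl_ne_inr X X' x y (hx.trans hy.symm)).elim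
  · refine eq_top_iff.mpr ?_
    intro z _
    have hc := (isCompl_range_inl_inr X X').sup_eq_top
    have hz : z ∈ (Set.range (coprod.inl : X ⟶ X ⨿ X') ∪ Set.range (coprod.inr : X' ⟶ X ⨿ X')) := by
      have : (Set.range (coprod.inl : X ⟶ X ⨿ X') ⊔ Set.range (coprod.inr : X' ⟶ X ⨿ X')) = ⊤ := hc
      rw [show (Set.range (coprod.inl : X ⟶ X ⨿ X') ∪ Set.range (coprod.inr : X' ⟶ X ⨿ X')) =
        (Set.range (coprod.inl : X ⟶ X ⨿ X') ⊔ Set.range (coprod.inr : X' ⟶ X ⨿ X')) from rfl, this]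
      trivial
    rcases hz with h | h
    · exact Opens.mem_sup.mpr (Or.inl h)
    · exact Opens.mem_sup.mpr (Or.inr h)

end Groth.Agent.H41.CoprodModIso
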