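import Mathlib
import Groth.Agent.H22.CounitEpi
import Groth.Agent.H22.RelTwistGG
import Groth.Agent.H18.GlobGen
import Groth.Agent.H18.RestrictTensor
import Groth.Agent.H8.QCohQcqs
import Groth.Agent.H8.QCohPush

/-!
# Epimorphic counit `f^* f_* F ⟶ F` and global generation over affine opens of the base (helper41)

For `f : X ⟶ S` quasi-compact quasi-separated and `F` quasi-coherent with `f^* f_* F ⟶ F` an
epimorphism, the restriction of `F` to `f⁻¹(U)` is globally generated for every affine open `U ⊆ S`.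
-/

set_option autoImplicit false
set_option linter.style.haveILetI false
universe u
open CategoryTheory CategoryTheory.Limits AlgebraicGeometry TopologicalSpace Opposite

namespace Groth.Agent.H41.CounitGG

open Groth.Agent.H8 (res_res res_smul ringRes_res section_eq_of_cover)
open Groth.Agent.H18.RestrictTensor Groth.Agent.H18.GlobGen
open AlgebraicGeometry.Scheme.Modules

variable {X S : Scheme.{u}} (f : X ⟶ S)

/-- The span of the restrictions to `B` of the sections over `W`. -/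
noncomputable def WSpan (F : X.Modules) (W B : X.Opens) (h : B ≤ W) : Submodule Γ(X, B) Γ(F, B) :=
  Submodule.span Γ(X, B) (Set.range fun g : Γ(F, W) => F.presheaf.map (homOfLE h).op g)

lemma wspan_res (F : X.Modules) {W B B' : X.Opens} (h : B ≤ W) (h' : B' ≤ B) {z : Γ(F, B)}
    (hz : z ∈ WSpan F W B h) :
    F.presheaf.map (homOfLE h').op z ∈ WSpan F W B' (h'.trans h) := by
  refine Submodule.span_induction
    (p := fun z _ => F.presheaf.map (homOfLE h').op z ∈ WSpan F W B' (h'.trans h)) ?_ ?_ ?_ ?_ hz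
  · rintro _ ⟨g, rfl⟩
    show F.presheaf.map (homOfLE h').op (F.presheaf.map (homOfLE h).op g) ∈
      WSpan F W B' (h'.trans h)
    rw [res_res]
    exact Submodule.subset_span ⟨g, rfl⟩
  · rw [map_zero]
    exact zero_mem _
  · intro a b _ _ ha hb
    rw [map_add]
    exact add_mem ha hb
  · intro r a _ ha
    rw [res_smul]
    exact Submodule.smul_mem _ _ ha

/-- If the counit at `F` is an epimorphism, every section of `F` over an open of `f⁻¹(U)`, `U`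
affine, is locally a combination of restrictions of sections over `f⁻¹(U)`. -/
theorem exists_mem_wspan [QuasiCompact f] [QuasiSeparated f] (F : X.Modules) [F.IsQuasicoherent]
    (hepi : Epi ((pullbackPushforwardAdjunction f).counit.app F))
    (U : S.Opens) (hU : IsAffineOpen U) (A : X.Opens) (hA : A ≤ f ⁻¹ᵁ U) (m : Γ(F, A))
    (p : X) (hp : p ∈ A) :
    ∃ (B : X.Opens) (hB : B ≤ A), p ∈ B ∧
      F.presheaf.map (homOfLE hB).op m ∈ WSpan F (f ⁻¹ᵁ U) B (hB.trans hA) := by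
  obtain ⟨B₀, hB₀, hpB₀, hm⟩ := Groth.Agent.H22.CounitEpi.mem_relSub_of_epi f F hepi A m p hp
  have key : ∀ z : Γ(F, B₀), z ∈ Groth.Agent.H22.CounitEpi.RelSpan f F B₀ →
      ∃ (B : X.Opens) (hB : B ≤ B₀), p ∈ B ∧
        F.presheaf.map (homOfLE hB).op z ∈ WSpan F (f ⁻¹ᵁ U) B (hB.trans (hB₀.trans hA)) := by
    intro z hz
    refine Submodule.span_induction
      (p := fun z _ => ∃ (B : X.Opens) (hB : B ≤ B₀), p ∈ B ∧
        F.presheaf.map (homOfLE hB).op z ∈ WSpan F (f ⁻¹ᵁ U) B (hB.trans (hB₀.trans hA)))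
      ?_ ?_ ?_ ?_ hz
    · rintro _ ⟨V, h, s, rfl⟩
      have hpV : p ∈ f ⁻¹ᵁ V := h hpB₀
      have hpU : p ∈ f ⁻¹ᵁ U := hA hp
      obtain ⟨r, hrle, hpr⟩ := hU.exists_basicOpen_le (V := V) ⟨f p, hpV⟩ hpU
      have hD : X.basicOpen (f.app U r) = f ⁻¹ᵁ (S.basicOpen r) :=
        (Scheme.preimage_basicOpen f r).symm
      have hDV : X.basicOpen (f.app U r) ≤ f ⁻¹ᵁ V := hD ▸ f.preimage_mono hrle
      have hpD : p ∈ X.basicOpen (f.app U r) := hD ▸ hpr
      obtain ⟨k, s', hs'⟩ := Groth.Agent.H8.exists_smul_eq_res_of_qcqs F (W := f ⁻¹ᵁ U)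
        (QuasiCompact.isCompact_preimage (f := f) _ U.2 hU.isCompact)
        (f.isQuasiSeparated_preimage hU.isQuasiSeparated) (f.app U r)
        (F.presheaf.map (homOfLE hDV).op s)
      have hBD : B₀ ⊓ X.basicOpen (f.app U r) ≤ X.basicOpen (f.app U r) := inf_le_right
      have hBV : B₀ ⊓ X.basicOpen (f.app U r) ≤ f ⁻¹ᵁ V := inf_le_left.trans h
      have hBW : B₀ ⊓ X.basicOpen (f.app U r) ≤ f ⁻¹ᵁ U := inf_le_left.trans (hB₀.trans hA)
      have hu : IsUnit (X.presheaf.map (homOfLE (X.basicOpen_le (f.app U r))).op (f.app U r)) :=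
        RingedSpace.isUnit_res_basicOpen X.toRingedSpace (f.app U r)
      have hu' : IsUnit (X.presheaf.map (homOfLE hBD).op
          (X.presheaf.map (homOfLE (X.basicOpen_le (f.app U r))).op (f.app U r))) :=
        hu.map (X.presheaf.map (homOfLE hBD).op).hom
      obtain ⟨v, hv⟩ := hu'.exists_left_inv
      have e1 := congrArg (F.presheaf.map (homOfLE hBD).op) hs'
      rw [res_res, res_smul, res_res, map_pow] at e1
      have e2 : F.presheaf.map (homOfLE hBV).op s =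
          v ^ k • F.presheaf.map (homOfLE hBW).op s' := by
        rw [e1, ← mul_smul, ← mul_pow, hv, one_pow, one_smul]
      have e3 : F.presheaf.map (homOfLE hBV).op s ∈
          WSpan F (f ⁻¹ᵁ U) (B₀ ⊓ X.basicOpen (f.app U r)) hBW := by
        rw [e2]
        exact Submodule.smul_mem _ _ (Submodule.subset_span ⟨s', rfl⟩)
      refine ⟨B₀ ⊓ X.basicOpen (f.app U r), inf_le_left, ⟨hpB₀, hpD⟩, ?_⟩
      rw [res_res]
      exact e3
    · exact ⟨B₀, le_rfl, hpB₀, by rw [map_zero]; exact zero_mem _⟩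
    · rintro a b _ _ ⟨B₁, h₁, hp₁, hm₁⟩ ⟨B₂, h₂, hp₂, hm₂⟩
      refine ⟨B₁ ⊓ B₂, inf_le_left.trans h₁, ⟨hp₁, hp₂⟩, ?_⟩
      rw [map_add]
      have e1 := wspan_res F _ (inf_le_left : B₁ ⊓ B₂ ≤ B₁) hm₁
      have e2 := wspan_res F _ (inf_le_right : B₁ ⊓ B₂ ≤ B₂) hm₂
      rw [res_res] at e1 e2
      exact add_mem e1 e2
    · rintro c a _ ⟨B, hB, hpB, hmB⟩
      refine ⟨B, hB, hpB, ?_⟩
      rw [res_smul]
      exact Submodule.smul_mem _ _ hmB
  obtain ⟨B, hB, hpB, hmB⟩ := key _ hm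
  refine ⟨B, hB.trans hB₀, hpB, ?_⟩
  rw [res_res] at hmB
  exact hmB

/-- If the counit at `F` is an epimorphism, `F|_{f⁻¹(U)}` is generated by its global sections at
every point, for `U` affine. -/
theorem ggAt_restrict_of_epi [QuasiCompact f] [QuasiSeparated f] (F : X.Modules)
    [F.IsQuasicoherent] (hepi : Epi ((pullbackPushforwardAdjunction f).counit.app F))
    (U : S.Opens) (hU : IsAffineOpen U) (x : ((f ⁻¹ᵁ U : X.Opens) : Scheme.{u})) :
    GGAt (F.restrict (f ⁻¹ᵁ U).ι) x := by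
  intro A t hxA
  have hA' : (f ⁻¹ᵁ U).ι ''ᵁ A ≤ f ⁻¹ᵁ U := by
    have h1 := (f ⁻¹ᵁ U).ι.image_le_opensRange A
    rwa [Scheme.Opens.opensRange_ι] at h1
  have hp : (f ⁻¹ᵁ U).ι x ∈ (f ⁻¹ᵁ U).ι ''ᵁ A := Set.mem_image_of_mem _ hxA
  obtain ⟨B, hBA, hpB, hmem⟩ := exists_mem_wspan f F hepi U hU _ hA'
    (ofRes (f ⁻¹ᵁ U).ι F t) _ hp
  have hWeq : (f ⁻¹ᵁ U).ι ''ᵁ ((f ⁻¹ᵁ U).ι ⁻¹ᵁ B) = B := by
    rw [(f ⁻¹ᵁ U).ι.image_preimage_eq_opensRange_inf]
    exact inf_eq_right.mpr (hBA.trans ((f ⁻¹ᵁ U).ι.image_le_opensRange A))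
  have hle : (f ⁻¹ᵁ U).ι ⁻¹ᵁ B ≤ A := fun z hz => by
    have h1 : z ∈ (f ⁻¹ᵁ U).ι ⁻¹ᵁ ((f ⁻¹ᵁ U).ι ''ᵁ A) := hBA hz
    rwa [(f ⁻¹ᵁ U).ι.preimage_image_eq] at h1
  obtain ⟨V', hV'A, hxV', rfl⟩ : ∃ V' : ((f ⁻¹ᵁ U : X.Opens) : Scheme.{u}).Opens,
      V' ≤ A ∧ x ∈ V' ∧ (f ⁻¹ᵁ U).ι ''ᵁ V' = B := ⟨_, hle, hpB, hWeq⟩
  refine ⟨V', hV'A, hxV', ?_⟩
  have htop : (f ⁻¹ᵁ U).ι ''ᵁ (⊤ : ((f ⁻¹ᵁ U : X.Opens) : Scheme.{u}).Opens) ≤ f ⁻¹ᵁ U := by
    have h1 := (f ⁻¹ᵁ U).ι.image_le_opensRange ⊤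
    rwa [Scheme.Opens.opensRange_ι] at h1
  have key : ∀ z : Γ(F, (f ⁻¹ᵁ U).ι ''ᵁ V'),
      z ∈ WSpan F (f ⁻¹ᵁ U) ((f ⁻¹ᵁ U).ι ''ᵁ V') (hBA.trans hA') →
      toRes (f ⁻¹ᵁ U).ι F z ∈ Submodule.span Γ(((f ⁻¹ᵁ U : X.Opens) : Scheme.{u}), V')
        (Set.range fun g : Γ(F.restrict (f ⁻¹ᵁ U).ι, ⊤) =>
          (F.restrict (f ⁻¹ᵁ U).ι).presheaf.map (homOfLE (le_top : V' ≤ ⊤)).op g) := by
    intro z hz
    refine Submodule.span_induction
      (p := fun z _ => toRes (f ⁻¹ᵁ U).ι F z ∈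
        Submodule.span Γ(((f ⁻¹ᵁ U : X.Opens) : Scheme.{u}), V')
        (Set.range fun g : Γ(F.restrict (f ⁻¹ᵁ U).ι, ⊤) =>
          (F.restrict (f ⁻¹ᵁ U).ι).presheaf.map (homOfLE (le_top : V' ≤ ⊤)).op g))
      ?_ ?_ ?_ ?_ hz
    · rintro _ ⟨g, rfl⟩
      refine Submodule.subset_span
        ⟨toRes (f ⁻¹ᵁ U).ι F (F.presheaf.map (homOfLE htop).op g), ?_⟩
      show F.presheaf.map (homOfLE ((f ⁻¹ᵁ U).ι.image_mono (le_top : V' ≤ ⊤))).op
        (F.presheaf.map (homOfLE htop).op g) = F.presheaf.map (homOfLE (hBA.trans hA')).op g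
      rw [res_res]
    · exact zero_mem _
    · intro a b _ _ ha hb
      exact add_mem ha hb
    · intro r a _ ha
      have h1 : toRes (f ⁻¹ᵁ U).ι F (r • a) =
          (((f ⁻¹ᵁ U).ι.appIso V').hom r) • toRes (f ⁻¹ᵁ U).ι F a := by
        rw [smul_toRes, Iso.hom_inv_id_apply]
      rw [h1]
      exact Submodule.smul_mem _ _ ha
  exact key _ hmem

/-- If the counit at `F` is an epimorphism, `F|_{f⁻¹(U)}` is globally generated for `U` affine. -/
theorem isGloballyGenerated_restrict_of_epi [QuasiCompact f] [QuasiSeparated f] (F : X.Modules)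
    [F.IsQuasicoherent] (hepi : Epi ((pullbackPushforwardAdjunction f).counit.app F))
    (U : S.Opens) (hU : IsAffineOpen U) :
    Curv2.IsGloballyGenerated (F.restrict (f ⁻¹ᵁ U).ι) :=
  isGloballyGenerated_of_ggAt _ (fun x => ggAt_restrict_of_epi f F hepi U hU x)

end Groth.Agent.H41.CounitGG
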