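import Groth.Agent.H22.QCAlgGen
import Groth.Prelude.Def_RelProj2

/-!
# The degree-`d` part of a quasi-coherent graded algebra as a quasi-coherent module (helper41)

* `degSub 𝒮 d`: the sectionwise subsheaf of `𝒮.toModule` of sections of degree `d` (over every
  affine open inside).
* `degSub_QC`: it is quasi-coherent.
* `exists_degMod`: a quasi-coherent module `E` with `u : E ⟶ 𝒮` identifying `E(U)` with `𝒮(U)_d`
  over every affine open `U`.
-/

set_option autoImplicit false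
set_option linter.style.haveILetI false
set_option linter.unusedSectionVars false
universe u
open CategoryTheory CategoryTheory.Limits AlgebraicGeometry TopologicalSpace Opposite
open scoped DirectSum

noncomputable section

namespace Groth.Agent.H41.DegOneMod

open Groth.Agent.H8 Groth.Agent.H22

variable {Y : Scheme.{u}} (𝒮 : RelProj.QCGrAlg Y)

lemma toB_add' (A : Y.Opens) (a b : Γ(𝒮.toModule, A)) :
    toB 𝒮.toQCAlg A (a + b) = toB 𝒮.toQCAlg A a + toB 𝒮.toQCAlg A b := rfl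

lemma toB_res' {A U : Y.Opens} (hA : IsAffineOpen A) (hU : IsAffineOpen U) (h : U ≤ A)
    (m : Γ(𝒮.toModule, A)) :
    toB 𝒮.toQCAlg U (𝒮.toModule.presheaf.map (homOfLE h).op m) =
      𝒮.res hA hU h (toB 𝒮.toQCAlg A m) := rfl

/-- The sections of degree `d`. -/
def degSub (d : ℕ) : SubSh 𝒮.toModule where
  mem A x := ∀ (U : Y.Opens) (hU : IsAffineOpen U) (hUA : U ≤ A),
    toB 𝒮.toQCAlg U (𝒮.toModule.presheaf.map (homOfLE hUA).op x) ∈ 𝒮.deg U hU d
  zero_mem A U hU hUA := by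
    rw [map_zero, toB_zero]
    exact zero_mem _
  add_mem A x y hx hy U hU hUA := by
    rw [map_add, toB_add']
    exact add_mem (hx U hU hUA) (hy U hU hUA)
  smul_mem A r x hx U hU hUA := by
    rw [res_smul, toB_smul]
    have h1 := SetLike.mul_mem_graded
      (𝒮.str_mem U hU (Y.presheaf.map (homOfLE hUA).op r)) (hx U hU hUA)
    rwa [zero_add] at h1
  res_mem {A B} h x hx U hU hUB := by
    rw [res_res]
    exact hx U hU (hUB.trans h)
  local_mem A x h U hU hUA := by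
    classical
    obtain ⟨z, hz⟩ : ∃ z, z = toB 𝒮.toQCAlg U (𝒮.toModule.presheaf.map (homOfLE hUA).op x) :=
      ⟨_, rfl⟩
    rw [← hz]
    have hk : ∀ k, k ≠ d →
        (DirectSum.decompose (𝒮.deg U hU) z k : 𝒮.presheaf.obj (op U)) = 0 := by
      intro k hkd
      have h0 : ofB 𝒮.toQCAlg U
          (DirectSum.decompose (𝒮.deg U hU) z k : 𝒮.presheaf.obj (op U)) = 0 := by
        refine section_eq_of_cover 𝒮.toModule _ 0 (fun p hp => ?_)
        obtain ⟨B, hBA, hpB, hmem⟩ := h p (hUA hp)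
        obtain ⟨r, hrB, hpr⟩ := hU.exists_basicOpen_le (V := B) ⟨p, hpB⟩ hp
        refine ⟨Y.basicOpen r, Y.basicOpen_le r, hpr, ?_⟩
        rw [map_zero]
        apply toB_injective 𝒮.toQCAlg
        rw [toB_res' 𝒮 hU (hU.basicOpen r), toB_ofB, toB_zero,
          GradedRingHom.map_directSumDecompose]
        refine DirectSum.decompose_of_mem_ne (𝒮.deg _ (hU.basicOpen r)) ?_ (Ne.symm hkd)
        have h1 := hmem (Y.basicOpen r) (hU.basicOpen r) hrB
        rw [res_res] at h1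
        rw [hz, ← toB_res' 𝒮 hU (hU.basicOpen r), res_res]
        exact h1
      exact h0
    rw [← DirectSum.sum_support_decompose (𝒮.deg U hU) z]
    refine sum_mem (fun k _ => ?_)
    by_cases hkd : k = d
    · subst hkd
      exact (DirectSum.decompose (𝒮.deg U hU) z k).2
    · rw [hk k hkd]
      exact zero_mem _

theorem degSub_QC (d : ℕ) : (degSub 𝒮 d).QC := by
  classical
  intro A hA a y hy
  haveI := toModule_isQuasicoherent 𝒮.toQCAlg
  obtain ⟨n, x0, hx0⟩ := exists_smul_eq_res hA 𝒮.toModule a y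
  have hDa : IsAffineOpen (Y.basicOpen a) := hA.basicOpen a
  have hle : Y.basicOpen a ≤ A := Y.basicOpen_le a
  have h1 : (degSub 𝒮 d).mem (Y.basicOpen a)
      (𝒮.toModule.presheaf.map (homOfLE hle).op x0) := by
    rw [← hx0]
    exact (degSub 𝒮 d).smul_mem _ _ _ hy
  have h2 : 𝒮.res hA hDa hle (toB 𝒮.toQCAlg A x0) ∈ 𝒮.deg (Y.basicOpen a) hDa d := by
    have h3 := h1 (Y.basicOpen a) hDa le_rfl
    rw [res_res] at h3
    exact h3
  refine ⟨n, ofB 𝒮.toQCAlg A
    (DirectSum.decompose (𝒮.deg A hA) (toB 𝒮.toQCAlg A x0) d : 𝒮.presheaf.obj (op A)), ?_, ?_⟩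
  · intro U hU hUA
    rw [toB_res' 𝒮 hA hU, toB_ofB]
    exact (𝒮.res hA hU hUA).map_mem
      (DirectSum.decompose (𝒮.deg A hA) (toB 𝒮.toQCAlg A x0) d).2
  · rw [hx0]
    apply toB_injective 𝒮.toQCAlg
    rw [toB_res' 𝒮 hA hDa, toB_res' 𝒮 hA hDa, toB_ofB, GradedRingHom.map_directSumDecompose,
      DirectSum.decompose_of_mem_same _ h2]

/-- The degree-`d` part of `𝒮` as a quasi-coherent module with its inclusion. -/
theorem exists_degMod (d : ℕ) :
    ∃ (E : Y.Modules) (_ : Coh.IsQCoh E) (u : E ⟶ 𝒮.toModule),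
      (∀ (U : Y.Opens) (hU : IsAffineOpen U) (x : Γ(E, U)), (u.app U) x ∈ 𝒮.deg U hU d) ∧
      (∀ (U : Y.Opens) (hU : IsAffineOpen U) (s : 𝒮.presheaf.obj (op U)), s ∈ 𝒮.deg U hU d →
        ∃ x : Γ(E, U), (u.app U) x = s) := by
  haveI := toModule_isQuasicoherent 𝒮.toQCAlg
  refine ⟨(degSub 𝒮 d).toModules, (degSub 𝒮 d).isQuasicoherent_toModules (degSub_QC 𝒮 d),
    (degSub 𝒮 d).ι, fun U hU x => ?_, fun U hU s hs => ?_⟩
  · have h1 := (degSub 𝒮 d).ι_app_mem U x U hU le_rfl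
    rw [SubSh.res_self'] at h1
    exact h1
  · have hmem : (degSub 𝒮 d).mem U (ofB 𝒮.toQCAlg U s) := by
      intro V hV hVU
      rw [toB_res' 𝒮 hU hV, toB_ofB]
      exact (𝒮.res hU hV hVU).map_mem hs
    obtain ⟨y, hy⟩ := (degSub 𝒮 d).exists_ι_app_eq hmem
    exact ⟨y, hy⟩

end Groth.Agent.H41.DegOneMod
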