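import Groth.Agent.H41.DegOneMod

/-!
# The degree-`d` part of a quasi-coherent graded algebra: injectivity and finiteness (helper41)

* `exists_degMod_inj`: as `DegOneMod.exists_degMod`, with injectivity on sections and finiteness of
  the modules of sections over affine opens when `𝒮.IsFTDeg d`.
-/

set_option autoImplicit false
set_option linter.style.haveILetI false
set_option linter.unusedSectionVars false
universe u
open CategoryTheory CategoryTheory.Limits AlgebraicGeometry TopologicalSpace Opposite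

noncomputable section

namespace Groth.Agent.H41.DegOneMod

open Groth.Agent.H8 Groth.Agent.H22

variable {Y : Scheme.{u}} (𝒮 : RelProj.QCGrAlg Y)

/-- `toB` as an additive map. -/
def toBHom (A : Y.Opens) : Γ(𝒮.toModule, A) →+ 𝒮.presheaf.obj (op A) where
  toFun := toB 𝒮.toQCAlg A
  map_zero' := rfl
  map_add' _ _ := rfl

theorem exists_degMod_inj (d : ℕ) :
    ∃ (E : Y.Modules) (_ : Coh.IsQCoh E) (u : E ⟶ 𝒮.toModule),
      (∀ (U : Y.Opens) (hU : IsAffineOpen U) (x : Γ(E, U)), (u.app U) x ∈ 𝒮.deg U hU d) ∧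
      (∀ (U : Y.Opens) (hU : IsAffineOpen U) (s : 𝒮.presheaf.obj (op U)), s ∈ 𝒮.deg U hU d →
        ∃ x : Γ(E, U), (u.app U) x = s) ∧
      (∀ U : Y.Opens, Function.Injective (u.app U)) ∧
      (𝒮.IsFTDeg d → ∀ (U : Y.Opens), IsAffineOpen U → Module.Finite Γ(Y, U) Γ(E, U)) := by
  classical
  haveI := toModule_isQuasicoherent 𝒮.toQCAlg
  have hu1 : ∀ (U : Y.Opens) (hU : IsAffineOpen U) (x : Γ((degSub 𝒮 d).toModules, U)),
      toB 𝒮.toQCAlg U (((degSub 𝒮 d).ι.app U) x) ∈ 𝒮.deg U hU d := by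
    intro U hU x
    have h1 := (degSub 𝒮 d).ι_app_mem U x U hU le_rfl
    rw [SubSh.res_self'] at h1
    exact h1
  have husurj : ∀ (U : Y.Opens) (hU : IsAffineOpen U) (s : 𝒮.presheaf.obj (op U)),
      s ∈ 𝒮.deg U hU d → ∃ x : Γ((degSub 𝒮 d).toModules, U),
        ((degSub 𝒮 d).ι.app U) x = ofB 𝒮.toQCAlg U s := by
    intro U hU s hs
    have hmem : (degSub 𝒮 d).mem U (ofB 𝒮.toQCAlg U s) := by
      intro V hV hVU
      rw [toB_res' 𝒮 hU hV, toB_ofB]
      exact (𝒮.res hU hV hVU).map_mem hs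
    exact (degSub 𝒮 d).exists_ι_app_eq hmem
  refine ⟨(degSub 𝒮 d).toModules, (degSub 𝒮 d).isQuasicoherent_toModules (degSub_QC 𝒮 d),
    (degSub 𝒮 d).ι, hu1, husurj, fun U => (degSub 𝒮 d).ι_app_injective U, ?_⟩
  intro hft U hU
  obtain ⟨T, hTsub, hTgen⟩ := hft U hU
  choose! e he using husurj U hU
  refine ⟨⟨T.image e, ?_⟩⟩
  rw [eq_top_iff]
  intro x _
  obtain ⟨c, hc⟩ := hTgen (toB 𝒮.toQCAlg U (((degSub 𝒮 d).ι.app U) x)) (hu1 U hU x)
  have hx : x = ∑ t ∈ T, c t • e t := by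
    apply (degSub 𝒮 d).ι_app_injective U
    apply toB_injective 𝒮.toQCAlg
    rw [hc, map_sum]
    show _ = toBHom 𝒮 U (∑ t ∈ T, ((degSub 𝒮 d).ι.app U) (c t • e t))
    rw [map_sum]
    refine Finset.sum_congr rfl fun t ht => ?_
    show _ = toB 𝒮.toQCAlg U (((degSub 𝒮 d).ι.app U) (c t • e t))
    rw [Scheme.Modules.Hom.app_smul, toB_smul, he t (hTsub ht), toB_ofB]
  rw [hx]
  refine Submodule.sum_mem _ fun t ht => ?_
  exact Submodule.smul_mem _ _ (Submodule.subset_span (Finset.mem_coe.mpr (Finset.mem_image_of_mem e ht)))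

end Groth.Agent.H41.DegOneMod
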