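import Mathlib
import Groth.Agent.H31.MVShriek
import Groth.Agent.H6.RpushQC
import Groth.Agent.H31.GammaZTri

set_option autoImplicit false
set_option backward.isDefEq.respectTransparency false
set_option linter.style.haveILetI false
universe u
open CategoryTheory CategoryTheory.Limits AlgebraicGeometry
attribute [local instance] HasDerivedCategory.standard
open Groth.Agent.H31.MVS

namespace Groth.Agent.H41.EV_A1

open Groth.Agent.H31.Stalk Groth.Agent.H31.MV Groth.Agent.H31

variable {X : Scheme.{u}}

open Groth.Agent.H40.StalkTensor in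
instance stkX_additive (x : X) : Functor.Additive (C := X.Modules)
    (D := ModuleCat.{u} (Rx (shX X).obj x)) (stk (shX X) x) := stk_additive (shX X) x

/-- Short exactness of a short complex of modules can be checked on stalks. -/
theorem shortExact_of_stk (T : ShortComplex X.Modules)
    (h : ∀ x : X, (T.map (stk (shX X) x)).ShortExact) : T.ShortExact := by
  have hex : T.Exact := exact_of_stk (O := shX X) T (fun x => (h x).exact)
  have hmono : Mono T.f := by
    let S₁ : ShortComplex X.Modules := ShortComplex.mk (0 : T.X₁ ⟶ T.X₁) T.f zero_comp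
    have h1 : S₁.Exact := by
      refine exact_of_stk (O := shX X) S₁ (fun x => ?_)
      exact ((S₁.map (stk (shX X) x)).exact_iff_mono (by simp [S₁])).2 (h x).mono_f
    exact (S₁.exact_iff_mono rfl).1 h1
  have hepi : Epi T.g := by
    let S₃ : ShortComplex X.Modules := ShortComplex.mk T.g (0 : T.X₃ ⟶ T.X₃) comp_zero
    have h1 : S₃.Exact := by
      refine exact_of_stk (O := shX X) S₃ (fun x => ?_)
      exact ((S₃.map (stk (shX X) x)).exact_iff_epi (by simp [S₃])).2 (h x).epi_g
    exact (S₃.exact_iff_epi rfl).1 h1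
  exact ShortComplex.ShortExact.mk' hex hmono hepi

/-- Bridge between the two stalk functors. -/
theorem isIso_stk_of_isIso_sk {M N : X.Modules} (φ : M ⟶ N) (x : X)
    (h : IsIso ((sk x).map φ)) : IsIso ((stk (shX X) x).map φ) := by
  have hb : Function.Bijective ((sk x).map φ).hom :=
    (ConcreteCategory.isIso_iff_bijective _).mp h
  exact (ConcreteCategory.isIso_iff_bijective _).mpr hb

theorem lam_trans (U' U W : X.Opens) (h : W ≤ U) (h' : U ≤ U') (F : X.Modules) :
    (lam U W h).app F ≫ (lam U' U h').app F = (lam U' W (h.trans h')).app F := by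
  haveI := Groth.Agent.H31.GammaZTri.mono_ε U' F
  rw [← cancel_mono ((ε U').app F), Category.assoc, lam_ε, lam_ε, lam_ε]

theorem exists_MV_shortExact {X : Scheme.{u}} (U V : X.Opens) (F : X.Modules) :
    ∃ (f : (S (U ⊓ V)).obj F ⟶ (S U).obj F ⊞ (S V).obj F)
      (g : (S U).obj F ⊞ (S V).obj F ⟶ (S (U ⊔ V)).obj F) (w : f ≫ g = 0),
      (ShortComplex.mk f g w).ShortExact := by
  let f : (S (U ⊓ V)).obj F ⟶ (S U).obj F ⊞ (S V).obj F :=
    biprod.lift ((lam U (U ⊓ V) inf_le_left).app F) (-(lam V (U ⊓ V) inf_le_right).app F)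
  let g : (S U).obj F ⊞ (S V).obj F ⟶ (S (U ⊔ V)).obj F :=
    biprod.desc ((lam (U ⊔ V) U le_sup_left).app F) ((lam (U ⊔ V) V le_sup_right).app F)
  have w : f ≫ g = 0 := by
    show biprod.lift _ _ ≫ biprod.desc _ _ = 0
    rw [biprod.lift_desc, Preadditive.neg_comp, lam_trans, lam_trans, add_neg_cancel]
  refine ⟨f, g, w, ?_⟩
  refine shortExact_of_stk _ (fun x => ?_)
  let R := stk (shX X) x
  by_cases hx : x ∈ U
  · refine shortExact_of_biproduct_isos ((ShortComplex.mk f g w).map R) (R.map biprod.inr)
      (R.map biprod.inl) (R.map biprod.snd) (R.map biprod.fst) ?_ ?_ ?_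
    · rw [← R.map_comp, ← R.map_comp, ← R.map_add, add_comm, biprod.total]
      exact R.map_id _
    · have h1 : ((ShortComplex.mk f g w).map R).f ≫ R.map biprod.snd =
          -R.map ((lam V (U ⊓ V) inf_le_right).app F) := by
        show R.map _ ≫ R.map _ = _
        rw [← R.map_comp, ← R.map_neg]
        exact congrArg R.map (biprod.lift_snd _ _)
      rw [h1]
      haveI : IsIso (R.map ((lam V (U ⊓ V) inf_le_right).app F)) := by
        refine isIso_stk_of_isIso_sk _ x (isIso_sk_lam V (U ⊓ V) inf_le_right F x ?_)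
        by_cases hV : x ∈ V
        · exact Or.inl ⟨hx, hV⟩
        · exact Or.inr hV
      exact isIso_neg' _
    · have h1 : R.map biprod.inl ≫ ((ShortComplex.mk f g w).map R).g =
          R.map ((lam (U ⊔ V) U le_sup_left).app F) := by
        show R.map _ ≫ R.map _ = _
        rw [← R.map_comp]
        exact congrArg R.map (biprod.inl_desc _ _)
      rw [h1]
      exact isIso_stk_of_isIso_sk _ x (isIso_sk_lam (U ⊔ V) U le_sup_left F x (Or.inl hx))
  · refine shortExact_of_biproduct_isos ((ShortComplex.mk f g w).map R) (R.map biprod.inl)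
      (R.map biprod.inr) (R.map biprod.fst) (R.map biprod.snd) ?_ ?_ ?_
    · rw [← R.map_comp, ← R.map_comp, ← R.map_add, biprod.total]
      exact R.map_id _
    · have h1 : ((ShortComplex.mk f g w).map R).f ≫ R.map biprod.fst =
          R.map ((lam U (U ⊓ V) inf_le_left).app F) := by
        show R.map _ ≫ R.map _ = _
        rw [← R.map_comp]
        exact congrArg R.map (biprod.lift_fst _ _)
      rw [h1]
      exact isIso_stk_of_isIso_sk _ x (isIso_sk_lam U (U ⊓ V) inf_le_left F x (Or.inr hx))
    · have h1 : R.map biprod.inr ≫ ((ShortComplex.mk f g w).map R).g =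
          R.map ((lam (U ⊔ V) V le_sup_right).app F) := by
        show R.map _ ≫ R.map _ = _
        rw [← R.map_comp]
        exact congrArg R.map (biprod.inr_desc _ _)
      rw [h1]
      refine isIso_stk_of_isIso_sk _ x (isIso_sk_lam (U ⊔ V) V le_sup_right F x ?_)
      by_cases hV : x ∈ V
      · exact Or.inl hV
      · refine Or.inr (fun hUV => ?_)
        rcases hUV with h | h
        · exact hx h
        · exact hV h

end Groth.Agent.H41.EV_A1
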