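import Mathlib
import Groth.Prelude

set_option autoImplicit false
universe u
open CategoryTheory CategoryTheory.Limits AlgebraicGeometry

namespace Groth.Agent.H41.FC_FL

theorem FL {P W T T' : Scheme.{u}} (h : P ⟶ W) (gP : P ⟶ T') (gW : W ⟶ T) (t : T' ⟶ T)
    (hpb : IsPullback h gP gW t) (𝒥 : W.IdealSheafData) (hfl : Flat (𝒥.subschemeι ≫ gW)) :
    Flat ((𝒥.comap h).subschemeι ≫ gP) := by
  -- the top square
  have htop : IsPullback (pullback.snd h 𝒥.subschemeι) (pullback.fst h 𝒥.subschemeι)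
      𝒥.subschemeι h := (IsPullback.of_hasPullback h 𝒥.subschemeι).flip
  have hbig : IsPullback (pullback.snd h 𝒥.subschemeι) (pullback.fst h 𝒥.subschemeι ≫ gP)
      (𝒥.subschemeι ≫ gW) t := htop.paste_vert hpb
  have h1 : Flat (pullback.fst h 𝒥.subschemeι ≫ gP) :=
    MorphismProperty.of_isPullback (P := @Flat) hbig hfl
  have h2 : (𝒥.comap h).subschemeι ≫ gP =
      (𝒥.comapIso h).hom ≫ (pullback.fst h 𝒥.subschemeι ≫ gP) := by
    rw [← Category.assoc, Scheme.IdealSheafData.comapIso_hom_fst]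
  rw [h2]
  infer_instance

end Groth.Agent.H41.FC_FL
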