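import Mathlib
import Groth.Prelude
import Groth.Agent.H9.EffCartier
import Groth.Agent.H54.CD_FLAT

set_option autoImplicit false
universe u
open CategoryTheory CategoryTheory.Limits AlgebraicGeometry

namespace Groth.Agent.H41.FC_TF

theorem TF {P : Scheme.{u}} (R : Type u) [CommRing R] [IsDomain R] [IsDiscreteValuationRing R]
    (ϖ : R) (hϖ : Irreducible ϖ) (g : P ⟶ Spec (CommRingCat.of R)) (J : P.IdealSheafData)
    (hfl : Flat (J.subschemeι ≫ g)) (U : P.affineOpens) (a : Γ(P, U.1)) (n : ℕ)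
    (h : ((g.appLE ⊤ U.1 le_top).hom ((Scheme.ΓSpecIso (CommRingCat.of R)).inv.hom ϖ)) ^ n * a = 0) :
    a ∈ J.ideal U := by
  classical
  let V : (Spec (CommRingCat.of R)).affineOpens := ⟨⊤, isAffineOpen_top _⟩
  have hflat : ((Ideal.Quotient.mk (J.ideal U)).comp (g.appLE ⊤ U.1 le_top).hom).Flat :=
    Groth.Agent.H9.flat_quotient_of_flat g J hfl V U le_top
  have hiso : ((Scheme.ΓSpecIso (CommRingCat.of R)).inv.hom).Flat := by
    apply RingHom.Flat.of_bijective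
    exact ConcreteCategory.bijective_of_isIso (Scheme.ΓSpecIso (CommRingCat.of R)).inv
  set ρ : R →+* Γ(P, U.1) ⧸ J.ideal U :=
    ((Ideal.Quotient.mk (J.ideal U)).comp (g.appLE ⊤ U.1 le_top).hom).comp
      (Scheme.ΓSpecIso (CommRingCat.of R)).inv.hom with hρ
  have hρflat : ρ.Flat := RingHom.Flat.comp hiso hflat
  have hϖ0 : ϖ ∈ nonZeroDivisors R := mem_nonZeroDivisors_of_ne_zero hϖ.ne_zero
  have h1 : ρ ϖ ∈ nonZeroDivisors (Γ(P, U.1) ⧸ J.ideal U) :=
    Groth.Agent.H54.CD_FLAT.map_mem_nonZeroDivisors_of_flat ρ hρflat hϖ0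
  have h2 : (ρ ϖ) ^ n ∈ nonZeroDivisors (Γ(P, U.1) ⧸ J.ideal U) := pow_mem h1 n
  have h3 : (ρ ϖ) ^ n * Ideal.Quotient.mk (J.ideal U) a = 0 := by
    have := congrArg (Ideal.Quotient.mk (J.ideal U)) h
    rw [map_mul, map_pow, map_zero] at this
    exact this
  have h4 : Ideal.Quotient.mk (J.ideal U) a = 0 := by
    rw [mul_comm] at h3
    exact (mem_nonZeroDivisors_iff_right.mp h2) _ h3
  exact Ideal.Quotient.eq_zero_iff_mem.mp h4

end Groth.Agent.H41.FC_TF
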