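import Mathlib
universe u v₁ u₁
open CategoryTheory Opposite Limits

namespace Groth.Agent.H41.FPres_EPI

theorem epi_of_locally_surjective {C : Type u₁} [Category.{v₁} C] {J : GrothendieckTopology C}
    {R : Sheaf J RingCat.{u}} [HasSheafify J AddCommGrpCat.{u}]
    [J.WEqualsLocallyBijective AddCommGrpCat.{u}]
    [J.HasSheafCompose (forget AddCommGrpCat.{u})] [Balanced (Sheaf J AddCommGrpCat.{u})]
    {M N : SheafOfModules.{u} R} (φ : M ⟶ N)
    (h : ∀ (U : C) (s : N.val.obj (op U)), ∃ T ∈ J U, ∀ ⦃V : C⦄ (i : V ⟶ U), T i →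
      ∃ r : M.val.obj (op V), φ.val.app (op V) r = N.val.map i.op s) : Epi φ := by
  have hls : Sheaf.IsLocallySurjective ((SheafOfModules.toSheaf R).map φ) := by
    constructor
    intro U s
    obtain ⟨T, hT, hTs⟩ := h U s
    refine J.superset_covering ?_ hT
    intro V i hi
    obtain ⟨r, hr⟩ := hTs i hi
    exact ⟨r, hr⟩
  have hepi : Epi ((SheafOfModules.toSheaf R).map φ) :=
    (Sheaf.isLocallySurjective_iff_epi' (A := AddCommGrpCat.{u}) _).mp hls
  exact Functor.epi_of_epi_map (SheafOfModules.toSheaf R) hepi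

end Groth.Agent.H41.FPres_EPI
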