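import Mathlib
import Groth.Agent.H22.FTExt
import Groth.Agent.H22.QCAlgGen
import Groth.Agent.H22.CounitEpi
import Groth.Agent.H41.CounitGG
import Groth.Agent.H8.CohAffine
import Groth.Agent.H8.QCohPush
import Groth.Agent.H8.IsoCover

/-!
# A quotient of `g^* g_* M` by a subsheaf of finite type (helper41)

For `g : Y ⟶ Z` quasi-compact and quasi-separated, `Z` quasi-compact and quasi-separated, `M` a
quasi-coherent `O_Y`-module of finite type such that `g^* g_* M ⟶ M` is an epimorphism, there is a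
quasi-coherent `O_Z`-module `F` of finite type (a submodule of `g_* M`) and an epimorphism
`g^* F ⟶ M` (`exists_ft_epi`).
-/

set_option autoImplicit false
set_option linter.style.haveILetI false
set_option linter.unusedSectionVars false
universe u
open CategoryTheory CategoryTheory.Limits AlgebraicGeometry TopologicalSpace Opposite

namespace Groth.Agent.H41.FTSubEpi

open Groth.Agent.H8 (res_res res_smul ringRes_res section_eq_of_cover)
open Groth.Agent.H22 Groth.Agent.H22.SubSh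
open AlgebraicGeometry.Scheme.Modules
open Groth.Agent.H41.CounitGG

section Gen

variable {Y : Scheme.{u}} {M : Y.Modules} {W' : Y.Opens}

/-- The family of sections indexed by a finset. -/
def fam (T : Finset Γ(M, W')) : ↥T → Γ(M, W') := fun i => i.1

lemma comb_mono {T T' : Finset Γ(M, W')} (hTT' : T ⊆ T') (O : Y.Opens) (hO : O ≤ W') :
    comb (fam T) O hO ≤ comb (fam T') O hO := by
  unfold comb
  refine Submodule.span_mono ?_
  rintro _ ⟨i, rfl⟩
  exact ⟨⟨i.1, hTT' i.2⟩, rfl⟩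

lemma gen_mono {T T' : Finset Γ(M, W')} (hTT' : T ⊆ T') (A : Y.Opens) (m : Γ(M, A))
    (hm : (gen (fam T)).mem A m) : (gen (fam T')).mem A m := by
  intro p hp
  obtain ⟨O, hO, hpO, hc⟩ := hm p hp
  exact ⟨O, hO, hpO, comb_mono hTT' O _ hc⟩

lemma exists_finset_of_mem_wspan (M : Y.Modules) (W' B : Y.Opens) (h : B ≤ W') (z : Γ(M, B))
    (hz : z ∈ WSpan M W' B h) : ∃ T : Finset Γ(M, W'), z ∈ comb (fam T) B h := by
  classical
  refine Submodule.span_induction
    (p := fun z _ => ∃ T : Finset Γ(M, W'), z ∈ comb (fam T) B h) ?_ ?_ ?_ ?_ hz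
  · rintro _ ⟨s, rfl⟩
    exact ⟨{s}, Submodule.subset_span ⟨⟨s, Finset.mem_singleton_self s⟩, rfl⟩⟩
  · exact ⟨∅, Submodule.zero_mem _⟩
  · rintro x y _ _ ⟨T₁, h₁⟩ ⟨T₂, h₂⟩
    exact ⟨T₁ ∪ T₂, Submodule.add_mem _ (comb_mono Finset.subset_union_left B h h₁)
      (comb_mono Finset.subset_union_right B h h₂)⟩
  · rintro r x _ ⟨T, hT⟩
    exact ⟨T, Submodule.smul_mem _ r hT⟩

/-- A morphism killing the sections in `T` kills everything locally generated by `T`. -/
lemma app_eq_zero_of_mem_gen {Q : Y.Modules} (h : M ⟶ Q) (T : Finset Γ(M, W'))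
    (hT : ∀ t ∈ T, h.app W' t = 0) (A : Y.Opens) (hA : A ≤ W') (m : Γ(M, A))
    (hm : (gen (fam T)).mem A m) : h.app A m = 0 := by
  refine section_eq_of_cover Q _ _ (fun x hx => ?_)
  obtain ⟨O, hO, hxO, hc⟩ := hm x ⟨hx, hA hx⟩
  refine ⟨O, hO.trans inf_le_left, hxO, ?_⟩
  rw [map_zero, ← Groth.Agent.H8.app_res h (hO.trans inf_le_left) m]
  have key : ∀ z ∈ comb (fam T) O (hO.trans inf_le_right), h.app O z = 0 := by
    intro z hz
    refine Submodule.span_induction (p := fun z _ => h.app O z = 0) ?_ ?_ ?_ ?_ hz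
    · rintro _ ⟨i, rfl⟩
      show h.app O (M.presheaf.map (homOfLE _).op i.1) = 0
      rw [Groth.Agent.H8.app_res h _ i.1, hT i.1 i.2, map_zero]
    · exact map_zero _
    · intro x y _ _ hx hy
      rw [map_add, hx, hy, add_zero]
    · intro r x _ hx
      rw [Scheme.Modules.Hom.app_smul, hx, smul_zero]
  exact key _ hc

end Gen

variable {Y Z : Scheme.{u}} (g : Y ⟶ Z)

/-- One section over a compact open. -/
theorem exists_finset_gen_of_isCompact [QuasiCompact g] [QuasiSeparated g] (M : Y.Modules)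
    [M.IsQuasicoherent] (hepi : Epi ((pullbackPushforwardAdjunction g).counit.app M))
    (W : Z.Opens) (hW : IsAffineOpen W) (A : Y.Opens) (hA : A ≤ g ⁻¹ᵁ W)
    (hAc : IsCompact (A : Set Y)) (m : Γ(M, A)) :
    ∃ T : Finset Γ(M, g ⁻¹ᵁ W), (gen (fam T)).mem A m := by
  classical
  have h1 : ∀ p : A, ∃ (T : Finset Γ(M, g ⁻¹ᵁ W)) (B : Y.Opens) (hB : B ≤ A), p.1 ∈ B ∧
      M.presheaf.map (homOfLE hB).op m ∈ comb (fam T) B (hB.trans hA) := fun p => by
    obtain ⟨B, hB, hpB, hmem⟩ := exists_mem_wspan g M hepi W hW A hA m p.1 p.2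
    obtain ⟨T, hT⟩ := exists_finset_of_mem_wspan M _ B (hB.trans hA) _ hmem
    exact ⟨T, B, hB, hpB, hT⟩
  choose T B hB hpB hmem using h1
  obtain ⟨s, hs⟩ := hAc.elim_finite_subcover (fun p : A => ((B p : Y.Opens) : Set Y))
    (fun p => (B p).2) (fun x hx => Set.mem_iUnion.mpr ⟨⟨x, hx⟩, hpB ⟨x, hx⟩⟩)
  refine ⟨s.biUnion T, ?_⟩
  intro x hx
  obtain ⟨q, hqs, hxq⟩ := Set.mem_iUnion₂.mp (hs hx.1)
  exact ⟨B q, le_inf (hB q) ((hB q).trans hA), hxq,
    comb_mono (Finset.subset_biUnion_of_mem T hqs) _ _ (hmem q)⟩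

/-- Finitely many sections over a compact open. -/
theorem exists_finset_gen_of_finset [QuasiCompact g] [QuasiSeparated g] (M : Y.Modules)
    [M.IsQuasicoherent] (hepi : Epi ((pullbackPushforwardAdjunction g).counit.app M))
    (W : Z.Opens) (hW : IsAffineOpen W) (A : Y.Opens) (hA : A ≤ g ⁻¹ᵁ W)
    (hAc : IsCompact (A : Set Y)) (S : Finset Γ(M, A)) :
    ∃ T : Finset Γ(M, g ⁻¹ᵁ W), ∀ s ∈ S, (gen (fam T)).mem A s := by
  classical
  refine Finset.induction_on S ?_ ?_
  · exact ⟨∅, fun s hs => by simp at hs⟩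
  · intro a S' _ ih
    obtain ⟨T₁, h₁⟩ := ih
    obtain ⟨T₂, h₂⟩ := exists_finset_gen_of_isCompact g M hepi W hW A hA hAc a
    refine ⟨T₁ ∪ T₂, fun s hs => ?_⟩
    rcases Finset.mem_insert.mp hs with rfl | hs'
    · exact gen_mono Finset.subset_union_right A _ h₂
    · exact gen_mono Finset.subset_union_left A _ (h₁ s hs')

/-- All sections over the opens inside an affine open. -/
theorem exists_finset_gen_of_isAffineOpen [QuasiCompact g] [QuasiSeparated g] (M : Y.Modules)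
    [M.IsQuasicoherent] [SheafOfModules.IsFiniteType (R := Y.ringCatSheaf) M]
    (hepi : Epi ((pullbackPushforwardAdjunction g).counit.app M))
    (W : Z.Opens) (hW : IsAffineOpen W) (A : Y.Opens) (hAaff : IsAffineOpen A)
    (hA : A ≤ g ⁻¹ᵁ W) :
    ∃ T : Finset Γ(M, g ⁻¹ᵁ W), ∀ (A' : Y.Opens) (_ : A' ≤ A) (m : Γ(M, A')),
      (gen (fam T)).mem A' m := by
  classical
  haveI : Module.Finite Γ(Y, A) Γ(M, A) :=
    Groth.Agent.H8.finite_sections_of_isAffineOpen M hAaff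
  obtain ⟨S, hS⟩ := (Module.Finite.fg_top : (⊤ : Submodule Γ(Y, A) Γ(M, A)).FG)
  obtain ⟨T, hT⟩ := exists_finset_gen_of_finset g M hepi W hW A hA hAaff.isCompact S
  refine ⟨T, fun A' hA' m => ?_⟩
  have hall : ∀ x : Γ(M, A), (gen (fam T)).mem A x := by
    intro x
    have hx : x ∈ Submodule.span Γ(Y, A) (S : Set Γ(M, A)) := by
      rw [hS]
      trivial
    refine Submodule.span_induction (p := fun x _ => (gen (fam T)).mem A x) ?_ ?_ ?_ ?_ hx
    · intro s hs
      exact hT s hs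
    · exact (gen (fam T)).zero_mem A
    · intro x y _ _ hx hy
      exact (gen (fam T)).add_mem A x y hx hy
    · intro r x _ hx
      exact (gen (fam T)).smul_mem A r x hx
  refine (gen (fam T)).local_mem A' m (fun p hp => ?_)
  obtain ⟨a, haA', hpa⟩ := hAaff.exists_basicOpen_le ⟨p, hp⟩ (hA' hp)
  refine ⟨Y.basicOpen a, haA', hpa, ?_⟩
  obtain ⟨n, x, hx⟩ := Groth.Agent.H8.exists_smul_eq_res hAaff M a
    (M.presheaf.map (homOfLE haA').op m)
  have hua : IsUnit (Y.presheaf.map (homOfLE (Y.basicOpen_le a)).op a) :=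
    RingedSpace.isUnit_res_basicOpen Y.toRingedSpace a
  obtain ⟨u, hu⟩ := (hua.pow n).exists_left_inv
  have hm : M.presheaf.map (homOfLE haA').op m =
      u • M.presheaf.map (homOfLE (Y.basicOpen_le a)).op x := by
    rw [← hx, ← mul_smul, hu, one_smul]
  rw [hm]
  exact (gen (fam T)).smul_mem _ _ _ ((gen (fam T)).res_mem (Y.basicOpen_le a) x (hall x))

/-- All sections over the opens inside the preimage of an affine open. -/
theorem exists_finset_gen_preimage [QuasiCompact g] [QuasiSeparated g] (M : Y.Modules)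
    [M.IsQuasicoherent] [SheafOfModules.IsFiniteType (R := Y.ringCatSheaf) M]
    (hepi : Epi ((pullbackPushforwardAdjunction g).counit.app M))
    (W : Z.Opens) (hW : IsAffineOpen W) :
    ∃ T : Finset Γ(M, g ⁻¹ᵁ W), ∀ (A' : Y.Opens) (_ : A' ≤ g ⁻¹ᵁ W) (m : Γ(M, A')),
      (gen (fam T)).mem A' m := by
  classical
  have hc : IsCompact ((g ⁻¹ᵁ W : Y.Opens) : Set Y) :=
    QuasiCompact.isCompact_preimage (f := g) _ W.2 hW.isCompact
  obtain ⟨S, hSfin, hS⟩ := (isCompact_and_isOpen_iff_finite_and_eq_biUnion_affineOpens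
    (X := Y) (U := ((g ⁻¹ᵁ W : Y.Opens) : Set Y))).mp ⟨hc, (g ⁻¹ᵁ W).2⟩
  have hle : ∀ A ∈ S, (A : Y.affineOpens).1 ≤ g ⁻¹ᵁ W := by
    intro A hAS x hx
    have h2 : x ∈ ⋃ i ∈ S, ((i : Y.Opens) : Set Y) := Set.mem_iUnion₂.mpr ⟨A, hAS, hx⟩
    rw [← hS] at h2
    exact h2
  have h1 : ∀ A : S, ∃ T : Finset Γ(M, g ⁻¹ᵁ W), ∀ (A' : Y.Opens) (_ : A' ≤ A.1.1)
      (m : Γ(M, A')), (gen (fam T)).mem A' m := fun A =>
    exists_finset_gen_of_isAffineOpen g M hepi W hW A.1.1 A.1.2 (hle A.1 A.2)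
  choose T hT using h1
  haveI : Fintype S := hSfin.fintype
  refine ⟨Finset.univ.biUnion T, fun A' hA' m => ?_⟩
  refine (gen (fam (Finset.univ.biUnion T))).local_mem A' m (fun p hp => ?_)
  have hp' : p ∈ ((g ⁻¹ᵁ W : Y.Opens) : Set Y) := hA' hp
  rw [hS] at hp'
  obtain ⟨A, hAS, hpA⟩ := Set.mem_iUnion₂.mp hp'
  refine ⟨A' ⊓ A.1, inf_le_left, ⟨hp, hpA⟩, ?_⟩
  exact gen_mono (Finset.subset_biUnion_of_mem T (Finset.mem_univ (⟨A, hAS⟩ : S))) _ _
    (hT ⟨A, hAS⟩ (A' ⊓ A.1) inf_le_right _)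

/-- **A quotient of `g^*` of a module of finite type.** -/
theorem exists_ft_epi [QuasiCompact g] [QuasiSeparated g] [CompactSpace Z]
    [QuasiSeparatedSpace Z] (M : Y.Modules) [M.IsQuasicoherent]
    [SheafOfModules.IsFiniteType (R := Y.ringCatSheaf) M]
    (hepi : Epi ((pullbackPushforwardAdjunction g).counit.app M)) :
    ∃ (F : Z.Modules) (φ : (Scheme.Modules.pullback g).obj F ⟶ M),
      F.IsQuasicoherent ∧ SheafOfModules.IsFiniteType (R := Z.ringCatSheaf) F ∧ Epi φ := by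
  classical
  haveI hGq : ((Scheme.Modules.pushforward g).obj M).IsQuasicoherent :=
    Groth.Agent.H8.isQuasicoherent_pushforward g M
  have h1 : ∀ W : Z.affineOpens, ∃ T : Finset Γ(M, g ⁻¹ᵁ W.1),
      ∀ (A' : Y.Opens) (_ : A' ≤ g ⁻¹ᵁ W.1) (m : Γ(M, A')), (gen (fam T)).mem A' m := fun W =>
    exists_finset_gen_preimage g M hepi W.1 W.2
  choose T hT using h1
  obtain ⟨S, hSfin, hS⟩ := (isCompact_and_isOpen_iff_finite_and_eq_biUnion_affineOpens
    (X := Z) (U := Set.univ)).mp ⟨isCompact_univ, isOpen_univ⟩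
  obtain ⟨K, hK, hft, hmem⟩ := SubSh.exists_through_sections
    (F := (Scheme.Modules.pushforward g).obj M)
    (fun W => (T W : Finset Γ((Scheme.Modules.pushforward g).obj M, W.1)))
    hSfin.toFinset.toList
  let adj := Scheme.Modules.pullbackPushforwardAdjunction g
  let φ : (Scheme.Modules.pullback g).obj K.toModules ⟶ M :=
    (adj.homEquiv K.toModules M).symm K.ι
  refine ⟨K.toModules, φ, K.isQuasicoherent_toModules hK, K.isFiniteType_toModules hK hft, ?_⟩
  rw [Preadditive.epi_iff_cancel_zero]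
  intro Q h hφh
  have e1 : K.ι ≫ (Scheme.Modules.pushforward g).map h = 0 := by
    have h2 := adj.homEquiv_naturality_right φ h
    have h3 : (adj.homEquiv K.toModules M) φ = K.ι :=
      (adj.homEquiv K.toModules M).apply_symm_apply K.ι
    have h0 : (adj.homEquiv K.toModules Q) 0 = 0 := by
      rw [Adjunction.homEquiv_unit, CategoryTheory.Functor.map_zero, comp_zero]
    rw [hφh, h0, h3] at h2
    exact h2.symm
  have hkill : ∀ (V : Z.Opens) (x : Γ((Scheme.Modules.pushforward g).obj M, V)),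
      K.mem V x → h.app (g ⁻¹ᵁ V) x = 0 := by
    intro V x hx
    obtain ⟨y, hy⟩ := K.exists_ι_app_eq hx
    have h4 := congrArg
      (fun k : K.toModules ⟶ (Scheme.Modules.pushforward g).obj Q => k.app V y) e1
    have h5 : h.app (g ⁻¹ᵁ V) (K.ι.app V y) = 0 := h4
    rw [← hy]
    exact h5
  refine Scheme.Modules.hom_ext _ _ fun A => ?_
  refine ConcreteCategory.hom_ext _ _ fun m => ?_
  show h.app A m = 0
  refine section_eq_of_cover Q _ _ (fun x hx => ?_)
  have hgx : g.base x ∈ (Set.univ : Set Z) := trivial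
  rw [hS] at hgx
  obtain ⟨W, hWS, hxW⟩ := Set.mem_iUnion₂.mp hgx
  have hxB : x ∈ A ⊓ g ⁻¹ᵁ W.1 := ⟨hx, hxW⟩
  refine ⟨A ⊓ g ⁻¹ᵁ W.1, inf_le_left, hxB, ?_⟩
  rw [map_zero, ← Groth.Agent.H8.app_res h inf_le_left m]
  refine app_eq_zero_of_mem_gen h (T W) ?_ _ inf_le_right _ (hT W _ inf_le_right _)
  intro t ht
  exact hkill W.1 t (hmem W (Finset.mem_toList.mpr (hSfin.mem_toFinset.mpr hWS)) t ht)

end Groth.Agent.H41.FTSubEpi
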