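import Groth.Agent.H41.RelTwistXf

/-!
# The canonical map `F ⟶ p_* O_P(d)` for a module map `j : F ⟶ 𝒮` landing in degree `d` (helper41)

* `val_rval_app`: for `π = toSpecZero ≫ Spec.map φ ≫ fromSpec : Proj 𝒜 ⟶ Y`, the function `π^#(r)`
  has value `φ(r)/1` at every point of `Proj 𝒜`.
* `val_rval_emb_app`: for a relative Proj `p : P ⟶ Y`, the function `p^#(r)` read on the chart over
  the affine open `U` has value `str(r)/1` at every point.
* `fundMap`: the morphism of `O_Y`-modules `F ⟶ p_* O_P(d)` sending `e` to the section reading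
  `j(e)/1` on every chart; `fundMap_reads`.
-/

set_option autoImplicit false
set_option linter.style.haveILetI false
set_option linter.unusedSectionVars false
set_option linter.unusedVariables false
universe u
open CategoryTheory CategoryTheory.Limits AlgebraicGeometry TopologicalSpace Opposite
open scoped HomogeneousIdeal

noncomputable section

namespace Groth.Agent.H41.FundMap

open Groth.Agent.H8 Groth.Agent.H41.RelTildeMaps Groth.Agent.H41.RelTwistXf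
  Groth.Agent.H41.GrModQCoh

section Generic

variable {A σ : Type u} [CommRing A] [SetLike σ A] [AddSubgroupClass σ A] (𝒜 : ℕ → σ)
  [GradedRing 𝒜]

theorem exists_pos_homogeneous_not_mem (x : ProjectiveSpectrum 𝒜) :
    ∃ (m : ℕ) (f : A), 0 < m ∧ f ∈ 𝒜 m ∧ f ∉ x.asHomogeneousIdeal := by
  by_contra hcon
  push Not at hcon
  apply x.not_irrelevant_le
  rw [HomogeneousIdeal.irrelevant_le]
  intro i hi b hb
  exact hcon i b hi hb

theorem fromSpec_basicOpen {m : ℕ} {f : A} (hf : f ∈ 𝒜 m) (hm : 0 < m) :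
    (Proj.isAffineOpen_basicOpen 𝒜 f hf hm).fromSpec =
      Spec.map (Proj.awayToSection 𝒜 f) ≫ Proj.awayι 𝒜 f hf hm := by
  have hV := Proj.isAffineOpen_basicOpen 𝒜 f hf hm
  rw [← cancel_epi hV.isoSpec.hom, IsAffineOpen.isoSpec_hom_fromSpec]
  have h1 : hV.isoSpec.hom ≫ Spec.map (Proj.awayToSection 𝒜 f) =
      (Proj.basicOpenIsoSpec 𝒜 f hf hm).hom := by
    rw [Proj.basicOpenIsoSpec_hom]
    rfl
  calc (Proj.basicOpen 𝒜 f).ι
      = ((Proj.basicOpenIsoSpec 𝒜 f hf hm).hom ≫ (Proj.basicOpenIsoSpec 𝒜 f hf hm).inv) ≫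
          (Proj.basicOpen 𝒜 f).ι := by rw [Iso.hom_inv_id, Category.id_comp]
    _ = hV.isoSpec.hom ≫ Spec.map (Proj.awayToSection 𝒜 f) ≫ Proj.awayι 𝒜 f hf hm := by
        rw [← h1, Proj.awayι]
        simp only [Category.assoc]

theorem appLE_basicOpen {Y : Scheme.{u}} {U : Y.Opens} (hU : IsAffineOpen U)
    (φ : Γ(Y, U) ⟶ CommRingCat.of (𝒜 0)) (π : Proj 𝒜 ⟶ Y)
    (hπ : π = Proj.toSpecZero 𝒜 ≫ Spec.map φ ≫ hU.fromSpec)
    {m : ℕ} {f : A} (hf : f ∈ 𝒜 m) (hm : 0 < m) (hle : Proj.basicOpen 𝒜 f ≤ π ⁻¹ᵁ U) :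
    π.appLE U (Proj.basicOpen 𝒜 f) hle =
      φ ≫ CommRingCat.ofHom (HomogeneousLocalization.fromZeroRingHom 𝒜 (Submonoid.powers f)) ≫
        Proj.awayToSection 𝒜 f := by
  have hV := Proj.isAffineOpen_basicOpen 𝒜 f hf hm
  apply Spec.map_injective
  rw [← cancel_mono hU.fromSpec, IsAffineOpen.SpecMap_appLE_fromSpec π hU hV hle,
    fromSpec_basicOpen 𝒜 hf hm, hπ]
  simp only [Category.assoc, Spec.map_comp]
  rw [Proj.awayι_toSpecZero_assoc]

theorem val_rval_app {Y : Scheme.{u}} {U : Y.Opens} (hU : IsAffineOpen U)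
    (φ : Γ(Y, U) ⟶ CommRingCat.of (𝒜 0)) (π : Proj 𝒜 ⟶ Y)
    (hπ : π = Proj.toSpecZero 𝒜 ≫ Spec.map φ ≫ hU.fromSpec) (r : Γ(Y, U))
    (x : Proj 𝒜) (hx : x ∈ π ⁻¹ᵁ U) :
    (rval 𝒜 (π.app U r) ⟨x, hx⟩).val = Localization.mk ((φ.hom r : 𝒜 0) : A) 1 := by
  obtain ⟨m, f, hm, hf, hfx⟩ := exists_pos_homogeneous_not_mem 𝒜 x
  have htop : π ⁻¹ᵁ U = ⊤ := by
    rw [hπ, Scheme.Hom.comp_preimage, Scheme.Hom.comp_preimage, hU.fromSpec_preimage_self]
    rfl
  have hle : Proj.basicOpen 𝒜 f ≤ π ⁻¹ᵁ U := by rw [htop]; exact le_top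
  have e := appLE_basicOpen 𝒜 hU φ π hπ hf hm hle
  have hxf : x ∈ Proj.basicOpen 𝒜 f := (Proj.mem_basicOpen 𝒜 f x).mpr hfx
  have e3 : rval 𝒜 (π.app U r) ⟨x, hx⟩ = rval 𝒜 (π.appLE U (Proj.basicOpen 𝒜 f) hle r) ⟨x, hxf⟩ :=
    rfl
  rw [e3, e]
  rfl

end Generic

section Rel

variable {Y P : Scheme.{u}} (𝒮 : RelProj.QCGrAlg Y) (p : P ⟶ Y)
  (chart : ∀ (U : Y.Opens) (hU : IsAffineOpen U),
    (((p ⁻¹ᵁ U : P.Opens) : Scheme.{u}) ≅ Proj (𝒮.deg U hU)))

theorem emb_comp (hP : RelProj.IsRelProj 𝒮 p chart) (U : Y.Opens) (hU : IsAffineOpen U) :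
    RelProj.emb p chart U hU ≫ p =
      Proj.toSpecZero (𝒮.deg U hU) ≫ Spec.map (𝒮.strZero U hU) ≫ hU.fromSpec := by
  rw [RelProj.emb, Category.assoc, ← hP.chart_over U hU, Iso.inv_hom_id_assoc]

/-- The function `p^#(r)`, read on the chart over `U`, has value `str(r)/1` everywhere. -/
theorem val_rval_emb_app (hP : RelProj.IsRelProj 𝒮 p chart) (U : Y.Opens) (hU : IsAffineOpen U)
    (r : Γ(Y, U)) (x : Proj (𝒮.deg U hU)) (hx : x ∈ RelProj.emb p chart U hU ⁻¹ᵁ (p ⁻¹ᵁ U)) :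
    (rval (𝒮.deg U hU) ((RelProj.emb p chart U hU).app (p ⁻¹ᵁ U) (p.app U r)) ⟨x, hx⟩).val =
      Localization.mk ((𝒮.str.app (op U)).hom r) 1 :=
  val_rval_app (𝒮.deg U hU) hU (𝒮.strZero U hU) (RelProj.emb p chart U hU ≫ p)
    (emb_comp 𝒮 p chart hP U hU) r x hx

variable (n : ℤ) (L : P.Modules)
  (lam : ∀ (U : Y.Opens) (hU : IsAffineOpen U),
    L ⟶ (Scheme.Modules.pushforward (RelProj.emb p chart U hU)).obj
      (GrTwist.twist (𝒮.deg U hU) n))

theorem one_not_mem (U : Y.Opens) (hU : IsAffineOpen U) (W : P.Opens)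
    (x : (RelProj.emb p chart U hU ⁻¹ᵁ W : (Proj (𝒮.deg U hU)).Opens)) :
    (1 : 𝒮.presheaf.obj (op U)) ∉ x.1.asHomogeneousIdeal :=
  fun h => x.1.isPrime.ne_top ((Ideal.eq_top_iff_one _).mpr h)

theorem ReadsFrac.congr {U : Y.Opens} {hU : IsAffineOpen U} {W : P.Opens} {σ : Γ(L, W)}
    {u u' v v' : 𝒮.presheaf.obj (op U)} (hu : u = u') (hv : v = v')
    (h : ReadsFrac 𝒮 p chart n L lam U hU W σ u v) :
    ReadsFrac 𝒮 p chart n L lam U hU W σ u' v' := by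
  subst hu hv
  exact h

theorem ReadsFrac.add {U : Y.Opens} {hU : IsAffineOpen U} {W : P.Opens} {σ σ' : Γ(L, W)}
    {u u' v : 𝒮.presheaf.obj (op U)}
    (h : ReadsFrac 𝒮 p chart n L lam U hU W σ u v)
    (h' : ReadsFrac 𝒮 p chart n L lam U hU W σ' u' v) :
    ReadsFrac 𝒮 p chart n L lam U hU W (σ + σ') (u + u') v := by
  intro x hv
  have e : GrTwist.val (V := RelProj.emb p chart U hU ⁻¹ᵁ W) ((lam U hU).app W (σ + σ')) x =
      GrTwist.val (V := RelProj.emb p chart U hU ⁻¹ᵁ W) ((lam U hU).app W σ) x +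
        GrTwist.val (V := RelProj.emb p chart U hU ⁻¹ᵁ W) ((lam U hU).app W σ') x := by
    rw [map_add]
    rfl
  rw [e, h x hv, h' x hv, Localization.add_mk_self]

theorem ReadsFrac.base_smul (hP : RelProj.IsRelProj 𝒮 p chart) {U : Y.Opens}
    {hU : IsAffineOpen U} (r : Γ(Y, U)) {σ : Γ(L, p ⁻¹ᵁ U)} {u v : 𝒮.presheaf.obj (op U)}
    (h : ReadsFrac 𝒮 p chart n L lam U hU (p ⁻¹ᵁ U) σ u v) :
    ReadsFrac 𝒮 p chart n L lam U hU (p ⁻¹ᵁ U) ((p.app U r) • σ)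
      ((𝒮.str.app (op U)).hom r * u) v := by
  rintro ⟨x, hx⟩ hv
  rw [val_lam_smul 𝒮 p chart n L lam U hU (p ⁻¹ᵁ U) (p.app U r) σ ⟨x, hx⟩, h ⟨x, hx⟩ hv,
    val_rval_emb_app 𝒮 p chart hP U hU r x hx, Localization.mk_mul, one_mul]

end Rel

section Fund

variable {Y P : Scheme.{u}} (𝒮 : RelProj.QCGrAlg Y) (p : P ⟶ Y)
  (chart : ∀ (U : Y.Opens) (hU : IsAffineOpen U),
    (((p ⁻¹ᵁ U : P.Opens) : Scheme.{u}) ≅ Proj (𝒮.deg U hU)))
  (d : ℕ) (L : P.Modules)
  (lam : ∀ (U : Y.Opens) (hU : IsAffineOpen U),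
    L ⟶ (Scheme.Modules.pushforward (RelProj.emb p chart U hU)).obj
      (GrTwist.twist (𝒮.deg U hU) (d : ℤ)))
  (hL : RelProj.IsRelTwist 𝒮 p chart (d : ℤ) L lam) (hP : RelProj.IsRelProj 𝒮 p chart)
  (F : Y.Modules) (j : F ⟶ 𝒮.toModule)
  (hj : ∀ (U : Y.Opens) (hU : IsAffineOpen U) (x : Γ(F, U)),
    ((j.app U) x : 𝒮.presheaf.obj (op U)) ∈ 𝒮.deg U hU d)

include hL hj in
theorem exists_sec (U : Y.Opens) (hU : IsAffineOpen U) (e : Γ(F, U)) :
    ∃ σ : Γ(L, p ⁻¹ᵁ U), ReadsFrac 𝒮 p chart (d : ℤ) L lam U hU (p ⁻¹ᵁ U) σ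
      ((j.app U) e : 𝒮.presheaf.obj (op U)) 1 :=
  exists_readsFrac 𝒮 p chart (d : ℤ) L lam hL U hU (p ⁻¹ᵁ U) le_rfl
    (⟨((j.app U) e : 𝒮.presheaf.obj (op U)), hj U hU e⟩ : 𝒮.deg U hU d)
    (⟨1, SetLike.GradedOne.one_mem⟩ : 𝒮.deg U hU 0) (by simp)
    (one_not_mem 𝒮 p chart U hU _)

/-- The section of `O_P(d)` over `p⁻¹(U)` reading `j(e)/1`. -/
def sec (U : Y.Opens) (hU : IsAffineOpen U) (e : Γ(F, U)) : Γ(L, p ⁻¹ᵁ U) :=
  (exists_sec 𝒮 p chart d L lam hL F j hj U hU e).choose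

theorem sec_reads (U : Y.Opens) (hU : IsAffineOpen U) (e : Γ(F, U)) :
    ReadsFrac 𝒮 p chart (d : ℤ) L lam U hU (p ⁻¹ᵁ U) (sec 𝒮 p chart d L lam hL F j hj U hU e)
      ((j.app U) e : 𝒮.presheaf.obj (op U)) 1 :=
  (exists_sec 𝒮 p chart d L lam hL F j hj U hU e).choose_spec

theorem sec_unique (U : Y.Opens) (hU : IsAffineOpen U) (e : Γ(F, U)) (σ : Γ(L, p ⁻¹ᵁ U))
    (h : ReadsFrac 𝒮 p chart (d : ℤ) L lam U hU (p ⁻¹ᵁ U) σ
      ((j.app U) e : 𝒮.presheaf.obj (op U)) 1) :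
    σ = sec 𝒮 p chart d L lam hL F j hj U hU e :=
  ReadsFrac.unique 𝒮 p chart (d : ℤ) L lam hL le_rfl (one_not_mem 𝒮 p chart U hU _) h
    (sec_reads 𝒮 p chart d L lam hL F j hj U hU e)

theorem sec_add (U : Y.Opens) (hU : IsAffineOpen U) (e e' : Γ(F, U)) :
    sec 𝒮 p chart d L lam hL F j hj U hU (e + e') =
      sec 𝒮 p chart d L lam hL F j hj U hU e + sec 𝒮 p chart d L lam hL F j hj U hU e' := by
  symm
  apply sec_unique
  have h := ReadsFrac.add 𝒮 p chart (d : ℤ) L lam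
    (sec_reads 𝒮 p chart d L lam hL F j hj U hU e) (sec_reads 𝒮 p chart d L lam hL F j hj U hU e')
  have hje : ((j.app U) (e + e') : 𝒮.presheaf.obj (op U)) =
      ((j.app U) e : 𝒮.presheaf.obj (op U)) + ((j.app U) e' : 𝒮.presheaf.obj (op U)) := by
    rw [map_add]
  rw [hje]
  exact h

include hP in
theorem sec_smul (U : Y.Opens) (hU : IsAffineOpen U) (r : Γ(Y, U)) (e : Γ(F, U)) :
    sec 𝒮 p chart d L lam hL F j hj U hU (r • e) =
      (p.app U r) • sec 𝒮 p chart d L lam hL F j hj U hU e := by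
  symm
  apply sec_unique
  refine ReadsFrac.congr 𝒮 p chart (d : ℤ) L lam ?_ rfl
    (ReadsFrac.base_smul 𝒮 p chart (d : ℤ) L lam hP r
      (sec_reads 𝒮 p chart d L lam hL F j hj U hU e))
  rw [Scheme.Modules.Hom.app_smul]
  rfl

include hP in
theorem sec_res {U V : Y.Opens} (hU : IsAffineOpen U) (hV : IsAffineOpen V) (hVU : V ≤ U)
    (e : Γ(F, U)) :
    L.presheaf.map (homOfLE (p.preimage_mono hVU)).op (sec 𝒮 p chart d L lam hL F j hj U hU e) =
      sec 𝒮 p chart d L lam hL F j hj V hV (F.presheaf.map (homOfLE hVU).op e) := by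
  refine section_eq_of_cover L _ _ fun x hx => ?_
  have hxV : p.base x ∈ V := hx
  obtain ⟨r, r', hrr', hxr⟩ := exists_basicOpen_le_affine_inter hU hV (p.base x) ⟨hVU hxV, hxV⟩
  have hDU : Y.basicOpen r ≤ U := Y.basicOpen_le r
  have hDV : Y.basicOpen r ≤ V := by rw [hrr']; exact Y.basicOpen_le r'
  refine ⟨p ⁻¹ᵁ Y.basicOpen r, p.preimage_mono hDV, hxr, ?_⟩
  rw [res_res]
  have h1 := ReadsFrac.of_eq_basicOpen 𝒮 p chart (d : ℤ) L lam hL hP r (Y.basicOpen r)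
    (hU.basicOpen r) rfl hDU
    (ReadsFrac.res 𝒮 p chart (d : ℤ) L lam (p.preimage_mono hDU)
      (sec_reads 𝒮 p chart d L lam hL F j hj U hU e))
  have h2 := ReadsFrac.of_eq_basicOpen 𝒮 p chart (d : ℤ) L lam hL hP r' (Y.basicOpen r)
    (hU.basicOpen r) hrr' hDV
    (ReadsFrac.res 𝒮 p chart (d : ℤ) L lam (p.preimage_mono hDV)
      (sec_reads 𝒮 p chart d L lam hL F j hj V hV (F.presheaf.map (homOfLE hVU).op e)))
  have a1 : ((j.app V) (F.presheaf.map (homOfLE hVU).op e) : 𝒮.presheaf.obj (op V)) =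
      (𝒮.presheaf.map (homOfLE hVU).op).hom ((j.app U) e : 𝒮.presheaf.obj (op U)) :=
    app_res j hVU e
  have a2 : 𝒮.presheaf.map (homOfLE hVU).op ≫ 𝒮.presheaf.map (homOfLE hDV).op =
      𝒮.presheaf.map (homOfLE hDU).op := by
    rw [← Functor.map_comp]; rfl
  have hu2 : (𝒮.presheaf.map (homOfLE hDV).op).hom
      ((j.app V) (F.presheaf.map (homOfLE hVU).op e) : 𝒮.presheaf.obj (op V)) =
      (𝒮.presheaf.map (homOfLE hDU).op).hom ((j.app U) e : 𝒮.presheaf.obj (op U)) := by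
    rw [a1]
    exact congrArg (fun k => k.hom ((j.app U) e : 𝒮.presheaf.obj (op U))) a2
  have h1' := ReadsFrac.congr 𝒮 p chart (d : ℤ) L lam rfl
    (map_one (𝒮.presheaf.map (homOfLE hDU).op).hom) h1
  have h2' := ReadsFrac.congr 𝒮 p chart (d : ℤ) L lam hu2
    (map_one (𝒮.presheaf.map (homOfLE hDV).op).hom) h2
  exact ReadsFrac.unique 𝒮 p chart (d : ℤ) L lam hL le_rfl
    (one_not_mem 𝒮 p chart (Y.basicOpen r) (hU.basicOpen r) _) h1' h2'

/-- `sec` over an affine open, as an additive map. -/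
def secHom (U : Y.affineOpens) :
    Γ(F, U.1) →+ Γ((Scheme.Modules.pushforward p).obj L, U.1) :=
  AddMonoidHom.mk' (fun e => (sec 𝒮 p chart d L lam hL F j hj U.1 U.2 e : Γ(L, p ⁻¹ᵁ U.1)))
    (sec_add 𝒮 p chart d L lam hL F j hj U.1 U.2)

theorem isBasis_affine :
    Opens.IsBasis (Set.range (fun U : Y.affineOpens => (U : Y.Opens))) := by
  rw [Subtype.range_coe]
  exact Y.isBasis_affineOpens

include hP in
/-- The natural transformation on the basis of affine opens. -/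
def basisNat :
    (inducedFunctor (fun U : Y.affineOpens => (U : Y.Opens))).op ⋙ F.presheaf ⟶
      (inducedFunctor (fun U : Y.affineOpens => (U : Y.Opens))).op ⋙
        ((Scheme.Modules.pushforward p).obj L).presheaf where
  app U := AddCommGrpCat.ofHom (secHom 𝒮 p chart d L lam hL F j hj U.unop)
  naturality U V g := by
    refine ConcreteCategory.hom_ext _ _ fun z => ?_
    exact (sec_res 𝒮 p chart d L lam hL hP F j hj U.unop.2 V.unop.2 (leOfHom g.unop.hom) z).symm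

/-- The morphism of abelian presheaves `F ⟶ p_* L`. -/
def presheafHom : F.presheaf ⟶ ((Scheme.Modules.pushforward p).obj L).presheaf :=
  TopCat.Sheaf.restrictHomEquivHom F.presheaf
    ⟨((Scheme.Modules.pushforward p).obj L).presheaf,
      ((Scheme.Modules.pushforward p).obj L).isSheaf⟩
    (isBasis_affine (Y := Y)) (basisNat 𝒮 p chart d L lam hL hP F j hj)

theorem presheafHom_app (U : Y.Opens) (hU : IsAffineOpen U) (z : Γ(F, U)) :
    (presheafHom 𝒮 p chart d L lam hL hP F j hj).app (op U) z =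
      (sec 𝒮 p chart d L lam hL F j hj U hU z : Γ(L, p ⁻¹ᵁ U)) := by
  have := TopCat.Sheaf.extend_hom_app F.presheaf
    ⟨((Scheme.Modules.pushforward p).obj L).presheaf,
      ((Scheme.Modules.pushforward p).obj L).isSheaf⟩
    (isBasis_affine (Y := Y)) (basisNat 𝒮 p chart d L lam hL hP F j hj) ⟨U, hU⟩
  exact congr($this z)

theorem presheafHom_smul (W : Y.Opens) (r : Γ(Y, W)) (x : Γ(F, W)) :
    (presheafHom 𝒮 p chart d L lam hL hP F j hj).app (op W) (r • x) =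
      r • (presheafHom 𝒮 p chart d L lam hL hP F j hj).app (op W) x := by
  refine section_eq_of_cover ((Scheme.Modules.pushforward p).obj L) _ _ fun y hy => ?_
  obtain ⟨U, hU, hyU, hUW⟩ := Opens.isBasis_iff_nbhd.mp Y.isBasis_affineOpens hy
  refine ⟨U, hUW, hyU, ?_⟩
  have nat : ∀ z : Γ(F, W),
      ((Scheme.Modules.pushforward p).obj L).presheaf.map (homOfLE hUW).op
        ((presheafHom 𝒮 p chart d L lam hL hP F j hj).app (op W) z) =
      (presheafHom 𝒮 p chart d L lam hL hP F j hj).app (op U)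
        (F.presheaf.map (homOfLE hUW).op z) := fun z =>
    (congr($((presheafHom 𝒮 p chart d L lam hL hP F j hj).naturality (homOfLE hUW).op) z)).symm
  rw [nat, res_smul ((Scheme.Modules.pushforward p).obj L), nat, res_smul F,
    presheafHom_app 𝒮 p chart d L lam hL hP F j hj U hU,
    presheafHom_app 𝒮 p chart d L lam hL hP F j hj U hU]
  exact sec_smul 𝒮 p chart d L lam hL hP F j hj U hU _ _

/-- **The canonical map** `F ⟶ p_* O_P(d)`. -/
def fundMap : F ⟶ (Scheme.Modules.pushforward p).obj L :=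
  (SheafOfModules.Hom.mk (PresheafOfModules.homMk
    (show F.val.presheaf ⟶ ((Scheme.Modules.pushforward p).obj L).val.presheaf from
      presheafHom 𝒮 p chart d L lam hL hP F j hj)
    (fun W r m => presheafHom_smul 𝒮 p chart d L lam hL hP F j hj W.unop r m)) :
    SheafOfModules.Hom F ((Scheme.Modules.pushforward p).obj L))

theorem fundMap_app (U : Y.Opens) (hU : IsAffineOpen U) (e : Γ(F, U)) :
    (fundMap 𝒮 p chart d L lam hL hP F j hj).app U e =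
      (sec 𝒮 p chart d L lam hL F j hj U hU e : Γ(L, p ⁻¹ᵁ U)) :=
  presheafHom_app 𝒮 p chart d L lam hL hP F j hj U hU e

theorem fundMap_reads (U : Y.Opens) (hU : IsAffineOpen U) (e : Γ(F, U)) :
    ReadsFrac 𝒮 p chart (d : ℤ) L lam U hU (p ⁻¹ᵁ U)
      ((fundMap 𝒮 p chart d L lam hL hP F j hj).app U e)
      ((j.app U) e : 𝒮.presheaf.obj (op U)) 1 := by
  rw [fundMap_app 𝒮 p chart d L lam hL hP F j hj U hU e]
  exact sec_reads 𝒮 p chart d L lam hL F j hj U hU e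

end Fund

end Groth.Agent.H41.FundMap
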