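import Mathlib
import Groth.Prelude.Def_CAlg2
import Groth.Prelude.Def_FDesc
import Groth.Agent.H47.GNAtDefs

/-!
# (SC) stalks at `x` and `f x` as localizations of chart rings (helper41, squad piece for
helper47 / S4884)
-/

set_option autoImplicit false
universe u
open CategoryTheory CategoryTheory.Limits AlgebraicGeometry TopologicalSpace IsLocalRing
  TensorProduct
open Groth.Agent.H47.GNAtDefs

namespace Groth.Agent.H41.GU10_SC

variable {X Y : Scheme.{u}}

/-- The stalk at a point of an affine open is (ring-)isomorphic to the localization of the ring of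
sections at the corresponding prime. -/
theorem nonempty_stalk_equiv {Z : Scheme.{u}} {U : Z.Opens} (hU : IsAffineOpen U) (z : Z)
    (hz : z ∈ U) (q : Ideal Γ(Z, U)) [q.IsPrime] (hq : q = (hU.primeIdealOf ⟨z, hz⟩).asIdeal) :
    Nonempty (Z.presheaf.stalk z ≃+* Localization.AtPrime q) := by
  subst hq
  letI : Algebra Γ(Z, U) (Z.presheaf.stalk z) :=
    TopCat.Presheaf.algebra_section_stalk Z.presheaf (⟨z, hz⟩ : U)
  have := hU.isLocalization_stalk ⟨z, hz⟩
  exact ⟨(IsLocalization.algEquiv (hU.primeIdealOf ⟨z, hz⟩).asIdeal.primeCompl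
    (Localization.AtPrime (hU.primeIdealOf ⟨z, hz⟩).asIdeal)
    (Z.presheaf.stalk z)).symm.toRingEquiv⟩

/-- (SC) the stalks at `x` and `f x` as localizations of the chart rings. -/
theorem exists_stalk_equivs (f : X ⟶ Y) (x : X) {V : Y.Opens}
    (hV : IsAffineOpen V) {W : X.Opens} (hW : IsAffineOpen W) (hxW : x ∈ W) (hWV : W ≤ f ⁻¹ᵁ V)
    [Algebra Γ(Y, V) Γ(X, W)] (halg : algebraMap Γ(Y, V) Γ(X, W) = (f.appLE V W hWV).hom) :
    Nonempty (X.presheaf.stalk x ≃+* Localization.AtPrime (hW.primeIdealOf ⟨x, hxW⟩).asIdeal) ∧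
      Nonempty (Y.presheaf.stalk (f x) ≃+* Localization.AtPrime
        ((hW.primeIdealOf ⟨x, hxW⟩).asIdeal.comap (algebraMap Γ(Y, V) Γ(X, W)))) := by
  refine ⟨nonempty_stalk_equiv hW x hxW _ rfl, nonempty_stalk_equiv hV (f x) (hWV hxW) _ ?_⟩
  rw [halg]
  exact congr($(IsAffineOpen.comap_primeIdealOf_appLE V hV W hW hWV hxW).1)

end Groth.Agent.H41.GU10_SC
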