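import Groth.Agent.H41.GrModQCoh
import Groth.Prelude.Def_RelProj3
import Mathlib

/-!
# Helpers on maps between the modules `M(n)~` on `Proj`
-/

set_option autoImplicit false
set_option linter.style.haveILetI false
universe u

open CategoryTheory AlgebraicGeometry HomogeneousIdeal TopologicalSpace Opposite

namespace Groth.Agent.H41.GrModMaps

/-- A degree-preserving additive map commutes with taking homogeneous components. -/
theorem decompose_map {M τ N τ' : Type*} [AddCommGroup M] [SetLike τ M] [AddSubgroupClass τ M]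
    (ℳ : ℕ → τ) [DirectSum.Decomposition ℳ] [AddCommGroup N] [SetLike τ' N] [AddSubgroupClass τ' N]
    (𝒩 : ℕ → τ') [DirectSum.Decomposition 𝒩] (u : M →+ N)
    (hu : ∀ (i : ℕ) (m : M), m ∈ ℳ i → u m ∈ 𝒩 i) (m : M) (j : ℕ) :
    (DirectSum.decompose 𝒩 (u m) j : N) = u (DirectSum.decompose ℳ m j : M) := by
  classical
  refine DirectSum.Decomposition.inductionOn ℳ ?_ ?_ ?_ m
  · simp
  · intro i w
    by_cases hij : i = j
    · subst hij
      rw [DirectSum.decompose_of_mem_same 𝒩 (hu i _ w.2), DirectSum.decompose_of_mem_same ℳ w.2]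
    · rw [DirectSum.decompose_of_mem_ne 𝒩 (hu i _ w.2) hij, DirectSum.decompose_of_mem_ne ℳ w.2 hij,
        map_zero]
  · intro z z' hz hz'
    rw [map_add, DirectSum.decompose_add, DirectSum.decompose_add, DirectSum.add_apply,
      DirectSum.add_apply, AddMemClass.coe_add, AddMemClass.coe_add, map_add, hz, hz']

/-- A morphism of modules which is bijective on the sections over the members of a basis is an
isomorphism. -/
theorem isIso_of_bijective_basis {X : Scheme.{u}} {F G : X.Modules} (φ : F ⟶ G) {ι : Type*}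
    (B : ι → X.Opens) (hB : Opens.IsBasis (Set.range B))
    (h : ∀ i, Function.Bijective (φ.app (B i))) : IsIso φ := by
  haveI : IsIso ((SheafOfModules.toSheaf.{u} X.ringCatSheaf).map φ) := by
    refine TopCat.Sheaf.isIso_iff_isIso_basis (X := X.toTopCat) (B := B) hB (fun i => ?_)
    exact (ConcreteCategory.isIso_iff_bijective _).mpr (h i)
  have key : ∀ {A' B' : SheafOfModules.{u} X.ringCatSheaf} (ψ : A' ⟶ B'),
      IsIso ((SheafOfModules.toSheaf.{u} X.ringCatSheaf).map ψ) → IsIso ψ :=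
    fun ψ _ => isIso_of_reflects_iso ψ (SheafOfModules.toSheaf.{u} X.ringCatSheaf)
  exact key φ this

variable {A σ : Type u} [CommRing A] [SetLike σ A] [AddSubgroupClass σ A] (𝒜 : ℕ → σ) [GradedRing 𝒜]

/-- The `D₊(f)`, `f` homogeneous of positive degree, form a basis of `Proj`. -/
theorem isBasis_basicOpen_pos :
    Opens.IsBasis (Set.range fun p : {p : ℕ × A // 0 < p.1 ∧ p.2 ∈ 𝒜 p.1} =>
      Proj.basicOpen 𝒜 p.1.2) := by
  rw [Opens.isBasis_iff_nbhd]
  intro W x hxW
  obtain ⟨k, a, ha, hax, haW⟩ := GrModSections.exists_homogeneous_basicOpen_subset 𝒜 W x hxW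
  obtain ⟨i, hi, s, hs, hsx⟩ : ∃ (i : ℕ) (_ : 0 < i) (s : A), s ∈ 𝒜 i ∧ s ∉ x.asHomogeneousIdeal := by
    by_contra hcon
    push Not at hcon
    apply x.not_irrelevant_le
    rw [HomogeneousIdeal.irrelevant_le]
    intro i hi s hs
    exact hcon i hi s hs
  refine ⟨_, ⟨⟨(k + i, a * s), Nat.add_pos_right _ hi, SetLike.mul_mem_graded ha hs⟩, rfl⟩, ?_, ?_⟩
  · exact fun h => (x.isPrime.mem_or_mem h).elim hax hsx
  · intro y hy
    exact haW y (fun h => hy (Ideal.mul_mem_right _ _ h))

/-- A fraction `m / s` vanishes in the localized module only if some element outside the prime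
kills `m`. -/
theorem exists_smul_eq_zero_of_mk_eq_zero {M : Type u} [AddCommGroup M] [Module A M]
    (x : ProjectiveSpectrum 𝒜) (m : M) (s : x.asHomogeneousIdeal.toIdeal.primeCompl)
    (h : (LocalizedModule.mk m s : GrMod.LocMod 𝒜 (M := M) x) = 0) :
    ∃ c : A, c ∉ x.asHomogeneousIdeal ∧ c • m = 0 := by
  rw [← LocalizedModule.zero_mk (1 : x.asHomogeneousIdeal.toIdeal.primeCompl),
    LocalizedModule.mk_eq] at h
  obtain ⟨c, hc⟩ := h
  refine ⟨c.1, c.2, ?_⟩
  rw [smul_zero, smul_zero, one_smul] at hc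
  exact hc

theorem mk_eq_zero_of_smul_eq_zero {M : Type u} [AddCommGroup M] [Module A M]
    (x : ProjectiveSpectrum 𝒜) (m : M) (s : x.asHomogeneousIdeal.toIdeal.primeCompl) (c : A)
    (hc : c ∉ x.asHomogeneousIdeal) (h : c • m = 0) :
    (LocalizedModule.mk m s : GrMod.LocMod 𝒜 (M := M) x) = 0 := by
  rw [← LocalizedModule.zero_mk (1 : x.asHomogeneousIdeal.toIdeal.primeCompl),
    LocalizedModule.mk_eq]
  refine ⟨⟨c, hc⟩, ?_⟩
  rw [smul_zero, smul_zero, one_smul]
  exact h

end Groth.Agent.H41.GrModMaps
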