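import Groth.Agent.H41.RelTildeTN
import Mathlib

/-!
# Under (TF), vanishing of `M~` forces (TN)
-/

set_option autoImplicit false
set_option linter.style.haveILetI false
universe u

open CategoryTheory CategoryTheory.Limits AlgebraicGeometry HomogeneousIdeal TopologicalSpace Opposite
open Groth.Agent.H8 Groth.Agent.H41.GrModQCoh Groth.Agent.H41.GrModMaps

namespace Groth.Agent.H41.GrModTN

section

variable {A σ : Type u} [CommRing A] [SetLike σ A] [AddSubgroupClass σ A] (𝒜 : ℕ → σ) [GradedRing 𝒜]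

/-- If the irrelevant ideal is generated by the elements of degree one, the homogeneous elements
of degree `e` lie in its `e`-th power. -/
theorem mem_irrelevant_pow (hgen : (𝒜₊).toIdeal = Ideal.span ((𝒜 1 : σ) : Set A)) (e : ℕ) :
    ∀ a : A, a ∈ 𝒜 e → a ∈ (𝒜₊).toIdeal ^ e := by
  induction e with
  | zero =>
    intro a _
    rw [pow_zero, Ideal.one_eq_top]
    exact Submodule.mem_top
  | succ e ih =>
    intro a ha
    have ha' : a ∈ Submodule.span A ((𝒜 1 : σ) : Set A) := by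
      have h1 : a ∈ (𝒜₊).toIdeal := HomogeneousIdeal.mem_irrelevant_of_mem 𝒜 (Nat.succ_pos e) ha
      rw [hgen] at h1
      exact h1
    obtain ⟨N, b, c, hsum⟩ := Submodule.mem_span_set'.mp ha'
    have hdec : a = ∑ i : Fin N, (DirectSum.decompose 𝒜 (b i) e : A) * (c i : A) := by
      calc a = (DirectSum.decompose 𝒜 a (e + 1) : A) :=
            (DirectSum.decompose_of_mem_same 𝒜 ha).symm
        _ = (DirectSum.decompose 𝒜 (∑ i, b i • (c i : A)) (e + 1) : A) := by rw [hsum]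
        _ = ∑ i : Fin N, (DirectSum.decompose 𝒜 (b i • (c i : A)) (e + 1) : A) := by
            rw [DirectSum.decompose_sum, DFinsupp.finsetSum_apply,
              AddSubmonoidClass.coe_finsetSum]
        _ = _ := Finset.sum_congr rfl fun i _ => by
            rw [smul_eq_mul]
            exact DirectSum.coe_decompose_mul_add_of_right_mem 𝒜 (c i).2
    rw [hdec, pow_succ]
    refine Ideal.sum_mem _ fun i _ => Ideal.mul_mem_mul (ih _ (SetLike.coe_mem _)) ?_
    rw [hgen]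
    exact Ideal.subset_span (c i).2

variable {M τ : Type u} [AddCommGroup M] [Module A M] [SetLike τ M] [AddSubgroupClass τ M]
  (ℳ : ℕ → τ) [DirectSum.Decomposition ℳ] [SetLike.GradedSMul 𝒜 ℳ]

/-- Homogeneous components of a multiple of a homogeneous element. -/
theorem coe_decompose_smul_of_mem_right {i : ℕ} {m : M} (hm : m ∈ ℳ i) (c : A) (j : ℕ) :
    ((DirectSum.decompose ℳ (c • m)) (j + i) : M) = (DirectSum.decompose 𝒜 c j : A) • m := by
  classical
  have hsum : c • m = ∑ l ∈ (DirectSum.decompose 𝒜 c).support,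
      (DirectSum.decompose 𝒜 c l : A) • m := by
    conv_lhs => rw [← DirectSum.sum_support_decompose 𝒜 c, Finset.sum_smul]
  have hmem : ∀ l, (DirectSum.decompose 𝒜 c l : A) • m ∈ ℳ (l + i) := fun l =>
    SetLike.GradedSMul.smul_mem (i := l) (j := i) (SetLike.coe_mem _) hm
  rw [hsum, DirectSum.decompose_sum, DFinsupp.finsetSum_apply, AddSubmonoidClass.coe_finsetSum]
  rw [Finset.sum_eq_single j]
  · exact DirectSum.decompose_of_mem_same ℳ (hmem j)
  · intro l _ hlj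
    exact DirectSum.decompose_of_mem_ne ℳ (hmem l) (by omega)
  · intro hj
    have : DirectSum.decompose 𝒜 c j = 0 := by simpa using hj
    rw [this]
    simp

/-- (TN) kills the attached module. -/
theorem isZero_tilde_of_TN (n : ℤ) (hTN : ∃ n₀ : ℕ, ∀ k, n₀ ≤ k → ∀ m ∈ ℳ k, m = 0) :
    IsZero (GrMod.tilde 𝒜 ℳ n) := by
  rw [IsZero.iff_id_eq_zero]
  refine Scheme.Modules.hom_ext _ _ fun W => ?_
  refine ConcreteCategory.hom_ext _ _ fun s => ?_
  exact RelTildeTN.sect_eq_of_TN 𝒜 ℳ hTN n W _ _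

/-- Under (TF), with the irrelevant ideal finitely generated by elements of degree one: if all
the sections of `M~` vanish then `M` satisfies (TN). -/
theorem TN_of_sections_eq_zero
    (hfg : (𝒜₊).toIdeal.FG) (hgen : (𝒜₊).toIdeal = Ideal.span ((𝒜 1 : σ) : Set A))
    (hTF : ∃ n : ℕ, (Submodule.span A (⋃ k ∈ Set.Ici n, ((ℳ k : τ) : Set M))).FG)
    (h0 : ∀ (V : (Proj 𝒜).Opens) (s : Γ(GrMod.tilde 𝒜 ℳ 0, V)), s = 0) :
    ∃ n : ℕ, ∀ k : ℕ, n ≤ k → ∀ m ∈ ℳ k, m = 0 := by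
  classical
  obtain ⟨n₁, hN⟩ := hTF
  have hfg' : (Submodule.span A ((𝒜 1 : σ) : Set A)).FG := by
    rw [hgen] at hfg
    exact hfg
  obtain ⟨T, hT1, hTspan⟩ := (Submodule.fg_span_iff_fg_span_finset_subset _).mp hfg'
  obtain ⟨G, hG1, hGspan⟩ := (Submodule.fg_span_iff_fg_span_finset_subset _).mp hN
  have hGdeg : ∀ g ∈ G, ∃ d, n₁ ≤ d ∧ g ∈ ℳ d := by
    intro g hg
    obtain ⟨d, hd, hgd⟩ := Set.mem_iUnion₂.mp (hG1 hg)
    exact ⟨d, hd, hgd⟩
  choose! deg hdeg using hGdeg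
  have hkill : ∀ f ∈ T, ∀ g ∈ G, ∃ N : ℕ, f ^ N • g = 0 := by
    intro f hf g hg
    have hf1 : f ∈ 𝒜 1 := hT1 hf
    refine GrModSections.exists_pow_smul_eq_zero_of_forall_localized_eq_zero 𝒜 ℳ Nat.one_pos hf1
      (hdeg g hg).2 fun x hfx => ?_
    have hk : f ^ deg g ∈ 𝒜 (deg g) := by
      have := SetLike.pow_mem_graded (deg g) hf1
      rwa [smul_eq_mul, mul_one] at this
    have hnin : ∀ y : (Proj.basicOpen 𝒜 f : (Proj 𝒜).Opens),
        f ^ deg g ∉ y.1.asHomogeneousIdeal := fun y h =>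
      ((ProjectiveSpectrum.mem_basicOpen 𝒜 f y.1).mp y.2) (y.1.isPrime.mem_of_pow_mem _ h)
    have hfx' : x ∈ (Proj.basicOpen 𝒜 f : (Proj 𝒜).Opens) :=
      (ProjectiveSpectrum.mem_basicOpen 𝒜 f x).mpr hfx
    have hsec := h0 (Proj.basicOpen 𝒜 f) (fracSect 𝒜 ℳ 0 (Proj.basicOpen 𝒜 f)
      (show ((deg g : ℕ) : ℤ) = (deg g : ℕ) + 0 by simp) ⟨g, (hdeg g hg).2⟩ ⟨f ^ deg g, hk⟩ hnin)
    have hval : (LocalizedModule.mk g ⟨f ^ deg g, hnin ⟨x, hfx'⟩⟩ : GrMod.LocMod 𝒜 (M := M) x) = 0 :=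
      congrArg (fun s : Γ(GrMod.tilde 𝒜 ℳ 0, Proj.basicOpen 𝒜 f) => GrMod.val s ⟨x, hfx'⟩) hsec
    exact exists_smul_eq_zero_of_mk_eq_zero 𝒜 x g _ hval
  choose! Nfg hNfg using hkill
  have hN₀ : ∀ f ∈ T, ∀ g ∈ G, f ^ (T.sup fun f => G.sup fun g => Nfg f g) • g = 0 := by
    intro f hf g hg
    have hle : Nfg f g ≤ T.sup fun f => G.sup fun g => Nfg f g :=
      (Finset.le_sup (f := fun g => Nfg f g) hg).trans
        (Finset.le_sup (f := fun f => G.sup fun g => Nfg f g) hf)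
    rw [← Nat.sub_add_cancel hle, pow_add, mul_smul, hNfg f hf g hg, smul_zero]
  have hI : (𝒜₊).toIdeal = Ideal.span (T : Set A) := hgen.trans hTspan
  have hIJ : (𝒜₊).toIdeal ≤ ((Submodule.span A (G : Set M)).annihilator).radical := by
    rw [hI, Ideal.span_le]
    intro f hf
    exact ⟨T.sup fun f => G.sup fun g => Nfg f g,
      (Submodule.mem_annihilator_span _ _).mpr fun g => hN₀ f (Finset.mem_coe.mp hf) g.1
        (Finset.mem_coe.mp g.2)⟩
  obtain ⟨K, hK⟩ := Ideal.exists_pow_le_of_le_radical_of_fg hIJ hfg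
  refine ⟨n₁ + G.sup deg + K, fun k hk m hm => ?_⟩
  have hmN : m ∈ Submodule.span A (G : Set M) := by
    rw [← hGspan]
    exact Submodule.subset_span (Set.mem_iUnion₂.mpr ⟨k, Set.mem_Ici.mpr (by omega), hm⟩)
  obtain ⟨c, -, hc⟩ := Submodule.mem_span_finset.mp hmN
  have hm_eq : m = ∑ g ∈ G, (DirectSum.decompose ℳ (c g • g) k : M) := by
    calc m = (DirectSum.decompose ℳ m k : M) := (DirectSum.decompose_of_mem_same ℳ hm).symm
      _ = (DirectSum.decompose ℳ (∑ g ∈ G, c g • g) k : M) := by rw [hc]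
      _ = _ := by
        rw [DirectSum.decompose_sum, DFinsupp.finsetSum_apply, AddSubmonoidClass.coe_finsetSum]
  rw [hm_eq]
  refine Finset.sum_eq_zero fun g hg => ?_
  have hsup : deg g ≤ G.sup deg := Finset.le_sup hg
  obtain ⟨j, rfl⟩ : ∃ j, k = j + deg g := ⟨k - deg g, by omega⟩
  have hjK : K ≤ j := by omega
  have hmemJ : (DirectSum.decompose 𝒜 (c g) j : A) ∈ (Submodule.span A (G : Set M)).annihilator := by
    apply hK
    exact Ideal.pow_le_pow_right hjK (mem_irrelevant_pow 𝒜 hgen j _ (SetLike.coe_mem _))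
  rw [coe_decompose_smul_of_mem_right 𝒜 ℳ (hdeg g hg).2 (c g) j]
  exact (Submodule.mem_annihilator_span _ _).mp hmemJ ⟨g, Finset.mem_coe.mpr hg⟩

end

end Groth.Agent.H41.GrModTN
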