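import Groth.Agent.H41.RelTildeFT
import Mathlib

/-!
# Graded rings with finitely generated irrelevant ideal, and finite type of `M~` under (TF)
for generators of arbitrary positive degrees
-/

set_option autoImplicit false
set_option linter.style.haveILetI false
universe u

open CategoryTheory CategoryTheory.Limits AlgebraicGeometry HomogeneousIdeal TopologicalSpace Opposite
open Groth.Agent.H8 Groth.Agent.H41.GrModQCoh Groth.Agent.H41.GrModMaps
  Groth.Agent.H41.RelTildeMaps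

namespace Groth.Agent.H41.GradedFT

section Alg

variable {A σ : Type*} [CommRing A] [SetLike σ A] [AddSubgroupClass σ A] (𝒜 : ℕ → σ) [GradedRing 𝒜]

theorem mem_adjoin_of_homogeneous (T : Finset A)
    (hT : Ideal.span (T : Set A) = (HomogeneousIdeal.irrelevant 𝒜).toIdeal) (T' : Set A)
    (hT' : ∀ t ∈ T, ∀ j, ((DirectSum.decompose 𝒜 t j : 𝒜 j) : A) ∈ T') :
    ∀ N : ℕ, ∀ a ∈ 𝒜 N, a ∈ Algebra.adjoin (𝒜 0) T' := by
  classical
  intro N
  induction N using Nat.strong_induction_on with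
  | _ N ih =>
  intro a ha
  rcases Nat.eq_zero_or_pos N with rfl | hN
  · exact Subalgebra.algebraMap_mem (Algebra.adjoin (𝒜 0) T') (⟨a, ha⟩ : 𝒜 0)
  · have haI : a ∈ Ideal.span (T : Set A) := by
      rw [hT]; exact HomogeneousIdeal.mem_irrelevant_of_mem 𝒜 hN ha
    have key : ∀ z ∈ Ideal.span (T : Set A), ∀ j ≤ N,
        ((DirectSum.decompose 𝒜 z j : 𝒜 j) : A) ∈ Algebra.adjoin (𝒜 0) T' := by
      intro z hz
      induction hz using Submodule.span_induction with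
      | mem t ht => intro j _; exact Algebra.subset_adjoin (hT' t ht j)
      | zero =>
        intro j _
        rw [DirectSum.decompose_zero, DirectSum.zero_apply, ZeroMemClass.coe_zero]
        exact zero_mem _
      | add x y _ _ hx hy =>
        intro j hj
        rw [DirectSum.decompose_add, DirectSum.add_apply, AddMemClass.coe_add]
        exact add_mem (hx j hj) (hy j hj)
      | smul c z' hz' ih' =>
        intro j hj
        have hz0 : ((DirectSum.decompose 𝒜 z' 0 : 𝒜 0) : A) = 0 := by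
          have h1 : z' ∈ (HomogeneousIdeal.irrelevant 𝒜).toIdeal := by rw [← hT]; exact hz'
          have h2 := (HomogeneousIdeal.mem_irrelevant_iff 𝒜 z').mp h1
          rwa [GradedRing.proj_apply] at h2
        have e : c • z' = ∑ i ∈ (DirectSum.decompose 𝒜 c).support,
            ((DirectSum.decompose 𝒜 c i : 𝒜 i) : A) * z' := by
          rw [smul_eq_mul]
          conv_lhs => rw [← DirectSum.sum_support_decompose 𝒜 c, Finset.sum_mul]
        rw [e, DirectSum.decompose_sum, DFinsupp.finsetSum_apply, AddSubmonoidClass.coe_finsetSum]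
        refine sum_mem fun i _ => ?_
        by_cases hij : i ≤ j
        · rw [DirectSum.coe_decompose_mul_of_left_mem_of_le 𝒜 (SetLike.coe_mem _) hij]
          by_cases hiN : i < N
          · exact mul_mem (ih i hiN _ (SetLike.coe_mem _)) (ih' (j - i) (by omega))
          · have hji : j - i = 0 := by omega
            rw [hji, hz0, mul_zero]
            exact zero_mem _
        · rw [DirectSum.coe_decompose_mul_of_left_mem_of_not_le 𝒜 (SetLike.coe_mem _) hij]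
          exact zero_mem _
    have := key a haI N le_rfl
    rwa [DirectSum.decompose_of_mem_same 𝒜 ha] at this

/-- A graded ring whose irrelevant ideal is finitely generated is a finitely generated algebra over
its degree-zero part. -/
theorem finiteType_of_irrelevant_fg (h : (HomogeneousIdeal.irrelevant 𝒜).toIdeal.FG) :
    Algebra.FiniteType (𝒜 0) A := by
  classical
  obtain ⟨T, hT⟩ := h
  refine ⟨⟨insert 0 (T.biUnion fun t =>
    (DFinsupp.support (DirectSum.decompose 𝒜 t)).image fun j =>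
      ((DirectSum.decompose 𝒜 t j : 𝒜 j) : A)), ?_⟩⟩
  rw [_root_.eq_top_iff]
  rintro a -
  rw [← DirectSum.sum_support_decompose 𝒜 a]
  refine sum_mem fun N _ => mem_adjoin_of_homogeneous 𝒜 T hT _ ?_ N _ (SetLike.coe_mem _)
  intro t ht j
  by_cases hj : j ∈ DFinsupp.support (DirectSum.decompose 𝒜 t)
  · exact Finset.mem_coe.mpr (Finset.mem_insert_of_mem
      (Finset.mem_biUnion.mpr ⟨t, ht, Finset.mem_image_of_mem _ hj⟩))
  · have h0 : DirectSum.decompose 𝒜 t j = 0 := DFinsupp.notMem_support_iff.mp hj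
    rw [h0, ZeroMemClass.coe_zero]
    exact Finset.mem_coe.mpr (Finset.mem_insert_self _ _)

/-- Homogeneous elements are combinations, over the degree-zero part, of monomials of the same
degree in homogeneous algebra generators. -/
theorem mem_span_monomials {ι' : Type*} [Fintype ι'] (v : ι' → A) (dv : ι' → ℕ)
    (hv : ∀ i, v i ∈ 𝒜 (dv i)) (hx : Algebra.adjoin (𝒜 0) (Set.range v) = ⊤) (D : ℕ) (c : A)
    (hc : c ∈ 𝒜 D) :
    c ∈ Submodule.span (𝒜 0)
      {m : A | ∃ α : ι' → ℕ, ∑ i, α i • dv i = D ∧ m = ∏ i, v i ^ α i} := by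
  classical
  have hmem : c ∈ Submodule.span (𝒜 0) (Submonoid.closure (Set.range v) : Set A) := by
    rw [← Algebra.adjoin_eq_span, hx]; trivial
  have key : ∀ z ∈ Submodule.span (𝒜 0) (Submonoid.closure (Set.range v) : Set A),
      ((DirectSum.decompose 𝒜 z D : 𝒜 D) : A) ∈ Submodule.span (𝒜 0)
        {m : A | ∃ α : ι' → ℕ, ∑ i, α i • dv i = D ∧ m = ∏ i, v i ^ α i} := by
    intro z hz
    induction hz using Submodule.span_induction with
    | mem z hz =>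
      obtain ⟨α, rfl⟩ := Submonoid.exists_of_mem_closure_range _ _ hz
      have hdeg : ∏ i, v i ^ α i ∈ 𝒜 (∑ i, α i • dv i) :=
        SetLike.prod_pow_mem_graded _ _ _ _ fun i _ => hv i
      by_cases H : ∑ i, α i • dv i = D
      · have hdeg' : ∏ i, v i ^ α i ∈ 𝒜 D := by rw [← H]; exact hdeg
        rw [DirectSum.decompose_of_mem_same 𝒜 hdeg']
        exact Submodule.subset_span ⟨α, H, rfl⟩
      · rw [DirectSum.decompose_of_mem_ne 𝒜 hdeg H]
        exact zero_mem _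
    | zero =>
      rw [DirectSum.decompose_zero, DirectSum.zero_apply, ZeroMemClass.coe_zero]
      exact zero_mem _
    | add x y _ _ hx hy =>
      rw [DirectSum.decompose_add, DirectSum.add_apply, AddMemClass.coe_add]
      exact add_mem hx hy
    | smul r x _ hx =>
      have e : ((DirectSum.decompose 𝒜 (r • x) D : 𝒜 D) : A) =
          r • ((DirectSum.decompose 𝒜 x D : 𝒜 D) : A) := by
        rw [Algebra.smul_def, Algebra.smul_def]
        exact DirectSum.coe_decompose_mul_of_left_mem_zero 𝒜 r.2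
      rw [e]
      exact Submodule.smul_mem _ r hx
  have := key c hmem
  rwa [DirectSum.decompose_of_mem_same 𝒜 hc] at this

theorem arith1 {d e K c t i : ℕ} {n : ℤ} (hd : 0 < d) (hi : (i : ℤ) = ((K • d : ℕ) : ℤ) + n)
    (hie : i = e • d + t) (hnc : n ≤ (c : ℤ)) : e ≤ c + K := by
  by_contra hcon
  have hcon' : c + K + 1 ≤ e := by omega
  have h1 : (c + K + 1) * d ≤ e * d := Nat.mul_le_mul_right d hcon'
  have h2 : c ≤ c * d := Nat.le_mul_of_pos_right c hd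
  simp only [smul_eq_mul] at hi hie
  push_cast at hi
  have hie' : (i : ℤ) = (e : ℤ) * d + t := by exact_mod_cast hie
  have h1' : ((c : ℤ) + K + 1) * d ≤ (e : ℤ) * d := by exact_mod_cast h1
  have h2' : (c : ℤ) ≤ (c : ℤ) * d := by exact_mod_cast h2
  have ht : (0 : ℤ) ≤ t := Int.natCast_nonneg t
  have hd' : (0 : ℤ) < d := by exact_mod_cast hd
  nlinarith

end Alg

section Sections

variable {A σ : Type u} [CommRing A] [SetLike σ A] [AddSubgroupClass σ A] (𝒜 : ℕ → σ) [GradedRing 𝒜]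
  {M τ : Type u} [AddCommGroup M] [Module A M] [SetLike τ M] [AddSubgroupClass τ M]
  (ℳ : ℕ → τ) [DirectSum.Decomposition ℳ] [SetLike.GradedSMul 𝒜 ℳ]
  {d : ℕ} (hd : 0 < d) {f : A} (hf : f ∈ 𝒜 d) (n : ℤ)

theorem pow_not_mem (k : ℕ) (y : (Proj.basicOpen 𝒜 f : (Proj 𝒜).Opens)) :
    f ^ k ∉ y.1.asHomogeneousIdeal :=
  fun h => ((ProjectiveSpectrum.mem_basicOpen 𝒜 f y.1).mp y.2) (y.1.isPrime.mem_of_pow_mem _ h)

theorem mk_add_same {S : Submonoid A} (z z' : M) (s : S) :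
    (LocalizedModule.mk (z + z') s : LocalizedModule S M) =
      LocalizedModule.mk z s + LocalizedModule.mk z' s := by
  rw [LocalizedModule.mk_add_mk, LocalizedModule.mk_eq]
  refine ⟨1, ?_⟩
  simp only [one_smul, smul_add, mul_smul]

/-- The section `u_i / f^K` of `M(n)~` over `D₊(f)`, where `u_i` is the component of `u` of
degree `i = K d + n`. -/
noncomputable def Phi (K i : ℕ) (hi : (i : ℤ) = ((K • d : ℕ) : ℤ) + n) (u : M) :
    Γ(GrMod.tilde 𝒜 ℳ n, Proj.basicOpen 𝒜 f) :=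
  fracSect 𝒜 ℳ n (Proj.basicOpen 𝒜 f) hi (DirectSum.decompose ℳ u i)
    ⟨f ^ K, SetLike.pow_mem_graded K hf⟩ (pow_not_mem 𝒜 K)

theorem val_Phi (K i : ℕ) (hi : (i : ℤ) = ((K • d : ℕ) : ℤ) + n) (u : M)
    (x : (Proj.basicOpen 𝒜 f : (Proj 𝒜).Opens)) :
    GrMod.val (Phi 𝒜 ℳ hf n K i hi u) x =
      LocalizedModule.mk ((DirectSum.decompose ℳ u i : ℳ i) : M) ⟨f ^ K, pow_not_mem 𝒜 K x⟩ :=
  rfl

theorem Phi_congr {K K' i : ℕ} (hK : K = K') (hi : (i : ℤ) = ((K • d : ℕ) : ℤ) + n)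
    (hi' : (i : ℤ) = ((K' • d : ℕ) : ℤ) + n) (u : M) :
    Phi 𝒜 ℳ hf n K i hi u = Phi 𝒜 ℳ hf n K' i hi' u := by
  subst hK; rfl

theorem Phi_add (K i : ℕ) (hi : (i : ℤ) = ((K • d : ℕ) : ℤ) + n) (u u' : M) :
    Phi 𝒜 ℳ hf n K i hi (u + u') = Phi 𝒜 ℳ hf n K i hi u + Phi 𝒜 ℳ hf n K i hi u' := by
  refine sect_ext 𝒜 ℳ n _ _ fun x => ?_
  have h2 : GrMod.val (Phi 𝒜 ℳ hf n K i hi u + Phi 𝒜 ℳ hf n K i hi u') x =
      GrMod.val (Phi 𝒜 ℳ hf n K i hi u) x + GrMod.val (Phi 𝒜 ℳ hf n K i hi u') x := rfl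
  rw [h2, val_Phi, val_Phi, val_Phi, DirectSum.decompose_add, DirectSum.add_apply,
    AddMemClass.coe_add]
  exact mk_add_same _ _ _

/-- `Phi` as an additive map. -/
noncomputable def PhiHom (K i : ℕ) (hi : (i : ℤ) = ((K • d : ℕ) : ℤ) + n) :
    M →+ Γ(GrMod.tilde 𝒜 ℳ n, Proj.basicOpen 𝒜 f) :=
  AddMonoidHom.mk' (Phi 𝒜 ℳ hf n K i hi) (Phi_add 𝒜 ℳ hf n K i hi)

theorem PhiHom_apply (K i : ℕ) (hi : (i : ℤ) = ((K • d : ℕ) : ℤ) + n) (u : M) :
    PhiHom 𝒜 ℳ hf n K i hi u = Phi 𝒜 ℳ hf n K i hi u := rfl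

theorem Phi_zero (K i : ℕ) (hi : (i : ℤ) = ((K • d : ℕ) : ℤ) + n) :
    Phi 𝒜 ℳ hf n K i hi 0 = 0 :=
  map_zero (PhiHom 𝒜 ℳ hf n K i hi)

theorem raise_eq {K i : ℕ} (hi : (i : ℤ) = ((K • d : ℕ) : ℤ) + n) (j : ℕ) :
    ((j • d + i : ℕ) : ℤ) = (((j + K) • d : ℕ) : ℤ) + n := by
  have h := hi
  simp only [smul_eq_mul] at h ⊢
  push_cast at h ⊢
  linear_combination h

theorem Phi_raise (K i : ℕ) (hi : (i : ℤ) = ((K • d : ℕ) : ℤ) + n) (j : ℕ) (u : M)
    (hi' : ((j • d + i : ℕ) : ℤ) = (((j + K) • d : ℕ) : ℤ) + n) :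
    Phi 𝒜 ℳ hf n K i hi u = Phi 𝒜 ℳ hf n (j + K) (j • d + i) hi' (f ^ j • u) := by
  refine sect_ext 𝒜 ℳ n _ _ fun x => ?_
  rw [val_Phi, val_Phi,
    GrModSections.coe_decompose_smul_of_mem 𝒜 ℳ (SetLike.pow_mem_graded j hf) u i,
    LocalizedModule.mk_eq]
  refine ⟨1, ?_⟩
  have key : f ^ (j + K) • ((DirectSum.decompose ℳ u i : ℳ i) : M) =
      f ^ K • (f ^ j • ((DirectSum.decompose ℳ u i : ℳ i) : M)) := by
    rw [smul_smul, ← pow_add, add_comm]
  rw [one_smul, one_smul]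
  exact key

/-- The section `a / f^e` of the structure sheaf over `D₊(f)`. -/
noncomputable def rFrac (e : ℕ) (a : A) (ha : a ∈ 𝒜 (e • d)) : Γ(Proj 𝒜, Proj.basicOpen 𝒜 f) :=
  (Proj.basicOpenIsoAway 𝒜 f hf hd).hom (HomogeneousLocalization.Away.mk 𝒜 hf e a ha)

theorem rval_rFrac (e : ℕ) (a : A) (ha : a ∈ 𝒜 (e • d))
    (x : (Proj.basicOpen 𝒜 f : (Proj 𝒜).Opens)) :
    (rval 𝒜 (rFrac 𝒜 hd hf e a ha) x).val = Localization.mk a ⟨f ^ e, pow_not_mem 𝒜 e x⟩ :=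
  rfl

theorem Phi_smul (e : ℕ) (a : A) (ha : a ∈ 𝒜 (e • d)) (K' i' : ℕ)
    (hi' : (i' : ℤ) = ((K' • d : ℕ) : ℤ) + n) (K i : ℕ) (hi : (i : ℤ) = ((K • d : ℕ) : ℤ) + n)
    (hK : K = e + K') (hI : i = e • d + i') (w : M) :
    Phi 𝒜 ℳ hf n K i hi (a • w) = rFrac 𝒜 hd hf e a ha • Phi 𝒜 ℳ hf n K' i' hi' w := by
  subst hK hI
  refine sect_ext 𝒜 ℳ n _ _ fun x => ?_
  rw [val_smul, val_Phi, val_Phi, rval_rFrac,
    GrModSections.coe_decompose_smul_of_mem 𝒜 ℳ ha w i', LocalizedModule.mk_smul_mk]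
  congr 1
  apply Subtype.ext
  show f ^ (e + K') = f ^ e * f ^ K'
  rw [pow_add]

include hd hf in
/-- Sections of `M(n)~` over `D₊(f)` form a finite module when `A` is a finitely generated
algebra over `A₀` and `M` satisfies (TF). -/
theorem finite_sections_basicOpen [Algebra.FiniteType (𝒜 0) A]
    (hTF : ∃ n₁ : ℕ, (Submodule.span A (⋃ k ∈ Set.Ici n₁, ((ℳ k : τ) : Set M))).FG)
    (V : (Proj 𝒜).Opens) (hV : V = Proj.basicOpen 𝒜 f) :
    Module.Finite Γ(Proj 𝒜, V) Γ(GrMod.tilde 𝒜 ℳ n, V) := by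
  classical
  subst hV
  obtain ⟨n₁, hN⟩ := hTF
  obtain ⟨G, hG1, hGspan⟩ := (Submodule.fg_span_iff_fg_span_finset_subset _).mp hN
  have hGdeg : ∀ g ∈ G, ∃ e, n₁ ≤ e ∧ g ∈ ℳ e := by
    intro g hg
    obtain ⟨e, he, hge⟩ := Set.mem_iUnion₂.mp (hG1 hg)
    exact ⟨e, he, hge⟩
  choose! deg hdeg using hGdeg
  obtain ⟨s, hs, hs'⟩ := GradedAlgebra.exists_finset_adjoin_eq_top_and_homogeneous 𝒜
  have hs'' : ∀ i : s, ∃ e, (i : A) ∈ 𝒜 e := fun i => hs' i.1 i.2
  choose dv hv using hs''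
  have hx : Algebra.adjoin (𝒜 0) (Set.range (Subtype.val : s → A)) = ⊤ := by simpa using hs
  obtain ⟨c, hnc⟩ : ∃ c : ℕ, n ≤ (c : ℤ) := ⟨n.toNat, Int.self_le_toNat n⟩
  have hfpow : ∀ k : ℕ, f ^ k ∈ 𝒜 (k • d) := fun k => SetLike.pow_mem_graded k hf
  let gen : M × (s → Fin d) → Γ(GrMod.tilde 𝒜 ℳ n, Proj.basicOpen 𝒜 f) := fun q =>
    if h : ∃ K'' : ℕ, ((c • d + (∑ j : s, (q.2 j : ℕ) • dv j + deg q.1) : ℕ) : ℤ) =
        ((K'' • d : ℕ) : ℤ) + n then
      Phi 𝒜 ℳ hf n h.choose _ h.choose_spec (f ^ c • ((∏ j : s, (j : A) ^ (q.2 j : ℕ)) • q.1))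
    else 0
  refine ⟨⟨(G ×ˢ (Finset.univ : Finset (s → Fin d))).image gen, ?_⟩⟩
  rw [_root_.eq_top_iff]
  rintro t -
  -- monomials
  have step3mon : ∀ (g : M) (_ : g ∈ G) (K i : ℕ) (hi : (i : ℤ) = ((K • d : ℕ) : ℤ) + n)
      (α : s → ℕ), (∑ j, α j • dv j) + deg g = i →
      Phi 𝒜 ℳ hf n K i hi ((∏ j : s, (j : A) ^ α j) • g) ∈
        Submodule.span Γ(Proj 𝒜, Proj.basicOpen 𝒜 f)
          (((G ×ˢ (Finset.univ : Finset (s → Fin d))).image gen : Finset _) :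
            Set Γ(GrMod.tilde 𝒜 ℳ n, Proj.basicOpen 𝒜 f)) := by
    intro g hg K i hi α hα
    obtain ⟨q, hq⟩ : ∃ q : s → ℕ, q = fun j => α j / d := ⟨_, rfl⟩
    obtain ⟨ρ, hρ⟩ : ∃ ρ : s → Fin d, ρ = fun j => ⟨α j % d, Nat.mod_lt _ hd⟩ := ⟨_, rfl⟩
    have hqρ : ∀ j, α j = d * q j + (ρ j : ℕ) := fun j => by
      rw [hq, hρ]; exact (Nat.div_add_mod (α j) d).symm
    obtain ⟨e, he⟩ : ∃ e : ℕ, e = ∑ j, q j • dv j := ⟨_, rfl⟩
    obtain ⟨P, hP⟩ : ∃ P : A, P = ∏ j : s, (j : A) ^ (d * q j) := ⟨_, rfl⟩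
    have hPmem : P ∈ 𝒜 (e • d) := by
      have h1 : P ∈ 𝒜 (∑ j, (d * q j) • dv j) := by
        rw [hP]; exact SetLike.prod_pow_mem_graded _ _ _ _ fun j _ => hv j
      have h2 : ∑ j, (d * q j) • dv j = e • d := by
        rw [he, Finset.sum_smul]
        refine Finset.sum_congr rfl fun j _ => ?_
        simp only [smul_eq_mul]; ring
      rwa [h2] at h1
    have hprod : (∏ j : s, (j : A) ^ α j) = P * ∏ j : s, (j : A) ^ (ρ j : ℕ) := by
      rw [hP, ← Finset.prod_mul_distrib]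
      refine Finset.prod_congr rfl fun j _ => ?_
      rw [← pow_add, ← hqρ j]
    have hαsum : ∑ j, α j • dv j = e • d + ∑ j, (ρ j : ℕ) • dv j := by
      rw [he, Finset.sum_smul, ← Finset.sum_add_distrib]
      refine Finset.sum_congr rfl fun j _ => ?_
      rw [hqρ j]
      simp only [smul_eq_mul]; ring
    have hie : i = e • d + (∑ j, (ρ j : ℕ) • dv j + deg g) := by
      rw [← hα, hαsum, add_assoc]
    have heK : e ≤ c + K := arith1 hd hi hie hnc
    obtain ⟨K'', hK''⟩ : ∃ K'' : ℕ, c + K = e + K'' := ⟨c + K - e, by omega⟩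
    have hi''eq : ((c • d + (∑ j, (ρ j : ℕ) • dv j + deg g) : ℕ) : ℤ) =
        ((K'' • d : ℕ) : ℤ) + n := by
      have h0 := hi
      have h1 : ((i : ℕ) : ℤ) = ((e • d + (∑ j, (ρ j : ℕ) • dv j + deg g) : ℕ) : ℤ) := by
        rw [← hie]
      have h2 : ((c + K : ℕ) : ℤ) = ((e + K'' : ℕ) : ℤ) := by rw [hK'']
      simp only [smul_eq_mul] at h0 h1 ⊢
      push_cast at h0 h1 h2 ⊢
      linear_combination (d : ℤ) * h2 + h0 - h1
    have hex : ∃ K₀ : ℕ, ((c • d + (∑ j, (ρ j : ℕ) • dv j + deg g) : ℕ) : ℤ) =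
        ((K₀ • d : ℕ) : ℤ) + n := ⟨K'', hi''eq⟩
    have hKeq : hex.choose = K'' := by
      have h1 := hex.choose_spec
      have h2 : ((hex.choose • d : ℕ) : ℤ) = ((K'' • d : ℕ) : ℤ) := by linarith [h1, hi''eq]
      have h3 : hex.choose • d = K'' • d := by exact_mod_cast h2
      exact Nat.eq_of_mul_eq_mul_right hd h3
    have hgen : gen (g, ρ) = Phi 𝒜 ℳ hf n K'' _ hi''eq
        (f ^ c • ((∏ j : s, (j : A) ^ (ρ j : ℕ)) • g)) := by
      show (if h : ∃ K₀ : ℕ, ((c • d + (∑ j, (ρ j : ℕ) • dv j + deg g) : ℕ) : ℤ) =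
        ((K₀ • d : ℕ) : ℤ) + n then
        Phi 𝒜 ℳ hf n h.choose _ h.choose_spec (f ^ c • ((∏ j : s, (j : A) ^ (ρ j : ℕ)) • g))
        else 0) = _
      rw [dif_pos hex]
      exact Phi_congr 𝒜 ℳ hf n hKeq _ _ _
    have hi1 := raise_eq (d := d) n hi c
    have e1 := Phi_raise 𝒜 ℳ hf n K i hi c ((∏ j : s, (j : A) ^ α j) • g) hi1
    have e2 : f ^ c • ((∏ j : s, (j : A) ^ α j) • g) =
        P • (f ^ c • ((∏ j : s, (j : A) ^ (ρ j : ℕ)) • g)) := by
      rw [hprod, smul_smul, smul_smul, smul_smul]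
      congr 1
      ring
    have e3 := Phi_smul 𝒜 ℳ hd hf n e P hPmem K'' _ hi''eq (c + K) (c • d + i) hi1 hK''
      (by rw [hie]; ring) (f ^ c • ((∏ j : s, (j : A) ^ (ρ j : ℕ)) • g))
    rw [e1, e2, e3, ← hgen]
    exact Submodule.smul_mem _ _ (Submodule.subset_span (Finset.mem_coe.mpr
      (Finset.mem_image_of_mem gen (Finset.mem_product.mpr ⟨hg, Finset.mem_univ _⟩))))
  -- homogeneous coefficients
  have step3 : ∀ (g : M) (_ : g ∈ G) (K i : ℕ) (hi : (i : ℤ) = ((K • d : ℕ) : ℤ) + n) (D : ℕ),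
      D + deg g = i → ∀ c' ∈ 𝒜 D, Phi 𝒜 ℳ hf n K i hi (c' • g) ∈
        Submodule.span Γ(Proj 𝒜, Proj.basicOpen 𝒜 f)
          (((G ×ˢ (Finset.univ : Finset (s → Fin d))).image gen : Finset _) :
            Set Γ(GrMod.tilde 𝒜 ℳ n, Proj.basicOpen 𝒜 f)) := by
    intro g hg K i hi D hD c' hc'
    have hmem := mem_span_monomials 𝒜 (Subtype.val : s → A) dv hv hx D c' hc'
    clear hc'
    induction hmem using Submodule.span_induction with
    | mem z hz =>
      obtain ⟨α, hα, rfl⟩ := hz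
      exact step3mon g hg K i hi α (by rw [hα]; exact hD)
    | zero =>
      rw [zero_smul, Phi_zero]
      exact zero_mem _
    | add x y _ _ hx hy =>
      rw [add_smul, Phi_add]
      exact add_mem hx hy
    | smul a0 x _ hx =>
      have e0 : (a0 • x) • g = (a0 : A) • (x • g) := by
        rw [Algebra.smul_def, mul_smul]; rfl
      rw [e0, Phi_smul 𝒜 ℳ hd hf n 0 (a0 : A) (by rw [zero_smul]; exact a0.2) K i hi K i hi
        (zero_add K).symm (by rw [zero_smul, zero_add]) (x • g)]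
      exact Submodule.smul_mem _ _ hx
  -- homogeneous elements of large degree
  have step2 : ∀ (K i : ℕ) (hi : (i : ℤ) = ((K • d : ℕ) : ℤ) + n) (u : M), u ∈ ℳ i →
      n₁ + G.sup deg ≤ i → Phi 𝒜 ℳ hf n K i hi u ∈
        Submodule.span Γ(Proj 𝒜, Proj.basicOpen 𝒜 f)
          (((G ×ˢ (Finset.univ : Finset (s → Fin d))).image gen : Finset _) :
            Set Γ(GrMod.tilde 𝒜 ℳ n, Proj.basicOpen 𝒜 f)) := by
    intro K i hi u hu hle
    have hmN : u ∈ Submodule.span A (G : Set M) := by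
      rw [← hGspan]
      exact Submodule.subset_span (Set.mem_iUnion₂.mpr ⟨i, Set.mem_Ici.mpr (by omega), hu⟩)
    obtain ⟨cf, -, hcf⟩ := Submodule.mem_span_finset.mp hmN
    have hleg : ∀ g ∈ G, deg g ≤ i := fun g hg => by
      have : deg g ≤ G.sup deg := Finset.le_sup hg
      omega
    have hu_eq : u = ∑ g ∈ G, (DirectSum.decompose 𝒜 (cf g) (i - deg g) : A) • g := by
      calc u = (DirectSum.decompose ℳ u i : M) := (DirectSum.decompose_of_mem_same ℳ hu).symm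
        _ = (DirectSum.decompose ℳ (∑ g ∈ G, cf g • g) i : M) := by rw [hcf]
        _ = ∑ g ∈ G, (DirectSum.decompose ℳ (cf g • g) i : M) := by
            rw [DirectSum.decompose_sum, DFinsupp.finsetSum_apply,
              AddSubmonoidClass.coe_finsetSum]
        _ = _ := Finset.sum_congr rfl fun g hg => by
            have e1 : i = (i - deg g) + deg g := (Nat.sub_add_cancel (hleg g hg)).symm
            conv_lhs => rw [e1]
            exact GrModTN.coe_decompose_smul_of_mem_right 𝒜 ℳ (hdeg g hg).2 (cf g) _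
    rw [hu_eq, ← PhiHom_apply, map_sum]
    refine Submodule.sum_mem _ fun g hg => ?_
    exact step3 g hg K i hi (i - deg g) (Nat.sub_add_cancel (hleg g hg)) _ (SetLike.coe_mem _)
  -- the general section
  obtain ⟨k, i, m, hik, hval⟩ := GrModSections.sections_eq_fraction 𝒜 ℳ n hd hf t
  have hi : (i : ℤ) = ((k • d : ℕ) : ℤ) + n := by rw [hik, smul_eq_mul, Nat.cast_mul]
  have ht : t = Phi 𝒜 ℳ hf n k i hi (m : M) := by
    refine sect_ext 𝒜 ℳ n _ _ fun x => ?_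
    rw [val_Phi, DirectSum.decompose_of_mem_same ℳ m.2]
    exact hval x
  rw [ht]
  have hi1 := raise_eq (d := d) n hi (n₁ + G.sup deg)
  rw [Phi_raise 𝒜 ℳ hf n k i hi (n₁ + G.sup deg) (m : M) hi1]
  refine step2 _ _ hi1 _ (show f ^ (n₁ + G.sup deg) • (m : M) ∈
    ℳ ((n₁ + G.sup deg) • d + i) from SetLike.GradedSMul.smul_mem (hfpow _) m.2) ?_
  have h1 : n₁ + G.sup deg ≤ (n₁ + G.sup deg) • d := by
    rw [smul_eq_mul]; exact Nat.le_mul_of_pos_right _ hd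
  omega

end Sections

section Abs

variable {A σ : Type u} [CommRing A] [SetLike σ A] [AddSubgroupClass σ A] (𝒜 : ℕ → σ) [GradedRing 𝒜]
  {M τ : Type u} [AddCommGroup M] [Module A M] [SetLike τ M] [AddSubgroupClass τ M]
  (ℳ : ℕ → τ) [DirectSum.Decomposition ℳ] [SetLike.GradedSMul 𝒜 ℳ] (n : ℤ)

/-- `M(n)~` is of finite type on `Proj A` when `A` is a finitely generated `A₀`-algebra and `M`
satisfies (TF). -/
theorem isFT_tilde [Algebra.FiniteType (𝒜 0) A]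
    (hTF : ∃ n₁ : ℕ, (Submodule.span A (⋃ k ∈ Set.Ici n₁, ((ℳ k : τ) : Set M))).FG) :
    CohB1.IsFT (GrMod.tilde 𝒜 ℳ n) := by
  haveI : (GrMod.tilde 𝒜 ℳ n).IsQuasicoherent := isQuasicoherent_tilde 𝒜 ℳ n
  refine isFiniteType_of_finite_sections (GrMod.tilde 𝒜 ℳ n)
    (ι := {p : ℕ × A // 0 < p.1 ∧ p.2 ∈ 𝒜 p.1}) (fun p => Proj.basicOpen 𝒜 p.1.2) ?_
    (fun p => Proj.isAffineOpen_basicOpen 𝒜 p.1.2 p.2.2 p.2.1)
    (fun p => finite_sections_basicOpen 𝒜 ℳ p.2.1 p.2.2 n hTF _ rfl)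
  show ⨆ p : {p : ℕ × A // 0 < p.1 ∧ p.2 ∈ 𝒜 p.1}, Proj.basicOpen 𝒜 p.1.2 = ⊤
  refine _root_.eq_top_iff.mpr fun x _ => Opens.mem_iSup.mpr ?_
  by_contra hcon
  push Not at hcon
  apply x.not_irrelevant_le
  rw [HomogeneousIdeal.irrelevant_le]
  intro i hi s hs
  by_contra hsx
  exact hcon ⟨(i, s), hi, hs⟩ hsx

/-- The graded ring itself satisfies (TF). -/
theorem tf_self : ∃ n₁ : ℕ, (Submodule.span A (⋃ k ∈ Set.Ici n₁, ((𝒜 k : σ) : Set A))).FG := by
  refine ⟨0, ?_⟩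
  have h : Submodule.span A (⋃ k ∈ Set.Ici 0, ((𝒜 k : σ) : Set A)) = ⊤ := by
    apply (Ideal.eq_top_iff_one _).mpr
    exact Submodule.subset_span (Set.mem_iUnion₂.mpr
      ⟨0, Set.mem_Ici.mpr le_rfl, SetLike.GradedOne.one_mem⟩)
  rw [h]
  exact Module.Finite.fg_top

end Abs

section Rel

variable {Y P : Scheme.{u}} (𝒮 : RelProj.QCGrAlg Y) (p : P ⟶ Y)
  (chart : ∀ (U : Y.Opens) (hU : IsAffineOpen U),
    (((p ⁻¹ᵁ U : P.Opens) : Scheme.{u}) ≅ Proj (𝒮.deg U hU)))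
  (n : ℤ) (L : P.Modules)
  (lam : ∀ (U : Y.Opens) (hU : IsAffineOpen U),
    L ⟶ (Scheme.Modules.pushforward (RelProj.emb p chart U hU)).obj
      (GrTwist.twist (𝒮.deg U hU) n))
  (hL : RelProj.IsRelTwist 𝒮 p chart n L lam)

/-- If `𝒮(U)` is of finite type over `O(U)`, it is of finite type over its degree-zero part. -/
theorem finiteType_degZero_of_str (U : Y.Opens) (hU : IsAffineOpen U)
    (h : (𝒮.str.app (op U)).hom.FiniteType) :
    Algebra.FiniteType (𝒮.deg U hU 0) (𝒮.presheaf.obj (op U)) := by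
  letI := (𝒮.str.app (op U)).hom.toAlgebra
  obtain ⟨T, hT⟩ := h.out
  refine ⟨⟨T, ?_⟩⟩
  rw [_root_.eq_top_iff]
  rintro a -
  have ha : a ∈ Algebra.adjoin Γ(Y, U) (T : Set (𝒮.presheaf.obj (op U))) := by
    rw [hT]; trivial
  induction ha using Algebra.adjoin_induction with
  | mem x hx => exact Algebra.subset_adjoin hx
  | algebraMap r =>
    exact Subalgebra.algebraMap_mem _
      (⟨(𝒮.str.app (op U)).hom r, 𝒮.str_mem U hU r⟩ : 𝒮.deg U hU 0)
  | add x y _ _ hx hy => exact add_mem hx hy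
  | mul x y _ _ hx hy => exact mul_mem hx hy

include hL in
/-- The twisting sheaf `O_P(n)` of a relative `Proj` is quasi-coherent. -/
theorem isQuasicoherent_relTwist : L.IsQuasicoherent := by
  haveI : ∀ U : Y.affineOpens,
      (GrMod.tilde (𝒮.deg U.1 U.2) (𝒮.deg U.1 U.2) n).IsQuasicoherent :=
    fun U => isQuasicoherent_tilde (𝒮.deg U.1 U.2) (𝒮.deg U.1 U.2) n
  refine QCohTransfer.isQuasicoherent_of_bijective_pushforward L
    (ι := Y.affineOpens) (fun U => Proj (𝒮.deg U.1 U.2)) (fun U => RelProj.emb p chart U.1 U.2)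
    (fun U => GrMod.tilde (𝒮.deg U.1 U.2) (𝒮.deg U.1 U.2) n) (fun U => lam U.1 U.2)
    (fun U W hW => hL.bijective U.1 U.2 W (hW.trans (le_of_eq (opensRange_emb 𝒮 p chart U.1 U.2))))
    (fun x => ?_)
  obtain ⟨U, hU, hxU, -⟩ := Opens.isBasis_iff_nbhd.mp Y.isBasis_affineOpens
    (show p.base x ∈ (⊤ : Y.Opens) from trivial)
  exact ⟨⟨U, hU⟩, by rw [opensRange_emb]; exact hxU⟩

include hL in
/-- Finite generation of sections passes from a chart to the relative `Proj`. -/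
theorem finite_sections_of_chart (U : Y.Opens) (hU : IsAffineOpen U) (W : P.Opens)
    (hW : W ≤ p ⁻¹ᵁ U)
    [Module.Finite Γ(Proj (𝒮.deg U hU), RelProj.emb p chart U hU ⁻¹ᵁ W)
      Γ(GrMod.tilde (𝒮.deg U hU) (𝒮.deg U hU) n, RelProj.emb p chart U hU ⁻¹ᵁ W)] :
    Module.Finite Γ(P, W) Γ(L, W) := by
  haveI : IsIso ((RelProj.emb p chart U hU).app W) :=
    (RelProj.emb p chart U hU).isIso_app _ (by rw [opensRange_emb]; exact hW)
  have heps : Function.Bijective ((RelProj.emb p chart U hU).app W) :=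
    ConcreteCategory.bijective_of_isIso _
  have hsl : ∀ (r : Γ(P, W)) (m : Γ(L, W)),
      (show Γ(GrMod.tilde (𝒮.deg U hU) (𝒮.deg U hU) n, RelProj.emb p chart U hU ⁻¹ᵁ W) from
        (lam U hU).app W (r • m)) =
      ((RelProj.emb p chart U hU).app W).hom r •
        (show Γ(GrMod.tilde (𝒮.deg U hU) (𝒮.deg U hU) n, RelProj.emb p chart U hU ⁻¹ᵁ W) from
          (lam U hU).app W m) := by
    intro r m
    have h1 := Scheme.Modules.Hom.app_smul (lam U hU) r m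
    refine (congrArg (fun z => (show Γ(GrMod.tilde (𝒮.deg U hU) (𝒮.deg U hU) n,
      RelProj.emb p chart U hU ⁻¹ᵁ W) from z)) h1).trans ?_
    rfl
  exact RelTildeFT.finite_of_bijective_semilinear
    (N := Γ(GrMod.tilde (𝒮.deg U hU) (𝒮.deg U hU) n, RelProj.emb p chart U hU ⁻¹ᵁ W))
    ((RelProj.emb p chart U hU).app W).hom heps.2
    (show Γ(L, W) →+ Γ(GrMod.tilde (𝒮.deg U hU) (𝒮.deg U hU) n,
      RelProj.emb p chart U hU ⁻¹ᵁ W) from ((lam U hU).app W).hom)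
    (hL.bijective U hU W hW) hsl

include hL in
/-- For `𝒮` of finite type, the twisting sheaf `O_P(n)` is quasi-coherent of finite type. -/
theorem isCoh_relTwist
    (hft : ∀ (U : Y.Opens) (hU : IsAffineOpen U), (𝒮.str.app (op U)).hom.FiniteType) :
    Coh.IsCoh L := by
  haveI hq : L.IsQuasicoherent := isQuasicoherent_relTwist 𝒮 p chart n L lam hL
  refine ⟨hq, ?_⟩
  refine isFiniteType_of_finite_sections L
    (ι := Σ U : Y.affineOpens,
      {q : ℕ × 𝒮.presheaf.obj (op U.1) // 0 < q.1 ∧ q.2 ∈ 𝒮.deg U.1 U.2 q.1})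
    (fun i => RelProj.emb p chart i.1.1 i.1.2 ''ᵁ Proj.basicOpen (𝒮.deg i.1.1 i.1.2) i.2.1.2)
    ?_ ?_ ?_
  · show ⨆ i : Σ U : Y.affineOpens,
        {q : ℕ × 𝒮.presheaf.obj (op U.1) // 0 < q.1 ∧ q.2 ∈ 𝒮.deg U.1 U.2 q.1},
      RelProj.emb p chart i.1.1 i.1.2 ''ᵁ Proj.basicOpen (𝒮.deg i.1.1 i.1.2) i.2.1.2 = ⊤
    refine _root_.eq_top_iff.mpr fun y _ => Opens.mem_iSup.mpr ?_
    obtain ⟨U, hU, hyU, -⟩ := Opens.isBasis_iff_nbhd.mp Y.isBasis_affineOpens
      (show p.base y ∈ (⊤ : Y.Opens) from trivial)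
    obtain ⟨y', hy'⟩ : ∃ y', (RelProj.emb p chart U hU).base y' = y := by
      have : y ∈ (RelProj.emb p chart U hU).opensRange := by
        rw [opensRange_emb]; exact hyU
      exact this
    obtain ⟨e, he, t, ht, hty⟩ := exists_pos_not_mem (𝒮.deg U hU) y'
    exact ⟨⟨⟨U, hU⟩, ⟨(e, t), he, ht⟩⟩, y',
      (ProjectiveSpectrum.mem_basicOpen (𝒮.deg U hU) t y').mpr hty, hy'⟩
  · rintro ⟨⟨U, hU⟩, ⟨⟨e, t⟩, he, ht⟩⟩
    exact (Proj.isAffineOpen_basicOpen (𝒮.deg U hU) t ht he).image_of_isOpenImmersion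
      (RelProj.emb p chart U hU)
  · rintro ⟨⟨U, hU0⟩, ⟨⟨e, t⟩, he, ht⟩⟩
    have hU : IsAffineOpen U := hU0
    have hWle : RelProj.emb p chart U hU ''ᵁ Proj.basicOpen (𝒮.deg U hU) t ≤ p ⁻¹ᵁ U := by
      rintro _ ⟨z, _, rfl⟩
      have : (RelProj.emb p chart U hU).base z ∈ (RelProj.emb p chart U hU).opensRange :=
        ⟨z, rfl⟩
      rwa [opensRange_emb] at this
    haveI : Algebra.FiniteType (𝒮.deg U hU 0) (𝒮.presheaf.obj (op U)) :=
      finiteType_degZero_of_str 𝒮 U hU (hft U hU)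
    haveI : Module.Finite
        Γ(Proj (𝒮.deg U hU), RelProj.emb p chart U hU ⁻¹ᵁ
          (RelProj.emb p chart U hU ''ᵁ Proj.basicOpen (𝒮.deg U hU) t))
        Γ(GrMod.tilde (𝒮.deg U hU) (𝒮.deg U hU) n, RelProj.emb p chart U hU ⁻¹ᵁ
          (RelProj.emb p chart U hU ''ᵁ Proj.basicOpen (𝒮.deg U hU) t)) :=
      finite_sections_basicOpen (𝒮.deg U hU) (𝒮.deg U hU) he ht n (tf_self (𝒮.deg U hU)) _
        ((RelProj.emb p chart U hU).preimage_image_eq _)
    exact finite_sections_of_chart 𝒮 p chart n L lam hL U hU _ hWle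

end Rel

end Groth.Agent.H41.GradedFT
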