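import Mathlib

/-!
# The homogeneous localization at a prime of a graded ring inherits normality

If `A_𝔭` is an integrally closed domain, then so is the degree-zero localization `A_(𝔭)`.
-/

namespace Groth.Agent.H41.HomLocNormal

open HomogeneousLocalization DirectSum

variable {A : Type*} [CommRing A] (𝒜 : ℕ → AddSubgroup A) [GradedRing 𝒜]
variable (𝔭 : Ideal A) [𝔭.IsPrime]

theorem algebraMap_injective :
    Function.Injective (algebraMap (AtPrime 𝒜 𝔭) (Localization.AtPrime 𝔭)) := by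
  intro a b h
  apply val_injective
  simpa only [HomogeneousLocalization.algebraMap_apply] using h

theorem isDomain_atPrime [IsDomain (Localization.AtPrime 𝔭)] : IsDomain (AtPrime 𝒜 𝔭) :=
  Function.Injective.isDomain (algebraMap (AtPrime 𝒜 𝔭) (Localization.AtPrime 𝔭))
    (algebraMap_injective 𝒜 𝔭)

theorem isIntegrallyClosed_atPrime [IsDomain (Localization.AtPrime 𝔭)]
    [IsIntegrallyClosed (Localization.AtPrime 𝔭)] : IsIntegrallyClosed (AtPrime 𝒜 𝔭) := by
  classical
  have := isDomain_atPrime 𝒜 𝔭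
  let ι : AtPrime 𝒜 𝔭 →+* Localization.AtPrime 𝔭 := algebraMap _ _
  have hι : Function.Injective ι := algebraMap_injective 𝒜 𝔭
  let g : AtPrime 𝒜 𝔭 →+* FractionRing (Localization.AtPrime 𝔭) :=
    (algebraMap (Localization.AtPrime 𝔭) (FractionRing (Localization.AtPrime 𝔭))).comp ι
  have hg : Function.Injective g :=
    (IsFractionRing.injective (Localization.AtPrime 𝔭) (FractionRing (Localization.AtPrime 𝔭))).comp hι
  let ψ : FractionRing (AtPrime 𝒜 𝔭) →+* FractionRing (Localization.AtPrime 𝔭) :=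
    IsFractionRing.lift hg
  have hψ : ∀ b : AtPrime 𝒜 𝔭, ψ (algebraMap _ (FractionRing (AtPrime 𝒜 𝔭)) b) =
      algebraMap _ (FractionRing (Localization.AtPrime 𝔭)) (ι b) :=
    fun b => IsFractionRing.lift_algebraMap hg b
  rw [isIntegrallyClosed_iff (FractionRing (AtPrime 𝒜 𝔭))]
  intro x hx
  have hx' : IsIntegral (Localization.AtPrime 𝔭) (ψ x) :=
    hx.map_of_comp_eq ι ψ (RingHom.ext fun b => (hψ b).symm)
  obtain ⟨w, hw⟩ := (isIntegrallyClosed_iff (FractionRing (Localization.AtPrime 𝔭))).mp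
    inferInstance hx'
  obtain ⟨a, ⟨b, hb⟩, rfl⟩ := IsLocalization.exists_mk'_eq (nonZeroDivisors (AtPrime 𝒜 𝔭)) x
  have hrel : w * ι b = ι a := by
    apply IsFractionRing.injective (Localization.AtPrime 𝔭) (FractionRing (Localization.AtPrime 𝔭))
    rw [map_mul, hw, ← hψ, ← hψ, ← map_mul, IsLocalization.mk'_spec]
  obtain ⟨y, ⟨s, hs⟩, rfl⟩ := IsLocalization.exists_mk'_eq 𝔭.primeCompl w
  have hιa : ι a = Localization.mk a.num ⟨a.den, a.den_mem⟩ := a.eq_num_div_den
  have hιb : ι b = Localization.mk b.num ⟨b.den, b.den_mem⟩ := b.eq_num_div_den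
  rw [hιa, hιb, ← Localization.mk_eq_mk', Localization.mk_mul, Localization.mk_eq_mk_iff,
    Localization.r_iff_exists] at hrel
  obtain ⟨⟨u, hu⟩, hE⟩ := hrel
  simp only [Submonoid.coe_mul] at hE
  -- hE : u * (a.den * (y * b.num)) = u * (s * b.den * a.num)
  have hN₂ : a.den * b.num ∈ 𝒜 (a.deg + b.deg) := SetLike.mul_mem_graded a.den_mem_deg b.num_mem_deg
  have hN₁ : b.den * a.num ∈ 𝒜 (a.deg + b.deg) := by
    have := SetLike.mul_mem_graded (A := 𝒜) b.den_mem_deg a.num_mem_deg
    rwa [add_comm] at this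
  have hE' : (u * y) * (a.den * b.num) = (u * s) * (b.den * a.num) := by
    linear_combination hE
  have hs' : u * s ∉ 𝔭 := fun h => (Ideal.IsPrime.mem_or_mem ‹_› h).elim hu hs
  obtain ⟨j, hj⟩ : ∃ j, (decompose 𝒜 (u * s) j : A) ∉ 𝔭 := by
    by_contra hcon
    push Not at hcon
    apply hs'
    rw [← DirectSum.sum_support_decompose 𝒜 (u * s)]
    exact Ideal.sum_mem _ fun i _ => hcon i
  have hcomp : (decompose 𝒜 (u * y) j : A) * (a.den * b.num) =
      (decompose 𝒜 (u * s) j : A) * (b.den * a.num) := by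
    rw [← coe_decompose_mul_add_of_right_mem 𝒜 hN₂, ← coe_decompose_mul_add_of_right_mem 𝒜 hN₁, hE']
  let z : AtPrime 𝒜 𝔭 := HomogeneousLocalization.mk
    ⟨j, decompose 𝒜 (u * y) j, decompose 𝒜 (u * s) j, hj⟩
  have hz : z * b = a := by
    apply hι
    rw [map_mul, hιa, hιb]
    show Localization.mk _ _ * _ = _
    rw [Localization.mk_mul, Localization.mk_eq_mk_iff, Localization.r_iff_exists]
    refine ⟨1, ?_⟩
    simp only [Submonoid.coe_mul, Submonoid.coe_one, one_mul]
    linear_combination hcomp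
  refine ⟨z, ?_⟩
  rw [IsLocalization.eq_mk'_iff_mul_eq, ← map_mul, hz]

end Groth.Agent.H41.HomLocNormal
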