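import Groth.Agent.H88.PullTwist

/-!
# (PB) `(Proj.map ψ)^* O_𝒜(n) ≅ O_ℬ(n)` (helper41, squad piece for helper18 / S7676)
-/

set_option autoImplicit false
universe u
open CategoryTheory CategoryTheory.Limits AlgebraicGeometry HomogeneousIdeal

namespace Groth.Agent.H41.Hyp7_PB

/-- If `e` is an isomorphism of schemes, an isomorphism between pullbacks along `e` descends. -/
theorem nonempty_iso_of_pullback_iso {X Y : Scheme.{u}} (e : X ⟶ Y) [IsIso e] (A B : Y.Modules)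
    (h : Nonempty ((Scheme.Modules.pullback e).obj A ≅ (Scheme.Modules.pullback e).obj B)) :
    Nonempty (A ≅ B) := by
  obtain ⟨h⟩ := h
  have key : ∀ C : Y.Modules,
      (Scheme.Modules.pullback (inv e)).obj ((Scheme.Modules.pullback e).obj C) ≅ C := fun C =>
    (Scheme.Modules.pullbackComp (inv e) e).app C ≪≫
      (Scheme.Modules.pullbackCongr (show inv e ≫ e = 𝟙 Y by simp)).app C ≪≫
      (Scheme.Modules.pullbackId Y).app C
  exact ⟨(key A).symm ≪≫ (Scheme.Modules.pullback (inv e)).mapIso h ≪≫ key B⟩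

variable {R A B : Type u} [CommRing R] [CommRing A] [Algebra R A] [CommRing B] [Algebra R B]
  (𝒜 : ℕ → Submodule R A) [GradedAlgebra 𝒜] (ℬ : ℕ → Submodule R B) [GradedAlgebra ℬ]

theorem dom_eq_top (ψ : 𝒜 →+*ᵍ ℬ) (hψ : irrelevant ℬ ≤ (irrelevant 𝒜).map ψ)
    (hgen : (irrelevant 𝒜).toIdeal = Ideal.span (𝒜 1 : Set A)) : PCone.dom ψ = ⊤ := by
  rw [_root_.eq_top_iff]
  intro x _
  obtain ⟨f, hf, hfx⟩ := Groth.Agent.H18.exists_degree_one_not_mem hgen ((Proj.map ψ hψ).base x)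
  have hx : x ∈ (Proj.map ψ hψ) ⁻¹ᵁ Proj.basicOpen 𝒜 f :=
    (ProjectiveSpectrum.mem_basicOpen 𝒜 f _).mpr hfx
  rw [Proj.map_preimage_basicOpen] at hx
  exact TopologicalSpace.Opens.mem_iSup.mpr ⟨⟨f, 1, one_pos, hf⟩, hx⟩

theorem nonempty_pullback_twist_iso (ψ : 𝒜 →+*ᵍ ℬ) (hψ : irrelevant ℬ ≤ (irrelevant 𝒜).map ψ)
    (hgen : (irrelevant 𝒜).toIdeal = Ideal.span (𝒜 1 : Set A)) (n : ℤ) :
    Nonempty ((Scheme.Modules.pullback (Proj.map ψ hψ)).obj (Twist.twist 𝒜 n) ≅ Twist.twist ℬ n) := by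
  have hdom := dom_eq_top 𝒜 ℬ ψ hψ hgen
  have hiso : IsIso (PCone.dom ψ).ι := by
    rw [isIso_iff_isOpenImmersion_and_surjective]
    refine ⟨inferInstance, ⟨fun x => ⟨⟨x, ?_⟩, rfl⟩⟩⟩
    rw [hdom]; trivial
  let p : (PCone.dom ψ : Scheme.{u}) ⟶ Proj 𝒜 := (PCone.dom ψ).ι ≫ Proj.map ψ hψ
  have hp : ∀ (d : ℕ) (f : A) (hd : 0 < d) (hf : f ∈ 𝒜 d),
      PCone.chart ψ hf hd ≫ p =
        Spec.map (CommRingCat.ofHom (HomogeneousLocalization.Away.map ψ f)) ≫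
          Proj.awayι 𝒜 f hf hd := by
    intro d f hd hf
    change PCone.chart ψ hf hd ≫ (PCone.dom ψ).ι ≫ Proj.map ψ hψ = _
    rw [← Category.assoc, Groth.Agent.H18.chart_ι, Proj.awayι_comp_map]
  obtain ⟨e⟩ := Groth.Agent.H88.PullTwist.main ψ p hp n hgen
  apply nonempty_iso_of_pullback_iso (PCone.dom ψ).ι
  exact ⟨(Scheme.Modules.pullbackComp (PCone.dom ψ).ι (Proj.map ψ hψ)).app (Twist.twist 𝒜 n) ≪≫ e ≪≫
    (Scheme.Modules.restrictFunctorIsoPullback (PCone.dom ψ).ι).app (Twist.twist ℬ n)⟩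

end Groth.Agent.H41.Hyp7_PB
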