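import Groth.Agent.H8.IsoCover
import Mathlib

/-!
# Gluing a morphism of modules `L ⟶ h_* L'` from a local, valuewise relation
-/

set_option autoImplicit false
set_option linter.style.haveILetI false
universe u

open CategoryTheory AlgebraicGeometry TopologicalSpace Opposite
open Groth.Agent.H8

noncomputable section

namespace Groth.Agent.H41.LinGlue

variable {X X' : Scheme.{u}} (h : X' ⟶ X) (L : X.Modules) (L' : X'.Modules)

/-- The axioms on a relation "`t` (over `V ⊆ h⁻¹ W`) is the image of `s` (over `W`)". -/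
structure LinRel (R : ∀ (W : X.Opens) (V : X'.Opens), Γ(L, W) → Γ(L', V) → Prop) : Prop where
  unique : ∀ (W : X.Opens) (V : X'.Opens) (_ : V ≤ h ⁻¹ᵁ W) (s : Γ(L, W)) (t t' : Γ(L', V)),
    R W V s t → R W V s t' → t = t'
  resT : ∀ {W : X.Opens} {V V' : X'.Opens} (hV' : V' ≤ V) (s : Γ(L, W)) (t : Γ(L', V)),
    R W V s t → R W V' s (L'.presheaf.map (homOfLE hV').op t)
  resS : ∀ {W W' : X.Opens} (hW' : W' ≤ W) {V : X'.Opens} (s : Γ(L, W)) (t : Γ(L', V)),
    R W V s t → R W' V (L.presheaf.map (homOfLE hW').op s) t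
  of_local : ∀ (W : X.Opens) (V : X'.Opens) (s : Γ(L, W)) (t : Γ(L', V)),
    (∀ x ∈ V, ∃ (V' : X'.Opens) (hV' : V' ≤ V), x ∈ V' ∧
      R W V' s (L'.presheaf.map (homOfLE hV').op t)) → R W V s t
  exists_local : ∀ (W : X.Opens) (s : Γ(L, W)), ∀ x ∈ h ⁻¹ᵁ W,
    ∃ (V' : X'.Opens) (_ : V' ≤ h ⁻¹ᵁ W), x ∈ V' ∧ ∃ t : Γ(L', V'), R W V' s t
  add : ∀ (W : X.Opens) (V : X'.Opens) (s s' : Γ(L, W)) (t t' : Γ(L', V)),
    R W V s t → R W V s' t' → R W V (s + s') (t + t')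
  smul : ∀ (W : X.Opens) (a : Γ(X, W)) (s : Γ(L, W)) (t : Γ(L', h ⁻¹ᵁ W)),
    R W (h ⁻¹ᵁ W) s t → R W (h ⁻¹ᵁ W) (a • s) (h.app W a • t)

namespace LinRel

variable {h L L'} {R : ∀ (W : X.Opens) (V : X'.Opens), Γ(L, W) → Γ(L', V) → Prop}

theorem exists_map (hR : LinRel h L L' R) (W : X.Opens) (s : Γ(L, W)) :
    ∃ t : Γ(L', h ⁻¹ᵁ W), R W (h ⁻¹ᵁ W) s t := by
  classical
  choose V hV hxV τ hτ using fun x : (h ⁻¹ᵁ W : X'.Opens) => hR.exists_local W s x.1 x.2
  have hcompat : TopCat.Presheaf.IsCompatible L'.presheaf V τ := by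
    intro x y
    change L'.presheaf.map (homOfLE (inf_le_left : V x ⊓ V y ≤ V x)).op (τ x) =
      L'.presheaf.map (homOfLE (inf_le_right : V x ⊓ V y ≤ V y)).op (τ y)
    exact hR.unique W _ (inf_le_left.trans (hV x)) s _ _
      (hR.resT inf_le_left s _ (hτ x)) (hR.resT inf_le_right s _ (hτ y))
  have hcover : h ⁻¹ᵁ W ≤ iSup V := fun x hx => Opens.mem_iSup.mpr ⟨⟨x, hx⟩, hxV ⟨x, hx⟩⟩
  obtain ⟨t, ht, -⟩ := TopCat.Sheaf.existsUnique_gluing' (F := ⟨L'.presheaf, L'.isSheaf⟩)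
    V (h ⁻¹ᵁ W) (fun x => homOfLE (hV x)) hcover τ hcompat
  refine ⟨t, hR.of_local W _ s t fun x hx => ⟨V ⟨x, hx⟩, hV ⟨x, hx⟩, hxV ⟨x, hx⟩, ?_⟩⟩
  have h1 : L'.presheaf.map (homOfLE (hV ⟨x, hx⟩)).op t = τ ⟨x, hx⟩ := ht ⟨x, hx⟩
  rw [h1]
  exact hτ ⟨x, hx⟩

/-- The map on sections determined by the relation. -/
def map (hR : LinRel h L L' R) (W : X.Opens) (s : Γ(L, W)) : Γ(L', h ⁻¹ᵁ W) :=
  (hR.exists_map W s).choose

theorem map_spec (hR : LinRel h L L' R) (W : X.Opens) (s : Γ(L, W)) :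
    R W (h ⁻¹ᵁ W) s (hR.map W s) := (hR.exists_map W s).choose_spec

theorem map_eq (hR : LinRel h L L' R) {W : X.Opens} {s : Γ(L, W)} {t : Γ(L', h ⁻¹ᵁ W)}
    (H : R W (h ⁻¹ᵁ W) s t) : hR.map W s = t :=
  hR.unique W _ le_rfl s _ _ (hR.map_spec W s) H

theorem map_res (hR : LinRel h L L' R) {W W' : X.Opens} (hW' : W' ≤ W) (s : Γ(L, W)) :
    hR.map W' (L.presheaf.map (homOfLE hW').op s) =
      L'.presheaf.map (homOfLE (h.preimage_mono hW')).op (hR.map W s) :=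
  hR.map_eq (hR.resS hW' s _ (hR.resT (h.preimage_mono hW') s _ (hR.map_spec W s)))

set_option backward.isDefEq.respectTransparency false in
/-- The morphism of modules determined by the relation. -/
def hom (hR : LinRel h L L' R) : L ⟶ (Scheme.Modules.pushforward h).obj L' :=
  ⟨PresheafOfModules.homMk
    { app := fun U => AddCommGrpCat.ofHom
        (AddMonoidHom.mk' (fun s : Γ(L, U.unop) => (hR.map U.unop s : Γ(L', h ⁻¹ᵁ U.unop)))
          (fun s s' => hR.map_eq (hR.add _ _ _ _ _ _ (hR.map_spec _ s) (hR.map_spec _ s'))))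
      naturality := fun {U V} f => by
        ext s
        have hle : V.unop ≤ U.unop := f.unop.le
        have hf : f = (homOfLE hle).op := Quiver.Hom.unop_inj (Subsingleton.elim _ _)
        subst hf
        exact hR.map_res hle s }
    (fun U r s => hR.map_eq (hR.smul _ r _ _ (hR.map_spec _ s)))⟩

set_option backward.isDefEq.respectTransparency false in
theorem hom_app (hR : LinRel h L L' R) (W : X.Opens) (s : Γ(L, W)) :
    hR.hom.app W s = hR.map W s := rfl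

end LinRel

end Groth.Agent.H41.LinGlue
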