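import Groth.Agent.H41.ProjPoly
import Groth.Agent.H22.SymConstr
import Groth.Agent.H22.GenLocus

/-!
# `Proj` of the symmetric algebra of an invertible module
-/

set_option autoImplicit false
set_option linter.style.haveILetI false
universe u

open CategoryTheory CategoryTheory.Limits AlgebraicGeometry TopologicalSpace Opposite
open HomogeneousLocalization
open scoped HomogeneousIdeal

noncomputable section

namespace Groth.Agent.H41.LineProj

open Groth.Agent.H41.ProjPoly

/-! ### ring level: `Proj R[t] = Spec R` -/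

section ringlevel

variable {R A : Type u} [CommRing R] [CommRing A] (𝒜 : ℕ → AddSubgroup A) [GradedRing 𝒜]
  (ρ : R →+* A) (hρ : ∀ r, ρ r ∈ 𝒜 0) (t : A) (ht : t ∈ 𝒜 1)
  (hbij : Function.Bijective (Polynomial.eval₂RingHom ρ t))

include hρ ht in
theorem term_mem (a : R) (i : ℕ) : ρ a * t ^ i ∈ 𝒜 i := by
  have h1 := SetLike.mul_mem_graded (hρ a) (SetLike.pow_mem_graded i ht)
  simpa using h1

include hρ ht hbij in
/-- homogeneous elements of degree `k` are of the form `a t^k` -/
theorem exists_eq_mul_pow (k : ℕ) (x : A) (hx : x ∈ 𝒜 k) : ∃ a : R, x = ρ a * t ^ k := by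
  classical
  obtain ⟨Q, hQ⟩ := hbij.2 x
  have hQ' : Polynomial.eval₂ ρ t Q = x := hQ
  have heval := Polynomial.eval₂_eq_sum_range' ρ (p := Q) (n := Q.natDegree + k + 1)
    (by omega) t
  refine ⟨Q.coeff k, ?_⟩
  have h1 : x = GradedRing.proj 𝒜 k x := by
    rw [GradedRing.proj_apply, DirectSum.decompose_of_mem_same _ hx]
  have h2 : GradedRing.proj 𝒜 k x = ρ (Q.coeff k) * t ^ k := by
    rw [← hQ', heval, map_sum, Finset.sum_eq_single k]
    · rw [GradedRing.proj_apply,
        DirectSum.decompose_of_mem_same _ (term_mem 𝒜 ρ hρ t ht _ k)]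
    · intro i _ hne
      rw [GradedRing.proj_apply,
        DirectSum.decompose_of_mem_ne _ (term_mem 𝒜 ρ hρ t ht _ i) hne]
    · intro hk
      exact absurd (Finset.mem_range.mpr (by omega)) hk
  exact h1.trans h2

include hρ ht hbij in
theorem basicOpen_eq_top : Proj.basicOpen 𝒜 t = ⊤ := by
  rw [eq_top_iff]
  intro Q _
  show Q ∈ Proj.basicOpen 𝒜 t
  rw [Proj.mem_basicOpen]
  intro hzQ
  apply Q.not_irrelevant_le
  rw [HomogeneousIdeal.irrelevant_le]
  intro i hi x hx
  obtain ⟨a, rfl⟩ := exists_eq_mul_pow 𝒜 ρ hρ t ht hbij i x hx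
  obtain ⟨j, rfl⟩ := Nat.exists_eq_succ_of_ne_zero (Nat.pos_iff_ne_zero.mp hi)
  rw [pow_succ]
  exact Ideal.mul_mem_left _ _ (Ideal.mul_mem_left _ _ hzQ)

include hρ hbij in
theorem isIso_awayι : IsIso (Proj.awayι 𝒜 t ht one_pos) := by
  rw [isIso_iff_isOpenImmersion_and_surjective]
  refine ⟨inferInstance, ⟨fun Q => ?_⟩⟩
  have hQ : Q ∈ (Proj.awayι 𝒜 t ht one_pos).opensRange := by
    rw [Proj.opensRange_awayι, basicOpen_eq_top 𝒜 ρ hρ t ht hbij]
    trivial
  exact hQ

include hρ ht hbij in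
/-- `R ≅ A_(t)` -/
theorem fromZero_bijective (ρ₀ : R →+* 𝒜 0) (hρ₀ : ∀ r, ((ρ₀ r : 𝒜 0) : A) = ρ r) :
    Function.Bijective ((fromZeroRingHom 𝒜 (Submonoid.powers t)).comp ρ₀) := by
  constructor
  · rw [injective_iff_map_eq_zero]
    intro r hr
    have hv := congrArg HomogeneousLocalization.val hr
    rw [RingHom.comp_apply, fromZero_val, HomogeneousLocalization.val_zero,
      ← Localization.mk_zero (1 : Submonoid.powers t), Localization.mk_eq_mk_iff,
      Localization.r_iff_exists] at hv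
    obtain ⟨c, hc⟩ := hv
    obtain ⟨m, hm⟩ := (Submonoid.mem_powers_iff _ _).mp c.2
    simp only [OneMemClass.coe_one, one_mul, mul_zero, pow_zero, mul_one] at hc
    rw [← hm, hρ₀] at hc
    have h1 : Polynomial.eval₂RingHom ρ t (Polynomial.C r * Polynomial.X ^ m) = 0 := by
      show Polynomial.eval₂ ρ t (Polynomial.C r * Polynomial.X ^ m) = 0
      rw [Polynomial.eval₂_mul, Polynomial.eval₂_C, Polynomial.eval₂_pow, Polynomial.eval₂_X,
        mul_comm]
      exact hc
    have h2 : Polynomial.C r * Polynomial.X ^ m = 0 := hbij.1 (h1.trans (map_zero _).symm)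
    have h3 := congrArg (fun p => p.coeff m) h2
    simpa using h3
  · intro q
    obtain ⟨k, x, hx, rfl⟩ := Away.mk_surjective 𝒜 ht q
    have hx' : x ∈ 𝒜 k := by simpa using hx
    obtain ⟨a, rfl⟩ := exists_eq_mul_pow 𝒜 ρ hρ t ht hbij k x hx'
    refine ⟨a, ?_⟩
    apply HomogeneousLocalization.val_injective
    rw [RingHom.comp_apply, fromZero_val, Away.val_mk, Localization.mk_eq_mk_iff,
      Localization.r_iff_exists]
    refine ⟨1, ?_⟩
    simp only [OneMemClass.coe_one, one_mul, pow_zero, mul_one]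
    rw [hρ₀ a]
    ring

include hρ ht hbij in
/-- `Proj R[t] → Spec R` is an isomorphism -/
theorem isIso_toSpecZero_comp (ρ₀ : R →+* 𝒜 0) (hρ₀ : ∀ r, ((ρ₀ r : 𝒜 0) : A) = ρ r) :
    IsIso (Proj.toSpecZero 𝒜 ≫ Spec.map (CommRingCat.ofHom ρ₀)) := by
  haveI := isIso_awayι 𝒜 ρ hρ t ht hbij
  have h1 : Proj.awayι 𝒜 t ht one_pos ≫ (Proj.toSpecZero 𝒜 ≫ Spec.map (CommRingCat.ofHom ρ₀)) =
      Spec.map (CommRingCat.ofHom ((fromZeroRingHom 𝒜 (Submonoid.powers t)).comp ρ₀)) := by
    rw [Proj.awayι_toSpecZero_assoc, ← Spec.map_comp]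
    rfl
  haveI : IsIso (CommRingCat.ofHom ((fromZeroRingHom 𝒜 (Submonoid.powers t)).comp ρ₀)) :=
    (ConcreteCategory.isIso_iff_bijective _).2 (fromZero_bijective 𝒜 ρ hρ t ht hbij ρ₀ hρ₀)
  have h2 : Proj.toSpecZero 𝒜 ≫ Spec.map (CommRingCat.ofHom ρ₀) =
      inv (Proj.awayι 𝒜 t ht one_pos) ≫
        Spec.map (CommRingCat.ofHom ((fromZeroRingHom 𝒜 (Submonoid.powers t)).comp ρ₀)) := by
    rw [← h1, IsIso.inv_hom_id_assoc]
  rw [h2]
  infer_instance

end ringlevel

/-! ### the symmetric algebra of a free module of rank one -/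

section sym

variable {R M : Type u} [CommRing R] [AddCommGroup M] [Module R M]

theorem aeval_ι_bijective (σ : M) (hσ : Function.Bijective (fun r : R => r • σ)) :
    Function.Bijective (Polynomial.aeval (R := R) (SymmetricAlgebra.ι R M σ)) := by
  have hb : Function.Bijective (LinearMap.toSpanSingleton R M σ) := by
    have : ⇑(LinearMap.toSpanSingleton R M σ) = fun r : R => r • σ := by
      ext r; simp
    rw [this]; exact hσ
  let e : R ≃ₗ[R] M := LinearEquiv.ofBijective (LinearMap.toSpanSingleton R M σ) hb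
  have he : ∀ r : R, e r = r • σ := fun r => by simp [e]
  have heσ : e.symm σ = 1 := by
    rw [LinearEquiv.symm_apply_eq, he, one_smul]
  let ℓ : M →ₗ[R] Polynomial R := (Polynomial.monomial 1).comp e.symm.toLinearMap
  let g : SymmetricAlgebra R M →ₐ[R] Polynomial R := SymmetricAlgebra.lift ℓ
  have hgι : ∀ m : M, g (SymmetricAlgebra.ι R M m) = Polynomial.monomial 1 (e.symm m) :=
    fun m => SymmetricAlgebra.lift_ι_apply ℓ m
  have hgf : g.comp (Polynomial.aeval (SymmetricAlgebra.ι R M σ)) = AlgHom.id R _ := by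
    apply Polynomial.algHom_ext
    rw [AlgHom.comp_apply, Polynomial.aeval_X, hgι, heσ, AlgHom.id_apply]
    exact Polynomial.monomial_one_one_eq_X
  have hfg : (Polynomial.aeval (SymmetricAlgebra.ι R M σ)).comp g = AlgHom.id R _ := by
    refine SymmetricAlgebra.algHom_ext (LinearMap.ext fun m => ?_)
    show Polynomial.aeval (SymmetricAlgebra.ι R M σ) (g (SymmetricAlgebra.ι R M m)) =
      SymmetricAlgebra.ι R M m
    rw [hgι, Polynomial.aeval_monomial, pow_one, ← Algebra.smul_def, ← map_smul, ← he,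
      LinearEquiv.apply_symm_apply]
  refine Function.bijective_iff_has_inverse.mpr ⟨g, fun p => ?_, fun s => ?_⟩
  · exact DFunLike.congr_fun hgf p
  · exact DFunLike.congr_fun hfg s

end sym

/-! ### the scheme level -/

section scheme

open Groth.Agent.H22.SymConstr Groth.Agent.H22

variable {X : Scheme.{u}} (L : X.Modules) [L.IsQuasicoherent] (𝒮L : RelProj.QCGrAlg X)
  (j : L ⟶ 𝒮L.toModule)

/-- over an affine open on which `L` is generated by `σ`, `Sym(L)` is the polynomial ring on `j σ` -/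
theorem poly_bijective (hsym : RelSpec.IsSymAlg L 𝒮L.toQCAlg j) (V : X.Opens)
    (hV : IsAffineOpen V) (σ : Γ(L, V)) (hσ : Function.Bijective (fun r : Γ(X, V) => r • σ)) :
    Function.Bijective (Polynomial.eval₂RingHom (𝒮L.str.app (op V)).hom
      (toB 𝒮L.toQCAlg V (j.app V σ))) := by
  have h1 := theta_bijective L 𝒮L.toQCAlg j hsym V hV
  have h2 := aeval_ι_bijective σ hσ
  have e : Polynomial.eval₂RingHom (𝒮L.str.app (op V)).hom (toB 𝒮L.toQCAlg V (j.app V σ)) =
      (theta 𝒮L.toQCAlg j V).comp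
        (Polynomial.aeval (R := Γ(X, V)) (SymmetricAlgebra.ι Γ(X, V) Γ(L, V) σ)).toRingHom := by
    apply Polynomial.ringHom_ext
    · intro r
      show Polynomial.eval₂ _ _ (Polynomial.C r) =
        theta 𝒮L.toQCAlg j V (Polynomial.aeval (SymmetricAlgebra.ι Γ(X, V) Γ(L, V) σ)
          (Polynomial.C r))
      rw [Polynomial.eval₂_C, Polynomial.aeval_C, theta_algebraMap]
    · show Polynomial.eval₂ _ _ Polynomial.X =
        theta 𝒮L.toQCAlg j V (Polynomial.aeval (SymmetricAlgebra.ι Γ(X, V) Γ(L, V) σ)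
          Polynomial.X)
      rw [Polynomial.eval₂_X, Polynomial.aeval_X, theta_ι]
  rw [e]
  exact h1.comp h2

omit [L.IsQuasicoherent] in
/-- invertible modules are locally generated by one section over affine opens -/
theorem exists_generator_affine (hL : PicF.IsInvertible L) (x : X) :
    ∃ V : X.Opens, IsAffineOpen V ∧ x ∈ V ∧ ∃ σ : Γ(L, V),
      ∀ (W : X.Opens) (hW : W ≤ V), Function.Bijective
        (fun r : Γ(X, W) => r • L.presheaf.map (homOfLE hW).op σ) := by
  obtain ⟨U0, hxU0, ⟨e0⟩⟩ := hL x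
  obtain ⟨σ0, hσ0⟩ := Groth.Agent.H22.GenLocus.exists_generator L U0 e0
  obtain ⟨_, ⟨W, hW, rfl⟩, hxW, hWU0⟩ :=
    X.isBasis_affineOpens.exists_subset_of_mem_open hxU0 U0.2
  refine ⟨W, hW, hxW, L.presheaf.map (homOfLE hWU0).op σ0, fun W' hW' => ?_⟩
  have h1 := hσ0 W' (hW'.trans hWU0)
  have h2 : L.presheaf.map (homOfLE hW').op (L.presheaf.map (homOfLE hWU0).op σ0) =
      L.presheaf.map (homOfLE (hW'.trans hWU0)).op σ0 :=
    Groth.Agent.H22.SymConstr.rE_rE L hWU0 hW' σ0
  rw [h2]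
  exact h1

end scheme

end Groth.Agent.H41.LineProj
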