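import Groth.Agent.H41.ProjQ6

/-!
# Local description of `G(u)` and the morphism of projective cones
-/

set_option autoImplicit false
set_option linter.style.haveILetI false
universe u

open CategoryTheory CategoryTheory.Limits AlgebraicGeometry TopologicalSpace Opposite
open HomogeneousLocalization
open scoped HomogeneousIdeal

noncomputable section

namespace Groth.Agent.H41.ProjQ

open Groth.Agent.H41.RelConeLib Groth.Agent.H41.ProjConeLib Groth.Agent.H41.RelProjLib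

section memdomQ

variable {Y Y' : Scheme.{u}} {g : Y' ⟶ Y} {𝒮 : RelProj.QCGrAlg Y} {𝒮' : RelProj.QCGrAlg Y'}
  (u : RelProj.QGrHom g 𝒮 𝒮')
  {P' : Scheme.{u}} (p' : P' ⟶ Y')
  (chart' : ∀ (U' : Y'.Opens) (hU' : IsAffineOpen U'),
    (((p' ⁻¹ᵁ U' : P'.Opens) : Scheme.{u}) ≅ Proj (𝒮'.deg U' hU')))
  (hP' : RelProj.IsRelProj 𝒮' p' chart')

include hP' in
/-- the opens `G(u_{U,U'})` are compatible with restriction to basic opens -/
theorem domOpen_res_iff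
    (U : Y.Opens) (hU : IsAffineOpen U) (U' : Y'.Opens) (hU' : IsAffineOpen U')
    (hle : U' ≤ g ⁻¹ᵁ U) (r : Γ(Y, U)) (b : Γ(Y', U')) (V : Y.Opens) (V' : Y'.Opens)
    (hV : V = Y.basicOpen r) (hV' : V' = Y'.basicOpen b) (hVa : IsAffineOpen V)
    (hVa' : IsAffineOpen V') (hle' : V' ≤ g ⁻¹ᵁ V) (Z : Proj (𝒮'.deg U' hU'))
    (T : Proj (𝒮'.deg V' hVa'))
    (hZT : (RelProj.emb p' chart' U' hU').base Z = (RelProj.emb p' chart' V' hVa').base T) :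
    Z ∈ RelCone.domOpen (u.gradedAt U hU U' hU' hle) ↔
      T ∈ RelCone.domOpen (u.gradedAt V hVa V' hVa' hle') := by
  subst hV hV'
  have hres := RelProj.map_res_emb hP' U' hU' b
  have h1 : (RelProj.emb p' chart' U' hU').base
      ((Proj.map (𝒮'.res hU' hVa' (Y'.basicOpen_le b))
        (𝒮'.irrelevant_le_map U' hU' b)).base T) =
      (RelProj.emb p' chart' U' hU').base Z :=
    (congrArg (fun k => k.base T) hres).trans hZT.symm
  have h2 := (RelProj.emb p' chart' U' hU').isOpenEmbedding.injective h1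
  rw [← h2]
  exact comap_mem_domOpen_iff (u.gradedAt U hU U' hU' hle)
    (u.gradedAt (Y.basicOpen r) hVa (Y'.basicOpen b) hVa' hle')
    (𝒮.res hU hVa (Y.basicOpen_le r)) (𝒮'.res hU' hVa' (Y'.basicOpen_le b))
    (fun a => res_comm u ⟨U, hU, U', hU', hle, 1, one_pos, 0, zero_mem _⟩ hVa hVa' hle'
      (Y.basicOpen_le r) (Y'.basicOpen_le b) a)
    (fun _ hx => 𝒮.irrelevant_le_map U hU r hx) (𝒮'.irrelevant_le_map U' hU' b) T

include hP' in
/-- local description of `G(u)`: over ANY affine pair it is `G(u_{U,U'})` -/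
theorem mem_domQ_iff (U : Y.Opens) (hU : IsAffineOpen U) (U' : Y'.Opens)
    (hU' : IsAffineOpen U') (hle : U' ≤ g ⁻¹ᵁ U) (Q : Proj (𝒮'.deg U' hU')) :
    (RelProj.emb p' chart' U' hU').base Q ∈ RelProj.domQ u p' chart' ↔
      Q ∈ RelCone.domOpen (u.gradedAt U hU U' hU' hle) := by
  constructor
  · intro hx
    unfold RelProj.domQ at hx
    rw [Opens.mem_iSup] at hx
    obtain ⟨⟨⟨⟨U₁, hU₁⟩, ⟨U₁', hU₁'⟩⟩, hle₁⟩, z₁, hz₁, hzx⟩ := hx
    obtain ⟨x, hxdef⟩ : ∃ x, x = (RelProj.emb p' chart' U' hU').base Q := ⟨_, rfl⟩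
    have hzx' : (RelProj.emb p' chart' U₁' hU₁').base z₁ = x := hzx.trans hxdef.symm
    have hx1 : p'.base x ∈ U₁' := by
      rw [← hzx']; exact emb_mem_preimage p' chart' U₁' hU₁' z₁
    have hx2 : p'.base x ∈ U' := by
      rw [hxdef]; exact emb_mem_preimage p' chart' U' hU' Q
    have hy1 : g.base (p'.base x) ∈ U₁ := hle₁ hx1
    have hy2 : g.base (p'.base x) ∈ U := hle hx2
    obtain ⟨a₁, a, hV, hyV⟩ := exists_basicOpen_le_affine_inter hU₁ hU _ ⟨hy1, hy2⟩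
    have hVa : IsAffineOpen (Y.basicOpen a₁) := IsAffineOpen.basicOpen hU₁ a₁
    have hb₁ := Scheme.basicOpen_appLE g U₁' U₁ hle₁ a₁
    have hb₂ := Scheme.basicOpen_appLE g U' U hle a
    have hxb₁ : p'.base x ∈ Y'.basicOpen (g.appLE U₁ U₁' hle₁ a₁) := by
      rw [hb₁]; exact ⟨hx1, hyV⟩
    have hxb₂ : p'.base x ∈ Y'.basicOpen (g.appLE U U' hle a) := by
      rw [hb₂]; exact ⟨hx2, hV ▸ hyV⟩
    have hle₁' : Y'.basicOpen (g.appLE U₁ U₁' hle₁ a₁) ≤ g ⁻¹ᵁ Y.basicOpen a₁ := by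
      rw [hb₁]; exact inf_le_right
    have hle₂' : Y'.basicOpen (g.appLE U U' hle a) ≤ g ⁻¹ᵁ Y.basicOpen a₁ := by
      rw [hb₂, hV]; exact inf_le_right
    have hW₁ : IsAffineOpen (Y'.basicOpen (g.appLE U₁ U₁' hle₁ a₁)) :=
      IsAffineOpen.basicOpen hU₁' _
    have hW₂ : IsAffineOpen (Y'.basicOpen (g.appLE U U' hle a)) := IsAffineOpen.basicOpen hU' _
    obtain ⟨e₁, e₂, hV', hyV'⟩ := exists_basicOpen_le_affine_inter hW₁ hW₂ (p'.base x)
      ⟨hxb₁, hxb₂⟩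
    have hVa' : IsAffineOpen (Y'.basicOpen e₁) := hW₁.basicOpen e₁
    have hle' : Y'.basicOpen e₁ ≤ g ⁻¹ᵁ Y.basicOpen a₁ := (Y'.basicOpen_le e₁).trans hle₁'
    obtain ⟨T₁, hT₁⟩ := exists_emb_eq p' chart' _ hW₁ x hxb₁
    obtain ⟨T₂, hT₂⟩ := exists_emb_eq p' chart' _ hW₂ x hxb₂
    obtain ⟨T, hT⟩ := exists_emb_eq p' chart' _ hVa' x hyV'
    have h1V : Y.basicOpen a₁ = Y.basicOpen (1 : Γ(Y, Y.basicOpen a₁)) := by simp
    have s1 := domOpen_res_iff u p' chart' hP' U₁ hU₁ U₁' hU₁' hle₁ a₁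
      (g.appLE U₁ U₁' hle₁ a₁) (Y.basicOpen a₁) _ rfl rfl hVa hW₁ hle₁' z₁ T₁
      (hzx'.trans hT₁.symm)
    have s2 := domOpen_res_iff u p' chart' hP' (Y.basicOpen a₁) hVa _ hW₁ hle₁'
      (1 : Γ(Y, Y.basicOpen a₁)) e₁ (Y.basicOpen a₁) (Y'.basicOpen e₁) h1V rfl hVa hVa' hle'
      T₁ T (hT₁.trans hT.symm)
    have s3 := domOpen_res_iff u p' chart' hP' (Y.basicOpen a₁) hVa _ hW₂ hle₂'
      (1 : Γ(Y, Y.basicOpen a₁)) e₂ (Y.basicOpen a₁) (Y'.basicOpen e₁) h1V hV' hVa hVa' hle'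
      T₂ T (hT₂.trans hT.symm)
    have s4 := domOpen_res_iff u p' chart' hP' U hU U' hU' hle a
      (g.appLE U U' hle a) (Y.basicOpen a₁) _ hV rfl hVa hW₂ hle₂' Q T₂
      (hxdef.symm.trans hT₂.symm)
    exact s4.mpr (s3.mpr (s2.mp (s1.mp hz₁)))
  · intro hQ
    unfold RelProj.domQ
    rw [Opens.mem_iSup]
    exact ⟨⟨(⟨U, hU⟩, ⟨U', hU'⟩), hle⟩, Q, hQ, rfl⟩

end memdomQ

/-! ### the morphism of projective cones induced by a morphism of cones -/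

section conemap

variable {Y Y' PC PC' : Scheme.{u}} {q : Y' ⟶ Y}
  {𝒮 : RelProj.QCGrAlg Y} {𝒮' : RelProj.QCGrAlg Y'} (u : RelProj.QGrHom q 𝒮 𝒮')
  {𝒮h : RelProj.QCGrAlg Y} {ι : 𝒮.toQCAlg ⟶ 𝒮h.toQCAlg} {z : 𝒮h.presheaf.obj (op ⊤)}
  (hz : RelCone.IsPolyOver 𝒮 𝒮h ι z)
  (pC : PC ⟶ Y)
  (chartC : ∀ (U : Y.Opens) (hU : IsAffineOpen U),
    (((pC ⁻¹ᵁ U : PC.Opens) : Scheme.{u}) ≅ Proj (𝒮h.deg U hU)))
  (hC : RelProj.IsRelProj 𝒮h pC chartC)
  {𝒮h' : RelProj.QCGrAlg Y'} {ι' : 𝒮'.toQCAlg ⟶ 𝒮h'.toQCAlg} {z' : 𝒮h'.presheaf.obj (op ⊤)}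
  (hz' : RelCone.IsPolyOver 𝒮' 𝒮h' ι' z')
  (pC' : PC' ⟶ Y')
  (chartC' : ∀ (U : Y'.Opens) (hU : IsAffineOpen U),
    (((pC' ⁻¹ᵁ U : PC'.Opens) : Scheme.{u}) ≅ Proj (𝒮h'.deg U hU)))
  (hC' : RelProj.IsRelProj 𝒮h' pC' chartC')
  (uh : RelProj.QGrHom q 𝒮h 𝒮h')
  (huh : ∀ U : Y.Opens, ι.hom.app (op U) ≫ uh.app U = u.app U ≫ ι'.hom.app (op (q ⁻¹ᵁ U)))
  (huhz : (uh.app ⊤).hom z = RelCone.restrictTop 𝒮h' z' (q ⁻¹ᵁ ⊤))
  (Φh : ((RelProj.domQ uh pC' chartC' : PC'.Opens) : Scheme.{u}) ⟶ PC)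
  (hΦh : RelProj.IsProjQMapOn uh pC chartC pC' chartC' (RelProj.domQ uh pC' chartC') Φh)

include huh in
/-- `û ∘ ι = ι' ∘ u` over pairs of opens -/
theorem uh_ι (U : Y.Opens) (U' : Y'.Opens) (hle : U' ≤ q ⁻¹ᵁ U) (a : 𝒮.presheaf.obj (op U)) :
    (uh.appLE U U' hle).hom ((ι.hom.app (op U)).hom a) =
      (ι'.hom.app (op U')).hom ((u.appLE U U' hle).hom a) := by
  have h1 : (uh.app U).hom ((ι.hom.app (op U)).hom a) =
      (ι'.hom.app (op (q ⁻¹ᵁ U))).hom ((u.app U).hom a) :=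
    congrArg (fun k => k.hom a) (huh U)
  have h2 : (ι'.hom.app (op U')).hom ((𝒮'.presheaf.map (homOfLE hle).op).hom ((u.app U).hom a)) =
      (𝒮h'.presheaf.map (homOfLE hle).op).hom
        ((ι'.hom.app (op (q ⁻¹ᵁ U))).hom ((u.app U).hom a)) :=
    congrArg (fun k => k.hom ((u.app U).hom a)) (ι'.hom.naturality (homOfLE hle).op)
  show (𝒮h'.presheaf.map (homOfLE hle).op).hom ((uh.app U).hom ((ι.hom.app (op U)).hom a)) =
    (ι'.hom.app (op U')).hom ((𝒮'.presheaf.map (homOfLE hle).op).hom ((u.app U).hom a))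
  rw [h1, h2]

include huhz in
/-- `û(z) = z'` over pairs of opens -/
theorem uh_z (U : Y.Opens) (U' : Y'.Opens) (hle : U' ≤ q ⁻¹ᵁ U) :
    (uh.appLE U U' hle).hom (RelCone.restrictTop 𝒮h z U) = RelCone.restrictTop 𝒮h' z' U' := by
  have h1 := uh.map_appLE (le_top : U ≤ ⊤) hle
  have h2 : (uh.appLE U U' hle).hom (RelCone.restrictTop 𝒮h z U) =
      (uh.appLE ⊤ U' (hle.trans (q.preimage_mono le_top))).hom z :=
    congrArg (fun k => k.hom z) h1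
  rw [h2]
  show (𝒮h'.presheaf.map (homOfLE (hle.trans (q.preimage_mono le_top))).op).hom
    ((uh.app ⊤).hom z) = _
  rw [huhz]
  exact res_restrictTop 𝒮h' z' (hle.trans (q.preimage_mono le_top))

include hΦh in
/-- `Φ̂` on a standard chart -/
theorem Φh_lift (U : Y.Opens) (hU : IsAffineOpen U) (U' : Y'.Opens) (hU' : IsAffineOpen U')
    (hle : U' ≤ q ⁻¹ᵁ U) (d : ℕ) (hd : 0 < d) (f : 𝒮h.presheaf.obj (op U))
    (hf : f ∈ 𝒮h.deg U hU d)
    (y : Spec (CommRingCat.of (Away (𝒮h'.deg U' hU') (uh.gradedAt U hU U' hU' hle f)))) :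
    Φh.base ((lift uh pC' chartC' ⟨U, hU, U', hU', hle, d, hd, f, hf⟩).base y) =
      (RelProj.emb pC chartC U hU).base ((Proj.awayι (𝒮h.deg U hU) f hf hd).base
        ((Spec.map (CommRingCat.ofHom (Away.map (uh.gradedAt U hU U' hU' hle) f))).base y)) :=
  congrArg (fun k => k.base y)
    ((isProjQMapOn_iff uh pC chartC pC' chartC' Φh).mp hΦh ⟨U, hU, U', hU', hle, d, hd, f, hf⟩)

include hC hC' huh hΦh in
/-- `Φ̂⁻¹(Ê) ⊆ Ê'` -/
theorem preimage_pointed_le :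
    (RelProj.domQ uh pC' chartC').ι ''ᵁ (Φh ⁻¹ᵁ RelCone.pointedProjCone 𝒮 hz pC chartC) ≤
      RelCone.pointedProjCone 𝒮' hz' pC' chartC' := by
  rintro _ ⟨w, hw, rfl⟩
  have hx : (RelProj.domQ uh pC' chartC').ι.base w ∈ RelProj.domQ uh pC' chartC' := w.2
  obtain ⟨c, y, hy⟩ := exists_chart uh pC' chartC' _ hx
  obtain ⟨U, hU, U', hU', hle, d, hd, f, hf⟩ := c
  have hwy : (lift uh pC' chartC' ⟨U, hU, U', hU', hle, d, hd, f, hf⟩).base y = w :=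
    (RelProj.domQ uh pC' chartC').ι.isOpenEmbedding.injective
      ((congrArg (fun k => k.base y)
        (lift_ι uh pC' chartC' ⟨U, hU, U', hU', hle, d, hd, f, hf⟩)).trans hy)
  have hw' : Φh.base w ∈ RelCone.pointedProjCone 𝒮 hz pC chartC := hw
  rw [← hwy, Φh_lift pC chartC pC' chartC' uh Φh hΦh U hU U' hU' hle d hd f hf y,
    mem_pointedProjCone_iff hz pC chartC hC U hU, RelCone.mem_domOpen] at hw'
  obtain ⟨a, ha, haQ⟩ := hw'
  obtain ⟨i, hi, hai⟩ := exists_pos_decompose_not_mem (𝒮.deg U hU)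
    (Ideal.comap (RelProj.gradedHomAt ι hz.graded U hU).toRingHom
      ((Proj.awayι (𝒮h.deg U hU) f hf hd).base
        ((Spec.map (CommRingCat.ofHom (Away.map (uh.gradedAt U hU U' hU' hle)
          f))).base y)).asHomogeneousIdeal.toIdeal) ha haQ
  have hmem_i : (DirectSum.decompose (𝒮.deg U hU) a i : 𝒮.presheaf.obj (op U)) ∈
      𝒮.deg U hU i := SetLike.coe_mem _
  have hιmem : (ι.hom.app (op U)).hom
      (DirectSum.decompose (𝒮.deg U hU) a i : 𝒮.presheaf.obj (op U)) ∈ 𝒮h.deg U hU i :=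
    hz.graded U hU i _ hmem_i
  have hQ1 : (Proj.awayι (𝒮h.deg U hU) f hf hd).base
      ((Spec.map (CommRingCat.ofHom (Away.map (uh.gradedAt U hU U' hU' hle) f))).base y) ∈
      Proj.basicOpen (𝒮h.deg U hU) ((ι.hom.app (op U)).hom
        (DirectSum.decompose (𝒮.deg U hU) a i : 𝒮.presheaf.obj (op U))) :=
    (Proj.mem_basicOpen _ _ _).mpr hai
  have hQ2 := (awayι_map_mem_basicOpen_iff (uh.gradedAt U hU U' hU' hle) hd hi hf hιmem y).mp hQ1
  show (RelProj.domQ uh pC' chartC').ι.base w ∈ RelCone.pointedProjCone 𝒮' hz' pC' chartC'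
  rw [← hy]
  show (RelProj.emb pC' chartC' U' hU').base
    ((Proj.awayι (𝒮h'.deg U' hU') (uh.gradedAt U hU U' hU' hle f)
      ((uh.gradedAt U hU U' hU' hle).map_mem hf) hd).base y) ∈
    RelCone.pointedProjCone 𝒮' hz' pC' chartC'
  rw [mem_pointedProjCone_iff hz' pC' chartC' hC' U' hU', RelCone.mem_domOpen]
  refine ⟨(u.appLE U U' hle).hom
    (DirectSum.decompose (𝒮.deg U hU) a i : 𝒮.presheaf.obj (op U)),
    HomogeneousIdeal.mem_irrelevant_of_mem _ hi ((u.gradedAt U hU U' hU' hle).map_mem hmem_i),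
    ?_⟩
  have hQ3 := (Proj.mem_basicOpen _ _ _).mp hQ2
  have e := uh_ι u uh huh U U' hle
    (DirectSum.decompose (𝒮.deg U hU) a i : 𝒮.presheaf.obj (op U))
  intro hcon
  apply hQ3
  show (uh.appLE U U' hle).hom _ ∈ _
  rw [e]
  exact hcon

include huh in
/-- key step: when `Proj(u)` is everywhere defined, a point of `Proj 𝒮h'(U')` whose contraction to
`𝒮'(U')` is relevant avoids some `û(ι a)` with `a` homogeneous of positive degree -/
theorem exists_of_domQ_eq_top {P' : Scheme.{u}} (p' : P' ⟶ Y')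
    (chart' : ∀ (U : Y'.Opens) (hU : IsAffineOpen U),
      (((p' ⁻¹ᵁ U : P'.Opens) : Scheme.{u}) ≅ Proj (𝒮'.deg U hU)))
    (hP' : RelProj.IsRelProj 𝒮' p' chart') (htop : RelProj.domQ u p' chart' = ⊤)
    (U : Y.Opens) (hU : IsAffineOpen U) (U' : Y'.Opens) (hU' : IsAffineOpen U')
    (hle : U' ≤ q ⁻¹ᵁ U) (Q' : Proj (𝒮h'.deg U' hU'))
    (hrel : ∃ a' ∈ (HomogeneousIdeal.irrelevant (𝒮'.deg U' hU')).toIdeal,
      (RelProj.gradedHomAt ι' hz'.graded U' hU') a' ∉ Q'.asHomogeneousIdeal) :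
    ∃ (d : ℕ) (_ : 0 < d) (a : 𝒮.presheaf.obj (op U)) (_ : a ∈ 𝒮.deg U hU d),
      (uh.appLE U U' hle).hom ((ι.hom.app (op U)).hom a) ∉ Q'.asHomogeneousIdeal := by
  obtain ⟨a', ha', ha'Q⟩ := hrel
  obtain ⟨P₀, hP₀⟩ : ∃ P₀ : Proj (𝒮'.deg U' hU'), P₀.asHomogeneousIdeal =
      Q'.asHomogeneousIdeal.comap (RelProj.gradedHomAt ι' hz'.graded U' hU') :=
    ⟨(ProjectiveSpectrum.mk (Q'.asHomogeneousIdeal.comap
      (RelProj.gradedHomAt ι' hz'.graded U' hU')) inferInstance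
      (fun hle0 => ha'Q (hle0 ha')) : ProjectiveSpectrum (𝒮'.deg U' hU')), rfl⟩
  have hx₀ : (RelProj.emb p' chart' U' hU').base P₀ ∈ RelProj.domQ u p' chart' := by
    rw [htop]; trivial
  have h1 := (mem_domQ_iff u p' chart' hP' U hU U' hU' hle P₀).mp hx₀
  rw [RelCone.mem_domOpen] at h1
  obtain ⟨a, ha, haP⟩ := h1
  obtain ⟨d, hd, had⟩ := exists_pos_decompose_not_mem (𝒮.deg U hU)
    (Ideal.comap (u.gradedAt U hU U' hU' hle).toRingHom P₀.asHomogeneousIdeal.toIdeal) ha haP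
  refine ⟨d, hd, (DirectSum.decompose (𝒮.deg U hU) a d : 𝒮.presheaf.obj (op U)),
    SetLike.coe_mem _, ?_⟩
  have had' : (u.appLE U U' hle).hom
      (DirectSum.decompose (𝒮.deg U hU) a d : 𝒮.presheaf.obj (op U)) ∉
      P₀.asHomogeneousIdeal := had
  rw [hP₀] at had'
  rw [uh_ι u uh huh U U' hle]
  exact had'

include hz hz' huh huhz hC' in
/-- if `Proj(u)` is everywhere defined then so is `Φ̂` -/
theorem domQ_uh_eq_top {P' : Scheme.{u}} (p' : P' ⟶ Y')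
    (chart' : ∀ (U : Y'.Opens) (hU : IsAffineOpen U),
      (((p' ⁻¹ᵁ U : P'.Opens) : Scheme.{u}) ≅ Proj (𝒮'.deg U hU)))
    (hP' : RelProj.IsRelProj 𝒮' p' chart') (htop : RelProj.domQ u p' chart' = ⊤) :
    RelProj.domQ uh pC' chartC' = ⊤ := by
  rw [eq_top_iff]
  intro x _
  obtain ⟨U, hU0, hyU, -⟩ := Opens.isBasis_iff_nbhd.1 Y.isBasis_affineOpens
    (show q.base (pC'.base x) ∈ (⊤ : Y.Opens) from trivial)
  have hU : IsAffineOpen U := hU0
  obtain ⟨U', hU0', hyU', hle⟩ := Opens.isBasis_iff_nbhd.1 Y'.isBasis_affineOpens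
    (show pC'.base x ∈ q ⁻¹ᵁ U from hyU)
  have hU' : IsAffineOpen U' := hU0'
  obtain ⟨Q', rfl⟩ := exists_emb_eq pC' chartC' U' hU' x hyU'
  rw [mem_domQ_iff uh pC' chartC' hC' U hU U' hU' hle Q']
  by_contra hcon
  rw [RelCone.mem_domOpen] at hcon
  push Not at hcon
  have hzQ : RelCone.restrictTop 𝒮h' z' U' ∈ Q'.asHomogeneousIdeal.toIdeal := by
    have h1 := hcon (RelCone.restrictTop 𝒮h z U)
      (HomogeneousIdeal.mem_irrelevant_of_mem _ one_pos (hz.deg_z U hU))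
    have h2 : (uh.gradedAt U hU U' hU' hle) (RelCone.restrictTop 𝒮h z U) =
        RelCone.restrictTop 𝒮h' z' U' := uh_z uh huhz U U' hle
    rw [h2] at h1
    exact h1
  have hrel : ∃ a' ∈ (HomogeneousIdeal.irrelevant (𝒮'.deg U' hU')).toIdeal,
      (RelProj.gradedHomAt ι' hz'.graded U' hU') a' ∉ Q'.asHomogeneousIdeal := by
    by_contra hno
    push Not at hno
    exact Q'.not_irrelevant_le (fun b hb => irrelevant_le_of_mem hz' U' hU'
      Q'.asHomogeneousIdeal.toIdeal hzQ hno hb)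
  obtain ⟨d, hd, a, ha, haQ⟩ := exists_of_domQ_eq_top u hz' uh huh p' chart' hP' htop U hU U' hU'
    hle Q' hrel
  exact haQ (hcon _ (HomogeneousIdeal.mem_irrelevant_of_mem _ hd (hz.graded U hU d a ha)))

include hC hC' huh hΦh in
/-- if `Proj(u)` is everywhere defined then `Φ̂⁻¹(Ê) = Ê'` -/
theorem preimage_pointed_eq {P' : Scheme.{u}} (p' : P' ⟶ Y')
    (chart' : ∀ (U : Y'.Opens) (hU : IsAffineOpen U),
      (((p' ⁻¹ᵁ U : P'.Opens) : Scheme.{u}) ≅ Proj (𝒮'.deg U hU)))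
    (hP' : RelProj.IsRelProj 𝒮' p' chart') (htop : RelProj.domQ u p' chart' = ⊤) :
    (RelProj.domQ uh pC' chartC').ι ''ᵁ (Φh ⁻¹ᵁ RelCone.pointedProjCone 𝒮 hz pC chartC) =
      RelCone.pointedProjCone 𝒮' hz' pC' chartC' := by
  refine le_antisymm
    (preimage_pointed_le u hz pC chartC hC hz' pC' chartC' hC' uh huh Φh hΦh) ?_
  intro x hx
  obtain ⟨U, hU0, hyU, -⟩ := Opens.isBasis_iff_nbhd.1 Y.isBasis_affineOpens
    (show q.base (pC'.base x) ∈ (⊤ : Y.Opens) from trivial)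
  have hU : IsAffineOpen U := hU0
  obtain ⟨U', hU0', hyU', hle⟩ := Opens.isBasis_iff_nbhd.1 Y'.isBasis_affineOpens
    (show pC'.base x ∈ q ⁻¹ᵁ U from hyU)
  have hU' : IsAffineOpen U' := hU0'
  obtain ⟨Q', rfl⟩ := exists_emb_eq pC' chartC' U' hU' x hyU'
  have hx' : (RelProj.emb pC' chartC' U' hU').base Q' ∈
      RelCone.pointedProjCone 𝒮' hz' pC' chartC' := hx
  rw [mem_pointedProjCone_iff hz' pC' chartC' hC' U' hU' Q', RelCone.mem_domOpen] at hx'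
  obtain ⟨d, hd, a, ha, haQ⟩ := exists_of_domQ_eq_top u hz' uh huh p' chart' hP' htop U hU U' hU'
    hle Q' hx'
  have hf : (ι.hom.app (op U)).hom a ∈ 𝒮h.deg U hU d := hz.graded U hU d a ha
  have hxc : (RelProj.emb pC' chartC' U' hU').base Q' ∈ Set.range
      (E uh pC' chartC' ⟨U, hU, U', hU', hle, d, hd, (ι.hom.app (op U)).hom a, hf⟩).base :=
    (mem_range_E_iff uh pC' chartC' ⟨U, hU, U', hU', hle, d, hd, (ι.hom.app (op U)).hom a, hf⟩
      _).mpr ⟨Q', (Proj.mem_basicOpen _ _ _).mpr haQ, rfl⟩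
  obtain ⟨y, hy⟩ := hxc
  refine ⟨(lift uh pC' chartC'
    ⟨U, hU, U', hU', hle, d, hd, (ι.hom.app (op U)).hom a, hf⟩).base y, ?_, ?_⟩
  · show Φh.base ((lift uh pC' chartC'
      ⟨U, hU, U', hU', hle, d, hd, (ι.hom.app (op U)).hom a, hf⟩).base y) ∈
      RelCone.pointedProjCone 𝒮 hz pC chartC
    rw [Φh_lift pC chartC pC' chartC' uh Φh hΦh U hU U' hU' hle d hd _ hf y,
      mem_pointedProjCone_iff hz pC chartC hC U hU, RelCone.mem_domOpen]
    refine ⟨a, HomogeneousIdeal.mem_irrelevant_of_mem _ hd ha, ?_⟩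
    have hmem : (Proj.awayι (𝒮h.deg U hU) ((ι.hom.app (op U)).hom a) hf hd).base
        ((Spec.map (CommRingCat.ofHom (Away.map (uh.gradedAt U hU U' hU' hle)
          ((ι.hom.app (op U)).hom a)))).base y) ∈
        Proj.basicOpen (𝒮h.deg U hU) ((ι.hom.app (op U)).hom a) := by
      rw [← Proj.opensRange_awayι _ _ hf hd]
      exact ⟨_, rfl⟩
    exact (Proj.mem_basicOpen _ _ _).mp hmem
  · exact (congrArg (fun k => k.base y) (lift_ι uh pC' chartC'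
      ⟨U, hU, U', hU', hle, d, hd, (ι.hom.app (op U)).hom a, hf⟩)).trans hy

end conemap

end Groth.Agent.H41.ProjQ
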