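import Groth.Agent.H41.LineProj
import Groth.Agent.H41.ProjQ7
import Groth.Agent.H41.ProjDense

/-!
# Local analysis of `r_{L,ψ}` for an invertible module `L`
-/

set_option autoImplicit false
set_option linter.style.haveILetI false
universe u

open CategoryTheory CategoryTheory.Limits AlgebraicGeometry TopologicalSpace Opposite
open HomogeneousLocalization
open scoped HomogeneousIdeal

noncomputable section

namespace Groth.Agent.H41.LineProj

open Groth.Agent.H41.ProjPoly Groth.Agent.H41.ProjQ Groth.Agent.H41.ProjConeLib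
  Groth.Agent.H41.RelConeLib

/-! ### general lemmas on graded quasi-coherent algebras -/

section general

variable {X : Scheme.{u}}

/-- homogeneous elements over a basic open are, up to a unit, restrictions of homogeneous elements
of the same degree -/
theorem exists_res_mul_unit (𝒮 : RelProj.QCGrAlg X) (V : X.Opens) (hV : IsAffineOpen V)
    (h : Γ(X, V)) (n : ℕ) (y : 𝒮.presheaf.obj (op (X.basicOpen h)))
    (hy : y ∈ 𝒮.deg (X.basicOpen h) (hV.basicOpen h) n) :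
    ∃ (x : 𝒮.presheaf.obj (op V)) (w : 𝒮.presheaf.obj (op (X.basicOpen h))),
      x ∈ 𝒮.deg V hV n ∧ IsUnit w ∧
        y * w = 𝒮.res hV (hV.basicOpen h) (X.basicOpen_le h) x := by
  classical
  let ψ := 𝒮.res hV (hV.basicOpen h) (X.basicOpen_le h)
  let _inst := (𝒮.presheaf.map (homOfLE (X.basicOpen_le h)).op).hom.toAlgebra
  let c := (𝒮.str.app (op V)).hom h
  have hloc : IsLocalization.Away c (𝒮.presheaf.obj (op (X.basicOpen h))) := 𝒮.isQC V hV h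
  obtain ⟨⟨x, s, hs⟩, hxs⟩ := IsLocalization.surj (Submonoid.powers c) y
  obtain ⟨k, rfl⟩ := (Submonoid.mem_powers_iff _ _).mp hs
  change y * ψ (c ^ k) = ψ x at hxs
  have hu : IsUnit (ψ (c ^ k)) :=
    IsLocalization.map_units (M := Submonoid.powers c)
      (𝒮.presheaf.obj (op (X.basicOpen h))) ⟨c ^ k, k, rfl⟩
  have hc0 : ψ (c ^ k) ∈ 𝒮.deg (X.basicOpen h) (hV.basicOpen h) 0 := by
    rw [map_pow]
    exact SetLike.pow_mem_graded _ (ψ.map_mem (𝒮.str_mem V hV h))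
  have hbi : y * ψ (c ^ k) ∈ 𝒮.deg (X.basicOpen h) (hV.basicOpen h) n := by
    simpa only [add_zero] using
      SetLike.mul_mem_graded (A := 𝒮.deg (X.basicOpen h) (hV.basicOpen h)) hy hc0
  have hxi : ψ (DirectSum.decompose (𝒮.deg V hV) x n : 𝒮.presheaf.obj (op V)) =
      y * ψ (c ^ k) := by
    rw [GradedRingHom.map_directSumDecompose, ← hxs, DirectSum.decompose_of_mem_same _ hbi]
  exact ⟨_, ψ (c ^ k), SetLike.coe_mem _, hu, hxi.symm⟩

/-- the structure morphism `Proj 𝒜 → Spec 𝒜_0` and basic opens of degree-zero elements -/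
theorem toSpecZero_mem_basicOpen_iff {A : Type u} [CommRing A] (𝒜 : ℕ → AddSubgroup A)
    [GradedRing 𝒜] (b : 𝒜 0) (Q : Proj 𝒜) :
    (Proj.toSpecZero 𝒜).base Q ∈ PrimeSpectrum.basicOpen b ↔
      (b : A) ∉ Q.asHomogeneousIdeal := by
  obtain ⟨d, hd, f, hf, hfQ⟩ := Groth.Agent.H41.ProjDense.exists_pos_not_mem 𝒜 Q
  have hQf : Q ∈ Proj.basicOpen 𝒜 f := (Proj.mem_basicOpen 𝒜 f Q).mpr hfQ
  rw [← Proj.opensRange_awayι 𝒜 f hf hd] at hQf
  obtain ⟨y, rfl⟩ := hQf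
  have h1 : (Proj.toSpecZero 𝒜).base ((Proj.awayι 𝒜 f hf hd).base y) =
      (Spec.map (CommRingCat.ofHom (fromZeroRingHom 𝒜 (Submonoid.powers f)))).base y :=
    congrArg (fun k => k.base y) (Proj.awayι_toSpecZero 𝒜 f hf hd)
  rw [h1]
  have hbf : (b : A) * f ∈ 𝒜 d := by simpa using SetLike.mul_mem_graded b.2 hf
  have h2 := Proj.awayι_preimage_basicOpen 𝒜 hf hd hbf hd
  have h3 : (Proj.awayι 𝒜 f hf hd).base y ∈ Proj.basicOpen 𝒜 ((b : A) * f) ↔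
      y ∈ PrimeSpectrum.basicOpen (Away.isLocalizationElem hf hbf) := by
    rw [← h2]; exact Iff.rfl
  have h4 : Away.isLocalizationElem hf hbf = (fromZeroRingHom 𝒜 (Submonoid.powers f) b) ^ d := by
    apply HomogeneousLocalization.val_injective
    rw [HomogeneousLocalization.val_pow, fromZero_val, Away.val_mk, Localization.mk_pow,
      Localization.mk_eq_mk_iff, Localization.r_iff_exists]
    refine ⟨1, ?_⟩
    simp only [OneMemClass.coe_one, one_mul, pow_zero, mul_one, one_pow, SubmonoidClass.coe_pow]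
    ring
  rw [h4, PrimeSpectrum.basicOpen_pow _ d hd] at h3
  have h5 : (b : A) ∉ ((Proj.awayι 𝒜 f hf hd).base y).asHomogeneousIdeal ↔
      (Proj.awayι 𝒜 f hf hd).base y ∈ Proj.basicOpen 𝒜 ((b : A) * f) := by
    rw [Proj.mem_basicOpen]
    constructor
    · intro hb hbfQ
      rcases ((Proj.awayι 𝒜 f hf hd).base y).isPrime.mem_or_mem hbfQ with h | h
      · exact hb h
      · exact hfQ h
    · intro hbfQ hb
      exact hbfQ (Ideal.mul_mem_right _ _ hb)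
  rw [h5, h3]
  exact Iff.rfl

variable (𝒮 : RelProj.QCGrAlg X) {P : Scheme.{u}} (p : P ⟶ X)
  (chart : ∀ (U : X.Opens) (hU : IsAffineOpen U),
    (((p ⁻¹ᵁ U : P.Opens) : Scheme.{u}) ≅ Proj (𝒮.deg U hU)))
  (hP : RelProj.IsRelProj 𝒮 p chart)

include hP in
/-- the structure morphism of a relative Proj and basic opens of the base -/
theorem p_emb_mem_basicOpen_iff (U : X.Opens) (hU : IsAffineOpen U) (a : Γ(X, U))
    (Q : Proj (𝒮.deg U hU)) :
    p.base ((RelProj.emb p chart U hU).base Q) ∈ X.basicOpen a ↔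
      (𝒮.str.app (op U)).hom a ∉ Q.asHomogeneousIdeal := by
  have e1 : RelProj.emb p chart U hU ≫ p = Proj.toSpecZero (𝒮.deg U hU) ≫
      Spec.map (𝒮.strZero U hU) ≫ hU.fromSpec := by
    rw [RelProj.emb, Category.assoc, ← hP.chart_over U hU, Iso.inv_hom_id_assoc]
  have e2 : p.base ((RelProj.emb p chart U hU).base Q) =
      hU.fromSpec.base ((Spec.map (𝒮.strZero U hU)).base
        ((Proj.toSpecZero (𝒮.deg U hU)).base Q)) := congrArg (fun k => k.base Q) e1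
  rw [e2]
  refine Iff.trans ?_ (toSpecZero_mem_basicOpen_iff (𝒮.deg U hU) ((𝒮.strZero U hU).hom a) Q)
  have e3 := hU.fromSpec_preimage_basicOpen a
  have e4 : hU.fromSpec.base ((Spec.map (𝒮.strZero U hU)).base
      ((Proj.toSpecZero (𝒮.deg U hU)).base Q)) ∈ X.basicOpen a ↔
      (Spec.map (𝒮.strZero U hU)).base ((Proj.toSpecZero (𝒮.deg U hU)).base Q) ∈
        hU.fromSpec ⁻¹ᵁ X.basicOpen a := Iff.rfl
  rw [e4, e3]
  exact Iff.rfl

end general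

/-! ### the two local lemmas -/

section line

open Groth.Agent.H22.SymConstr Groth.Agent.H22

variable {X Y PL : Scheme.{u}} {q : X ⟶ Y} (L : X.Modules) [L.IsQuasicoherent]
  {𝒮 : RelProj.QCGrAlg Y} (𝒮L : RelProj.QCGrAlg X) (j : L ⟶ 𝒮L.toModule)
  (hj : RelProj.IsGrSymAlg L 𝒮L j)
  (u : RelProj.QGrHom q 𝒮 𝒮L)
  (pL : PL ⟶ X)
  (chartL : ∀ (U : X.Opens) (hU : IsAffineOpen U),
    (((pL ⁻¹ᵁ U : PL.Opens) : Scheme.{u}) ≅ Proj (𝒮L.deg U hU)))
  (hPL : RelProj.IsRelProj 𝒮L pL chartL)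

include hj in
/-- Lemma A: a point over an affine open `V` with `𝒮L(V)_n ⊆ (u s)` avoids `u s` -/
theorem exists_shrink (hL : PicF.IsInvertible L) (s : 𝒮.presheaf.obj (op ⊤)) (n : ℕ)
    (V : X.Opens) (hV : IsAffineOpen V) (hleV : V ≤ q ⁻¹ᵁ ⊤)
    (hsub : ((𝒮L.deg V hV n : AddSubgroup (𝒮L.presheaf.obj (op V))) :
        Set (𝒮L.presheaf.obj (op V))) ⊆
      (Ideal.span {(u.appLE ⊤ V hleV).hom s} : Set (𝒮L.presheaf.obj (op V))))
    (w : PL) (hw : pL.base w ∈ V) :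
    ∃ (V₀ : X.Opens) (hV₀ : IsAffineOpen V₀) (hle₀ : V₀ ≤ q ⁻¹ᵁ ⊤)
      (Q₀ : Proj (𝒮L.deg V₀ hV₀)),
      (RelProj.emb pL chartL V₀ hV₀).base Q₀ = w ∧
        (u.appLE ⊤ V₀ hle₀).hom s ∉ Q₀.asHomogeneousIdeal := by
  obtain ⟨V₁, hV₁, hxV₁, σ, hσ⟩ := exists_generator_affine L hL (pL.base w)
  obtain ⟨h, hhle, hxh⟩ := hV.exists_basicOpen_le ⟨pL.base w, hxV₁⟩ hw
  have hV₀ : IsAffineOpen (X.basicOpen h) := hV.basicOpen h
  have hbij := poly_bijective L 𝒮L j hj.1 (X.basicOpen h) hV₀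
    (L.presheaf.map (homOfLE hhle).op σ) (hσ _ hhle)
  have hz1 : toB 𝒮L.toQCAlg (X.basicOpen h) (j.app (X.basicOpen h)
      (L.presheaf.map (homOfLE hhle).op σ)) ∈ 𝒮L.deg (X.basicOpen h) hV₀ 1 :=
    hj.2 (X.basicOpen h) hV₀ _
  obtain ⟨z, hzdef⟩ : ∃ z, z = toB 𝒮L.toQCAlg (X.basicOpen h) (j.app (X.basicOpen h)
      (L.presheaf.map (homOfLE hhle).op σ)) := ⟨_, rfl⟩
  rw [← hzdef] at hbij hz1
  have htop := basicOpen_eq_top (𝒮L.deg (X.basicOpen h) hV₀)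
    (𝒮L.str.app (op (X.basicOpen h))).hom (𝒮L.str_mem (X.basicOpen h) hV₀) z hz1 hbij
  obtain ⟨Q₀, hQ₀⟩ := exists_emb_eq pL chartL (X.basicOpen h) hV₀ w hxh
  refine ⟨X.basicOpen h, hV₀, (X.basicOpen_le h).trans hleV, Q₀, hQ₀, ?_⟩
  intro ht₀
  have hzn : z ^ n ∈ 𝒮L.deg (X.basicOpen h) hV₀ n := by
    simpa using SetLike.pow_mem_graded n hz1
  obtain ⟨xn, w', hxn, hw', hxw⟩ := exists_res_mul_unit 𝒮L V hV h n (z ^ n) hzn
  obtain ⟨m, hm⟩ := Ideal.mem_span_singleton'.mp (hsub hxn)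
  have hres_t : 𝒮L.res hV hV₀ (X.basicOpen_le h) ((u.appLE ⊤ V hleV).hom s) =
      (u.appLE ⊤ (X.basicOpen h) ((X.basicOpen_le h).trans hleV)).hom s :=
    congrArg (fun k => k.hom s) (u.appLE_map hleV (X.basicOpen_le h))
  have h1 : z ^ n * w' ∈ Q₀.asHomogeneousIdeal.toIdeal := by
    rw [hxw, ← hm, map_mul, hres_t]
    exact Ideal.mul_mem_left _ _ ht₀
  have h2 : z ^ n ∈ Q₀.asHomogeneousIdeal.toIdeal :=
    (Q₀.isPrime.mem_or_mem h1).resolve_right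
      (fun hw'Q => Q₀.isPrime.ne_top (Ideal.eq_top_of_isUnit_mem _ hw'Q hw'))
  have h3 : z ∈ Q₀.asHomogeneousIdeal.toIdeal := Q₀.isPrime.mem_of_pow_mem n h2
  have h4 : Q₀ ∈ Proj.basicOpen (𝒮L.deg (X.basicOpen h) hV₀) z := by
    rw [htop]; trivial
  exact (Proj.mem_basicOpen _ _ _).mp h4 h3

include hj hPL in
/-- Lemma B: a point avoiding `u s` has an affine neighbourhood `V` with `𝒮L(V)_n ⊆ (u s)` -/
theorem exists_nbhd (hY : IsAffineOpen (⊤ : Y.Opens)) (s : 𝒮.presheaf.obj (op ⊤)) (n : ℕ)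
    (hs : s ∈ 𝒮.deg ⊤ hY n) (V₁ : X.Opens) (hV₁ : IsAffineOpen V₁) (hle₁ : V₁ ≤ q ⁻¹ᵁ ⊤)
    (σ : Γ(L, V₁))
    (hσ : ∀ (W : X.Opens) (hW : W ≤ V₁), Function.Bijective
      (fun r : Γ(X, W) => r • L.presheaf.map (homOfLE hW).op σ))
    (Q : Proj (𝒮L.deg V₁ hV₁))
    (hQ : (u.appLE ⊤ V₁ hle₁).hom s ∉ Q.asHomogeneousIdeal) :
    ∃ (V : X.Opens) (hV : IsAffineOpen V) (hle : V ≤ q ⁻¹ᵁ ⊤),
      pL.base ((RelProj.emb pL chartL V₁ hV₁).base Q) ∈ V ∧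
        ((𝒮L.deg V hV n : AddSubgroup (𝒮L.presheaf.obj (op V))) :
          Set (𝒮L.presheaf.obj (op V))) ⊆
        (Ideal.span {(u.appLE ⊤ V hle).hom s} : Set (𝒮L.presheaf.obj (op V))) := by
  have hσ₁ : Function.Bijective (fun r : Γ(X, V₁) => r • σ) := by
    have h1 := hσ V₁ le_rfl
    have h2 : L.presheaf.map (homOfLE (le_refl V₁)).op σ = σ := rE_self L le_rfl σ
    rw [h2] at h1
    exact h1
  have hbij₁ := poly_bijective L 𝒮L j hj.1 V₁ hV₁ σ hσ₁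
  have hz₁ : toB 𝒮L.toQCAlg V₁ (j.app V₁ σ) ∈ 𝒮L.deg V₁ hV₁ 1 := hj.2 V₁ hV₁ σ
  have ht : (u.appLE ⊤ V₁ hle₁).hom s ∈ 𝒮L.deg V₁ hV₁ n := u.map_mem ⊤ hY V₁ hV₁ hle₁ hs
  obtain ⟨a, hta⟩ := exists_eq_mul_pow (𝒮L.deg V₁ hV₁) (𝒮L.str.app (op V₁)).hom
    (𝒮L.str_mem V₁ hV₁) _ hz₁ hbij₁ n _ ht
  have haQ : (𝒮L.str.app (op V₁)).hom a ∉ Q.asHomogeneousIdeal := by
    intro hcon
    apply hQ
    rw [hta]
    exact Ideal.mul_mem_right _ _ hcon
  have hV : IsAffineOpen (X.basicOpen a) := hV₁.basicOpen a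
  have hleV : X.basicOpen a ≤ V₁ := X.basicOpen_le a
  refine ⟨X.basicOpen a, hV, hleV.trans hle₁,
    (p_emb_mem_basicOpen_iff 𝒮L pL chartL hPL V₁ hV₁ a Q).mpr haQ, ?_⟩
  have hbij := poly_bijective L 𝒮L j hj.1 (X.basicOpen a) hV
    (L.presheaf.map (homOfLE hleV).op σ) (hσ _ hleV)
  have hz : toB 𝒮L.toQCAlg (X.basicOpen a) (j.app (X.basicOpen a)
      (L.presheaf.map (homOfLE hleV).op σ)) ∈ 𝒮L.deg (X.basicOpen a) hV 1 :=
    hj.2 (X.basicOpen a) hV _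
  have hzres : toB 𝒮L.toQCAlg (X.basicOpen a) (j.app (X.basicOpen a)
      (L.presheaf.map (homOfLE hleV).op σ)) =
      (𝒮L.presheaf.map (homOfLE hleV).op).hom (toB 𝒮L.toQCAlg V₁ (j.app V₁ σ)) := by
    rw [← toB_res]
    exact congrArg (toB 𝒮L.toQCAlg (X.basicOpen a))
      (Groth.Agent.H22.QCohLimits.app_res j hleV σ)
  have htV : (u.appLE ⊤ (X.basicOpen a) (hleV.trans hle₁)).hom s =
      (𝒮L.str.app (op (X.basicOpen a))).hom ((X.presheaf.map (homOfLE hleV).op).hom a) *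
        toB 𝒮L.toQCAlg (X.basicOpen a) (j.app (X.basicOpen a)
          (L.presheaf.map (homOfLE hleV).op σ)) ^ n := by
    have h1 : (u.appLE ⊤ (X.basicOpen a) (hleV.trans hle₁)).hom s =
        (𝒮L.presheaf.map (homOfLE hleV).op).hom ((u.appLE ⊤ V₁ hle₁).hom s) :=
      (congrArg (fun k => k.hom s) (u.appLE_map hle₁ hleV)).symm
    rw [h1, hta, map_mul, map_pow, hzres, str_res 𝒮L.toQCAlg hleV a]
  have hu : IsUnit ((X.presheaf.map (homOfLE hleV).op).hom a) :=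
    X.toRingedSpace.isUnit_res_basicOpen a
  obtain ⟨v, hv⟩ := hu
  intro y hy
  obtain ⟨c, hyc⟩ := exists_eq_mul_pow (𝒮L.deg (X.basicOpen a) hV)
    (𝒮L.str.app (op (X.basicOpen a))).hom (𝒮L.str_mem (X.basicOpen a) hV) _ hz hbij n y hy
  show y ∈ Ideal.span {(u.appLE ⊤ (X.basicOpen a) (hleV.trans hle₁)).hom s}
  rw [Ideal.mem_span_singleton']
  refine ⟨(𝒮L.str.app (op (X.basicOpen a))).hom (c * ↑v⁻¹), ?_⟩
  rw [htV, hyc, ← hv, ← mul_assoc, ← map_mul, mul_assoc c, Units.inv_mul, mul_one]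

end line

end Groth.Agent.H41.LineProj
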