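import Mathlib.RingTheory.GradedAlgebra.Basic
import Mathlib.RingTheory.GradedAlgebra.FiniteType
import Mathlib.RingTheory.GradedAlgebra.Noetherian
import Mathlib.RingTheory.GradedAlgebra.Homogeneous.Ideal
import Mathlib.Algebra.Polynomial.AlgebraMap
import Mathlib.RingTheory.FiniteType
import Mathlib.RingTheory.Polynomial.Basic
import Mathlib.Algebra.Algebra.Operations
import Mathlib.Algebra.DirectSum.Internal
import Mathlib.Tactic

/-!
# The graded ring `S♮` with `S♮_n = S_{≥ n}` (EGA II 8.7)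

Basic lemmas on `A_{≥ n} = ⨆_{m ≥ n} 𝒜 m` and on the presentation of `S♮` as a graded ring `B` with an
injective algebra map `φ : B → A[X]` carrying `ℬ n` onto `A_{≥ n} X^n`.
-/

set_option autoImplicit false
set_option linter.unusedSectionVars false

namespace Groth.Agent.H41.Natural

open DirectSum

section GE

variable {R A : Type*} [CommRing R] [CommRing A] [Algebra R A]
  (𝒜 : ℕ → Submodule R A) [GradedAlgebra 𝒜]

/-- `A_{≥ n}`. -/
def ge (n : ℕ) : Submodule R A := ⨆ (m : ℕ) (_ : n ≤ m), 𝒜 m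

theorem le_ge {n m : ℕ} (h : n ≤ m) : 𝒜 m ≤ ge 𝒜 n := le_iSup₂_of_le m h le_rfl

theorem ge_anti {n m : ℕ} (h : n ≤ m) : ge 𝒜 m ≤ ge 𝒜 n :=
  iSup₂_le fun _ hk => le_ge 𝒜 (h.trans hk)

theorem ge_zero : ge 𝒜 0 = ⊤ := by
  rw [eq_top_iff, ← (DirectSum.Decomposition.isInternal 𝒜).submodule_iSup_eq_top]
  exact iSup_le fun m => le_ge 𝒜 (Nat.zero_le m)

theorem ge_eq_sup (n : ℕ) : ge 𝒜 n = 𝒜 n ⊔ ge 𝒜 (n + 1) := by
  apply le_antisymm
  · refine iSup₂_le fun m hm => ?_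
    rcases Nat.eq_or_lt_of_le hm with rfl | h
    · exact le_sup_left
    · exact (le_ge 𝒜 h).trans le_sup_right
  · exact sup_le (le_ge 𝒜 le_rfl) (ge_anti 𝒜 (Nat.le_succ n))

theorem graded_mul_le (i j : ℕ) : 𝒜 i * 𝒜 j ≤ 𝒜 (i + j) :=
  Submodule.mul_le.2 fun _ hx _ hy => SetLike.mul_mem_graded hx hy

theorem ge_mul_ge_le (a b : ℕ) : ge 𝒜 a * ge 𝒜 b ≤ ge 𝒜 (a + b) := by
  have h1 : ∀ i, a ≤ i → 𝒜 i * ge 𝒜 b ≤ ge 𝒜 (a + b) := by
    intro i hi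
    show 𝒜 i * (⨆ (m : ℕ) (_ : b ≤ m), 𝒜 m) ≤ _
    rw [Submodule.mul_iSup]
    refine iSup_le fun j => ?_
    rw [Submodule.mul_iSup]
    refine iSup_le fun hj => ?_
    exact (graded_mul_le 𝒜 i j).trans (le_ge 𝒜 (Nat.add_le_add hi hj))
  show (⨆ (m : ℕ) (_ : a ≤ m), 𝒜 m) * ge 𝒜 b ≤ _
  rw [Submodule.iSup_mul]
  refine iSup_le fun i => ?_
  rw [Submodule.iSup_mul]
  exact iSup_le fun hi => h1 i hi

theorem ge_le_ker_proj {n m : ℕ} (h : m < n) :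
    ge 𝒜 n ≤ LinearMap.ker (GradedAlgebra.proj 𝒜 m) := by
  refine iSup₂_le fun k hk x hx => ?_
  rw [LinearMap.mem_ker, GradedAlgebra.proj_apply]
  exact DirectSum.decompose_of_mem_ne 𝒜 hx (by omega)

theorem proj_of_mem {n : ℕ} {x : A} (hx : x ∈ 𝒜 n) : GradedAlgebra.proj 𝒜 n x = x := by
  rw [GradedAlgebra.proj_apply]; exact DirectSum.decompose_of_mem_same 𝒜 hx

theorem proj_of_mem_ne {n m : ℕ} {x : A} (hx : x ∈ 𝒜 n) (h : n ≠ m) :
    GradedAlgebra.proj 𝒜 m x = 0 := by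
  rw [GradedAlgebra.proj_apply]; exact DirectSum.decompose_of_mem_ne 𝒜 hx h

/-- Key cancellation lemma: a homogeneous element of degree `n` lying in `M + A_{≥ n+1}`, where
`M ⊆ A_n`, lies in `M`. -/
theorem mem_of_mem_sup_ge {n : ℕ} {M : Submodule R A} (hM : M ≤ 𝒜 n) {x : A}
    (hx : x ∈ 𝒜 n) (hx' : x ∈ M ⊔ ge 𝒜 (n + 1)) : x ∈ M := by
  obtain ⟨u, hu, v, hv, rfl⟩ := Submodule.mem_sup.1 hx'
  have hv' : v ∈ 𝒜 n := by
    have := (𝒜 n).sub_mem hx (hM hu)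
    simpa using this
  have h0 : GradedAlgebra.proj 𝒜 n v = 0 := ge_le_ker_proj 𝒜 (Nat.lt_succ_self n) hv
  rw [proj_of_mem 𝒜 hv'] at h0
  simpa [h0] using hu

theorem ge_mul_ge_le_sup (a b : ℕ) :
    ge 𝒜 a * ge 𝒜 b ≤ 𝒜 a * 𝒜 b ⊔ ge 𝒜 (a + b + 1) := by
  have h1 : ge 𝒜 a * ge 𝒜 b = (𝒜 a ⊔ ge 𝒜 (a + 1)) * (𝒜 b ⊔ ge 𝒜 (b + 1)) := by
    rw [← ge_eq_sup, ← ge_eq_sup]
  rw [h1, Submodule.sup_mul, Submodule.mul_sup, Submodule.mul_sup]
  refine sup_le (sup_le le_sup_left ?_) (sup_le ?_ ?_)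
  · refine le_sup_of_le_right ?_
    calc 𝒜 a * ge 𝒜 (b + 1) ≤ ge 𝒜 a * ge 𝒜 (b + 1) := mul_le_mul' (le_ge 𝒜 le_rfl) le_rfl
      _ ≤ ge 𝒜 (a + (b + 1)) := ge_mul_ge_le 𝒜 _ _
      _ ≤ ge 𝒜 (a + b + 1) := ge_anti 𝒜 (by omega)
  · refine le_sup_of_le_right ?_
    calc ge 𝒜 (a + 1) * 𝒜 b ≤ ge 𝒜 (a + 1) * ge 𝒜 b := mul_le_mul' le_rfl (le_ge 𝒜 le_rfl)
      _ ≤ ge 𝒜 (a + 1 + b) := ge_mul_ge_le 𝒜 _ _
      _ ≤ ge 𝒜 (a + b + 1) := ge_anti 𝒜 (by omega)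
  · refine le_sup_of_le_right ?_
    calc ge 𝒜 (a + 1) * ge 𝒜 (b + 1) ≤ ge 𝒜 (a + 1 + (b + 1)) := ge_mul_ge_le 𝒜 _ _
      _ ≤ ge 𝒜 (a + b + 1) := ge_anti 𝒜 (by omega)

/-- The pure graded-algebra core of S8277. -/
theorem natural_mul_iff (n₀ : ℕ) :
    (∀ n, n₀ ≤ n → ge 𝒜 (n + 1) = ge 𝒜 1 * ge 𝒜 n) ↔
      (∀ n, n₀ ≤ n → 𝒜 (n + 1) = 𝒜 1 * 𝒜 n) := by
  constructor
  · intro h n hn
    have hle : 𝒜 1 * 𝒜 n ≤ 𝒜 (n + 1) :=
      (graded_mul_le 𝒜 1 n).trans (le_of_eq (congrArg 𝒜 (add_comm 1 n)))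
    apply le_antisymm
    · intro x hx
      have hx1 : x ∈ ge 𝒜 1 * ge 𝒜 n := by rw [← h n hn]; exact le_ge 𝒜 le_rfl hx
      have hx2 := ge_mul_ge_le_sup 𝒜 1 n hx1
      have e : 1 + n + 1 = (n + 1) + 1 := by omega
      rw [e] at hx2
      exact mem_of_mem_sup_ge 𝒜 hle hx hx2
    · exact hle
  · intro h n hn
    apply le_antisymm
    · show (⨆ (m : ℕ) (_ : n + 1 ≤ m), 𝒜 m) ≤ _
      refine iSup₂_le fun m hm => ?_
      obtain ⟨k, rfl⟩ : ∃ k, m = k + 1 := ⟨m - 1, by omega⟩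
      rw [h k (by omega)]
      exact mul_le_mul' (le_ge 𝒜 le_rfl) (le_ge 𝒜 (by omega))
    · exact (ge_mul_ge_le 𝒜 1 n).trans (le_of_eq (congrArg (ge 𝒜) (add_comm 1 n)))

theorem one_le_grade_zero : (1 : Submodule R A) ≤ 𝒜 0 := by
  rw [Submodule.one_le]; exact SetLike.GradedOne.one_mem

theorem sub_pow_mono {M N : Submodule R A} (h : M ≤ N) (n : ℕ) : M ^ n ≤ N ^ n := by
  induction n with
  | zero => simp
  | succ n ih => rw [pow_succ, pow_succ]; exact mul_le_mul' ih h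

theorem pow_le_grade (n : ℕ) : 𝒜 1 ^ n ≤ 𝒜 n := by
  induction n with
  | zero => rw [pow_zero]; exact one_le_grade_zero 𝒜
  | succ n ih => rw [pow_succ]; exact (mul_le_mul' ih le_rfl).trans (graded_mul_le 𝒜 n 1)

theorem ge_one_pow_le (n : ℕ) : ge 𝒜 1 ^ n ≤ ge 𝒜 n := by
  induction n with
  | zero => rw [ge_zero]; exact le_top
  | succ n ih => rw [pow_succ]; exact (mul_le_mul' ih le_rfl).trans (ge_mul_ge_le 𝒜 n 1)

theorem ge_one_pow_le_sup (n : ℕ) : ge 𝒜 1 ^ n ≤ 𝒜 1 ^ n ⊔ ge 𝒜 (n + 1) := by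
  induction n with
  | zero => rw [pow_zero, pow_zero]; exact le_sup_left
  | succ n ih =>
    rw [pow_succ]
    calc ge 𝒜 1 ^ n * ge 𝒜 1 ≤ (𝒜 1 ^ n ⊔ ge 𝒜 (n + 1)) * (𝒜 1 ⊔ ge 𝒜 (1 + 1)) :=
          mul_le_mul' ih (le_of_eq (ge_eq_sup 𝒜 1))
      _ ≤ 𝒜 1 ^ (n + 1) ⊔ ge 𝒜 (n + 1 + 1) := by
          rw [Submodule.sup_mul, Submodule.mul_sup, Submodule.mul_sup, pow_succ]
          refine sup_le (sup_le le_sup_left ?_) (sup_le ?_ ?_)
          · exact le_sup_of_le_right (((mul_le_mul' ((pow_le_grade 𝒜 n).trans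
              (le_ge 𝒜 le_rfl)) le_rfl).trans (ge_mul_ge_le 𝒜 n (1 + 1))).trans
              (ge_anti 𝒜 (by omega)))
          · exact le_sup_of_le_right (((mul_le_mul' le_rfl (le_ge 𝒜 le_rfl)).trans
              (ge_mul_ge_le 𝒜 (n + 1) 1)).trans (ge_anti 𝒜 (by omega)))
          · exact le_sup_of_le_right ((ge_mul_ge_le 𝒜 (n + 1) (1 + 1)).trans
              (ge_anti 𝒜 (by omega)))

theorem ge_mul_top (k : ℕ) : ge 𝒜 k * ⊤ ≤ ge 𝒜 k := by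
  have h := ge_mul_ge_le 𝒜 k 0
  rw [ge_zero, add_zero] at h
  exact h

theorem ge_one_pow_mul_top {n : ℕ} (hn : 1 ≤ n) : ge 𝒜 1 ^ n * ⊤ ≤ ge 𝒜 1 ^ n := by
  obtain ⟨k, rfl⟩ : ∃ k, n = k + 1 := ⟨n - 1, by omega⟩
  rw [pow_succ, mul_assoc]
  exact mul_le_mul' le_rfl (ge_mul_top 𝒜 1)

/-- The pure graded-algebra core of S8278. -/
theorem natural_pow_iff (n₀ : ℕ) (hn₀ : 1 ≤ n₀) :
    (∀ n, n₀ ≤ n → ge 𝒜 n = ge 𝒜 1 ^ n) ↔ (∀ n, n₀ ≤ n → 𝒜 n = 𝒜 1 ^ n) := by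
  constructor
  · intro h n hn
    apply le_antisymm
    · intro x hx
      have hx1 : x ∈ ge 𝒜 1 ^ n := by rw [← h n hn]; exact le_ge 𝒜 le_rfl hx
      exact mem_of_mem_sup_ge 𝒜 (pow_le_grade 𝒜 n) hx (ge_one_pow_le_sup 𝒜 n hx1)
    · exact pow_le_grade 𝒜 n
  · intro h n hn
    apply le_antisymm
    · show (⨆ (m : ℕ) (_ : n ≤ m), 𝒜 m) ≤ _
      refine iSup₂_le fun m hm => ?_
      rw [h m (by omega)]
      obtain ⟨k, rfl⟩ : ∃ k, m = n + k := ⟨m - n, by omega⟩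
      rw [pow_add]
      calc 𝒜 1 ^ n * 𝒜 1 ^ k ≤ ge 𝒜 1 ^ n * ⊤ :=
            mul_le_mul' (sub_pow_mono (le_ge 𝒜 le_rfl) n) le_top
        _ ≤ ge 𝒜 1 ^ n := ge_one_pow_mul_top 𝒜 (by omega)
    · exact ge_one_pow_le 𝒜 n

end GE

section Mon

variable (R : Type*) {A : Type*} [CommRing R] [CommRing A] [Algebra R A]

/-- `a ↦ a X^n` as an `R`-linear map. -/
noncomputable abbrev mon (n : ℕ) : A →ₗ[R] Polynomial A :=
  (Polynomial.monomial n : A →ₗ[A] Polynomial A).restrictScalars R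

variable {R}

theorem map_mon_mul (m n : ℕ) (M N : Submodule R A) :
    Submodule.map (mon R m) M * Submodule.map (mon R n) N =
      Submodule.map (mon R (m + n)) (M * N) := by
  apply le_antisymm
  · rw [Submodule.mul_le]
    rintro _ ⟨a, ha, rfl⟩ _ ⟨b, hb, rfl⟩
    refine ⟨a * b, Submodule.mul_mem_mul ha hb, ?_⟩
    simp [Polynomial.monomial_mul_monomial]
  · rw [Submodule.map_le_iff_le_comap, Submodule.mul_le]
    intro a ha b hb
    rw [Submodule.mem_comap]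
    have : mon R (m + n) (a * b) = mon R m a * mon R n b := by
      simp [Polynomial.monomial_mul_monomial]
    rw [this]
    exact Submodule.mul_mem_mul (Submodule.mem_map_of_mem ha) (Submodule.mem_map_of_mem hb)

theorem map_mon_pow (M : Submodule R A) (n : ℕ) :
    Submodule.map (mon R 1) M ^ n = Submodule.map (mon R n) (M ^ n) := by
  induction n with
  | zero =>
    rw [pow_zero, pow_zero, Submodule.one_eq_span, Submodule.one_eq_span, Submodule.map_span,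
      Set.image_singleton]
    simp
  | succ n ih =>
    rw [pow_succ, pow_succ, ih, map_mon_mul]

end Mon

section Transfer

variable {R A B : Type*} [CommRing R] [CommRing A] [Algebra R A]
  (𝒜 : ℕ → Submodule R A) [GradedAlgebra 𝒜] [CommRing B] [Algebra R B]
  (ℬ : ℕ → Submodule R B) [GradedAlgebra ℬ]
  (φ : B →ₐ[R] Polynomial A) (hφ : Function.Injective φ)
  (hdeg : ∀ n : ℕ, Submodule.map φ.toLinearMap (ℬ n) = Submodule.map (mon R n) (ge 𝒜 n))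

include hφ hdeg

theorem mem_iff {n : ℕ} {b : B} :
    b ∈ ℬ n ↔ ∃ a ∈ ge 𝒜 n, φ b = Polynomial.monomial n a := by
  constructor
  · intro hb
    have : φ b ∈ Submodule.map φ.toLinearMap (ℬ n) := ⟨b, hb, rfl⟩
    rw [hdeg] at this
    obtain ⟨a, ha, h⟩ := this
    exact ⟨a, ha, h.symm⟩
  · rintro ⟨a, ha, h⟩
    have : φ b ∈ Submodule.map φ.toLinearMap (ℬ n) := by
      rw [hdeg, h]; exact ⟨a, ha, rfl⟩
    obtain ⟨b', hb', h'⟩ := this
    have : b' = b := hφ h'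
    exact this ▸ hb'

omit hφ in
theorem exists_of_mem_ge {n : ℕ} {a : A} (ha : a ∈ ge 𝒜 n) :
    ∃ b ∈ ℬ n, φ b = Polynomial.monomial n a := by
  have : Polynomial.monomial n a ∈ Submodule.map φ.toLinearMap (ℬ n) := by
    rw [hdeg]; exact ⟨a, ha, rfl⟩
  obtain ⟨b, hb, h⟩ := this
  exact ⟨b, hb, h⟩

theorem eq_mul_iff (n : ℕ) :
    ℬ (n + 1) = ℬ 1 * ℬ n ↔ ge 𝒜 (n + 1) = ge 𝒜 1 * ge 𝒜 n := by
  have hinj : Function.Injective (Submodule.map φ.toLinearMap) :=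
    Submodule.map_injective_of_injective hφ
  have hmon : Function.Injective (Submodule.map (mon R (n + 1) : A →ₗ[R] Polynomial A)) :=
    Submodule.map_injective_of_injective (Polynomial.monomial_injective (n + 1))
  have key : Submodule.map φ.toLinearMap (ℬ 1 * ℬ n) =
      Submodule.map (mon R (n + 1)) (ge 𝒜 1 * ge 𝒜 n) := by
    rw [Submodule.map_mul, hdeg, hdeg, map_mon_mul, add_comm 1 n]
  constructor
  · intro h
    apply hmon
    rw [← key, ← hdeg, h]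
  · intro h
    apply hinj
    rw [key, hdeg, h]

theorem eq_pow_iff (n : ℕ) :
    ℬ n = ℬ 1 ^ n ↔ ge 𝒜 n = ge 𝒜 1 ^ n := by
  have hinj : Function.Injective (Submodule.map φ.toLinearMap) :=
    Submodule.map_injective_of_injective hφ
  have hmon : Function.Injective (Submodule.map (mon R n : A →ₗ[R] Polynomial A)) :=
    Submodule.map_injective_of_injective (Polynomial.monomial_injective n)
  have key : Submodule.map φ.toLinearMap (ℬ 1 ^ n) =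
      Submodule.map (mon R n) (ge 𝒜 1 ^ n) := by
    rw [Submodule.map_pow, hdeg, map_mon_pow]
  constructor
  · intro h
    apply hmon
    rw [← key, ← hdeg, h]
  · intro h
    apply hinj
    rw [key, hdeg, h]

end Transfer

end Groth.Agent.H41.Natural
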