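import Groth.Agent.H41.Natural2
import Mathlib.AlgebraicGeometry.ProjectiveSpectrum.Functor

/-!
# `S♮ ⊗_S S_0`: the map `Proj S → Proj (S♮ ⊗_S S_0)` is bijective (EGA II 8.7.7)
-/

set_option autoImplicit false
set_option linter.unusedSectionVars false

namespace Groth.Agent.H41.Natural

open DirectSum HomogeneousIdeal AlgebraicGeometry

section

variable {R A : Type*} [CommRing R] [CommRing A] [Algebra R A]
  (𝒜 : ℕ → Submodule R A) [GradedAlgebra 𝒜]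

theorem ge_pow_le (k n : ℕ) : ge 𝒜 k ^ n ≤ ge 𝒜 (k * n) := by
  induction n with
  | zero => rw [mul_zero, ge_zero]; exact le_top
  | succ n ih =>
    rw [pow_succ, Nat.mul_succ]; exact (mul_le_mul' ih le_rfl).trans (ge_mul_ge_le 𝒜 _ _)

theorem mem_ge_succ {n : ℕ} {a : A} (ha : a ∈ ge 𝒜 n) (h0 : GradedAlgebra.proj 𝒜 n a = 0) :
    a ∈ ge 𝒜 (n + 1) := by
  rw [ge_eq_sup] at ha
  obtain ⟨u, hu, v, hv, rfl⟩ := Submodule.mem_sup.1 ha
  have hv0 : GradedAlgebra.proj 𝒜 n v = 0 :=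
    LinearMap.mem_ker.1 (ge_le_ker_proj 𝒜 (Nat.lt_succ_self n) hv)
  rw [map_add, proj_of_mem 𝒜 hu, hv0, add_zero] at h0
  rw [h0, zero_add]; exact hv

end

section

variable {R A B C : Type*} [CommRing R] [CommRing A] [Algebra R A]
  (𝒜 : ℕ → Submodule R A) [GradedAlgebra 𝒜] [CommRing B] [Algebra R B]
  (ℬ : ℕ → Submodule R B) [GradedAlgebra ℬ]
  (φ : B →ₐ[R] Polynomial A) (hφ : Function.Injective φ)
  (hdeg : ∀ n : ℕ, Submodule.map φ.toLinearMap (ℬ n) = Submodule.map (mon R n) (ge 𝒜 n))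
  [CommRing C] [Algebra R C] (𝒞 : ℕ → Submodule R C) [GradedAlgebra 𝒞]
  (π : ℬ →+*ᵍ 𝒞) (hπ : Function.Surjective π)
  (hker : RingHom.ker π.toRingHom =
      Ideal.span (⇑φ ⁻¹' (⇑(Polynomial.C : A →+* Polynomial A) ''
        ((HomogeneousIdeal.irrelevant 𝒜).toIdeal : Set A))))
  (ρ : 𝒞 →+*ᵍ 𝒜)
  (hρ : ∀ (n : ℕ) (b : B), b ∈ ℬ n → ρ (π b) = GradedRing.proj 𝒜 n ((φ b).coeff n))

include hφ hdeg hπ hker hρ

theorem rho_surj : Function.Surjective ρ := by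
  intro a
  refine DirectSum.Decomposition.inductionOn 𝒜 (motive := fun a => ∃ c, ρ c = a)
    ⟨0, map_zero ρ⟩ ?_ ?_ a
  · intro n a
    obtain ⟨b, hb, e⟩ := exists_of_mem_ge 𝒜 ℬ φ hdeg (le_ge 𝒜 le_rfl a.2)
    refine ⟨π b, ?_⟩
    rw [hρ n b hb, e, Polynomial.coeff_monomial, if_pos rfl, GradedRing.proj_apply,
      DirectSum.decompose_of_mem_same 𝒜 a.2]
  · rintro a a' ⟨c, rfl⟩ ⟨c', rfl⟩; exact ⟨c + c', map_add ρ c c'⟩

theorem ker_rho_le_of_prime (𝔮 : HomogeneousIdeal 𝒞) [h𝔮 : 𝔮.toIdeal.IsPrime] :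
    RingHom.ker ρ ≤ 𝔮.toIdeal := by
  intro c hc
  rw [RingHom.mem_ker] at hc
  rw [𝔮.isHomogeneous.mem_iff]
  intro n
  obtain ⟨b', hb'⟩ := hπ c
  set b : B := (decompose ℬ b' n : B) with hb
  have hbmem : b ∈ ℬ n := SetLike.coe_mem _
  have hπb : π b = (decompose 𝒞 c n : C) := by rw [hb, π.map_directSumDecompose, hb']
  have hρb : ρ (π b) = 0 := by
    rw [hπb, ρ.map_directSumDecompose, hc, DirectSum.decompose_zero]; rfl
  obtain ⟨a, ha, e⟩ := (mem_iff 𝒜 ℬ φ hφ hdeg).1 hbmem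
  have hpa : GradedAlgebra.proj 𝒜 n a = 0 := by
    have := hρ n b hbmem
    rw [hρb, e, Polynomial.coeff_monomial, if_pos rfl] at this
    exact this.symm
  have ha1 : a ∈ ge 𝒜 (n + 1) := mem_ge_succ 𝒜 ha hpa
  have haI : a ∈ (HomogeneousIdeal.irrelevant 𝒜).toIdeal := by
    have := LinearMap.mem_ker.1 (ge_le_ker_proj 𝒜 (Nat.succ_pos n) ha1)
    exact this
  obtain ⟨b₁, -, e₁⟩ := exists_of_mem_ge 𝒜 ℬ φ hdeg (n := 0) (a := a) (by rw [ge_zero]; trivial)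
  have hanmem : a ^ n ∈ ge 𝒜 (n * (n + 1)) := by
    have h1 : a ^ n ∈ ge 𝒜 (n + 1) ^ n := Submodule.pow_mem_pow _ ha1 n
    exact ge_anti 𝒜 (by rw [mul_comm]) (ge_pow_le 𝒜 (n + 1) n h1)
  obtain ⟨b₂, -, e₂⟩ := exists_of_mem_ge 𝒜 ℬ φ hdeg hanmem
  have hprod : b ^ (n + 1) = b₁ * b₂ := by
    apply hφ
    rw [map_pow, map_mul, e, e₁, e₂, Polynomial.monomial_pow, Polynomial.monomial_mul_monomial,
      zero_add, pow_succ']
  have hb₁ : π b₁ = 0 := by
    have : b₁ ∈ RingHom.ker π.toRingHom := by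
      rw [hker]
      exact Ideal.subset_span ⟨a, haI, by rw [e₁, Polynomial.monomial_zero_left]⟩
    exact this
  have hpow : π b ^ (n + 1) ∈ 𝔮.toIdeal := by
    rw [← map_pow, hprod, map_mul, hb₁, zero_mul]; exact zero_mem _
  have := h𝔮.mem_of_pow_mem _ hpow
  rwa [hπb] at this

theorem proj_comap_bijective
    (hirr : HomogeneousIdeal.irrelevant 𝒜 ≤ (HomogeneousIdeal.irrelevant 𝒞).map ρ) :
    Function.Bijective (ProjectiveSpectrum.comapFun ρ hirr) := by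
  have hsurj : Function.Surjective ρ := rho_surj 𝒜 ℬ φ hφ hdeg 𝒞 π hπ hker ρ hρ
  constructor
  · intro x y hxy
    have h1 : x.asHomogeneousIdeal.comap ρ = y.asHomogeneousIdeal.comap ρ :=
      congrArg ProjectiveSpectrum.asHomogeneousIdeal hxy
    have h2 : x.asHomogeneousIdeal.toIdeal.comap ρ = y.asHomogeneousIdeal.toIdeal.comap ρ :=
      congrArg HomogeneousIdeal.toIdeal h1
    have h3 := Ideal.comap_injective_of_surjective ρ hsurj h2
    exact ProjectiveSpectrum.ext (HomogeneousIdeal.ext h3)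
  · intro y
    have hk : RingHom.ker ρ ≤ y.asHomogeneousIdeal.toIdeal :=
      ker_rho_le_of_prime 𝒜 ℬ φ hφ hdeg 𝒞 π hπ hker ρ hρ y.asHomogeneousIdeal
    have hcm : (y.asHomogeneousIdeal.toIdeal.map ρ).comap ρ = y.asHomogeneousIdeal.toIdeal := by
      rw [Ideal.comap_map_of_surjective ρ hsurj]
      exact sup_eq_left.2 hk
    refine ⟨⟨y.asHomogeneousIdeal.map ρ, Ideal.map_isPrime_of_surjective hsurj hk, ?_⟩, ?_⟩
    · intro hle
      apply y.not_irrelevant_le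
      intro c hc
      have h1 : ρ c ∈ HomogeneousIdeal.irrelevant 𝒜 := by
        show GradedRing.proj 𝒜 0 (ρ c) = 0
        rw [GradedRing.proj_apply, ← ρ.map_directSumDecompose]
        have : (decompose 𝒞 c 0 : C) = 0 := hc
        rw [this, map_zero]
      have h2 : c ∈ (y.asHomogeneousIdeal.toIdeal.map ρ).comap ρ := hle h1
      rw [hcm] at h2
      exact h2
    · exact ProjectiveSpectrum.ext (HomogeneousIdeal.ext hcm)

end

end Groth.Agent.H41.Natural
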