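import Mathlib.AlgebraicGeometry.ProjectiveSpectrum.Functor
import Mathlib.AlgebraicGeometry.Morphisms.IsIso
import Mathlib.Tactic

/-!
# A surjective graded ring homomorphism which is injective in high degrees induces an
isomorphism of `Proj`'s (EGA II 2.9.1, surjective case)
-/

set_option autoImplicit false

universe u

namespace Groth.Agent.H41.ProjIso

open DirectSum HomogeneousIdeal AlgebraicGeometry HomogeneousLocalization CategoryTheory

section

variable {A B σ τ : Type u} [CommRing A] [SetLike σ A] [AddSubgroupClass σ A]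
  [CommRing B] [SetLike τ B] [AddSubgroupClass τ B]
  {𝒜 : ℕ → σ} {ℬ : ℕ → τ} [GradedRing 𝒜] [GradedRing ℬ]
  (f : 𝒜 →+*ᵍ ℬ) (hf : ℬ₊ ≤ 𝒜₊.map f)
  (hsurj : Function.Surjective f) (n₀ : ℕ)
  (hinj : ∀ n, n₀ ≤ n → ∀ a ∈ 𝒜 n, f a = 0 → a = 0)

include hsurj in
theorem exists_mem_of_mem {i : ℕ} {b : B} (hb : b ∈ ℬ i) : ∃ a ∈ 𝒜 i, f a = b := by
  obtain ⟨a₀, rfl⟩ := hsurj b
  refine ⟨(decompose 𝒜 a₀ i : A), SetLike.coe_mem _, ?_⟩
  rw [f.map_directSumDecompose, DirectSum.decompose_of_mem_same ℬ hb]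

include hinj in
theorem pow_mul_eq_zero {a : A} (ha : f a = 0) {d : ℕ} (hd : 0 < d) {u : A} (hu : u ∈ 𝒜 d) :
    u ^ n₀ * a = 0 := by
  classical
  have hfz : f (u ^ n₀ * a) = 0 := by rw [map_mul, ha, mul_zero]
  rw [← DirectSum.sum_support_decompose 𝒜 (u ^ n₀ * a)]
  refine Finset.sum_eq_zero fun j _ => ?_
  by_cases hj : n₀ ≤ j
  · apply hinj j hj _ (SetLike.coe_mem _)
    rw [f.map_directSumDecompose, hfz, DirectSum.decompose_zero]; rfl
  · have hun : u ^ n₀ ∈ 𝒜 (n₀ • d) := SetLike.pow_mem_graded n₀ hu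
    refine DirectSum.coe_decompose_mul_of_left_mem_of_not_le 𝒜 hun ?_
    rw [smul_eq_mul]
    intro h
    exact hj ((Nat.le_mul_of_pos_right _ hd).trans h)

theorem exists_homogeneous_notMem (y : ProjectiveSpectrum 𝒜) :
    ∃ d, 0 < d ∧ ∃ u ∈ 𝒜 d, u ∉ y.asHomogeneousIdeal := by
  by_contra h
  push Not at h
  apply y.not_irrelevant_le
  rw [← toIdeal_le_toIdeal_iff, toIdeal_irrelevant_le]
  intro i hi u hu
  exact h i hi u hu

include hinj in
theorem ker_le (y : ProjectiveSpectrum 𝒜) : RingHom.ker f ≤ y.asHomogeneousIdeal.toIdeal := by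
  intro a ha
  obtain ⟨d, hd, u, hu, huy⟩ := exists_homogeneous_notMem y
  have h0 : u ^ n₀ * a = 0 := pow_mul_eq_zero f n₀ hinj (RingHom.mem_ker.1 ha) hd hu
  have : u ^ n₀ * a ∈ y.asHomogeneousIdeal.toIdeal := by rw [h0]; exact zero_mem _
  rcases y.isPrime.mem_or_mem this with h | h
  · exact absurd (y.isPrime.mem_of_pow_mem _ h) huy
  · exact h

include hsurj hinj in
theorem comapFun_bijective : Function.Bijective (ProjectiveSpectrum.comapFun f hf) := by
  constructor
  · intro x y hxy
    have h1 : x.asHomogeneousIdeal.comap f = y.asHomogeneousIdeal.comap f :=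
      congrArg ProjectiveSpectrum.asHomogeneousIdeal hxy
    have h2 : x.asHomogeneousIdeal.toIdeal.comap f = y.asHomogeneousIdeal.toIdeal.comap f :=
      congrArg HomogeneousIdeal.toIdeal h1
    have h3 := Ideal.comap_injective_of_surjective f hsurj h2
    exact ProjectiveSpectrum.ext (HomogeneousIdeal.ext h3)
  · intro y
    have hk : RingHom.ker f ≤ y.asHomogeneousIdeal.toIdeal := ker_le f n₀ hinj y
    have hcm : (y.asHomogeneousIdeal.toIdeal.map f).comap f = y.asHomogeneousIdeal.toIdeal := by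
      rw [Ideal.comap_map_of_surjective f hsurj]
      exact sup_eq_left.2 hk
    refine ⟨⟨y.asHomogeneousIdeal.map f, Ideal.map_isPrime_of_surjective hsurj hk, ?_⟩, ?_⟩
    · intro hle
      apply y.not_irrelevant_le
      intro c hc
      have h1 : f c ∈ HomogeneousIdeal.irrelevant ℬ := by
        show GradedRing.proj ℬ 0 (f c) = 0
        rw [GradedRing.proj_apply, ← f.map_directSumDecompose]
        have : (decompose 𝒜 c 0 : A) = 0 := hc
        rw [this, map_zero]
      have h2 : c ∈ (y.asHomogeneousIdeal.toIdeal.map f).comap f := hle h1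
      rw [hcm] at h2
      exact h2
    · exact ProjectiveSpectrum.ext (HomogeneousIdeal.ext hcm)

include hsurj hinj in
theorem isOpenEmbedding_comap :
    Topology.IsOpenEmbedding (ProjectiveSpectrum.comap f hf) := by
  have hbij : Function.Bijective (ProjectiveSpectrum.comap f hf) :=
    comapFun_bijective f hf hsurj n₀ hinj
  refine Topology.IsOpenEmbedding.of_continuous_injective_isOpenMap
    (ProjectiveSpectrum.comap f hf).continuous hbij.1 ?_
  rw [(ProjectiveSpectrum.isTopologicalBasis_basic_opens ℬ).isOpenMap_iff]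
  rintro _ ⟨b, rfl⟩
  obtain ⟨a, rfl⟩ := hsurj b
  have hpre : (ProjectiveSpectrum.basicOpen ℬ (f a) : Set (ProjectiveSpectrum ℬ)) =
      (ProjectiveSpectrum.comap f hf) ⁻¹' (ProjectiveSpectrum.basicOpen 𝒜 a : Set _) := rfl
  show IsOpen ((ProjectiveSpectrum.comap f hf) ''
    (ProjectiveSpectrum.basicOpen ℬ (f a) : Set (ProjectiveSpectrum ℬ)))
  rw [hpre, Set.image_preimage_eq _ hbij.2]
  exact ProjectiveSpectrum.isOpen_basicOpen 𝒜

set_option backward.isDefEq.respectTransparency.types false in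
include hsurj hinj in
theorem localRingHom_bijective (y : ProjectiveSpectrum ℬ) :
    Function.Bijective (localRingHom f
      (ProjectiveSpectrum.comap f hf y).asHomogeneousIdeal.toIdeal
      y.asHomogeneousIdeal.toIdeal rfl) := by
  constructor
  · rw [injective_iff_map_eq_zero]
    intro x hx
    obtain ⟨⟨i, ⟨a, ha⟩, ⟨s, hs⟩, hsI⟩, rfl⟩ := x.mk_surjective
    have hval := congrArg HomogeneousLocalization.val hx
    rw [val_localRingHom, val_mk, val_zero, Localization.localRingHom_mk,
      Localization.mk_eq_mk', IsLocalization.mk'_eq_zero_iff] at hval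
    obtain ⟨⟨t, ht⟩, htfa⟩ := hval
    obtain ⟨t'', rfl⟩ := hsurj t
    obtain ⟨d, hd, u, hu, huy⟩ := exists_homogeneous_notMem (ProjectiveSpectrum.comap f hf y)
    have hzero : u ^ n₀ * (t'' * a) = 0 := by
      apply pow_mul_eq_zero f n₀ hinj _ hd hu
      rw [map_mul]; exact htfa
    have hw : u ^ n₀ * t'' ∈
        (ProjectiveSpectrum.comap f hf y).asHomogeneousIdeal.toIdeal.primeCompl := by
      intro hmem
      rcases (ProjectiveSpectrum.comap f hf y).isPrime.mem_or_mem hmem with h | h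
      · exact huy ((ProjectiveSpectrum.comap f hf y).isPrime.mem_of_pow_mem _ h)
      · exact ht h
    apply HomogeneousLocalization.val_injective
    rw [val_mk, val_zero, Localization.mk_eq_mk', IsLocalization.mk'_eq_zero_iff]
    exact ⟨⟨_, hw⟩, by rw [← hzero, mul_assoc]⟩
  · intro x
    obtain ⟨⟨i, ⟨b, hb⟩, ⟨s, hs⟩, hsJ⟩, rfl⟩ := x.mk_surjective
    obtain ⟨a', ha', rfl⟩ := exists_mem_of_mem f hsurj hb
    obtain ⟨s', hs', rfl⟩ := exists_mem_of_mem f hsurj hs
    exact ⟨HomogeneousLocalization.mk ⟨i, ⟨a', ha'⟩, ⟨s', hs'⟩, fun h => hsJ h⟩, rfl⟩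

set_option backward.isDefEq.respectTransparency.types false in
include hsurj hinj in
theorem isIso_stalkMap (x : ProjectiveSpectrum ℬ) : IsIso ((Proj.map f hf).stalkMap x) := by
  have h := Proj.localRingHom_comp_stalkIso f hf x
  have hbij := localRingHom_bijective f hf hsurj n₀ hinj x
  have hiso : IsIso (CommRingCat.ofHom (localRingHom f
      (ProjectiveSpectrum.comap f hf x).asHomogeneousIdeal.toIdeal
      x.asHomogeneousIdeal.toIdeal rfl)) :=
    (ConcreteCategory.isIso_iff_bijective _).2 hbij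
  show IsIso ((Proj.sheafedSpaceMap f hf).hom.stalkMap x)
  rw [← h]
  exact IsIso.comp_isIso' (Iso.isIso_hom _) (IsIso.comp_isIso' hiso (Iso.isIso_inv _))

include hsurj hinj in
/-- A surjective graded ring homomorphism which is injective in degrees `≥ n₀` induces an
isomorphism on `Proj`. -/
theorem isIso_projMap : IsIso (Proj.map f hf) := by
  rw [isIso_iff_isOpenImmersion_and_surjective]
  have hbij := comapFun_bijective f hf hsurj n₀ hinj
  refine ⟨?_, ⟨hbij.2⟩⟩
  have : ∀ x, IsIso ((Proj.map f hf).stalkMap x) := isIso_stalkMap f hf hsurj n₀ hinj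
  exact IsOpenImmersion.of_isIso_stalkMap _ (isOpenEmbedding_comap f hf hsurj n₀ hinj)

end

end Groth.Agent.H41.ProjIso
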