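import Groth.Agent.H41.Natural3
import Groth.Agent.H41.ProjIso

/-!
# `S♮ ⊗_S S_0`: `ρ` is injective in high degrees when `S_{n+1} = S_1 S_n` eventually
-/

set_option autoImplicit false
set_option linter.unusedSectionVars false

namespace Groth.Agent.H41.Natural

open DirectSum HomogeneousIdeal AlgebraicGeometry

section

variable {R A B C : Type*} [CommRing R] [CommRing A] [Algebra R A]
  (𝒜 : ℕ → Submodule R A) [GradedAlgebra 𝒜] [CommRing B] [Algebra R B]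
  (ℬ : ℕ → Submodule R B) [GradedAlgebra ℬ]
  (φ : B →ₐ[R] Polynomial A) (hφ : Function.Injective φ)
  (hdeg : ∀ n : ℕ, Submodule.map φ.toLinearMap (ℬ n) = Submodule.map (mon R n) (ge 𝒜 n))
  [CommRing C] [Algebra R C] (𝒞 : ℕ → Submodule R C) [GradedAlgebra 𝒞]
  (π : ℬ →+*ᵍ 𝒞) (hπ : Function.Surjective π)
  (hker : RingHom.ker π.toRingHom =
      Ideal.span (⇑φ ⁻¹' (⇑(Polynomial.C : A →+* Polynomial A) ''
        ((HomogeneousIdeal.irrelevant 𝒜).toIdeal : Set A))))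
  (ρ : 𝒞 →+*ᵍ 𝒜)
  (hρ : ∀ (n : ℕ) (b : B), b ∈ ℬ n → ρ (π b) = GradedRing.proj 𝒜 n ((φ b).coeff n))

include hφ hdeg hπ hker hρ

theorem rho_injective_high (n₀ : ℕ) (hgen : ∀ n, n₀ ≤ n → 𝒜 (n + 1) = 𝒜 1 * 𝒜 n) :
    ∀ n, n₀ ≤ n → ∀ c ∈ 𝒞 n, ρ c = 0 → c = 0 := by
  intro n hn c hc hρc
  obtain ⟨b', hb'⟩ := hπ c
  set b : B := (decompose ℬ b' n : B) with hb
  have hbmem : b ∈ ℬ n := SetLike.coe_mem _
  have hπb : π b = c := by
    rw [hb, π.map_directSumDecompose, hb', DirectSum.decompose_of_mem_same 𝒞 hc]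
  obtain ⟨a, ha, e⟩ := (mem_iff 𝒜 ℬ φ hφ hdeg).1 hbmem
  have hpa : GradedAlgebra.proj 𝒜 n a = 0 := by
    have := hρ n b hbmem
    rw [hπb, hρc, e, Polynomial.coeff_monomial, if_pos rfl] at this
    exact this.symm
  have ha1 : a ∈ ge 𝒜 (n + 1) := mem_ge_succ 𝒜 ha hpa
  rw [((natural_mul_iff 𝒜 n₀).2 hgen) n hn] at ha1
  have key : ∃ b₀ : B, φ b₀ = Polynomial.monomial n a ∧ π b₀ = 0 := by
    refine Submodule.mul_induction_on ha1 ?_ ?_
    · intro u hu v hv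
      obtain ⟨bu, -, eu⟩ := exists_of_mem_ge 𝒜 ℬ φ hdeg (n := 0) (a := u)
        (by rw [ge_zero]; trivial)
      obtain ⟨bv, -, ev⟩ := exists_of_mem_ge 𝒜 ℬ φ hdeg hv
      have huI : u ∈ (HomogeneousIdeal.irrelevant 𝒜).toIdeal :=
        LinearMap.mem_ker.1 (ge_le_ker_proj 𝒜 Nat.one_pos hu)
      have hbu : π bu = 0 := by
        have : bu ∈ RingHom.ker π.toRingHom := by
          rw [hker]
          exact Ideal.subset_span ⟨u, huI, by rw [eu, Polynomial.monomial_zero_left]⟩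
        exact this
      exact ⟨bu * bv, by rw [map_mul, eu, ev, Polynomial.monomial_mul_monomial, zero_add],
        by rw [map_mul, hbu, zero_mul]⟩
    · rintro x y ⟨bx, ex, hx⟩ ⟨by', ey, hy⟩
      exact ⟨bx + by', by rw [map_add, map_add, ex, ey], by rw [map_add, hx, hy, add_zero]⟩
  obtain ⟨b₀, e₀, h₀⟩ := key
  have : b = b₀ := hφ (e.trans e₀.symm)
  rw [← hπb, this, h₀]

end

end Groth.Agent.H41.Natural
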