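import Mathlib

/-!
# The grading on a ring `B` which is a polynomial ring `R[z]` (helper41)

Given `ι : R →+* B` and `z : B` with `Polynomial.eval₂RingHom ι z` bijective, the additive
subgroups `piece ι z d = {ι a * z ^ d}` form a grading of `B`.
-/

set_option autoImplicit false
set_option linter.style.haveILetI false

open Polynomial DirectSum

noncomputable section

namespace Groth.Agent.H41.PolyGraded

variable {R B : Type*} [CommRing R] [CommRing B] (ι : R →+* B) (z : B)

/-- the degree `d` monomial map `a ↦ ι a * z ^ d` -/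
def monHom (d : ℕ) : R →+ B := (AddMonoidHom.mulRight (z ^ d)).comp ι.toAddMonoidHom

@[simp] theorem monHom_apply (d : ℕ) (a : R) : monHom ι z d a = ι a * z ^ d := rfl

/-- the degree `d` piece `{ι a * z ^ d}` -/
def piece (d : ℕ) : AddSubgroup B := (monHom ι z d).range

theorem mem_piece {d : ℕ} {x : B} : x ∈ piece ι z d ↔ ∃ a : R, ι a * z ^ d = x := Iff.rfl

theorem term_mem (a : R) (d : ℕ) : ι a * z ^ d ∈ piece ι z d := ⟨a, rfl⟩

theorem ι_mem (a : R) : ι a ∈ piece ι z 0 := ⟨a, by simp⟩

theorem z_mem : z ∈ piece ι z 1 := ⟨1, by simp⟩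

instance gradedMonoid : SetLike.GradedMonoid (piece ι z) where
  one_mem := ⟨1, by simp⟩
  mul_mem := by
    rintro i j _ _ ⟨a, rfl⟩ ⟨b, rfl⟩
    refine ⟨a * b, ?_⟩
    simp only [monHom_apply, map_mul, pow_add]
    ring

/-- the degree `d` monomial map, into the piece -/
def mon (d : ℕ) : R →+ piece ι z d where
  toFun a := ⟨ι a * z ^ d, a, rfl⟩
  map_zero' := Subtype.ext (by simp)
  map_add' a b := Subtype.ext (by simp [add_mul])

@[simp] theorem coe_mon (d : ℕ) (a : R) : ((mon ι z d a : piece ι z d) : B) = ι a * z ^ d := rfl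

/-- decomposition of a polynomial -/
def decP : R[X] →+ ⨁ i, piece ι z i where
  toFun p := p.sum fun i a => DirectSum.of (fun i => piece ι z i) i (mon ι z i a)
  map_zero' := Polynomial.sum_zero_index _
  map_add' p q := Polynomial.sum_add_index p q _ (fun i => by simp) (fun i a b => by simp)

theorem decP_apply (p : R[X]) :
    decP ι z p = p.sum fun i a => DirectSum.of (fun i => piece ι z i) i (mon ι z i a) := rfl

theorem decP_monomial (i : ℕ) (a : R) :
    decP ι z (Polynomial.monomial i a) = DirectSum.of (fun i => piece ι z i) i (mon ι z i a) := by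
  rw [decP_apply, Polynomial.sum_monomial_index]
  simp

theorem coe_decP (p : R[X]) :
    DirectSum.coeAddMonoidHom (piece ι z) (decP ι z p) = Polynomial.eval₂ ι z p := by
  rw [Polynomial.eval₂_eq_sum, decP_apply, Polynomial.sum_def, Polynomial.sum_def, map_sum]
  refine Finset.sum_congr rfl fun n _ => ?_
  rw [DirectSum.coeAddMonoidHom_of]
  rfl

variable (hbij : Function.Bijective (Polynomial.eval₂RingHom ι z))

/-- the evaluation isomorphism `R[X] ≃ B` -/
def ev : R[X] ≃+* B := RingEquiv.ofBijective (Polynomial.eval₂RingHom ι z) hbij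

theorem ev_apply (p : R[X]) : ev ι z hbij p = Polynomial.eval₂ ι z p := rfl

/-- the decomposition map -/
def dec : B →+ ⨁ i, piece ι z i := (decP ι z).comp (ev ι z hbij).symm.toAddEquiv.toAddMonoidHom

theorem dec_apply (b : B) : dec ι z hbij b = decP ι z ((ev ι z hbij).symm b) := rfl

/-- the decomposition of `B = R[z]` -/
@[reducible] def decomposition : DirectSum.Decomposition (piece ι z) :=
  DirectSum.Decomposition.ofAddHom _ (dec ι z hbij)
    (by
      ext b
      simp only [AddMonoidHom.comp_apply, AddMonoidHom.id_apply]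
      rw [dec_apply, coe_decP, ← ev_apply ι z hbij, RingEquiv.apply_symm_apply])
    (by
      apply DirectSum.addHom_ext
      rintro i ⟨_, a, rfl⟩
      simp only [AddMonoidHom.comp_apply, AddMonoidHom.id_apply]
      rw [DirectSum.coeAddMonoidHom_of, dec_apply]
      have h1 : (ev ι z hbij).symm (monHom ι z i a) = Polynomial.monomial i a := by
        rw [RingEquiv.symm_apply_eq, ev_apply, Polynomial.eval₂_monomial]
        rfl
      show decP ι z ((ev ι z hbij).symm (monHom ι z i a)) = _
      rw [h1, decP_monomial]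
      rfl)

/-- `B = R[z]` is graded by the `piece`s -/
@[reducible] def gradedRing : GradedRing (piece ι z) :=
  { gradedMonoid ι z with toDecomposition := decomposition ι z hbij }

include hbij in
theorem closure_eq_top :
    Subring.closure ((piece ι z 0 : Set B) ∪ (piece ι z 1 : Set B)) = ⊤ := by
  rw [eq_top_iff]
  intro b _
  obtain ⟨p, rfl⟩ := hbij.2 b
  show Polynomial.eval₂ ι z p ∈ _
  rw [Polynomial.eval₂_eq_sum, Polynomial.sum_def]
  refine Subring.sum_mem _ fun n _ => ?_
  have h0 : ι (p.coeff n) ∈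
      Subring.closure ((piece ι z 0 : Set B) ∪ (piece ι z 1 : Set B)) :=
    Subring.subset_closure (Or.inl (ι_mem ι z (p.coeff n)))
  have h1 : z ∈ Subring.closure ((piece ι z 0 : Set B) ∪ (piece ι z 1 : Set B)) :=
    Subring.subset_closure (Or.inr (z_mem ι z))
  exact mul_mem h0 (pow_mem h1 n)

/-- finite generation of the degree one piece when `R` is finite over `R₀` -/
theorem exists_finset_deg_one {R₀ : Type*} [CommRing R₀] (σ : R₀ →+* R) (s : R₀ →+* B)
    (hs : ∀ r, s r = ι (σ r)) (hfin : σ.Finite) :
    ∃ T : Finset B, (↑T : Set B) ⊆ (piece ι z 1 : Set B) ∧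
      ∀ x ∈ piece ι z 1, ∃ c : B → R₀, x = ∑ t ∈ T, s (c t) * t := by
  classical
  letI : Algebra R₀ R := σ.toAlgebra
  letI : Module R₀ B := Module.compHom B s
  have hsmul : ∀ (r : R₀) (b : B), r • b = s r * b := fun _ _ => rfl
  have hsmulR : ∀ (r : R₀) (a : R), r • a = σ r * a := fun _ _ => rfl
  haveI : Module.Finite R₀ R := hfin
  obtain ⟨G, hG⟩ := (Module.Finite.fg_top : (⊤ : Submodule R₀ R).FG)
  let φ : R →ₗ[R₀] B :=
    { toFun := fun a => ι a * z
      map_add' := fun a b => by simp [add_mul]
      map_smul' := fun r a => by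
        simp only [RingHom.id_apply]
        rw [hsmul, hsmulR, map_mul, hs, mul_assoc] }
  refine ⟨G.image φ, ?_, ?_⟩
  · intro t ht
    rw [Finset.coe_image] at ht
    obtain ⟨a, -, rfl⟩ := ht
    exact ⟨a, by simp [φ]⟩
  · rintro _ ⟨a, rfl⟩
    have ha : a ∈ Submodule.span R₀ (↑G : Set R) := by rw [hG]; trivial
    have h1 : φ a ∈ Submodule.span R₀ (↑(G.image φ) : Set B) := by
      rw [Finset.coe_image, Submodule.span_image]
      exact Submodule.mem_map_of_mem ha
    obtain ⟨c, -, hc⟩ := Submodule.mem_span_finset.1 h1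
    refine ⟨c, ?_⟩
    rw [monHom_apply, pow_one]
    exact hc.symm

end Groth.Agent.H41.PolyGraded
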