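import Groth.Agent.H41.AffLinePoly
import Groth.Agent.H41.PolyGraded
import Groth.Agent.H41.LineProj
import Groth.Prelude.Def_RelProj

/-!
# The polynomial algebra `f_* O_X [T]` as a graded quasi-coherent algebra (helper41)

For an affine morphism `f : X ⟶ S`, the direct image of the structure sheaf of the affine line
`𝔸¹_X` is a quasi-coherent graded `O_S`-algebra `Sh f = (f_* O_X)[T]`.
-/

set_option autoImplicit false
set_option linter.style.haveILetI false
universe u v

open CategoryTheory CategoryTheory.Limits AlgebraicGeometry TopologicalSpace Opposite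
open HomogeneousLocalization

noncomputable section

namespace Groth.Agent.H41.PolyAlg

theorem poly_of_mv {R B : Type*} [CommRing R] [CommRing B] (ι : R →+* B) (z : B)
    (h : Function.Bijective (MvPolynomial.eval₂Hom ι (fun _ : PUnit.{v + 1} => z))) :
    Function.Bijective (Polynomial.eval₂RingHom ι z) := by
  have e : ∀ p : Polynomial R, Polynomial.eval₂RingHom ι z p =
      MvPolynomial.eval₂Hom ι (fun _ : PUnit.{v + 1} => z)
        ((MvPolynomial.uniqueAlgEquiv R PUnit.{v + 1}).symm p) := by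
    intro p
    exact (MvPolynomial.eval₂_const_uniqueAlgEquiv_symm (σ := PUnit.{v + 1}) (f := p) (φ := ι)
      (a := z)).symm
  have e' : ⇑(Polynomial.eval₂RingHom ι z) =
      ⇑(MvPolynomial.eval₂Hom ι (fun _ : PUnit.{v + 1} => z)) ∘
        ⇑(MvPolynomial.uniqueAlgEquiv R PUnit.{v + 1}).symm := funext e
  rw [e']
  exact h.comp (MvPolynomial.uniqueAlgEquiv R PUnit.{v + 1}).symm.bijective

variable {X S : Scheme.{u}} (f : X ⟶ S) [IsAffineHom f]

/-- the affine line over `X` -/
abbrev L (X : Scheme.{u}) : Scheme.{u} := 𝔸(PUnit.{u + 1}; X)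

/-- the projection of the affine line -/
abbrev g (X : Scheme.{u}) : L X ⟶ X := 𝔸(PUnit.{u + 1}; X) ↘ X

/-- the structure morphism of the affine line over `X`, down to `S` -/
abbrev h : L X ⟶ S := g X ≫ f

/-- the underlying quasi-coherent algebra `(f_* O_X)[T]` -/
def base : RelSpec.QCAlg S := RelSpec.QCAlg.directImage (h f)

/-- the inclusion of constants -/
def ιU (U : S.Opens) : Γ(X, f ⁻¹ᵁ U) →+* (base f).presheaf.obj (op U) :=
  ((g X).app (f ⁻¹ᵁ U)).hom

/-- the variable, as a global section -/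
def zTop : (base f).presheaf.obj (op ⊤) := AffineSpace.coord X PUnit.unit

/-- the variable over `U` -/
def zU (U : S.Opens) : (base f).presheaf.obj (op U) :=
  ((base f).presheaf.map (homOfLE le_top).op).hom (zTop f)

theorem hpolyMv (U : S.Opens) (hU : IsAffineOpen U) :
    Function.Bijective (MvPolynomial.eval₂Hom (ιU f U) (fun _ : PUnit.{u + 1} => zU f U)) :=
  AffLinePoly.eval₂_bijective PUnit.{u + 1} X (f ⁻¹ᵁ U) (hU.preimage f)

theorem hpoly (U : S.Opens) (hU : IsAffineOpen U) :
    Function.Bijective (Polynomial.eval₂RingHom (ιU f U) (zU f U)) :=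
  poly_of_mv (ιU f U) (zU f U) (hpolyMv f U hU)

theorem res_z {U V : S.Opens} (i : V ≤ U) :
    ((base f).presheaf.map (homOfLE i).op).hom (zU f U) = zU f V := by
  change ((base f).presheaf.map (homOfLE le_top).op ≫
    (base f).presheaf.map (homOfLE i).op).hom (zTop f) = _
  rw [← Functor.map_comp]
  rfl

theorem res_ι {U V : S.Opens} (i : V ≤ U) (a : Γ(X, f ⁻¹ᵁ U)) :
    ((base f).presheaf.map (homOfLE i).op).hom (ιU f U a) =
      ιU f V ((X.presheaf.map (homOfLE (f.preimage_mono i)).op).hom a) := by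
  have e := (g X).naturality (homOfLE (f.preimage_mono i)).op
  exact (congrArg (fun φ => φ.hom a) e).symm

/-- the graded quasi-coherent algebra `(f_* O_X)[T]` -/
def Sh : RelProj.QCGrAlg S where
  toQCAlg := base f
  deg U _ d := PolyGraded.piece (ιU f U) (zU f U) d
  graded U hU := PolyGraded.gradedRing (ιU f U) (zU f U) (hpoly f U hU)
  map_mem := by
    intro U V hU hV i d x hx
    obtain ⟨a, rfl⟩ := hx
    refine ⟨(X.presheaf.map (homOfLE (f.preimage_mono i)).op).hom a, ?_⟩
    simp only [PolyGraded.monHom_apply, map_mul, map_pow]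
    rw [res_ι, res_z]
  str_mem := by
    intro U hU r
    refine ⟨(f.app U).hom r, ?_⟩
    simp only [PolyGraded.monHom_apply, pow_zero, mul_one]
    rfl

theorem Sh_toQCAlg : (Sh f).toQCAlg = base f := rfl

/-- the inclusion `f_* O_X ⟶ (f_* O_X)[T]` -/
def ιhom : RelSpec.QCAlg.directImage f ⟶ (Sh f).toQCAlg where
  hom := (TopCat.Presheaf.pushforward CommRingCat.{u} f.base).map (g X).c
  comm := by
    apply NatTrans.ext
    funext U
    rfl

theorem ιhom_app (U : S.Opens) : ((ιhom f).hom.app (op U)).hom = ιU f U := rfl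

theorem hι (U : S.Opens) (hU : IsAffineOpen U)
    (a : (RelSpec.QCAlg.directImage f).presheaf.obj (op U)) :
    ((ιhom f).hom.app (op U)).hom a ∈ (Sh f).deg U hU 0 :=
  PolyGraded.ι_mem (ιU f U) (zU f U) a

theorem hz (U : S.Opens) (hU : IsAffineOpen U) :
    ((Sh f).presheaf.map (homOfLE le_top).op).hom (zTop f) ∈ (Sh f).deg U hU 1 :=
  PolyGraded.z_mem (ιU f U) (zU f U)

theorem hpoly' (U : S.Opens) (hU : IsAffineOpen U) :
    Function.Bijective (Polynomial.eval₂RingHom ((ιhom f).hom.app (op U)).hom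
      (((Sh f).presheaf.map (homOfLE le_top).op).hom (zTop f))) :=
  hpoly f U hU

theorem isGenDegOne : (Sh f).IsGenDegOne := fun U hU =>
  PolyGraded.closure_eq_top (ιU f U) (zU f U) (hpoly f U hU)

theorem isFTDeg_one [IsFinite f] : (Sh f).IsFTDeg 1 := fun U hU =>
  PolyGraded.exists_finset_deg_one (ιU f U) (zU f U) (f.app U).hom
    ((Sh f).str.app (op U)).hom (fun _ => rfl) (IsFinite.finite_app f U hU)

/-- the constants, into the degree zero part -/
def ρ₀ (U : S.Opens) (hU : IsAffineOpen U) : Γ(X, f ⁻¹ᵁ U) →+* (Sh f).deg U hU 0 where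
  toFun a := ⟨ιU f U a, PolyGraded.ι_mem (ιU f U) (zU f U) a⟩
  map_one' := Subtype.ext (map_one _)
  map_mul' a b := Subtype.ext (map_mul _ a b)
  map_zero' := Subtype.ext (map_zero _)
  map_add' a b := Subtype.ext (map_add _ a b)

/-- the variable over `U`, as a section of `Sh f` -/
def zS (U : S.Opens) : (Sh f).presheaf.obj (op U) :=
  ((Sh f).presheaf.map (homOfLE le_top).op).hom (zTop f)

/-- the constants, as a map into `Sh f` -/
def ιS (U : S.Opens) : (RelSpec.QCAlg.directImage f).presheaf.obj (op U) →+*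
    (Sh f).presheaf.obj (op U) := ((ιhom f).hom.app (op U)).hom

theorem ψ_bijective (U : S.Opens) (hU : IsAffineOpen U) :
    Function.Bijective ((fromZeroRingHom ((Sh f).deg U hU) (Submonoid.powers (zS f U))).comp
      (ρ₀ f U hU)) :=
  LineProj.fromZero_bijective ((Sh f).deg U hU) (ιS f U)
    (fun a => PolyGraded.ι_mem (ιU f U) (zU f U) a) (zS f U)
    (PolyGraded.z_mem (ιU f U) (zU f U)) (hpoly f U hU) (ρ₀ f U hU) (fun _ => rfl)

theorem exists_θ (U : S.Opens) (hU : IsAffineOpen U) :
    ∃ θ : CommRingCat.of (HomogeneousLocalization.Away ((Sh f).deg U hU) (zS f U)) ⟶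
        (RelSpec.QCAlg.directImage f).presheaf.obj (op U),
      ∀ (q : HomogeneousLocalization.Away ((Sh f).deg U hU) (zS f U)) (k : ℕ)
        (a : (RelSpec.QCAlg.directImage f).presheaf.obj (op U)),
        q.val = Localization.mk (ιS f U a * zS f U ^ k)
          ⟨zS f U ^ k, pow_mem (Submonoid.mem_powers (zS f U)) k⟩ →
        θ.hom q = a := by
  let E := RingEquiv.ofBijective _ (ψ_bijective f U hU)
  refine ⟨CommRingCat.ofHom E.symm.toRingHom, ?_⟩
  intro q k a hq
  have hqa : q = E a := by
    apply HomogeneousLocalization.val_injective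
    rw [hq]
    show _ = ((fromZeroRingHom ((Sh f).deg U hU) (Submonoid.powers (zS f U)))
      (ρ₀ f U hU a)).val
    rw [ProjPoly.fromZero_val, Localization.mk_eq_mk_iff, Localization.r_iff_exists]
    refine ⟨1, ?_⟩
    show (1 : (Sh f).presheaf.obj (op U)) * (zS f U ^ 0 * (ιS f U a * zS f U ^ k)) =
      1 * (zS f U ^ k * (ιS f U a * zS f U ^ 0))
    ring
  rw [hqa]
  exact E.symm_apply_apply a

end Groth.Agent.H41.PolyAlg
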