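import Groth.Agent.H18.ProjBaseChange

/-!
# Base change for `Proj` of rings graded by additive subgroups

The base-change theorem of `H18` is stated for gradings by submodules; here it is transported to
gradings by additive subgroups (the form used by the relative homogeneous spectrum).
-/

set_option autoImplicit false
set_option linter.style.haveILetI false
universe u

open CategoryTheory CategoryTheory.Limits AlgebraicGeometry
open HomogeneousLocalization
open scoped HomogeneousIdeal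

noncomputable section

namespace Groth.Agent.H41.ProjBC

/-- a base ring mapping into degree zero -/
class DegZeroAlg (R : Type u) {A : Type u} [CommRing R] [CommRing A] [Algebra R A]
    (𝒜 : ℕ → AddSubgroup A) : Prop where
  mem : ∀ r : R, algebraMap R A r ∈ 𝒜 0

section toSub

variable (R : Type u) {A : Type u} [CommRing R] [CommRing A] [Algebra R A]
  (𝒜 : ℕ → AddSubgroup A) [GradedRing 𝒜] [DegZeroAlg R 𝒜]

/-- the graded pieces as submodules over the base ring -/
def toSub (d : ℕ) : Submodule R A where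
  carrier := (𝒜 d : Set A)
  add_mem' := fun ha hb => (𝒜 d).add_mem ha hb
  zero_mem' := (𝒜 d).zero_mem
  smul_mem' := by
    intro r a ha
    have h1 : algebraMap R A r * a ∈ 𝒜 (0 + d) :=
      SetLike.mul_mem_graded (DegZeroAlg.mem (𝒜 := 𝒜) r) ha
    rw [zero_add] at h1
    show r • a ∈ 𝒜 d
    rw [Algebra.smul_def]
    exact h1

theorem mem_toSub {d : ℕ} {a : A} : a ∈ toSub R 𝒜 d ↔ a ∈ 𝒜 d := Iff.rfl

/-- the inclusion of the pieces -/
def incl (d : ℕ) : 𝒜 d →+ toSub R 𝒜 d where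
  toFun x := ⟨x.1, x.2⟩
  map_zero' := rfl
  map_add' _ _ := rfl

theorem coe_map_incl (x : DirectSum ℕ fun i => 𝒜 i) :
    DirectSum.coeAddMonoidHom (toSub R 𝒜) (DirectSum.map (incl R 𝒜) x) =
      DirectSum.coeAddMonoidHom 𝒜 x := by
  induction x using DirectSum.induction_on with
  | zero => simp
  | of i y =>
    rw [DirectSum.map_of, DirectSum.coeAddMonoidHom_of, DirectSum.coeAddMonoidHom_of]
    rfl
  | add x y hx hy => rw [map_add, map_add, map_add, hx, hy]

instance gradedMonoidToSub : SetLike.GradedMonoid (toSub R 𝒜) where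
  one_mem := (SetLike.GradedOne.one_mem : (1 : A) ∈ 𝒜 0)
  mul_mem := fun _ _ _ _ ha hb => (SetLike.mul_mem_graded ha hb : _ ∈ 𝒜 _)

instance decompositionToSub : DirectSum.Decomposition (toSub R 𝒜) where
  decompose' a := DirectSum.map (incl R 𝒜) (DirectSum.decompose 𝒜 a)
  left_inv a := (coe_map_incl R 𝒜 _).trans (DirectSum.Decomposition.left_inv a)
  right_inv x := by
    induction x using DirectSum.induction_on with
    | zero => simp
    | of i y =>
      show DirectSum.map (incl R 𝒜) (DirectSum.decompose 𝒜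
        (DirectSum.coeAddMonoidHom (toSub R 𝒜) (DirectSum.of (fun i => toSub R 𝒜 i) i y))) = _
      rw [DirectSum.coeAddMonoidHom_of, DirectSum.decompose_of_mem 𝒜 (y.2 : (y : A) ∈ 𝒜 i),
        DirectSum.map_of]
      rfl
    | add x y hx hy =>
      have hx' : DirectSum.map (incl R 𝒜) (DirectSum.decompose 𝒜
        (DirectSum.coeAddMonoidHom (toSub R 𝒜) x)) = x := hx
      have hy' : DirectSum.map (incl R 𝒜) (DirectSum.decompose 𝒜
        (DirectSum.coeAddMonoidHom (toSub R 𝒜) y)) = y := hy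
      show DirectSum.map (incl R 𝒜) (DirectSum.decompose 𝒜
        (DirectSum.coeAddMonoidHom (toSub R 𝒜) (x + y))) = _
      rw [map_add, DirectSum.decompose_add, map_add, hx', hy']

instance gradedAlgebraToSub : GradedAlgebra (toSub R 𝒜) where

theorem decompose_toSub (a : A) (d : ℕ) :
    ((DirectSum.decompose (toSub R 𝒜) a d : toSub R 𝒜 d) : A) = DirectSum.decompose 𝒜 a d := by
  show ((DirectSum.map (incl R 𝒜) (DirectSum.decompose 𝒜 a)) d : A) = _
  rw [DirectSum.map_apply]
  rfl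

/-- the identity, as a graded homomorphism to the grading by submodules -/
def toM : 𝒜 →+*ᵍ toSub R 𝒜 := { RingHom.id A with map_mem := fun h => h }

variable {𝒜} {n : ℕ} {g : A} (hg : g ∈ 𝒜 n)

/-- comparison of the degree-zero localizations -/
def awayToM (_ : g ∈ 𝒜 n) : Away 𝒜 g →+* Away (toSub R 𝒜) g := Away.map (toM R 𝒜) g

theorem awayToM_mk (k : ℕ) (a : A) (ha : a ∈ 𝒜 (k • n)) :
    awayToM R hg (Away.mk 𝒜 hg k a ha) = Away.mk (toSub R 𝒜) (hg : g ∈ toSub R 𝒜 n) k a ha := by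
  show Away.map (toM R 𝒜) g (Away.mk 𝒜 hg k a ha) = _
  rw [Away.map_mk]
  rfl

theorem val_awayToM (x : Away 𝒜 g) : (awayToM R hg x).val = x.val := by
  obtain ⟨k, a, ha, rfl⟩ := Away.mk_surjective 𝒜 hg x
  rw [awayToM_mk, Away.val_mk, Away.val_mk]

theorem awayToM_bijective : Function.Bijective (awayToM R hg) := by
  constructor
  · intro x y hxy
    apply HomogeneousLocalization.val_injective
    rw [← val_awayToM R hg x, ← val_awayToM R hg y, hxy]
  · intro y
    obtain ⟨k, a, ha, rfl⟩ := Away.mk_surjective (toSub R 𝒜) (hg : g ∈ toSub R 𝒜 n) y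
    exact ⟨Away.mk 𝒜 hg k a ha, awayToM_mk R hg k a ha⟩

end toSub

/-- the coercion from the degree-zero subring -/
def zeroVal {A : Type u} [CommRing A] (𝒜 : ℕ → AddSubgroup A) [GradedRing 𝒜] : 𝒜 0 →+* A where
  toFun x := x.1
  map_one' := rfl
  map_mul' _ _ := rfl
  map_zero' := rfl
  map_add' _ _ := rfl

section main

variable {R₀ R₁ A B : Type u} [CommRing R₀] [CommRing R₁] [CommRing A] [CommRing B]
  (𝒜 : ℕ → AddSubgroup A) [GradedRing 𝒜] (ℬ : ℕ → AddSubgroup B) [GradedRing ℬ]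
  (α : R₀ →+* R₁) (s₀ : R₀ →+* 𝒜 0) (s₁ : R₁ →+* ℬ 0) (φ : 𝒜 →+*ᵍ ℬ)
  (hcomm : ∀ r, φ (s₀ r : A) = (s₁ (α r) : B))
  (hpo : IsPushout (CommRingCat.ofHom α) (CommRingCat.ofHom ((zeroVal 𝒜).comp s₀))
    (CommRingCat.ofHom ((zeroVal ℬ).comp s₁)) (CommRingCat.ofHom φ.toRingHom))

include hcomm hpo in
/-- the degree-zero localizations of a base change: `ℬ_(φ g) = 𝒜_(g) ⊗_{R₀} R₁` -/
theorem isPushout_away' {n : ℕ} {g : A} (hg : g ∈ 𝒜 n) :
    IsPushout (CommRingCat.ofHom α)
      (CommRingCat.ofHom ((fromZeroRingHom 𝒜 (Submonoid.powers g)).comp s₀))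
      (CommRingCat.ofHom ((fromZeroRingHom ℬ (Submonoid.powers (φ g))).comp s₁))
      (CommRingCat.ofHom (Away.map φ g)) := by
  letI : Algebra R₀ R₁ := α.toAlgebra
  letI : Algebra R₀ A := ((zeroVal 𝒜).comp s₀).toAlgebra
  letI : Algebra R₁ B := ((zeroVal ℬ).comp s₁).toAlgebra
  letI : Algebra R₀ B := (((zeroVal ℬ).comp s₁).comp α).toAlgebra
  letI : Algebra A B := φ.toRingHom.toAlgebra
  haveI : IsScalarTower R₀ R₁ B := IsScalarTower.of_algebraMap_eq fun r => rfl
  haveI : IsScalarTower R₀ A B := IsScalarTower.of_algebraMap_eq fun r => (hcomm r).symm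
  haveI : DegZeroAlg R₀ 𝒜 := ⟨fun r => (s₀ r).2⟩
  haveI : DegZeroAlg R₁ ℬ := ⟨fun r => (s₁ r).2⟩
  haveI : Algebra.IsPushout R₀ R₁ A B := CommRingCat.isPushout_iff_isPushout.mp hpo
  let φₘ : toSub R₀ 𝒜 →+*ᵍ toSub R₁ ℬ :=
    { φ.toRingHom with map_mem := fun h => φ.map_mem h }
  have hφg : φ g ∈ ℬ n := φ.map_mem hg
  have H := Groth.Agent.H18.AwayBC.isPushout_away φₘ (fun b => rfl) (hg : g ∈ toSub R₀ 𝒜 n)
  let eA : CommRingCat.of (Away 𝒜 g) ≅ CommRingCat.of (Away (toSub R₀ 𝒜) g) :=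
    (RingEquiv.ofBijective _ (awayToM_bijective R₀ hg)).toCommRingCatIso
  let eB : CommRingCat.of (Away ℬ (φ g)) ≅ CommRingCat.of (Away (toSub R₁ ℬ) (φ g)) :=
    (RingEquiv.ofBijective _ (awayToM_bijective R₁ hφg)).toCommRingCatIso
  refine H.of_iso (Iso.refl _) (Iso.refl _) eA.symm eB.symm ?_ ?_ ?_ ?_
  · rfl
  · rw [Iso.symm_hom, Iso.comp_inv_eq, Iso.refl_hom, Category.id_comp]
    refine CommRingCat.hom_ext (RingHom.ext fun r => ?_)
    apply HomogeneousLocalization.val_injective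
    show _ = (awayToM R₀ hg (fromZeroRingHom 𝒜 (Submonoid.powers g) (s₀ r))).val
    rw [val_awayToM]
    rfl
  · rw [Iso.symm_hom, Iso.comp_inv_eq, Iso.refl_hom, Category.id_comp]
    refine CommRingCat.hom_ext (RingHom.ext fun r => ?_)
    apply HomogeneousLocalization.val_injective
    show _ = (awayToM R₁ hφg (fromZeroRingHom ℬ (Submonoid.powers (φ g)) (s₁ r))).val
    rw [val_awayToM]
    rfl
  · rw [Iso.symm_hom, Iso.symm_hom, Iso.comp_inv_eq, Category.assoc, Iso.eq_inv_comp]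
    refine CommRingCat.hom_ext (RingHom.ext fun x => ?_)
    obtain ⟨k, a, ha, rfl⟩ := Away.mk_surjective 𝒜 hg x
    show Away.map φₘ g (awayToM R₀ hg (Away.mk 𝒜 hg k a ha)) =
      awayToM R₁ hφg (Away.map φ g (Away.mk 𝒜 hg k a ha))
    rw [awayToM_mk, Away.map_mk, Away.map_mk]
    exact (awayToM_mk R₁ hφg k (φ a) (φ.map_mem ha)).symm

include hcomm hpo in
/-- the irrelevant ideal of a base change is generated by the image of the irrelevant ideal -/
theorem irrelevant_le_map_of_isPushout : ℬ₊ ≤ 𝒜₊.map φ := by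
  letI : Algebra R₀ R₁ := α.toAlgebra
  letI : Algebra R₀ A := ((zeroVal 𝒜).comp s₀).toAlgebra
  letI : Algebra R₁ B := ((zeroVal ℬ).comp s₁).toAlgebra
  letI : Algebra R₀ B := (((zeroVal ℬ).comp s₁).comp α).toAlgebra
  letI : Algebra A B := φ.toRingHom.toAlgebra
  haveI : IsScalarTower R₀ R₁ B := IsScalarTower.of_algebraMap_eq fun r => rfl
  haveI : IsScalarTower R₀ A B := IsScalarTower.of_algebraMap_eq fun r => (hcomm r).symm
  haveI : Algebra.IsPushout R₀ R₁ A B := CommRingCat.isPushout_iff_isPushout.mp hpo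
  have key : ∀ (b : B) (d : ℕ), 0 < d →
      (DirectSum.decompose ℬ b d : B) ∈ (𝒜₊.toIdeal).map φ.toRingHom := by
    intro b
    refine (Algebra.IsPushout.out (R := R₀) (S := R₁) (R' := A) (S' := B)).inductionOn b _
      ?_ ?_ ?_ ?_
    · intro d _
      rw [DirectSum.decompose_zero, DirectSum.zero_apply, ZeroMemClass.coe_zero]
      exact zero_mem _
    · intro a d hd
      show (DirectSum.decompose ℬ (φ a) d : B) ∈ _
      rw [← φ.map_directSumDecompose]
      exact Ideal.mem_map_of_mem _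
        (HomogeneousIdeal.mem_irrelevant_of_mem _ hd (SetLike.coe_mem _))
    · intro r b hb d hd
      have e : r • b = (s₁ r : B) * b := Algebra.smul_def r b
      rw [e, DirectSum.coe_decompose_mul_of_left_mem_zero ℬ (s₁ r).2]
      exact Ideal.mul_mem_left _ _ (hb d hd)
    · intro b₁ b₂ h₁ h₂ d hd
      rw [DirectSum.decompose_add, DirectSum.add_apply, AddMemClass.coe_add]
      exact add_mem (h₁ d hd) (h₂ d hd)
  rw [HomogeneousIdeal.irrelevant_le]
  intro d hd b hb
  have hb' : b ∈ ℬ d := hb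
  have h1 := key b d hd
  rw [DirectSum.decompose_of_mem_same ℬ hb'] at h1
  exact h1

set_option backward.isDefEq.respectTransparency false in
include hcomm hpo in
/-- base change for `Proj` of rings graded by additive subgroups -/
theorem proj_baseChange_isPullback' (hirr : ℬ₊ ≤ 𝒜₊.map φ) :
    IsPullback (Proj.map φ hirr)
      (Proj.toSpecZero ℬ ≫ Spec.map (CommRingCat.ofHom s₁))
      (Proj.toSpecZero 𝒜 ≫ Spec.map (CommRingCat.ofHom s₀))
      (Spec.map (CommRingCat.ofHom α)) := by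
  apply Scheme.isPullback_of_openCover _ _ _ _ (Proj.affineOpenCover 𝒜).openCover
  intro (s : Σ i : PNat, 𝒜 i)
  have hpb := (Groth.Agent.H18.isPullback_awayι_map φ hirr s.1.2 s.2.1 s.2.2).flip
  have hring := isPushout_away' 𝒜 ℬ α s₀ s₁ φ hcomm hpo s.2.2
  have hspec := (isPullback_SpecMap_of_isPushout _ _ _ _ hring).flip
  refine IsPullback.of_iso hspec hpb.isoPullback (Iso.refl _) (Iso.refl _) (Iso.refl _) ?_ ?_ ?_ ?_
  · rw [Iso.refl_hom, Category.comp_id]
    exact hpb.isoPullback_hom_snd.symm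
  · rw [Iso.refl_hom, Category.comp_id]
    show _ = hpb.isoPullback.hom ≫ pullback.fst _ _ ≫ _
    rw [hpb.isoPullback_hom_fst_assoc, Proj.awayι_toSpecZero_assoc, ← Spec.map_comp,
      ← CommRingCat.ofHom_comp]
  · simp only [Iso.refl_hom, Category.comp_id, Category.id_comp]
    show _ = Proj.awayι 𝒜 _ _ _ ≫ _
    rw [Proj.awayι_toSpecZero_assoc, ← Spec.map_comp, ← CommRingCat.ofHom_comp]
  · simp

end main

end Groth.Agent.H41.ProjBC
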