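import Groth.Agent.H41.ProjQ2
import Mathlib.AlgebraicGeometry.Morphisms.Affine

/-!
# `Proj(φ)` for a graded homomorphism over one base: local description of `G(φ)`, preimages of
standard opens, target-local properties
-/

set_option autoImplicit false
universe u

open CategoryTheory CategoryTheory.Limits AlgebraicGeometry TopologicalSpace Opposite
open HomogeneousLocalization
open scoped HomogeneousIdeal

noncomputable section

namespace Groth.Agent.H41.ProjQ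

open Groth.Agent.H41.RelConeLib Groth.Agent.H41.ProjConeLib Groth.Agent.H41.RelProjLib

section one

variable {Y : Scheme.{u}} {𝒜 ℬ : RelProj.QCGrAlg Y} (φ : 𝒜.toQCAlg ⟶ ℬ.toQCAlg)
  (hφ : RelProj.IsGradedHom φ)
  {PA PB : Scheme.{u}} (pA : PA ⟶ Y)
  (chartA : ∀ (U : Y.Opens) (hU : IsAffineOpen U),
    (((pA ⁻¹ᵁ U : PA.Opens) : Scheme.{u}) ≅ Proj (𝒜.deg U hU)))
  (pB : PB ⟶ Y)
  (chartB : ∀ (U : Y.Opens) (hU : IsAffineOpen U),
    (((pB ⁻¹ᵁ U : PB.Opens) : Scheme.{u}) ≅ Proj (ℬ.deg U hU)))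
  (hA : RelProj.IsRelProj 𝒜 pA chartA) (hB : RelProj.IsRelProj ℬ pB chartB)

theorem gradedAt_self (U : Y.Opens) (hU : IsAffineOpen U) (hle : U ≤ (𝟙 Y) ⁻¹ᵁ U) :
    (RelProj.QGrHom.ofHom φ hφ).gradedAt U hU U hU hle = RelProj.gradedHomAt φ hφ U hU := by
  apply GradedRingHom.ext
  intro x
  show (ℬ.presheaf.map (homOfLE hle).op).hom ((φ.hom.app (op U)).hom x) =
    (φ.hom.app (op U)).hom x
  have h : ℬ.presheaf.map (homOfLE hle).op = 𝟙 (ℬ.presheaf.obj (op U)) :=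
    ℬ.presheaf.map_id (op U)
  rw [h]
  rfl

theorem gradedAt_eq_comp (U : Y.Opens) (hU : IsAffineOpen U) (U' : Y.Opens)
    (hU' : IsAffineOpen U') (hle : U' ≤ (𝟙 Y) ⁻¹ᵁ U) (x : 𝒜.presheaf.obj (op U)) :
    (RelProj.QGrHom.ofHom φ hφ).gradedAt U hU U' hU' hle x =
      RelProj.gradedHomAt φ hφ U' hU' (𝒜.res hU hU' hle x) := by
  have hn := φ.hom.naturality (homOfLE hle).op
  exact (congrArg (fun k => k.hom x) hn).symm

theorem hD_domOpen (U : Y.Opens) (hU : IsAffineOpen U) (r : Γ(Y, U))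
    (T : Proj (ℬ.deg (Y.basicOpen r) (hU.basicOpen r))) :
    (Proj.map (ℬ.res hU (hU.basicOpen r) (Y.basicOpen_le r))
        (ℬ.irrelevant_le_map U hU r)).base T ∈
        RelCone.domOpen (RelProj.gradedHomAt φ hφ U hU) ↔
      T ∈ RelCone.domOpen (RelProj.gradedHomAt φ hφ (Y.basicOpen r) (hU.basicOpen r)) :=
  comap_mem_domOpen_iff (RelProj.gradedHomAt φ hφ U hU)
    (RelProj.gradedHomAt φ hφ (Y.basicOpen r) (hU.basicOpen r))
    (𝒜.res hU (hU.basicOpen r) (Y.basicOpen_le r))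
    (ℬ.res hU (hU.basicOpen r) (Y.basicOpen_le r))
    (fun a => congrArg (fun k => k.hom a)
      (φ.hom.naturality (homOfLE (Y.basicOpen_le r)).op).symm)
    (fun _ hx => 𝒜.irrelevant_le_map U hU r hx) (ℬ.irrelevant_le_map U hU r) T

include hB in
/-- `G(φ)` is the union of the chartwise opens `G(φ(U))` -/
theorem domQ_ofHom_eq :
    RelProj.domQ (RelProj.QGrHom.ofHom φ hφ) pB chartB =
      ⨆ U : Y.affineOpens, (RelProj.emb pB chartB U.1 U.2) ''ᵁ
        RelCone.domOpen (RelProj.gradedHomAt φ hφ U.1 U.2) := by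
  apply le_antisymm
  · unfold RelProj.domQ
    refine iSup_le fun V => ?_
    rintro _ ⟨z, hz, rfl⟩
    refine (mem_iSup_emb_iff pB chartB hB
      (fun U hU => RelCone.domOpen (RelProj.gradedHomAt φ hφ U hU)) (hD_domOpen φ hφ)
      V.1.2.1 V.1.2.2 z).mpr ?_
    obtain ⟨f, hf, hfz⟩ := (RelCone.mem_domOpen _ _).mp hz
    refine (RelCone.mem_domOpen _ _).mpr
      ⟨𝒜.res V.1.1.2 V.1.2.2 V.2 f, map_mem_irrelevant _ hf, ?_⟩
    rw [← gradedAt_eq_comp φ hφ V.1.1.1 V.1.1.2 V.1.2.1 V.1.2.2 V.2 f]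
    exact hfz
  · refine iSup_le fun U => ?_
    rintro _ ⟨z, hz, rfl⟩
    unfold RelProj.domQ
    rw [Opens.mem_iSup]
    refine ⟨⟨(U, U), le_rfl⟩, z, ?_, rfl⟩
    show z ∈ RelCone.domOpen ((RelProj.QGrHom.ofHom φ hφ).gradedAt U.1 U.2 U.1 U.2 _)
    rw [gradedAt_self]
    exact hz

include hB in
/-- the part of `G(φ)` over an affine open -/
theorem domQ_inf_preimage (U : Y.Opens) (hU : IsAffineOpen U) :
    RelProj.domQ (RelProj.QGrHom.ofHom φ hφ) pB chartB ⊓ pB ⁻¹ᵁ U =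
      (RelProj.emb pB chartB U hU) ''ᵁ RelCone.domOpen (RelProj.gradedHomAt φ hφ U hU) := by
  rw [domQ_ofHom_eq φ hφ pB chartB hB]
  ext x
  constructor
  · rintro ⟨hx1, hx2⟩
    obtain ⟨Q, rfl⟩ := exists_emb_eq pB chartB U hU x hx2
    exact ⟨Q, (mem_iSup_emb_iff pB chartB hB
      (fun U hU => RelCone.domOpen (RelProj.gradedHomAt φ hφ U hU)) (hD_domOpen φ hφ) U hU Q).mp
        hx1, rfl⟩
  · rintro ⟨Q, hQ, rfl⟩
    exact ⟨(mem_iSup_emb_iff pB chartB hB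
      (fun U hU => RelCone.domOpen (RelProj.gradedHomAt φ hφ U hU)) (hD_domOpen φ hφ) U hU Q).mpr
        hQ, emb_mem_preimage pB chartB U hU Q⟩

theorem gradedAt_self_apply (U : Y.Opens) (hU : IsAffineOpen U) (hle : U ≤ (𝟙 Y) ⁻¹ᵁ U)
    (x : 𝒜.presheaf.obj (op U)) :
    (RelProj.QGrHom.ofHom φ hφ).gradedAt U hU U hU hle x = (φ.hom.app (op U)).hom x := by
  rw [gradedAt_self]
  rfl

include hB in
/-- under (TN)-surjectivity `Proj(φ)` is everywhere defined -/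
theorem domQ_eq_top_of_tn (n₀ : ℕ)
    (hsurj : ∀ k, n₀ ≤ k → ∀ (U : Y.Opens) (hU : IsAffineOpen U), ∀ y ∈ ℬ.deg U hU k,
      ∃ x ∈ 𝒜.deg U hU k, (φ.hom.app (op U)).hom x = y) :
    RelProj.domQ (RelProj.QGrHom.ofHom φ hφ) pB chartB = ⊤ := by
  rw [domQ_ofHom_eq φ hφ pB chartB hB, eq_top_iff]
  intro x _
  have hx : pB.base x ∈ (⨆ U : Y.affineOpens, (U : Y.Opens)) := by
    rw [iSup_affineOpens_eq_top]; trivial
  obtain ⟨⟨U, hU⟩, hxU⟩ := Opens.mem_iSup.1 hx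
  obtain ⟨z, rfl⟩ := exists_emb_eq pB chartB U hU x hxU
  refine Opens.mem_iSup.mpr ⟨⟨U, hU⟩, z, ?_, rfl⟩
  obtain ⟨i, hi, b, hb, hbz⟩ := exists_pos_homogeneous_not_mem z
  have hbe : b ^ (n₀ + 1) ∈ ℬ.deg U hU ((n₀ + 1) • i) := SetLike.pow_mem_graded _ hb
  have hle : n₀ ≤ (n₀ + 1) • i := by
    rw [smul_eq_mul]; nlinarith
  obtain ⟨a, ha, hab⟩ := hsurj _ hle U hU _ hbe
  have hpos : 0 < (n₀ + 1) • i := by
    rw [smul_eq_mul]; positivity
  refine (RelCone.mem_domOpen _ _).mpr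
    ⟨a, HomogeneousIdeal.mem_irrelevant_of_mem _ hpos ha, ?_⟩
  show (φ.hom.app (op U)).hom a ∉ z.asHomogeneousIdeal
  rw [hab]
  intro h
  exact hbz (z.isPrime.mem_of_pow_mem _ h)

end one

section idbase

variable {Y : Scheme.{u}} {𝒜 ℬ : RelProj.QCGrAlg Y} (u : RelProj.QGrHom (𝟙 Y) 𝒜 ℬ)
  {PA PB : Scheme.{u}} (pA : PA ⟶ Y)
  (chartA : ∀ (U : Y.Opens) (hU : IsAffineOpen U),
    (((pA ⁻¹ᵁ U : PA.Opens) : Scheme.{u}) ≅ Proj (𝒜.deg U hU)))
  (pB : PB ⟶ Y)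
  (chartB : ∀ (U : Y.Opens) (hU : IsAffineOpen U),
    (((pB ⁻¹ᵁ U : PB.Opens) : Scheme.{u}) ≅ Proj (ℬ.deg U hU)))
  (hA : RelProj.IsRelProj 𝒜 pA chartA) (hB : RelProj.IsRelProj ℬ pB chartB)

theorem le_id (U : Y.Opens) : U ≤ (𝟙 Y) ⁻¹ᵁ U := le_rfl

/-- the diagonal chart at `(U, f)` -/
def diag (U : Y.Opens) (hU : IsAffineOpen U) {d : ℕ} (hd : 0 < d) (f : 𝒜.presheaf.obj (op U))
    (hf : f ∈ 𝒜.deg U hU d) : Ch (𝟙 Y) 𝒜 :=
  ⟨U, hU, U, hU, le_id U, d, hd, f, hf⟩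

include hA hB in
/-- the preimage of a standard open of `Proj(𝒜)` under `Proj(u)` is the standard chart -/
theorem preimage_eq_opensRange_lift
    (v : ((RelProj.domQ u pB chartB : PB.Opens) : Scheme.{u}) ⟶ PA)
    (hv : RelProj.IsProjQMapOn u pA chartA pB chartB (RelProj.domQ u pB chartB) v)
    (U : Y.Opens) (hU : IsAffineOpen U) {d : ℕ} (hd : 0 < d) (f : 𝒜.presheaf.obj (op U))
    (hf : f ∈ 𝒜.deg U hU d) :
    v ⁻¹ᵁ ((RelProj.emb pA chartA U hU) ''ᵁ Proj.basicOpen (𝒜.deg U hU) f) =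
      (lift u pB chartB (diag U hU hd f hf)).opensRange := by
  have hv' := (isProjQMapOn_iff u pA chartA pB chartB v).mp hv
  ext y
  constructor
  · intro hy
    refine mem_opensRange_lift_of_mem u pA chartA pB chartB hA hB v hv' (diag U hU hd f hf) y hy ?_
    have hover := isProjQMapOn_over u pA chartA pB chartB hA hB v hv
    have h1 : pA.base (v.base y) = pB.base ((RelProj.domQ u pB chartB).ι.base y) :=
      congrArg (fun k => k.base y) hover
    show pB.base ((RelProj.domQ u pB chartB).ι.base y) ∈ U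
    rw [← h1]
    obtain ⟨q, -, hq⟩ := hy
    rw [← hq]
    exact emb_mem_preimage pA chartA U hU q
  · rintro ⟨w, rfl⟩
    have h1 : v.base ((lift u pB chartB (diag U hU hd f hf)).base w) =
        (R u pA chartA (diag U hU hd f hf)).base w :=
      congrArg (fun k => k.base w) (hv' (diag U hU hd f hf))
    show v.base ((lift u pB chartB (diag U hU hd f hf)).base w) ∈
      ((RelProj.emb pA chartA U hU) ''ᵁ Proj.basicOpen (𝒜.deg U hU) f : PA.Opens)
    rw [h1]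
    refine ⟨(Proj.awayι (𝒜.deg U hU) f hf hd).base
      ((Spec.map (CommRingCat.ofHom (Away.map (u.gradedAt U hU U hU (le_id U)) f))).base w), ?_, rfl⟩
    rw [← Proj.opensRange_awayι (𝒜.deg U hU) f hf hd]
    exact ⟨_, rfl⟩

/-- the standard opens cover `Proj(𝒜)` -/
theorem exists_standard_open (x : PA) :
    ∃ (U : Y.Opens) (hU : IsAffineOpen U) (d : ℕ) (_ : 0 < d) (f : 𝒜.presheaf.obj (op U))
      (_ : f ∈ 𝒜.deg U hU d),
      x ∈ (RelProj.emb pA chartA U hU) ''ᵁ Proj.basicOpen (𝒜.deg U hU) f := by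
  have hx : pA.base x ∈ (⨆ U : Y.affineOpens, (U : Y.Opens)) := by
    rw [iSup_affineOpens_eq_top]; trivial
  obtain ⟨⟨U, hU⟩, hxU⟩ := Opens.mem_iSup.1 hx
  obtain ⟨q, rfl⟩ := exists_emb_eq pA chartA U hU x hxU
  obtain ⟨i, hi, f, hf, hfq⟩ := exists_pos_homogeneous_not_mem q
  exact ⟨U, hU, i, hi, f, hf, q, hfq, rfl⟩

include hA hB in
theorem isAffineHom_of_isProjQMapOn
    (v : ((RelProj.domQ u pB chartB : PB.Opens) : Scheme.{u}) ⟶ PA)
    (hv : RelProj.IsProjQMapOn u pA chartA pB chartB (RelProj.domQ u pB chartB) v) :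
    IsAffineHom v := by
  refine isAffineHom_of_forall_exists_isAffineOpen (f := v) fun x => ?_
  obtain ⟨U, hU, d, hd, f, hf, hx⟩ := exists_standard_open pA chartA x
  refine ⟨_, hx, ?_, ?_⟩
  · exact (Proj.isAffineOpen_basicOpen (𝒜.deg U hU) f hf hd).image_of_isOpenImmersion _
  · rw [preimage_eq_opensRange_lift u pA chartA pB chartB hA hB v hv U hU hd f hf]
    exact isAffineOpen_opensRange _

include hA hB in
/-- a target-local property holds for an everywhere defined `Proj(u)` if it holds for all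
`Spec` of the maps `𝒜(U)_(f) → ℬ(U)_(u f)` -/
theorem projQMap_of_local (Q : MorphismProperty Scheme.{u}) [IsZariskiLocalAtTarget Q]
    (h : PB ⟶ PA) (hh : RelProj.IsProjQMap u pA chartA pB chartB h)
    (hQ : ∀ (U : Y.Opens) (hU : IsAffineOpen U) (d : ℕ) (_ : 0 < d) (f : 𝒜.presheaf.obj (op U))
      (_ : f ∈ 𝒜.deg U hU d),
      Q (Spec.map (CommRingCat.ofHom (Away.map (u.gradedAt U hU U hU (le_id U)) f)))) :
    Q h := by
  obtain ⟨htop, heq⟩ := hh
  -- the restriction to `G(u) = ⊤`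
  have hv : RelProj.IsProjQMapOn u pA chartA pB chartB (RelProj.domQ u pB chartB)
      ((RelProj.domQ u pB chartB).ι ≫ h) := by
    rw [isProjQMapOn_iff]
    intro c
    rw [lift_ι_assoc]
    exact heq c.U c.hU c.U' c.hU' c.hle c.d c.hd c.f c.hf
  let W : Ch (𝟙 Y) 𝒜 → PA.Opens := fun c =>
    (Proj.awayι (𝒜.deg c.U c.hU) c.f c.hf c.hd ≫ RelProj.emb pA chartA c.U c.hU).opensRange
  have hWeq : ∀ c : Ch (𝟙 Y) 𝒜, W c =
      (RelProj.emb pA chartA c.U c.hU) ''ᵁ Proj.basicOpen (𝒜.deg c.U c.hU) c.f := by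
    intro c
    show (Proj.awayι (𝒜.deg c.U c.hU) c.f c.hf c.hd ≫
      RelProj.emb pA chartA c.U c.hU).opensRange = _
    rw [Scheme.Hom.opensRange_comp, Proj.opensRange_awayι]
  have hcov : ⨆ c, W c = ⊤ := by
    rw [eq_top_iff]
    intro x _
    obtain ⟨U, hU, d, hd, f, hf, hx⟩ := exists_standard_open pA chartA x
    refine Opens.mem_iSup.mpr ⟨diag U hU hd f hf, ?_⟩
    rw [hWeq]
    exact hx
  refine IsZariskiLocalAtTarget.of_iSup_eq_top (P := Q) W hcov fun c => ?_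
  have hrange : (E u pB chartB (diag c.U c.hU c.hd c.f c.hf)).opensRange =
      h ⁻¹ᵁ (Proj.awayι (𝒜.deg c.U c.hU) c.f c.hf c.hd ≫
        RelProj.emb pA chartA c.U c.hU).opensRange := by
    have hpre := preimage_eq_opensRange_lift u pA chartA pB chartB hA hB _ hv c.U c.hU c.hd c.f c.hf
    have hW := hWeq c
    change (Proj.awayι (𝒜.deg c.U c.hU) c.f c.hf c.hd ≫
      RelProj.emb pA chartA c.U c.hU).opensRange = _ at hW
    rw [hW]
    ext x
    have hxG : x ∈ RelProj.domQ u pB chartB := htop ▸ trivial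
    have hiff := (mem_opensRange_lift_iff u pB chartB (diag c.U c.hU c.hd c.f c.hf) ⟨x, hxG⟩)
    constructor
    · intro hx
      have h1 : (⟨x, hxG⟩ : ((RelProj.domQ u pB chartB : PB.Opens) : Scheme.{u})) ∈
          (lift u pB chartB (diag c.U c.hU c.hd c.f c.hf)).opensRange := hiff.mpr hx
      rw [← hpre] at h1
      exact h1
    · intro hx
      have h1 : (⟨x, hxG⟩ : ((RelProj.domQ u pB chartB : PB.Opens) : Scheme.{u})) ∈
          ((RelProj.domQ u pB chartB).ι ≫ h) ⁻¹ᵁ ((RelProj.emb pA chartA c.U c.hU) ''ᵁ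
            Proj.basicOpen (𝒜.deg c.U c.hU) c.f) := hx
      rw [hpre] at h1
      exact hiff.mp h1
  have hcomm : E u pB chartB (diag c.U c.hU c.hd c.f c.hf) ≫ h =
      Spec.map (CommRingCat.ofHom (Away.map (u.gradedAt c.U c.hU c.U c.hU (le_id c.U)) c.f)) ≫
        (Proj.awayι (𝒜.deg c.U c.hU) c.f c.hf c.hd ≫ RelProj.emb pA chartA c.U c.hU) :=
    heq c.U c.hU c.U c.hU (le_id c.U) c.d c.hd c.f c.hf
  exact (restrict_iff Q h _ (E u pB chartB (diag c.U c.hU c.hd c.f c.hf)) _ hcomm hrange).mpr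
    (hQ c.U c.hU c.d c.hd c.f c.hf)

end idbase

end Groth.Agent.H41.ProjQ
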