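import Groth.Agent.H41.ProjBC
import Groth.Agent.H41.ProjQ3
import Groth.Agent.H22.PullbackLocal

/-!
# Base change for the relative homogeneous spectrum
-/

set_option autoImplicit false
universe u

open CategoryTheory CategoryTheory.Limits AlgebraicGeometry TopologicalSpace Opposite
open HomogeneousLocalization
open scoped HomogeneousIdeal

noncomputable section

namespace Groth.Agent.H41.ProjBC

open Groth.Agent.H22.PullbackLocal Groth.Agent.H41.ProjQ Groth.Agent.H41.ProjConeLib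

/-- Pairs of affine opens `U ⊆ S`, `U' ⊆ g⁻¹(U)`. -/
structure AffPair {S S' : Scheme.{u}} (g : S' ⟶ S) where
  U : S.Opens
  hU : IsAffineOpen U
  U' : S'.Opens
  hU' : IsAffineOpen U'
  hle : U' ≤ g ⁻¹ᵁ U

/-- The cover of `S'` by the affine opens contained in the preimage of an affine open of `S`. -/
def pairCover {S S' : Scheme.{u}} (g : S' ⟶ S) : S'.OpenCover :=
  Scheme.Cover.mkOfCovers (AffPair g) (fun k => Spec Γ(S', k.U')) (fun k => k.hU'.fromSpec)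
    (fun y => by
      obtain ⟨_, ⟨U, hU, rfl⟩, hyU, -⟩ := S.isBasis_affineOpens.exists_subset_of_mem_open
        (Set.mem_univ (g.base y)) isOpen_univ
      obtain ⟨_, ⟨U', hU', rfl⟩, hyU', hle⟩ := S'.isBasis_affineOpens.exists_subset_of_mem_open
        (show y ∈ ((g ⁻¹ᵁ U : S'.Opens) : Set S') from hyU) (g ⁻¹ᵁ U).isOpen
      have hy : y ∈ Set.range (IsAffineOpen.fromSpec hU').base := by
        rw [IsAffineOpen.range_fromSpec]; exact hyU'
      obtain ⟨y', hy'⟩ := hy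
      exact ⟨⟨U, hU, U', hU', hle⟩, y', hy'⟩)
    (fun k => inferInstance)

section glob

variable {Y Y' P P' : Scheme.{u}} (ψ : Y' ⟶ Y) {𝒮 : RelProj.QCGrAlg Y} {𝒮' : RelProj.QCGrAlg Y'}
  (p : P ⟶ Y)
  (chart : ∀ (U : Y.Opens) (hU : IsAffineOpen U),
    (((p ⁻¹ᵁ U : P.Opens) : Scheme.{u}) ≅ Proj (𝒮.deg U hU)))
  (hP : RelProj.IsRelProj 𝒮 p chart)
  (p' : P' ⟶ Y')
  (chart' : ∀ (U : Y'.Opens) (hU : IsAffineOpen U),
    (((p' ⁻¹ᵁ U : P'.Opens) : Scheme.{u}) ≅ Proj (𝒮'.deg U hU)))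
  (hP' : RelProj.IsRelProj 𝒮' p' chart')

theorem opensRange_emb (U : Y.Opens) (hU : IsAffineOpen U) :
    (RelProj.emb p chart U hU).opensRange = p ⁻¹ᵁ U := by
  unfold RelProj.emb
  rw [Scheme.Hom.opensRange_comp_of_isIso, Scheme.Opens.opensRange_ι]

include hP in
theorem emb_comp_p (U : Y.Opens) (hU : IsAffineOpen U) :
    RelProj.emb p chart U hU ≫ p =
      (Proj.toSpecZero (𝒮.deg U hU) ≫ Spec.map (𝒮.strZero U hU)) ≫ hU.fromSpec := by
  rw [RelProj.emb, Category.assoc, ← hP.chart_over U hU, Iso.inv_hom_id_assoc, Category.assoc]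

include hP in
/-- a chart of the relative homogeneous spectrum is the preimage of the affine open -/
theorem isPullback_chart (U : Y.Opens) (hU : IsAffineOpen U) :
    IsPullback (RelProj.emb p chart U hU)
      (Proj.toSpecZero (𝒮.deg U hU) ≫ Spec.map (𝒮.strZero U hU)) p hU.fromSpec :=
  (IsOpenImmersion.isPullback _ _ _ _ (emb_comp_p p chart hP U hU)
    (by rw [hU.opensRange_fromSpec, opensRange_emb])).flip

/-- conversion of the pushout hypothesis to the form used by the local theorem -/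
theorem hpo_convert (U : Y.Opens) (hU : IsAffineOpen U) (U' : Y'.Opens) (hU' : IsAffineOpen U')
    (hle : U' ≤ ψ ⁻¹ᵁ U) (φ : 𝒮.deg U hU →+*ᵍ 𝒮'.deg U' hU')
    (hpo : IsPushout (ψ.appLE U U' hle) (𝒮.str.app (op U)) (𝒮'.str.app (op U'))
      (CommRingCat.ofHom φ.toRingHom)) :
    (∀ r : Γ(Y, U), φ (((𝒮.strZero U hU).hom r : 𝒮.deg U hU 0) : 𝒮.presheaf.obj (op U)) =
      (((𝒮'.strZero U' hU').hom ((ψ.appLE U U' hle).hom r) : 𝒮'.deg U' hU' 0) :
        𝒮'.presheaf.obj (op U'))) ∧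
    IsPushout (CommRingCat.ofHom (ψ.appLE U U' hle).hom)
      (CommRingCat.ofHom ((zeroVal (𝒮.deg U hU)).comp (𝒮.strZero U hU).hom))
      (CommRingCat.ofHom ((zeroVal (𝒮'.deg U' hU')).comp (𝒮'.strZero U' hU').hom))
      (CommRingCat.ofHom φ.toRingHom) := by
  have e0 : CommRingCat.ofHom ((zeroVal (𝒮.deg U hU)).comp (𝒮.strZero U hU).hom) =
      𝒮.str.app (op U) := CommRingCat.hom_ext (RingHom.ext fun r => rfl)
  have e1 : CommRingCat.ofHom ((zeroVal (𝒮'.deg U' hU')).comp (𝒮'.strZero U' hU').hom) =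
      𝒮'.str.app (op U') := CommRingCat.hom_ext (RingHom.ext fun r => rfl)
  refine ⟨fun r => ?_, ?_⟩
  · have h1 := congrArg (fun m => m.hom r) hpo.w
    exact h1.symm
  · rw [e0, e1]
    exact hpo

theorem irrelevant_le_of_isPushout (U : Y.Opens) (hU : IsAffineOpen U) (U' : Y'.Opens)
    (hU' : IsAffineOpen U') (hle : U' ≤ ψ ⁻¹ᵁ U) (φ : 𝒮.deg U hU →+*ᵍ 𝒮'.deg U' hU')
    (hpo : IsPushout (ψ.appLE U U' hle) (𝒮.str.app (op U)) (𝒮'.str.app (op U'))
      (CommRingCat.ofHom φ.toRingHom)) :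
    (𝒮'.deg U' hU')₊ ≤ ((𝒮.deg U hU)₊).map φ := by
  obtain ⟨hcomm, hpo'⟩ := hpo_convert ψ U hU U' hU' hle φ hpo
  exact irrelevant_le_map_of_isPushout (𝒮.deg U hU) (𝒮'.deg U' hU') (ψ.appLE U U' hle).hom
    (𝒮.strZero U hU).hom (𝒮'.strZero U' hU').hom φ hcomm hpo'

include hP hP' in
/-- the relative homogeneous spectrum commutes with base change, given the chartwise morphism -/
theorem isPullback_relProj_of_local (g : P' ⟶ P)
    (φ : ∀ (U : Y.Opens) (hU : IsAffineOpen U) (U' : Y'.Opens) (hU' : IsAffineOpen U')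
      (_ : U' ≤ ψ ⁻¹ᵁ U), 𝒮.deg U hU →+*ᵍ 𝒮'.deg U' hU')
    (hirr : ∀ (U : Y.Opens) (hU : IsAffineOpen U) (U' : Y'.Opens) (hU' : IsAffineOpen U')
      (hle : U' ≤ ψ ⁻¹ᵁ U), (𝒮'.deg U' hU')₊ ≤ ((𝒮.deg U hU)₊).map (φ U hU U' hU' hle))
    (hpo : ∀ (U : Y.Opens) (hU : IsAffineOpen U) (U' : Y'.Opens) (hU' : IsAffineOpen U')
      (hle : U' ≤ ψ ⁻¹ᵁ U),
      IsPushout (ψ.appLE U U' hle) (𝒮.str.app (op U)) (𝒮'.str.app (op U'))
        (CommRingCat.ofHom (φ U hU U' hU' hle).toRingHom))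
    (hg : ∀ (U : Y.Opens) (hU : IsAffineOpen U) (U' : Y'.Opens) (hU' : IsAffineOpen U')
      (hle : U' ≤ ψ ⁻¹ᵁ U),
      Proj.map (φ U hU U' hU' hle) (hirr U hU U' hU' hle) ≫ RelProj.emb p chart U hU =
        RelProj.emb p' chart' U' hU' ≫ g) :
    IsPullback g p' p ψ := by
  refine isPullback_of_local g p' p ψ (pairCover ψ)
    (fun k => Proj (𝒮'.deg k.U' k.hU')) (fun k => Proj (𝒮.deg k.U k.hU))
    (fun k => Spec Γ(Y, k.U))
    (fun k => RelProj.emb p' chart' k.U' k.hU') (fun k => RelProj.emb p chart k.U k.hU)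
    (fun k => k.hU.fromSpec)
    (fun k => Proj.map (φ k.U k.hU k.U' k.hU' k.hle) (hirr k.U k.hU k.U' k.hU' k.hle))
    (fun k => Proj.toSpecZero (𝒮'.deg k.U' k.hU') ≫ Spec.map (𝒮'.strZero k.U' k.hU'))
    (fun k => Proj.toSpecZero (𝒮.deg k.U k.hU) ≫ Spec.map (𝒮.strZero k.U k.hU))
    (fun k => Spec.map (ψ.appLE k.U k.U' k.hle))
    (fun k => ?_) (fun k => ?_) (fun k => ?_) (fun k => ?_) (fun k => ?_)
  · exact isPullback_chart p' chart' hP' k.U' k.hU'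
  · exact isPullback_chart p chart hP k.U k.hU
  · exact IsAffineOpen.SpecMap_appLE_fromSpec ψ k.hU k.hU' k.hle
  · exact hg k.U k.hU k.U' k.hU' k.hle
  · obtain ⟨hcomm, hpo'⟩ := hpo_convert ψ k.U k.hU k.U' k.hU' k.hle _
      (hpo k.U k.hU k.U' k.hU' k.hle)
    exact proj_baseChange_isPullback' (𝒮.deg k.U k.hU) (𝒮'.deg k.U' k.hU')
      (ψ.appLE k.U k.U' k.hle).hom (𝒮.strZero k.U k.hU).hom (𝒮'.strZero k.U' k.hU').hom
      (φ k.U k.hU k.U' k.hU' k.hle) hcomm hpo' (hirr k.U k.hU k.U' k.hU' k.hle)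

/-- if the irrelevant ideals upstairs are generated by the images of those downstairs, `Proj(u)`
is everywhere defined -/
theorem domQ_eq_top_of_irr (u : RelProj.QGrHom ψ 𝒮 𝒮')
    (hirr : ∀ (U : Y.Opens) (hU : IsAffineOpen U) (U' : Y'.Opens) (hU' : IsAffineOpen U')
      (hle : U' ≤ ψ ⁻¹ᵁ U),
      (𝒮'.deg U' hU')₊ ≤ ((𝒮.deg U hU)₊).map (u.gradedAt U hU U' hU' hle)) :
    RelProj.domQ u p' chart' = ⊤ := by
  rw [eq_top_iff]
  intro x _
  obtain ⟨U, hU0, hxU, -⟩ := Opens.isBasis_iff_nbhd.1 Y.isBasis_affineOpens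
    (show ψ.base (p'.base x) ∈ (⊤ : Y.Opens) from trivial)
  have hU : IsAffineOpen U := hU0
  obtain ⟨U', hU'0, hxU', hle⟩ := Opens.isBasis_iff_nbhd.1 Y'.isBasis_affineOpens
    (show p'.base x ∈ ψ ⁻¹ᵁ U from hxU)
  have hU' : IsAffineOpen U' := hU'0
  obtain ⟨Q, rfl⟩ := exists_emb_eq p' chart' U' hU' x hxU'
  refine Opens.mem_iSup.mpr ⟨⟨(⟨U, hU⟩, ⟨U', hU'⟩), hle⟩, Q, ?_, rfl⟩
  show Q ∈ RelCone.domOpen (u.gradedAt U hU U' hU' hle)
  rw [RelCone.mem_domOpen]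
  by_contra hcon
  push Not at hcon
  apply Q.not_irrelevant_le
  have h1 : ((𝒮.deg U hU)₊).map (u.gradedAt U hU U' hU' hle) ≤ Q.asHomogeneousIdeal := by
    rw [HomogeneousIdeal.map_le_iff_le_comap]
    intro f hf
    exact hcon f hf
  exact (hirr U hU U' hU' hle).trans h1

include hP hP' in
theorem exists_isProjQMap_of_domQ_eq_top (u : RelProj.QGrHom ψ 𝒮 𝒮')
    (htop : RelProj.domQ u p' chart' = ⊤) :
    ∃ h : P' ⟶ P, RelProj.IsProjQMap u p chart p' chart' h := by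
  obtain ⟨v₀, hv₀, -⟩ := existsUnique_isProjQMapOn u p chart p' chart' hP hP'
  have hv := (isProjQMapOn_iff u p chart p' chart' v₀).mp hv₀
  have hι : IsIso (RelProj.domQ u p' chart').ι := by
    rw [htop]; exact (inferInstance : IsIso (Scheme.topIso P').hom)
  refine ⟨inv (RelProj.domQ u p' chart').ι ≫ v₀, htop, fun U hU U' hU' hle d hd f hf => ?_⟩
  have h1 := hv ⟨U, hU, U', hU', hle, d, hd, f, hf⟩
  have h2 := lift_ι u p' chart' ⟨U, hU, U', hU', hle, d, hd, f, hf⟩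
  show E u p' chart' ⟨U, hU, U', hU', hle, d, hd, f, hf⟩ ≫
    inv (RelProj.domQ u p' chart').ι ≫ v₀ = _
  rw [← h2, Category.assoc, IsIso.hom_inv_id_assoc]
  exact h1

set_option backward.isDefEq.respectTransparency false in
/-- an everywhere defined `Proj(u)` is chartwise `Proj.map` -/
theorem emb_comp_of_isProjQMap (u : RelProj.QGrHom ψ 𝒮 𝒮') (h : P' ⟶ P)
    (hh : RelProj.IsProjQMap u p chart p' chart' h)
    (U : Y.Opens) (hU : IsAffineOpen U) (U' : Y'.Opens) (hU' : IsAffineOpen U')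
    (hle : U' ≤ ψ ⁻¹ᵁ U)
    (hirr : (𝒮'.deg U' hU')₊ ≤ ((𝒮.deg U hU)₊).map (u.gradedAt U hU U' hU' hle)) :
    Proj.map (u.gradedAt U hU U' hU' hle) hirr ≫ RelProj.emb p chart U hU =
      RelProj.emb p' chart' U' hU' ≫ h := by
  refine (Proj.mapAffineOpenCover (u.gradedAt U hU U' hU' hle) hirr).openCover.hom_ext _ _
    fun (s : Σ i : ℕ+, 𝒮.deg U hU i) => ?_
  have h1 : (Proj.awayι (𝒮'.deg U' hU') (u.gradedAt U hU U' hU' hle s.2.1)
      ((u.gradedAt U hU U' hU' hle).map_mem s.2.2) s.1.2 ≫ RelProj.emb p' chart' U' hU') ≫ h =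
      Spec.map (CommRingCat.ofHom (HomogeneousLocalization.Away.map
        (u.gradedAt U hU U' hU' hle) s.2.1)) ≫
        Proj.awayι (𝒮.deg U hU) s.2.1 s.2.2 s.1.2 ≫ RelProj.emb p chart U hU :=
    hh.2 U hU U' hU' hle s.1 s.1.2 s.2.1 s.2.2
  rw [Category.assoc] at h1
  have h2 := Proj.awayι_comp_map_assoc (u.gradedAt U hU U' hU' hle) hirr s.1.2 s.2.1 s.2.2
    (RelProj.emb p chart U hU)
  exact h2.trans h1.symm

end glob

end Groth.Agent.H41.ProjBC
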