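import Groth.Agent.H41.SymGraded2

/-!
# Properness of projective bundles of finite-type modules (helper41)

* `isProper_of_finiteType`: a relative `Proj` whose algebra has degree-zero part the image of the
  structure sheaf and is of finite type over it (affine-locally) is proper over the base.
* `isProper_projBundle`: `P(E) ⟶ Y` is proper for `E` quasi-coherent with finitely generated
  sections over affine opens (the graded symmetric algebra given with the description of its
  graded pieces, as in `SymGraded.exists_isGrSymAlg_deg`).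
-/

set_option autoImplicit false
set_option linter.style.haveILetI false
set_option linter.unusedSectionVars false
universe u
open CategoryTheory CategoryTheory.Limits AlgebraicGeometry TopologicalSpace Opposite
open scoped HomogeneousIdeal

noncomputable section

namespace Groth.Agent.H41.ProjBundleProper

open SymmetricAlgebra
open Groth.Agent.H22 Groth.Agent.H22.SymConstr Groth.Agent.H22.SymLoc Groth.Agent.H8
open Groth.Agent.H41.SymGraded

variable {Y PT : Scheme.{u}}

theorem isProper_of_finiteType (𝒯 : RelProj.QCGrAlg Y) (pT : PT ⟶ Y)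
    (chartT : ∀ (U : Y.Opens) (hU : IsAffineOpen U),
      (((pT ⁻¹ᵁ U : PT.Opens) : Scheme.{u}) ≅ Proj (𝒯.deg U hU)))
    (hPT : RelProj.IsRelProj 𝒯 pT chartT)
    (h0 : ∀ (V : Y.Opens) (hV : IsAffineOpen V), Function.Surjective (𝒯.strZero V hV).hom)
    (hft : ∀ (V : Y.Opens) (hV : IsAffineOpen V),
      Algebra.FiniteType (𝒯.deg V hV 0) (𝒯.presheaf.obj (op V))) : IsProper pT := by
  refine IsZariskiLocalAtTarget.of_iSup_eq_top (P := @IsProper)
    (fun U : Y.affineOpens => (U : Y.Opens)) (iSup_affineOpens_eq_top Y) fun U => ?_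
  obtain ⟨V, hV0⟩ := U
  have hV : IsAffineOpen V := hV0
  haveI := hft V hV
  have key : pT ∣_ V = (chartT V hV).hom ≫ Proj.toSpecZero (𝒯.deg V hV) ≫
      Spec.map (𝒯.strZero V hV) ≫ hV.isoSpec.inv := by
    rw [← cancel_mono V.ι]
    simp only [Category.assoc]
    rw [morphismRestrict_ι, IsAffineOpen.isoSpec_inv_ι]
    exact (hPT.chart_over V hV).symm
  show IsProper (pT ∣_ V)
  rw [key]
  haveI : IsClosedImmersion (Spec.map (𝒯.strZero V hV)) :=
    IsClosedImmersion.spec_of_surjective _ (h0 V hV)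
  infer_instance

variable {E : Y.Modules} [E.IsQuasicoherent]

theorem isProper_projBundle (𝒯 : RelProj.QCGrAlg Y) (jT : E ⟶ 𝒯.toModule)
    (hT : RelProj.IsGrSymAlg E 𝒯 jT)
    (hdeg : ∀ (U : Y.Opens) (hU : IsAffineOpen U) (d : ℕ) (x : 𝒯.presheaf.obj (op U)),
      x ∈ 𝒯.deg U hU d ↔ ∃ s ∈ gr Γ(Y, U) Γ(E, U) d, theta 𝒯.toQCAlg jT U s = x)
    (hfin : ∀ (U : Y.Opens), IsAffineOpen U → Module.Finite Γ(Y, U) Γ(E, U))
    (pT : PT ⟶ Y)
    (chartT : ∀ (U : Y.Opens) (hU : IsAffineOpen U),
      (((pT ⁻¹ᵁ U : PT.Opens) : Scheme.{u}) ≅ Proj (𝒯.deg U hU)))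
    (hPT : RelProj.IsRelProj 𝒯 pT chartT) : IsProper pT := by
  classical
  refine isProper_of_finiteType 𝒯 pT chartT hPT (fun V hV => ?_) (fun V hV => ?_)
  · rintro ⟨x, hx⟩
    obtain ⟨s, hs, rfl⟩ := (hdeg V hV 0 x).mp hx
    have hs' : s ∈ LinearMap.range (ι Γ(Y, V) Γ(E, V)) ^ 0 := hs
    rw [pow_zero, Submodule.mem_one] at hs'
    obtain ⟨r, rfl⟩ := hs'
    refine ⟨r, Subtype.ext ?_⟩
    exact (theta_algebraMap 𝒯.toQCAlg jT V r).symm
  · obtain ⟨G, hG⟩ := (hfin V hV).fg_top
    refine ⟨⟨G.image (fun m => theta 𝒯.toQCAlg jT V (ι Γ(Y, V) Γ(E, V) m)), ?_⟩⟩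
    rw [eq_top_iff]
    rintro y -
    obtain ⟨s, rfl⟩ := (theta_bijective E 𝒯.toQCAlg jT hT.1 V hV).2 y
    induction s using SymmetricAlgebra.induction with
    | algebraMap r =>
      rw [theta_algebraMap]
      exact Subalgebra.algebraMap_mem _
        (⟨(𝒯.str.app (op V)).hom r, 𝒯.str_mem V hV r⟩ : 𝒯.deg V hV 0)
    | ι m =>
      have hm : m ∈ Submodule.span Γ(Y, V) (G : Set Γ(E, V)) := by rw [hG]; trivial
      induction hm using Submodule.span_induction with
      | mem x hx =>
        exact Algebra.subset_adjoin (Finset.mem_coe.mpr (Finset.mem_image_of_mem _ hx))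
      | zero =>
        rw [map_zero, map_zero]
        exact zero_mem _
      | add x y _ _ ihx ihy =>
        rw [map_add, map_add]
        exact add_mem ihx ihy
      | smul r x _ ihx =>
        rw [map_smul, Algebra.smul_def, map_mul, theta_algebraMap]
        exact mul_mem (Subalgebra.algebraMap_mem _
          (⟨(𝒯.str.app (op V)).hom r, 𝒯.str_mem V hV r⟩ : 𝒯.deg V hV 0)) ihx
    | mul a b ha hb =>
      rw [map_mul]
      exact mul_mem ha hb
    | add a b ha hb =>
      rw [map_add]
      exact add_mem ha hb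

end Groth.Agent.H41.ProjBundleProper
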