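import Groth.Agent.H41.ProjIso2

/-!
# Graded homomorphisms surjective in positive degrees induce closed immersions of `Proj`'s
-/

set_option autoImplicit false

universe u

namespace Groth.Agent.H41.ProjIso

open DirectSum HomogeneousIdeal AlgebraicGeometry HomogeneousLocalization CategoryTheory

section
variable {A B σ τ : Type*} [CommRing A] [SetLike σ A] [AddSubgroupClass σ A]
  [CommRing B] [SetLike τ B] [AddSubgroupClass τ B]
  {𝒜 : ℕ → σ} {ℬ : ℕ → τ} [GradedRing 𝒜] [GradedRing ℬ]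

theorem away_map_surjective_of_pos (φ : 𝒜 →+*ᵍ ℬ)
    (hpos : ∀ n, 0 < n → ∀ b ∈ ℬ n, ∃ a ∈ 𝒜 n, φ a = b) {d : ℕ} (hd : 0 < d) {s : A}
    (hs : s ∈ 𝒜 d) : Function.Surjective (Away.map φ s) := by
  intro x
  obtain ⟨n, b, hb, rfl⟩ := Away.mk_surjective ℬ (φ.2 hs) x
  have hb' : b * φ s ∈ ℬ ((n + 1) • d) := by
    have h1 := SetLike.mul_mem_graded hb (φ.2 hs)
    have h2 : (n + 1) • d = n • d + d := by simp only [smul_eq_mul]; ring
    rw [h2]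
    exact h1
  have hpos' : 0 < (n + 1) • d := by
    simp only [smul_eq_mul]
    exact Nat.mul_pos (Nat.succ_pos n) hd
  obtain ⟨a, ha, hab⟩ := hpos _ hpos' _ hb'
  refine ⟨Away.mk 𝒜 hs (n + 1) a ha, ?_⟩
  rw [Away.map_mk φ s hs (n + 1) a ha, away_mk_succ (φ.2 hs) n b hb hb']
  congr 1

/-- elements of the range all of whose multiples by degree zero elements are in the range -/
def stab (ψ : 𝒜 →+*ᵍ ℬ) : AddSubgroup B where
  carrier := {x | (∃ t, ψ t = x) ∧ ∀ s₀ ∈ ℬ 0, ∃ t, ψ t = s₀ * x}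
  zero_mem' := ⟨⟨0, map_zero ψ⟩, fun s₀ _ => ⟨0, by rw [map_zero, mul_zero]⟩⟩
  add_mem' := by
    rintro x y ⟨⟨tx, hx⟩, hx'⟩ ⟨⟨ty, hy⟩, hy'⟩
    refine ⟨⟨tx + ty, by rw [map_add, hx, hy]⟩, fun s₀ hs₀ => ?_⟩
    obtain ⟨t1, ht1⟩ := hx' s₀ hs₀
    obtain ⟨t2, ht2⟩ := hy' s₀ hs₀
    exact ⟨t1 + t2, by rw [map_add, ht1, ht2, mul_add]⟩
  neg_mem' := by
    rintro x ⟨⟨tx, hx⟩, hx'⟩
    refine ⟨⟨-tx, by rw [map_neg, hx]⟩, fun s₀ hs₀ => ?_⟩
    obtain ⟨t1, ht1⟩ := hx' s₀ hs₀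
    exact ⟨-t1, by rw [map_neg, ht1, mul_neg]⟩

theorem stab_mul (ψ : 𝒜 →+*ᵍ ℬ) {x y : B} (hx : x ∈ stab ψ) (hy : y ∈ stab ψ) :
    x * y ∈ stab ψ := by
  obtain ⟨⟨tx, hx1⟩, hx2⟩ := hx
  obtain ⟨⟨ty, hy1⟩, hy2⟩ := hy
  refine ⟨⟨tx * ty, by rw [map_mul, hx1, hy1]⟩, fun s₀ hs₀ => ?_⟩
  obtain ⟨t1, ht1⟩ := hx2 s₀ hs₀
  exact ⟨t1 * ty, by rw [map_mul, ht1, hy1, mul_assoc]⟩

theorem stab_smul (ψ : 𝒜 →+*ᵍ ℬ) {s x : B} (hs : s ∈ ℬ 0) (hx : x ∈ stab ψ) :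
    s * x ∈ stab ψ := by
  obtain ⟨⟨tx, hx1⟩, hx2⟩ := hx
  refine ⟨hx2 s hs, fun s₀ hs₀ => ?_⟩
  have h00 : s₀ * s ∈ ℬ 0 := by
    have := SetLike.mul_mem_graded hs₀ hs
    rwa [add_zero] at this
  obtain ⟨t1, ht1⟩ := hx2 (s₀ * s) h00
  exact ⟨t1, by rw [ht1, mul_assoc]⟩

/-- the subring `ℬ₀ + stab ψ` -/
def genRing (ψ : 𝒜 →+*ᵍ ℬ) : Subring B where
  carrier := {x | ∃ a ∈ ℬ 0, ∃ b ∈ stab ψ, x = a + b}
  mul_mem' := by
    rintro _ _ ⟨a, ha, b, hb, rfl⟩ ⟨a', ha', b', hb', rfl⟩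
    have h00 : a * a' ∈ ℬ 0 := by
      have := SetLike.mul_mem_graded ha ha'
      rwa [add_zero] at this
    refine ⟨a * a', h00, a * b' + a' * b + b * b', ?_, by ring⟩
    exact add_mem (add_mem (stab_smul ψ ha hb') (stab_smul ψ ha' hb)) (stab_mul ψ hb hb')
  one_mem' := ⟨1, SetLike.one_mem_graded _, 0, zero_mem _, by rw [add_zero]⟩
  add_mem' := by
    rintro _ _ ⟨a, ha, b, hb, rfl⟩ ⟨a', ha', b', hb', rfl⟩
    exact ⟨a + a', add_mem ha ha', b + b', add_mem hb hb', by ring⟩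
  zero_mem' := ⟨0, zero_mem _, 0, zero_mem _, by rw [add_zero]⟩
  neg_mem' := by
    rintro _ ⟨a, ha, b, hb, rfl⟩
    exact ⟨-a, neg_mem ha, -b, neg_mem hb, by ring⟩

/-- If `ℬ` is generated by degrees `0` and `1` and `ψ` hits all of `ℬ₁`, then `ψ` is surjective in
every positive degree. -/
theorem exists_mem_of_genDegOne (ψ : 𝒜 →+*ᵍ ℬ)
    (h1 : ∀ s ∈ ℬ 1, ∃ t, ψ t = s)
    (hgen : Subring.closure ((ℬ 0 : Set B) ∪ (ℬ 1 : Set B)) = ⊤)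
    {n : ℕ} (hn : 0 < n) {b : B} (hb : b ∈ ℬ n) : ∃ a ∈ 𝒜 n, ψ a = b := by
  classical
  have hle : Subring.closure ((ℬ 0 : Set B) ∪ (ℬ 1 : Set B)) ≤ genRing ψ := by
    rw [Subring.closure_le]
    rintro x (hx | hx)
    · exact ⟨x, hx, 0, zero_mem _, by rw [add_zero]⟩
    · refine ⟨0, zero_mem _, x, ⟨h1 x hx, fun s₀ hs₀ => h1 _ ?_⟩, by rw [zero_add]⟩
      have := SetLike.mul_mem_graded hs₀ hx
      rwa [zero_add] at this
  have hb' : b ∈ genRing ψ := hle (hgen ▸ Subring.mem_top b)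
  obtain ⟨a, ha, c, ⟨⟨t, ht⟩, -⟩, rfl⟩ := hb'
  refine ⟨DirectSum.decompose 𝒜 t n, SetLike.coe_mem _, ?_⟩
  rw [GradedRingHom.map_directSumDecompose, ht]
  have h2 : GradedRing.proj ℬ n (a + c) = a + c := by
    rw [GradedRing.proj_apply]
    exact DirectSum.decompose_of_mem_same ℬ hb
  have h3 : GradedRing.proj ℬ n a = 0 := by
    rw [GradedRing.proj_apply]
    exact DirectSum.decompose_of_mem_ne ℬ ha (Nat.pos_iff_ne_zero.1 hn).symm
  rw [map_add, h3, zero_add] at h2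
  rw [← h2, GradedRing.proj_apply]

end

section
variable {A B σ τ : Type u} [CommRing A] [SetLike σ A] [AddSubgroupClass σ A]
  [CommRing B] [SetLike τ B] [AddSubgroupClass τ B]
  {𝒜 : ℕ → σ} {ℬ : ℕ → τ} [GradedRing 𝒜] [GradedRing ℬ]

set_option backward.isDefEq.respectTransparency false in
/-- `Proj` of a graded ring hom surjective in positive degrees is a closed immersion. -/
theorem proj_map_isClosedImmersion_of_pos (φ : 𝒜 →+*ᵍ ℬ) (hφ : ℬ₊ ≤ 𝒜₊.map φ)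
    (hpos : ∀ n, 0 < n → ∀ b ∈ ℬ n, ∃ a ∈ 𝒜 n, φ a = b) :
    IsClosedImmersion (Proj.map φ hφ) := by
  apply IsZariskiLocalAtTarget.of_openCover (P := @IsClosedImmersion)
    (Proj.affineOpenCover 𝒜).openCover
  intro s
  have hpb := (Groth.Agent.H18.isPullback_awayι_map φ hφ s.1.2 s.2.1 s.2.2).flip
  have hcl : IsClosedImmersion (Spec.map (CommRingCat.ofHom (Away.map φ (s.2 : A)))) :=
    IsClosedImmersion.spec_of_surjective _ (away_map_surjective_of_pos φ hpos s.1.2 s.2.2)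
  have heq : hpb.isoPullback.hom ≫ Limits.pullback.snd _ _ =
      Spec.map (CommRingCat.ofHom (Away.map φ (s.2 : A))) := hpb.isoPullback_hom_snd
  have key : IsClosedImmersion
      (Limits.pullback.snd (Proj.map φ hφ) (Proj.awayι 𝒜 (s.2 : A) s.2.2 s.1.2)) := by
    rw [← MorphismProperty.cancel_left_of_respectsIso @IsClosedImmersion hpb.isoPullback.hom,
      heq]
    exact hcl
  exact key

end

end Groth.Agent.H41.ProjIso
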