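import Groth.Agent.H41.RelConeLib
import Mathlib.AlgebraicGeometry.ProjectiveSpectrum.Functor

set_option autoImplicit false
universe u

open CategoryTheory CategoryTheory.Limits AlgebraicGeometry TopologicalSpace Opposite
open scoped HomogeneousIdeal

noncomputable section

namespace Groth.Agent.H41.ProjConeLib

open Groth.Agent.H41.RelConeLib

/-! ### generic ring-level lemmas -/

section ring

variable {A : Type u} [CommRing A] (𝒜 : ℕ → AddSubgroup A) [GradedRing 𝒜]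

theorem eq_zero_of_sum_eq_zero (k : ℕ) (x : ℕ → A) (hx : ∀ m, x m ∈ 𝒜 (k - m))
    (hsum : ∑ m ∈ Finset.range (k + 1), x m = 0) : ∀ m ∈ Finset.range (k + 1), x m = 0 := by
  classical
  intro m₀ hm₀
  have h1 := congrArg (GradedRing.proj 𝒜 (k - m₀)) hsum
  rw [map_sum, map_zero, Finset.sum_eq_single m₀] at h1
  · rwa [GradedRing.proj_apply, DirectSum.decompose_of_mem_same _ (hx m₀)] at h1
  · intro m hm hne
    rw [GradedRing.proj_apply, DirectSum.decompose_of_mem_ne _ (hx m)]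
    rw [Finset.mem_range] at hm hm₀
    omega
  · intro hn; exact absurd hm₀ hn

theorem exists_comap_eq_of_bijective {R S : Type u} [CommRing R] [CommRing S] (f : R →+* S)
    (hf : Function.Bijective f) (w : PrimeSpectrum R) :
    ∃ y : PrimeSpectrum S, PrimeSpectrum.comap f y = w := by
  refine ⟨PrimeSpectrum.comap (RingEquiv.ofBijective f hf).symm.toRingHom w, ?_⟩
  refine PrimeSpectrum.ext (Ideal.ext fun a => ?_)
  show (RingEquiv.ofBijective f hf).symm (f a) ∈ w.asIdeal ↔ a ∈ w.asIdeal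
  have : (RingEquiv.ofBijective f hf).symm (f a) = a :=
    (RingEquiv.ofBijective f hf).symm_apply_apply a
  rw [this]

end ring

section domres

variable {A A' B B' : Type u} [CommRing A] [CommRing A'] [CommRing B] [CommRing B']
  {𝒜 : ℕ → AddSubgroup A} [GradedRing 𝒜] {𝒜' : ℕ → AddSubgroup A'} [GradedRing 𝒜']
  {ℬ : ℕ → AddSubgroup B} [GradedRing ℬ] {ℬ' : ℕ → AddSubgroup B'} [GradedRing ℬ']

theorem comap_mem_domOpen_iff (ψ : 𝒜 →+*ᵍ ℬ) (ψ' : 𝒜' →+*ᵍ ℬ') (ρA : 𝒜 →+*ᵍ 𝒜')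
    (ρB : ℬ →+*ᵍ ℬ') (hcomm : ∀ a, ρB (ψ a) = ψ' (ρA a))
    (hirrA : (HomogeneousIdeal.irrelevant 𝒜').toIdeal ≤
      Ideal.map ρA (HomogeneousIdeal.irrelevant 𝒜).toIdeal)
    (hirrB : ℬ'₊ ≤ ℬ₊.map ρB) (T : Proj ℬ') :
    (Proj.map ρB hirrB).base T ∈ RelCone.domOpen ψ ↔ T ∈ RelCone.domOpen ψ' := by
  rw [RelCone.mem_domOpen, RelCone.mem_domOpen]
  constructor
  · rintro ⟨a, ha, hna⟩
    refine ⟨ρA a, map_mem_irrelevant ρA ha, fun hmem => hna ?_⟩
    show ρB (ψ a) ∈ T.asHomogeneousIdeal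
    rw [hcomm]
    exact hmem
  · rintro ⟨a', ha', hna'⟩
    by_contra hcon
    push Not at hcon
    apply hna'
    have hle : Ideal.map ρA (HomogeneousIdeal.irrelevant 𝒜).toIdeal ≤
        Ideal.comap ψ' T.asHomogeneousIdeal.toIdeal := by
      rw [Ideal.map_le_iff_le_comap]
      intro a ha
      have h1 : ρB (ψ a) ∈ T.asHomogeneousIdeal := hcon a ha
      rw [hcomm] at h1
      exact h1
    exact hle (hirrA ha')

end domres

/-! ### charts of a relative Proj -/

section charts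

variable {Y : Scheme.{u}} {𝒮 : RelProj.QCGrAlg Y} {P : Scheme.{u}} (p : P ⟶ Y)
  (chart : ∀ (U : Y.Opens) (hU : IsAffineOpen U),
    (((p ⁻¹ᵁ U : P.Opens) : Scheme.{u}) ≅ Proj (𝒮.deg U hU)))

theorem emb_mem_preimage (U : Y.Opens) (hU : IsAffineOpen U) (Q : Proj (𝒮.deg U hU)) :
    (RelProj.emb p chart U hU).base Q ∈ p ⁻¹ᵁ U :=
  ((chart U hU).inv.base Q).2

theorem exists_emb_eq (U : Y.Opens) (hU : IsAffineOpen U) (x : P) (hx : x ∈ p ⁻¹ᵁ U) :
    ∃ Q : Proj (𝒮.deg U hU), (RelProj.emb p chart U hU).base Q = x := by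
  refine ⟨(chart U hU).hom.base ⟨x, hx⟩, ?_⟩
  have h : (chart U hU).inv.base ((chart U hU).hom.base ⟨x, hx⟩) = ⟨x, hx⟩ :=
    congrArg (fun k => k.base ⟨x, hx⟩) (chart U hU).hom_inv_id
  show (p ⁻¹ᵁ U).ι.base ((chart U hU).inv.base ((chart U hU).hom.base ⟨x, hx⟩)) = x
  rw [h]
  rfl

theorem exists_res_point (hP : RelProj.IsRelProj 𝒮 p chart)
    (D : ∀ (U : Y.Opens) (hU : IsAffineOpen U), (Proj (𝒮.deg U hU)).Opens)
    (hD : ∀ (U : Y.Opens) (hU : IsAffineOpen U) (r : Γ(Y, U))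
      (T : Proj (𝒮.deg (Y.basicOpen r) (hU.basicOpen r))),
      (Proj.map (𝒮.res hU (hU.basicOpen r) (Y.basicOpen_le r))
        (𝒮.irrelevant_le_map U hU r)).base T ∈ D U hU ↔
        T ∈ D (Y.basicOpen r) (hU.basicOpen r))
    (U : Y.Opens) (hU : IsAffineOpen U) (r : Γ(Y, U)) (W : Y.Opens) (hW : IsAffineOpen W)
    (e : W = Y.basicOpen r) (T : Proj (𝒮.deg W hW)) :
    ∃ Z : Proj (𝒮.deg U hU),
      (RelProj.emb p chart U hU).base Z = (RelProj.emb p chart W hW).base T ∧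
        (Z ∈ D U hU ↔ T ∈ D W hW) := by
  subst e
  exact ⟨(Proj.map (𝒮.res hU (hU.basicOpen r) (Y.basicOpen_le r))
      (𝒮.irrelevant_le_map U hU r)).base T,
    congrArg (fun k => k.base T) (RelProj.map_res_emb hP U hU r), hD U hU r T⟩

/-- local description of an open of a relative Proj given chartwise by compatible opens -/
theorem mem_iSup_emb_iff (hP : RelProj.IsRelProj 𝒮 p chart)
    (D : ∀ (U : Y.Opens) (hU : IsAffineOpen U), (Proj (𝒮.deg U hU)).Opens)
    (hD : ∀ (U : Y.Opens) (hU : IsAffineOpen U) (r : Γ(Y, U))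
      (T : Proj (𝒮.deg (Y.basicOpen r) (hU.basicOpen r))),
      (Proj.map (𝒮.res hU (hU.basicOpen r) (Y.basicOpen_le r))
        (𝒮.irrelevant_le_map U hU r)).base T ∈ D U hU ↔
        T ∈ D (Y.basicOpen r) (hU.basicOpen r))
    (V : Y.Opens) (hV : IsAffineOpen V) (Q : Proj (𝒮.deg V hV)) :
    (RelProj.emb p chart V hV).base Q ∈
        (⨆ U : Y.affineOpens, (RelProj.emb p chart U.1 U.2) ''ᵁ D U.1 U.2) ↔
      Q ∈ D V hV := by
  constructor
  · intro hx
    rw [Opens.mem_iSup] at hx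
    obtain ⟨⟨U, hU0⟩, Z, hZ, hZx⟩ := hx
    have hU : IsAffineOpen U := hU0
    have hZ' : Z ∈ D U hU := hZ
    have hZx' : (RelProj.emb p chart U hU).base Z = (RelProj.emb p chart V hV).base Q := hZx
    have hxV : p.base ((RelProj.emb p chart V hV).base Q) ∈ V := emb_mem_preimage p chart V hV Q
    have hxU : p.base ((RelProj.emb p chart V hV).base Q) ∈ U := by
      rw [← hZx']; exact emb_mem_preimage p chart U hU Z
    obtain ⟨f, g, hfg, hxf⟩ := exists_basicOpen_le_affine_inter hU hV _ ⟨hxU, hxV⟩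
    have hW : IsAffineOpen (Y.basicOpen f) := hU.basicOpen f
    obtain ⟨T, hT⟩ := exists_emb_eq p chart (Y.basicOpen f) hW _ hxf
    obtain ⟨Z₁, hZ₁, hZ₁D⟩ := exists_res_point p chart hP D hD U hU f _ hW rfl T
    obtain ⟨Q₁, hQ₁, hQ₁D⟩ := exists_res_point p chart hP D hD V hV g _ hW hfg T
    have hZeq : Z₁ = Z :=
      (RelProj.emb p chart U hU).isOpenEmbedding.injective (hZ₁.trans (hT.trans hZx'.symm))
    have hQeq : Q₁ = Q :=
      (RelProj.emb p chart V hV).isOpenEmbedding.injective (hQ₁.trans hT)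
    rw [hZeq] at hZ₁D
    rw [hQeq] at hQ₁D
    exact hQ₁D.2 (hZ₁D.1 hZ')
  · intro hQ
    rw [Opens.mem_iSup]
    exact ⟨⟨V, hV⟩, Q, hQ, rfl⟩

/-- a morphism of relative Proj's on the chart immersions -/
theorem emb_comp_relProjMap {ℬ : RelProj.QCGrAlg Y} {PB : Scheme.{u}} (pB : PB ⟶ Y)
    (chartB : ∀ (U : Y.Opens) (hU : IsAffineOpen U),
      (((pB ⁻¹ᵁ U : PB.Opens) : Scheme.{u}) ≅ Proj (ℬ.deg U hU)))
    (φ : 𝒮.toQCAlg ⟶ ℬ.toQCAlg) (hφ : RelProj.IsGradedHom φ)
    (hirr : ∀ (U : Y.Opens) (hU : IsAffineOpen U),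
      (ℬ.deg U hU)₊ ≤ ((𝒮.deg U hU)₊).map (RelProj.gradedHomAt φ hφ U hU))
    (j : PB ⟶ P) (hj : RelProj.IsRelProjMap φ hφ hirr chart chartB j)
    (U : Y.Opens) (hU : IsAffineOpen U) :
    RelProj.emb pB chartB U hU ≫ j =
      Proj.map (RelProj.gradedHomAt φ hφ U hU) (hirr U hU) ≫ RelProj.emb p chart U hU := by
  unfold RelProj.emb
  rw [Category.assoc, hj U hU, Iso.inv_hom_id_assoc]

end charts

/-! ### the polynomial algebra `𝒮[z]` over an affine open -/

section poly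

variable {Y : Scheme.{u}} {𝒮 𝒮h : RelProj.QCGrAlg Y} {ι : 𝒮.toQCAlg ⟶ 𝒮h.toQCAlg}
  {z : 𝒮h.presheaf.obj (op ⊤)} (h : RelCone.IsPolyOver 𝒮 𝒮h ι z)
  (U : Y.Opens) (hU : IsAffineOpen U)

include h in
theorem z_pow_mem (m : ℕ) : (RelCone.restrictTop 𝒮h z U) ^ m ∈ 𝒮h.deg U hU m := by
  have h1 := SetLike.pow_mem_graded m (h.deg_z U hU)
  simpa using h1

include h in
theorem ι_decompose (c : 𝒮.presheaf.obj (op U)) (j : ℕ) :
    (ι.hom.app (op U)).hom (DirectSum.decompose (𝒮.deg U hU) c j : 𝒮.presheaf.obj (op U)) =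
      (DirectSum.decompose (𝒮h.deg U hU) ((ι.hom.app (op U)).hom c) j :
        𝒮h.presheaf.obj (op U)) :=
  GradedRingHom.map_directSumDecompose (𝒮.deg U hU) (𝒮h.deg U hU)
    (RelProj.gradedHomAt ι h.graded U hU)

include h in
theorem exists_homogeneous_expansion (k : ℕ) (b : 𝒮h.presheaf.obj (op U))
    (hb : b ∈ 𝒮h.deg U hU k) :
    ∃ x : ℕ → 𝒮.presheaf.obj (op U), (∀ m, x m ∈ 𝒮.deg U hU (k - m)) ∧
      b = ∑ m ∈ Finset.range (k + 1),
        (ι.hom.app (op U)).hom (x m) * (RelCone.restrictTop 𝒮h z U) ^ m := by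
  classical
  obtain ⟨p, hp⟩ := (h.bij U hU).2 b
  have hp' : Polynomial.eval₂ (ι.hom.app (op U)).hom (RelCone.restrictTop 𝒮h z U) p = b := hp
  have heval := Polynomial.eval₂_eq_sum_range' (ι.hom.app (op U)).hom (p := p)
    (n := p.natDegree + k + 1) (by omega) (RelCone.restrictTop 𝒮h z U)
  refine ⟨fun m => (DirectSum.decompose (𝒮.deg U hU) (p.coeff m) (k - m) :
    𝒮.presheaf.obj (op U)), fun m => SetLike.coe_mem _, ?_⟩
  have h1 : b = GradedRing.proj (𝒮h.deg U hU) k b := by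
    rw [GradedRing.proj_apply, DirectSum.decompose_of_mem_same _ hb]
  calc b = GradedRing.proj (𝒮h.deg U hU) k b := h1
    _ = GradedRing.proj (𝒮h.deg U hU) k (∑ i ∈ Finset.range (p.natDegree + k + 1),
          (ι.hom.app (op U)).hom (p.coeff i) * (RelCone.restrictTop 𝒮h z U) ^ i) := by
        rw [← heval, hp']
    _ = ∑ i ∈ Finset.range (p.natDegree + k + 1), GradedRing.proj (𝒮h.deg U hU) k
          ((ι.hom.app (op U)).hom (p.coeff i) * (RelCone.restrictTop 𝒮h z U) ^ i) :=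
        map_sum _ _ _
    _ = ∑ i ∈ Finset.range (p.natDegree + k + 1), (if i ≤ k then
          (ι.hom.app (op U)).hom (DirectSum.decompose (𝒮.deg U hU) (p.coeff i) (k - i) :
            𝒮.presheaf.obj (op U)) * (RelCone.restrictTop 𝒮h z U) ^ i else 0) := by
        refine Finset.sum_congr rfl fun i _ => ?_
        rw [GradedRing.proj_apply, DirectSum.coe_decompose_mul_of_right_mem (𝒮h.deg U hU) k
          (z_pow_mem h U hU i), ι_decompose h U hU]
    _ = ∑ m ∈ Finset.range (k + 1),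
          (ι.hom.app (op U)).hom (DirectSum.decompose (𝒮.deg U hU) (p.coeff m) (k - m) :
            𝒮.presheaf.obj (op U)) * (RelCone.restrictTop 𝒮h z U) ^ m := by
        rw [← Finset.sum_filter]
        refine Finset.sum_congr ?_ fun _ _ => rfl
        ext i
        simp only [Finset.mem_filter, Finset.mem_range]
        omega

theorem evalOne_expansion (k : ℕ) (x : ℕ → 𝒮.presheaf.obj (op U)) :
    h.evalOne U hU (∑ m ∈ Finset.range (k + 1),
      (ι.hom.app (op U)).hom (x m) * (RelCone.restrictTop 𝒮h z U) ^ m) =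
      ∑ m ∈ Finset.range (k + 1), x m := by
  rw [map_sum]
  refine Finset.sum_congr rfl fun m _ => ?_
  rw [map_mul, map_pow, h.evalOne_ι, h.evalOne_z, one_pow, mul_one]

theorem awayZToBase_bijective : Function.Bijective (h.awayZToBase U hU) := by
  classical
  constructor
  · rw [injective_iff_map_eq_zero]
    intro q hq
    obtain ⟨k, b, hb, rfl⟩ :=
      HomogeneousLocalization.Away.mk_surjective (𝒮h.deg U hU) (h.deg_z U hU) q
    have hb' : b ∈ 𝒮h.deg U hU k := by simpa using hb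
    obtain ⟨x, hx, hbx⟩ := exists_homogeneous_expansion h U hU k b hb'
    have hval := h.awayZToBase_of_val U hU
      (HomogeneousLocalization.Away.mk (𝒮h.deg U hU) (h.deg_z U hU) k b hb) b k rfl
    rw [hq] at hval
    have hsum : ∑ m ∈ Finset.range (k + 1), x m = 0 := by
      rw [← evalOne_expansion h U hU k x, ← hbx]; exact hval.symm
    have hx0 := eq_zero_of_sum_eq_zero (𝒮.deg U hU) k x hx hsum
    have hb0 : b = 0 := by
      rw [hbx]
      exact Finset.sum_eq_zero fun m hm => by rw [hx0 m hm, map_zero, zero_mul]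
    apply HomogeneousLocalization.val_injective
    rw [HomogeneousLocalization.Away.val_mk, HomogeneousLocalization.val_zero]
    subst hb0
    exact Localization.mk_zero _
  · intro a
    refine ⟨∑ j ∈ (DirectSum.decompose (𝒮.deg U hU) a).support,
      HomogeneousLocalization.Away.mk (𝒮h.deg U hU) (h.deg_z U hU) j
        ((ι.hom.app (op U)).hom (DirectSum.decompose (𝒮.deg U hU) a j : 𝒮.presheaf.obj (op U)))
        (by simpa using h.graded U hU j _ (SetLike.coe_mem _)), ?_⟩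
    rw [map_sum]
    conv_rhs => rw [← DirectSum.sum_support_decompose (𝒮.deg U hU) a]
    refine Finset.sum_congr rfl fun j _ => ?_
    rw [h.awayZToBase_of_val U hU _ _ j rfl, h.evalOne_ι]

include h in
theorem irrelevant_le_of_mem (I : Ideal (𝒮h.presheaf.obj (op U)))
    (hzI : RelCone.restrictTop 𝒮h z U ∈ I)
    (hI : ∀ a ∈ (HomogeneousIdeal.irrelevant (𝒮.deg U hU)).toIdeal,
      (ι.hom.app (op U)).hom a ∈ I) :
    (HomogeneousIdeal.irrelevant (𝒮h.deg U hU)).toIdeal ≤ I := by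
  intro b hb
  by_contra hbI
  obtain ⟨i, hi, hbi⟩ := exists_pos_decompose_not_mem (𝒮h.deg U hU) I hb hbI
  apply hbi
  obtain ⟨x, hx, hbx⟩ := exists_homogeneous_expansion h U hU i _
    (SetLike.coe_mem (DirectSum.decompose (𝒮h.deg U hU) b i))
  rw [hbx]
  refine Ideal.sum_mem _ fun m _ => ?_
  by_cases hm0 : m = 0
  · subst hm0
    rw [pow_zero, mul_one]
    exact hI _ (HomogeneousIdeal.mem_irrelevant_of_mem _ hi (by simpa using hx 0))
  · obtain ⟨m', rfl⟩ := Nat.exists_eq_succ_of_ne_zero hm0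
    rw [pow_succ]
    exact Ideal.mul_mem_left _ _ (Ideal.mul_mem_left _ _ hzI)

/-- points of `D_+(z)`: membership of `ι a` for homogeneous `a` of positive degree -/
theorem mem_awayι_iff (y : Spec (𝒮.presheaf.obj (op U))) {e : ℕ} (he : 0 < e)
    (a : 𝒮.presheaf.obj (op U)) (ha : a ∈ 𝒮.deg U hU e) :
    (ι.hom.app (op U)).hom a ∈
        ((Proj.awayι (𝒮h.deg U hU) (RelCone.restrictTop 𝒮h z U) (h.deg_z U hU) one_pos).base
          ((Spec.map (CommRingCat.ofHom (h.awayZToBase U hU))).base y)).asHomogeneousIdeal ↔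
      a ∈ y.asIdeal := by
  have hιa : (ι.hom.app (op U)).hom a ∈ 𝒮h.deg U hU e := h.graded U hU e a ha
  have key := Proj.awayι_preimage_basicOpen (𝒮h.deg U hU) (h.deg_z U hU) one_pos hιa he
  have h1 : (Spec.map (CommRingCat.ofHom (h.awayZToBase U hU))).base y ∈
      Proj.awayι (𝒮h.deg U hU) (RelCone.restrictTop 𝒮h z U) (h.deg_z U hU) one_pos ⁻¹ᵁ
        Proj.basicOpen (𝒮h.deg U hU) ((ι.hom.app (op U)).hom a) ↔
      (Spec.map (CommRingCat.ofHom (h.awayZToBase U hU))).base y ∈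
        PrimeSpectrum.basicOpen
          (HomogeneousLocalization.Away.isLocalizationElem (h.deg_z U hU) hιa) := by
    rw [key]; rfl
  have h2 : h.awayZToBase U hU
      (HomogeneousLocalization.Away.isLocalizationElem (h.deg_z U hU) hιa) = a := by
    rw [h.awayZToBase_of_val U hU _ (((ι.hom.app (op U)).hom a) ^ 1) e rfl, map_pow,
      h.evalOne_ι, pow_one]
  rw [← not_iff_not]
  refine Iff.trans ?_ (h1.trans ?_)
  · exact (Proj.mem_basicOpen _ _ _).symm
  · show h.awayZToBase U hU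
        (HomogeneousLocalization.Away.isLocalizationElem (h.deg_z U hU) hιa) ∉ y.asIdeal ↔ _
    rw [h2]

include h hU in
theorem sub_ι_θ_mem (θ : 𝒮h.toQCAlg ⟶ 𝒮.toQCAlg) (hιθ : ι ≫ θ = 𝟙 _)
    (hθz : (θ.hom.app (op U)).hom (RelCone.restrictTop 𝒮h z U) = 0)
    (b : 𝒮h.presheaf.obj (op U)) :
    b - (ι.hom.app (op U)).hom ((θ.hom.app (op U)).hom b) ∈
      Ideal.span {RelCone.restrictTop 𝒮h z U} := by
  obtain ⟨p, hp⟩ := (h.bij U hU).2 b
  have hp' : Polynomial.eval₂ (ι.hom.app (op U)).hom (RelCone.restrictTop 𝒮h z U) p = b := hp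
  have hθι : ∀ a, (θ.hom.app (op U)).hom ((ι.hom.app (op U)).hom a) = a := fun a =>
    congrArg (fun k => (k.hom.app (op U)).hom a) hιθ
  have hb : b = Polynomial.eval₂ (ι.hom.app (op U)).hom (RelCone.restrictTop 𝒮h z U) p.divX *
      RelCone.restrictTop 𝒮h z U + (ι.hom.app (op U)).hom (p.coeff 0) := by
    rw [← hp']
    conv_lhs => rw [← Polynomial.divX_mul_X_add p]
    rw [Polynomial.eval₂_add, Polynomial.eval₂_mul, Polynomial.eval₂_X, Polynomial.eval₂_C]
  have hθb : (θ.hom.app (op U)).hom b = p.coeff 0 := by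
    rw [hb, map_add, map_mul, hθz, mul_zero, zero_add, hθι]
  rw [hθb]
  have h3 : b - (ι.hom.app (op U)).hom (p.coeff 0) =
      Polynomial.eval₂ (ι.hom.app (op U)).hom (RelCone.restrictTop 𝒮h z U) p.divX *
        RelCone.restrictTop 𝒮h z U := by
    rw [hb]; ring
  rw [h3]
  exact Ideal.mul_mem_left _ _ (Ideal.subset_span rfl)

end poly

end Groth.Agent.H41.ProjConeLib
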