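import Groth.Agent.H41.ProjConeLib

set_option autoImplicit false
universe u

open CategoryTheory CategoryTheory.Limits AlgebraicGeometry TopologicalSpace Opposite
open scoped HomogeneousIdeal

noncomputable section

namespace Groth.Agent.H41.ProjConeLib

open Groth.Agent.H41.RelConeLib

section restrict

variable {Y : Scheme.{u}}

theorem res_restrictTop (𝒜 : RelProj.QCGrAlg Y) (z : 𝒜.presheaf.obj (op ⊤)) {U W : Y.Opens}
    (hle : W ≤ U) :
    (𝒜.presheaf.map (homOfLE hle).op).hom (RelCone.restrictTop 𝒜 z U) =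
      RelCone.restrictTop 𝒜 z W := by
  have h1 : 𝒜.presheaf.map (homOfLE (le_top : U ≤ ⊤)).op ≫ 𝒜.presheaf.map (homOfLE hle).op =
      𝒜.presheaf.map (homOfLE (le_top : W ≤ ⊤)).op := by
    rw [← Functor.map_comp]; rfl
  exact congrArg (fun k => k.hom z) h1

theorem θ_restrictTop {𝒮 𝒮h : RelProj.QCGrAlg Y} (z : 𝒮h.presheaf.obj (op ⊤))
    (θ : 𝒮h.toQCAlg ⟶ 𝒮.toQCAlg) (hθz : (θ.hom.app (op ⊤)).hom z = 0) (U : Y.Opens) :
    (θ.hom.app (op U)).hom (RelCone.restrictTop 𝒮h z U) = 0 := by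
  have hn := θ.hom.naturality (homOfLE (le_top : U ≤ ⊤)).op
  have h2 : (θ.hom.app (op U)).hom (RelCone.restrictTop 𝒮h z U) =
      (𝒮.presheaf.map (homOfLE (le_top : U ≤ ⊤)).op).hom ((θ.hom.app (op ⊤)).hom z) :=
    congrArg (fun k => k.hom z) hn
  rw [h2, hθz, map_zero]

end restrict

section cone

variable {Y PC : Scheme.{u}} {𝒮 𝒮h : RelProj.QCGrAlg Y} {ι : 𝒮.toQCAlg ⟶ 𝒮h.toQCAlg}
  {z : 𝒮h.presheaf.obj (op ⊤)} (h : RelCone.IsPolyOver 𝒮 𝒮h ι z) (pC : PC ⟶ Y)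
  (chartC : ∀ (U : Y.Opens) (hU : IsAffineOpen U),
    (((pC ⁻¹ᵁ U : PC.Opens) : Scheme.{u}) ≅ Proj (𝒮h.deg U hU)))

include h in
theorem hD_domOpen (U : Y.Opens) (hU : IsAffineOpen U) (r : Γ(Y, U))
    (T : Proj (𝒮h.deg (Y.basicOpen r) (hU.basicOpen r))) :
    (Proj.map (𝒮h.res hU (hU.basicOpen r) (Y.basicOpen_le r))
        (𝒮h.irrelevant_le_map U hU r)).base T ∈
        RelCone.domOpen (RelProj.gradedHomAt ι h.graded U hU) ↔
      T ∈ RelCone.domOpen (RelProj.gradedHomAt ι h.graded (Y.basicOpen r) (hU.basicOpen r)) :=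
  comap_mem_domOpen_iff (RelProj.gradedHomAt ι h.graded U hU)
    (RelProj.gradedHomAt ι h.graded (Y.basicOpen r) (hU.basicOpen r))
    (𝒮.res hU (hU.basicOpen r) (Y.basicOpen_le r))
    (𝒮h.res hU (hU.basicOpen r) (Y.basicOpen_le r))
    (fun a => congrArg (fun k => k.hom a)
      (ι.hom.naturality (homOfLE (Y.basicOpen_le r)).op).symm)
    (fun _ hx => 𝒮.irrelevant_le_map U hU r hx) (𝒮h.irrelevant_le_map U hU r) T

/-- local description of the pointed projective cone -/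
theorem mem_pointedProjCone_iff (hPC : RelProj.IsRelProj 𝒮h pC chartC) (V : Y.Opens)
    (hV : IsAffineOpen V) (Q : Proj (𝒮h.deg V hV)) :
    (RelProj.emb pC chartC V hV).base Q ∈ RelCone.pointedProjCone 𝒮 h pC chartC ↔
      Q ∈ RelCone.domOpen (RelProj.gradedHomAt ι h.graded V hV) :=
  mem_iSup_emb_iff pC chartC hPC
    (fun U hU => RelCone.domOpen (RelProj.gradedHomAt ι h.graded U hU))
    (hD_domOpen h) V hV Q

/-- the open of the projective cone where `z` does not vanish -/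
def zOpen : PC.Opens :=
  ⨆ U : Y.affineOpens, (RelProj.emb pC chartC U.1 U.2) ''ᵁ
    Proj.basicOpen (𝒮h.deg U.1 U.2) (RelCone.restrictTop 𝒮h z U.1)

omit h in
theorem hD_basicOpen (U : Y.Opens) (hU : IsAffineOpen U) (r : Γ(Y, U))
    (T : Proj (𝒮h.deg (Y.basicOpen r) (hU.basicOpen r))) :
    (Proj.map (𝒮h.res hU (hU.basicOpen r) (Y.basicOpen_le r))
        (𝒮h.irrelevant_le_map U hU r)).base T ∈
        Proj.basicOpen (𝒮h.deg U hU) (RelCone.restrictTop 𝒮h z U) ↔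
      T ∈ Proj.basicOpen (𝒮h.deg (Y.basicOpen r) (hU.basicOpen r))
        (RelCone.restrictTop 𝒮h z (Y.basicOpen r)) := by
  rw [Proj.mem_basicOpen, Proj.mem_basicOpen, ← res_restrictTop 𝒮h z (Y.basicOpen_le r)]
  rfl

omit h in
theorem mem_zOpen_iff (hPC : RelProj.IsRelProj 𝒮h pC chartC) (V : Y.Opens)
    (hV : IsAffineOpen V) (Q : Proj (𝒮h.deg V hV)) :
    (RelProj.emb pC chartC V hV).base Q ∈ zOpen (z := z) pC chartC ↔
      Q ∈ Proj.basicOpen (𝒮h.deg V hV) (RelCone.restrictTop 𝒮h z V) :=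
  mem_iSup_emb_iff pC chartC hPC
    (fun U hU => Proj.basicOpen (𝒮h.deg U hU) (RelCone.restrictTop 𝒮h z U))
    hD_basicOpen V hV Q

theorem coneImm_apply (i : 𝒮.toQCAlg.spec ⟶ PC) (hi : RelCone.IsConeImm 𝒮 h pC chartC i)
    (U : Y.Opens) (hU : IsAffineOpen U) (y : Spec (𝒮.presheaf.obj (op U))) :
    i.base ((𝒮.toQCAlg.ι U hU).base y) =
      (RelProj.emb pC chartC U hU).base
        ((Proj.awayι (𝒮h.deg U hU) (RelCone.restrictTop 𝒮h z U) (h.deg_z U hU) one_pos).base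
          ((Spec.map (CommRingCat.ofHom (h.awayZToBase U hU))).base y)) :=
  congrArg (fun k => k.base y) (hi U hU)

theorem exists_of_mem_basicOpen_z (U : Y.Opens) (hU : IsAffineOpen U)
    (P : Proj (𝒮h.deg U hU))
    (hP : P ∈ Proj.basicOpen (𝒮h.deg U hU) (RelCone.restrictTop 𝒮h z U)) :
    ∃ y : Spec (𝒮.presheaf.obj (op U)),
      (Proj.awayι (𝒮h.deg U hU) (RelCone.restrictTop 𝒮h z U) (h.deg_z U hU) one_pos).base
        ((Spec.map (CommRingCat.ofHom (h.awayZToBase U hU))).base y) = P := by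
  rw [← Proj.opensRange_awayι _ _ (h.deg_z U hU) one_pos] at hP
  obtain ⟨w, hw⟩ := hP
  obtain ⟨y, hy⟩ := exists_comap_eq_of_bijective (h.awayZToBase U hU)
    (awayZToBase_bijective h U hU) w
  refine ⟨y, ?_⟩
  have h1 : (Spec.map (CommRingCat.ofHom (h.awayZToBase U hU))).base y = w := hy
  rw [h1]
  exact hw

theorem range_coneImm (i : 𝒮.toQCAlg.spec ⟶ PC) (hi : RelCone.IsConeImm 𝒮 h pC chartC i) :
    Set.range i.base = (zOpen (z := z) pC chartC : Set PC) := by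
  ext x
  constructor
  · rintro ⟨c, rfl⟩
    obtain ⟨U, hU0, hcU, -⟩ := Opens.isBasis_iff_nbhd.1 Y.isBasis_affineOpens
      (show 𝒮.toQCAlg.π.base c ∈ (⊤ : Y.Opens) from trivial)
    have hU : IsAffineOpen U := hU0
    obtain ⟨y, rfl⟩ := exists_ι_eq 𝒮.toQCAlg U hU c hcU
    rw [coneImm_apply h pC chartC i hi U hU y]
    show _ ∈ zOpen (z := z) pC chartC
    unfold zOpen
    rw [Opens.mem_iSup]
    refine ⟨⟨U, hU⟩, _, ?_, rfl⟩
    show (Proj.awayι (𝒮h.deg U hU) (RelCone.restrictTop 𝒮h z U) (h.deg_z U hU) one_pos).base _ ∈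
      Proj.basicOpen (𝒮h.deg U hU) (RelCone.restrictTop 𝒮h z U)
    rw [← Proj.opensRange_awayι _ _ (h.deg_z U hU) one_pos]
    exact ⟨_, rfl⟩
  · intro hx
    have hx' : x ∈ zOpen (z := z) pC chartC := hx
    unfold zOpen at hx'
    rw [Opens.mem_iSup] at hx'
    obtain ⟨⟨U, hU0⟩, P, hP, rfl⟩ := hx'
    have hU : IsAffineOpen U := hU0
    obtain ⟨y, hy⟩ := exists_of_mem_basicOpen_z h U hU P hP
    exact ⟨(𝒮.toQCAlg.ι U hU).base y, by rw [coneImm_apply h pC chartC i hi U hU y, hy]; rfl⟩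

end cone

end Groth.Agent.H41.ProjConeLib
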