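import Groth.Agent.H18.ProjClosedImm
import Mathlib.AlgebraicGeometry.Morphisms.IsIso
import Mathlib.Tactic

/-!
# A graded ring homomorphism bijective in positive degrees induces an isomorphism of `Proj`'s
-/

set_option autoImplicit false

universe u

namespace Groth.Agent.H41.ProjIso

open DirectSum HomogeneousIdeal AlgebraicGeometry HomogeneousLocalization CategoryTheory

section
variable {A B σ τ : Type*} [CommRing A] [SetLike σ A] [AddSubgroupClass σ A]
  [CommRing B] [SetLike τ B] [AddSubgroupClass τ B]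
  {𝒜 : ℕ → σ} {ℬ : ℕ → τ} [GradedRing 𝒜] [GradedRing ℬ]

theorem away_mk_succ {d : ℕ} {s : A} (hs : s ∈ 𝒜 d) (n : ℕ) (a : A) (ha : a ∈ 𝒜 (n • d))
    (ha' : a * s ∈ 𝒜 ((n + 1) • d)) :
    Away.mk 𝒜 hs n a ha = Away.mk 𝒜 hs (n + 1) (a * s) ha' := by
  apply HomogeneousLocalization.val_injective
  rw [Away.val_mk, Away.val_mk, Localization.mk_eq_mk_iff, Localization.r_iff_exists]
  refine ⟨1, ?_⟩
  simp only [OneMemClass.coe_one, one_mul]
  ring

theorem away_map_bijective_of_bijOn (φ : 𝒜 →+*ᵍ ℬ)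
    (hpos : ∀ n, 0 < n → Set.BijOn φ (𝒜 n : Set A) (ℬ n : Set B)) {d : ℕ} (hd : 0 < d) {s : A}
    (hs : s ∈ 𝒜 d) : Function.Bijective (Away.map φ s) := by
  constructor
  · rw [injective_iff_map_eq_zero]
    intro x hx
    obtain ⟨n, a, ha, rfl⟩ := Away.mk_surjective 𝒜 hs x
    rw [Away.map_mk φ s hs n a ha] at hx
    have hval := congrArg HomogeneousLocalization.val hx
    rw [Away.val_mk, HomogeneousLocalization.val_zero, Localization.mk_eq_mk',
      IsLocalization.mk'_eq_zero_iff] at hval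
    obtain ⟨⟨_, k, rfl⟩, hk⟩ := hval
    have hk' : (φ s) ^ k * φ a = 0 := hk
    have hmem : s ^ (k + 1) * a ∈ 𝒜 ((k + 1) • d + n • d) :=
      SetLike.mul_mem_graded (SetLike.pow_mem_graded (k + 1) hs) ha
    have hpos' : 0 < (k + 1) • d + n • d := by
      simp only [smul_eq_mul]
      have : 0 < (k + 1) * d := Nat.mul_pos (Nat.succ_pos k) hd
      omega
    have hz : φ (s ^ (k + 1) * a) = 0 := by
      rw [map_mul, map_pow, pow_succ', mul_assoc, hk', mul_zero]
    have h0 : s ^ (k + 1) * a = 0 :=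
      (hpos _ hpos').injOn hmem (zero_mem _) (by rw [hz, map_zero])
    apply HomogeneousLocalization.val_injective
    rw [Away.val_mk, HomogeneousLocalization.val_zero, Localization.mk_eq_mk',
      IsLocalization.mk'_eq_zero_iff]
    exact ⟨⟨s ^ (k + 1), k + 1, rfl⟩, h0⟩
  · intro x
    obtain ⟨n, b, hb, rfl⟩ := Away.mk_surjective ℬ (φ.2 hs) x
    have hb' : b * φ s ∈ ℬ ((n + 1) • d) := by
      have h1 := SetLike.mul_mem_graded hb (φ.2 hs)
      have h2 : (n + 1) • d = n • d + d := by simp only [smul_eq_mul]; ring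
      rw [h2]
      exact h1
    have hpos' : 0 < (n + 1) • d := by
      simp only [smul_eq_mul]
      exact Nat.mul_pos (Nat.succ_pos n) hd
    obtain ⟨a, ha, hab⟩ := (hpos _ hpos').surjOn hb'
    refine ⟨Away.mk 𝒜 hs (n + 1) a ha, ?_⟩
    rw [Away.map_mk φ s hs (n + 1) a ha, away_mk_succ (φ.2 hs) n b hb hb']
    congr 1

end

section
variable {A B σ τ : Type u} [CommRing A] [SetLike σ A] [AddSubgroupClass σ A]
  [CommRing B] [SetLike τ B] [AddSubgroupClass τ B]
  {𝒜 : ℕ → σ} {ℬ : ℕ → τ} [GradedRing 𝒜] [GradedRing ℬ]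

set_option backward.isDefEq.respectTransparency false in
/-- `Proj.map φ` is an isomorphism as soon as all the chart maps `Away.map φ s` are bijective. -/
theorem isIso_projMap_of_away_bijective (φ : 𝒜 →+*ᵍ ℬ) (hφ : ℬ₊ ≤ 𝒜₊.map φ)
    (hbij : ∀ (i : ℕ) (_ : 0 < i) (s : A) (_ : s ∈ 𝒜 i), Function.Bijective (Away.map φ s)) :
    IsIso (Proj.map φ hφ) := by
  show MorphismProperty.isomorphisms Scheme (Proj.map φ hφ)
  apply IsZariskiLocalAtTarget.of_openCover (P := MorphismProperty.isomorphisms Scheme)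
    (Proj.affineOpenCover 𝒜).openCover
  intro s
  have hpb := (Groth.Agent.H18.isPullback_awayι_map φ hφ s.1.2 s.2.1 s.2.2).flip
  have hiso : IsIso (Spec.map (CommRingCat.ofHom (Away.map φ (s.2 : A)))) := by
    have : IsIso (CommRingCat.ofHom (Away.map φ (s.2 : A))) :=
      (ConcreteCategory.isIso_iff_bijective _).2 (hbij _ s.1.2 _ s.2.2)
    infer_instance
  have heq : hpb.isoPullback.hom ≫ Limits.pullback.snd _ _ =
      Spec.map (CommRingCat.ofHom (Away.map φ (s.2 : A))) := hpb.isoPullback_hom_snd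
  have key : IsIso
      (Limits.pullback.snd (Proj.map φ hφ) (Proj.awayι 𝒜 (s.2 : A) s.2.2 s.1.2)) := by
    have h2 : Limits.pullback.snd (Proj.map φ hφ) (Proj.awayι 𝒜 (s.2 : A) s.2.2 s.1.2) =
        hpb.isoPullback.inv ≫ Spec.map (CommRingCat.ofHom (Away.map φ (s.2 : A))) :=
      (Iso.eq_inv_comp _).2 heq
    rw [h2]
    infer_instance
  exact key

/-- A graded ring homomorphism bijective in all positive degrees induces an isomorphism on `Proj`. -/
theorem isIso_projMap_of_bijOn (φ : 𝒜 →+*ᵍ ℬ) (hφ : ℬ₊ ≤ 𝒜₊.map φ)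
    (hpos : ∀ n, 0 < n → Set.BijOn φ (𝒜 n : Set A) (ℬ n : Set B)) :
    IsIso (Proj.map φ hφ) :=
  isIso_projMap_of_away_bijective φ hφ fun _ hi _ hs => away_map_bijective_of_bijOn φ hpos hi hs

end

end Groth.Agent.H41.ProjIso
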