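import Groth.Agent.H41.ProjQ6

/-!
# `Proj(𝒜[T]) = Spec(𝒜)` for a quasi-coherent algebra `𝒜`
-/

set_option autoImplicit false
set_option linter.style.haveILetI false
universe u

open CategoryTheory CategoryTheory.Limits AlgebraicGeometry TopologicalSpace Opposite
open HomogeneousLocalization
open scoped HomogeneousIdeal

noncomputable section

namespace Groth.Agent.H41.ProjPoly

open Groth.Agent.H41.RelConeLib Groth.Agent.H41.ProjConeLib Groth.Agent.H41.ProjQ

/-! ### morphisms out of a relative spectrum -/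

section glue

variable {Y : Scheme.{u}}

/-- a morphism out of `Spec(A)` is uniquely given by compatible morphisms on the charts -/
theorem existsUnique_of_charts (A : RelSpec.QCAlg Y) {Z : Scheme.{u}}
    (m : ∀ (U : Y.Opens) (_ : IsAffineOpen U), Spec (A.presheaf.obj (op U)) ⟶ Z)
    (hm : ∀ (U : Y.Opens) (hU : IsAffineOpen U) (r : Γ(Y, U)),
      Spec.map (A.presheaf.map (homOfLE (Y.basicOpen_le r)).op) ≫ m U hU =
        m (Y.basicOpen r) (hU.basicOpen r)) :
    ∃! i : A.spec ⟶ Z, ∀ (U : Y.Opens) (hU : IsAffineOpen U), A.ι U hU ≫ i = m U hU := by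
  let c : Cocone A.glueData.functor :=
    { pt := Z
      ι :=
        { app := fun (U : Y.AffineZariskiSite) => m U.1 U.2
          naturality := fun (V U : Y.AffineZariskiSite) (i : V ⟶ U) => by
            refine Eq.trans ?_ (Category.comp_id _).symm
            rcases V with ⟨V1, hV1⟩
            obtain ⟨f, hf⟩ := i.le
            have hf' : Y.basicOpen f = V1 := hf
            subst hf'
            exact hm U.1 U.2 f } }
  refine ⟨colimit.desc A.glueData.functor c, fun U hU => colimit.ι_desc c ⟨U, hU⟩,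
    fun i' hi' => ?_⟩
  apply colimit.hom_ext
  intro U
  rw [colimit.ι_desc]
  exact hi' U.1 U.2

end glue

/-! ### ring level -/

section ringlevel

variable {A B : Type u} [CommRing A] [CommRing B] (𝒜 : ℕ → AddSubgroup A) [GradedRing 𝒜]
  {ℬ : ℕ → AddSubgroup B} [GradedRing ℬ]

theorem fromZero_val (f : A) (y : 𝒜 0) :
    (fromZeroRingHom 𝒜 (Submonoid.powers f) y).val =
      Localization.mk ((y : A) * f ^ 0) ⟨f ^ 0, pow_mem (Submonoid.mem_powers f) 0⟩ := by
  show (HomogeneousLocalization.mk ⟨0, y, 1, one_mem _⟩ :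
    HomogeneousLocalization 𝒜 (Submonoid.powers f)).val = _
  rw [HomogeneousLocalization.val_mk, Localization.mk_eq_mk_iff, Localization.r_iff_exists]
  exact ⟨1, by simp⟩

variable {𝒜}

theorem awayMapEq_mk (φ : 𝒜 →+*ᵍ ℬ) (f : A) (t : B) (h : φ f = t) {d : ℕ} (hf : f ∈ 𝒜 d)
    (ht : t ∈ ℬ d) (n : ℕ) (x : A) (hx : x ∈ 𝒜 (n • d)) :
    awayMapEq φ f t h (Away.mk 𝒜 hf n x hx) = Away.mk ℬ ht n (φ x) (φ.map_mem hx) := by
  subst h
  exact Away.map_mk φ f hf n x hx

end ringlevel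

/-! ### the polynomial algebra -/

section poly

variable {Y P : Scheme.{u}} (𝒜 : RelSpec.QCAlg Y) (Sh : RelProj.QCGrAlg Y)
  (ι : 𝒜 ⟶ Sh.toQCAlg)
  (hι : ∀ (U : Y.Opens) (hU : IsAffineOpen U) (a : 𝒜.presheaf.obj (op U)),
    (ι.hom.app (op U)).hom a ∈ Sh.deg U hU 0)
  (z : Sh.presheaf.obj (op ⊤))
  (hz : ∀ (U : Y.Opens) (hU : IsAffineOpen U), RelCone.restrictTop Sh z U ∈ Sh.deg U hU 1)
  (hpoly : ∀ (U : Y.Opens) (hU : IsAffineOpen U),
    Function.Bijective (Polynomial.eval₂RingHom (ι.hom.app (op U)).hom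
      (RelCone.restrictTop Sh z U)))

include hι hz in
theorem term_mem (U : Y.Opens) (hU : IsAffineOpen U) (a : 𝒜.presheaf.obj (op U)) (i : ℕ) :
    (ι.hom.app (op U)).hom a * RelCone.restrictTop Sh z U ^ i ∈ Sh.deg U hU i := by
  have h1 := SetLike.mul_mem_graded (hι U hU a) (SetLike.pow_mem_graded i (hz U hU))
  simpa using h1

include hι hz hpoly in
/-- homogeneous elements of degree `k` of `𝒜[z]` are of the form `a z^k` -/
theorem exists_eq_mul_pow (U : Y.Opens) (hU : IsAffineOpen U) (k : ℕ)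
    (x : Sh.presheaf.obj (op U)) (hx : x ∈ Sh.deg U hU k) :
    ∃ a : 𝒜.presheaf.obj (op U),
      x = (ι.hom.app (op U)).hom a * RelCone.restrictTop Sh z U ^ k := by
  classical
  obtain ⟨Q, hQ⟩ := (hpoly U hU).2 x
  have hQ' : Polynomial.eval₂ (ι.hom.app (op U)).hom (RelCone.restrictTop Sh z U) Q = x := hQ
  have heval := Polynomial.eval₂_eq_sum_range' (ι.hom.app (op U)).hom (p := Q)
    (n := Q.natDegree + k + 1) (by omega) (RelCone.restrictTop Sh z U)
  refine ⟨Q.coeff k, ?_⟩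
  have h1 : x = GradedRing.proj (Sh.deg U hU) k x := by
    rw [GradedRing.proj_apply, DirectSum.decompose_of_mem_same _ hx]
  have h2 : GradedRing.proj (Sh.deg U hU) k x =
      (ι.hom.app (op U)).hom (Q.coeff k) * RelCone.restrictTop Sh z U ^ k := by
    rw [← hQ', heval, map_sum, Finset.sum_eq_single k]
    · rw [GradedRing.proj_apply,
        DirectSum.decompose_of_mem_same _ (term_mem 𝒜 Sh ι hι z hz U hU _ k)]
    · intro i _ hne
      rw [GradedRing.proj_apply,
        DirectSum.decompose_of_mem_ne _ (term_mem 𝒜 Sh ι hι z hz U hU _ i) hne]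
    · intro hk
      exact absurd (Finset.mem_range.mpr (by omega)) hk
  exact h1.trans h2

include hι hz hpoly in
/-- normal form of the elements of `𝒜[z]_(z)` -/
theorem exists_nf (U : Y.Opens) (hU : IsAffineOpen U)
    (q : Away (Sh.deg U hU) (RelCone.restrictTop Sh z U)) :
    ∃ (k : ℕ) (a : 𝒜.presheaf.obj (op U))
      (hm : (ι.hom.app (op U)).hom a * RelCone.restrictTop Sh z U ^ k ∈ Sh.deg U hU (k • 1)),
      q = Away.mk (Sh.deg U hU) (hz U hU) k _ hm := by
  obtain ⟨k, x, hx, rfl⟩ := Away.mk_surjective (Sh.deg U hU) (hz U hU) q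
  have hx' : x ∈ Sh.deg U hU k := by simpa using hx
  obtain ⟨a, rfl⟩ := exists_eq_mul_pow 𝒜 Sh ι hι z hz hpoly U hU k x hx'
  exact ⟨k, a, hx, rfl⟩

include hι hz hpoly in
theorem basicOpen_z_eq_top (U : Y.Opens) (hU : IsAffineOpen U) :
    Proj.basicOpen (Sh.deg U hU) (RelCone.restrictTop Sh z U) = ⊤ := by
  rw [eq_top_iff]
  intro Q _
  show Q ∈ Proj.basicOpen (Sh.deg U hU) (RelCone.restrictTop Sh z U)
  rw [Proj.mem_basicOpen]
  intro hzQ
  apply Q.not_irrelevant_le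
  rw [HomogeneousIdeal.irrelevant_le]
  intro i hi x hx
  obtain ⟨a, rfl⟩ := exists_eq_mul_pow 𝒜 Sh ι hι z hz hpoly U hU i x hx
  obtain ⟨j, rfl⟩ := Nat.exists_eq_succ_of_ne_zero (Nat.pos_iff_ne_zero.mp hi)
  rw [pow_succ]
  exact Ideal.mul_mem_left _ _ (Ideal.mul_mem_left _ _ hzQ)

include hι hz hpoly in
theorem isIso_awayι_z (U : Y.Opens) (hU : IsAffineOpen U) :
    IsIso (Proj.awayι (Sh.deg U hU) (RelCone.restrictTop Sh z U) (hz U hU) one_pos) := by
  rw [isIso_iff_isOpenImmersion_and_surjective]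
  refine ⟨inferInstance, ⟨fun Q => ?_⟩⟩
  have hQ : Q ∈ (Proj.awayι (Sh.deg U hU) (RelCone.restrictTop Sh z U) (hz U hU)
      one_pos).opensRange := by
    rw [Proj.opensRange_awayι, basicOpen_z_eq_top 𝒜 Sh ι hι z hz hpoly U hU]
    trivial
  exact hQ

variable (θ : ∀ (U : Y.Opens) (hU : IsAffineOpen U),
    CommRingCat.of (Away (Sh.deg U hU) (RelCone.restrictTop Sh z U)) ⟶ 𝒜.presheaf.obj (op U))
  (hθ : ∀ (U : Y.Opens) (hU : IsAffineOpen U)
    (q : Away (Sh.deg U hU) (RelCone.restrictTop Sh z U)) (k : ℕ) (a : 𝒜.presheaf.obj (op U)),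
    q.val = Localization.mk ((ι.hom.app (op U)).hom a * RelCone.restrictTop Sh z U ^ k)
      ⟨RelCone.restrictTop Sh z U ^ k,
        pow_mem (Submonoid.mem_powers (RelCone.restrictTop Sh z U)) k⟩ →
    (θ U hU).hom q = a)

include hθ in
theorem θ_mk (U : Y.Opens) (hU : IsAffineOpen U) (k : ℕ) (a : 𝒜.presheaf.obj (op U))
    (hm : (ι.hom.app (op U)).hom a * RelCone.restrictTop Sh z U ^ k ∈ Sh.deg U hU (k • 1)) :
    (θ U hU).hom (Away.mk (Sh.deg U hU) (hz U hU) k _ hm) = a :=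
  hθ U hU _ k a (by rw [Away.val_mk])

include hι hz hpoly hθ in
theorem θ_bijective (U : Y.Opens) (hU : IsAffineOpen U) : Function.Bijective (θ U hU).hom := by
  constructor
  · intro q₁ q₂ h
    obtain ⟨k₁, a₁, hm₁, rfl⟩ := exists_nf 𝒜 Sh ι hι z hz hpoly U hU q₁
    obtain ⟨k₂, a₂, hm₂, rfl⟩ := exists_nf 𝒜 Sh ι hι z hz hpoly U hU q₂
    rw [θ_mk 𝒜 Sh ι z hz θ hθ, θ_mk 𝒜 Sh ι z hz θ hθ] at h
    subst h
    apply HomogeneousLocalization.val_injective
    rw [Away.val_mk, Away.val_mk, Localization.mk_eq_mk_iff, Localization.r_iff_exists]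
    refine ⟨1, ?_⟩
    simp only [OneMemClass.coe_one, one_mul]
    ring
  · intro a
    refine ⟨fromZeroRingHom (Sh.deg U hU) _ ⟨(ι.hom.app (op U)).hom a, hι U hU a⟩, ?_⟩
    exact hθ U hU _ 0 a (fromZero_val (Sh.deg U hU) _ _)

include hι hz hpoly hθ in
/-- compatibility of `θ` with restriction to a basic open -/
theorem θ_res (U : Y.Opens) (hU : IsAffineOpen U) (r : Γ(Y, U)) :
    CommRingCat.ofHom (awayMapEq (Sh.res hU (hU.basicOpen r) (Y.basicOpen_le r))
      (RelCone.restrictTop Sh z U) (RelCone.restrictTop Sh z (Y.basicOpen r))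
      (res_restrictTop Sh z (Y.basicOpen_le r))) ≫ θ (Y.basicOpen r) (hU.basicOpen r) =
      θ U hU ≫ 𝒜.presheaf.map (homOfLE (Y.basicOpen_le r)).op := by
  refine CommRingCat.hom_ext (RingHom.ext fun q => ?_)
  obtain ⟨k, a, hm, rfl⟩ := exists_nf 𝒜 Sh ι hι z hz hpoly U hU q
  show (θ (Y.basicOpen r) (hU.basicOpen r)).hom
      (awayMapEq (Sh.res hU (hU.basicOpen r) (Y.basicOpen_le r))
        (RelCone.restrictTop Sh z U) (RelCone.restrictTop Sh z (Y.basicOpen r))
        (res_restrictTop Sh z (Y.basicOpen_le r)) (Away.mk (Sh.deg U hU) (hz U hU) k _ hm)) =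
    (𝒜.presheaf.map (homOfLE (Y.basicOpen_le r)).op).hom
      ((θ U hU).hom (Away.mk (Sh.deg U hU) (hz U hU) k _ hm))
  rw [θ_mk 𝒜 Sh ι z hz θ hθ,
    awayMapEq_mk _ _ _ _ (hz U hU) (hz (Y.basicOpen r) (hU.basicOpen r))]
  have e : (Sh.res hU (hU.basicOpen r) (Y.basicOpen_le r))
      ((ι.hom.app (op U)).hom a * RelCone.restrictTop Sh z U ^ k) =
      (ι.hom.app (op (Y.basicOpen r))).hom
        ((𝒜.presheaf.map (homOfLE (Y.basicOpen_le r)).op).hom a) *
          RelCone.restrictTop Sh z (Y.basicOpen r) ^ k := by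
    rw [map_mul, map_pow]
    congr 1
    · exact congrArg (fun m => m.hom a) (ι.hom.naturality (homOfLE (Y.basicOpen_le r)).op).symm
    · exact congrArg (· ^ k) (res_restrictTop Sh z (Y.basicOpen_le r))
  refine hθ _ _ _ k _ ?_
  rw [Away.val_mk, e]

include hθ in
theorem str_θ (U : Y.Opens) (hU : IsAffineOpen U) :
    Sh.strZero U hU ≫ CommRingCat.ofHom (fromZeroRingHom (Sh.deg U hU)
      (Submonoid.powers (RelCone.restrictTop Sh z U))) ≫ θ U hU = 𝒜.str.app (op U) := by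
  refine CommRingCat.hom_ext (RingHom.ext fun r => ?_)
  show (θ U hU).hom (fromZeroRingHom _ _ ((Sh.strZero U hU).hom r)) = (𝒜.str.app (op U)).hom r
  refine hθ U hU _ 0 _ ?_
  rw [fromZero_val]
  have hc : (((Sh.strZero U hU).hom r : Sh.deg U hU 0) : Sh.presheaf.obj (op U)) =
      (ι.hom.app (op U)).hom ((𝒜.str.app (op U)).hom r) :=
    (congrArg (fun k => (k.app (op U)).hom r) ι.comm).symm
  rw [hc]

variable (p : P ⟶ Y)
  (chart : ∀ (U : Y.Opens) (hU : IsAffineOpen U),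
    (((p ⁻¹ᵁ U : P.Opens) : Scheme.{u}) ≅ Proj (Sh.deg U hU)))
  (hP : RelProj.IsRelProj Sh p chart)

omit 𝒜 in
theorem opensRange_emb (U : Y.Opens) (hU : IsAffineOpen U) :
    (RelProj.emb p chart U hU).opensRange = p ⁻¹ᵁ U := by
  unfold RelProj.emb
  rw [Scheme.Hom.opensRange_comp_of_isIso, Scheme.Opens.opensRange_ι]

include hι hz hpoly hθ hP in
/-- the chart morphisms are compatible with restriction to basic opens -/
theorem chart_compat (U : Y.Opens) (hU : IsAffineOpen U) (r : Γ(Y, U)) :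
    Spec.map (𝒜.presheaf.map (homOfLE (Y.basicOpen_le r)).op) ≫
      (Spec.map (θ U hU) ≫ Proj.awayι (Sh.deg U hU) (RelCone.restrictTop Sh z U) (hz U hU)
        one_pos ≫ RelProj.emb p chart U hU) =
    Spec.map (θ (Y.basicOpen r) (hU.basicOpen r)) ≫
      Proj.awayι (Sh.deg (Y.basicOpen r) (hU.basicOpen r))
        (RelCone.restrictTop Sh z (Y.basicOpen r)) (hz (Y.basicOpen r) (hU.basicOpen r))
        one_pos ≫ RelProj.emb p chart (Y.basicOpen r) (hU.basicOpen r) := by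
  have h1 := RelProj.map_res_emb hP U hU r
  have h2 := awayι_comp_map_eq (Sh.res hU (hU.basicOpen r) (Y.basicOpen_le r))
    (Sh.irrelevant_le_map U hU r) one_pos (RelCone.restrictTop Sh z U) (hz U hU)
    (RelCone.restrictTop Sh z (Y.basicOpen r)) (res_restrictTop Sh z (Y.basicOpen_le r))
    (hz (Y.basicOpen r) (hU.basicOpen r))
  have h3 := θ_res 𝒜 Sh ι hι z hz hpoly θ hθ U hU r
  rw [← h1, reassoc_of% h2]
  simp only [← Spec.map_comp_assoc]
  rw [h3]

include hι hz hpoly hθ hP in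
/-- a morphism `Spec(𝒜) ⟶ Proj(𝒜[z])` given chartwise by `θ` is an isomorphism over the base -/
theorem isIso_of_charts (i : 𝒜.spec ⟶ P)
    (hi : ∀ (U : Y.Opens) (hU : IsAffineOpen U),
      𝒜.ι U hU ≫ i = Spec.map (θ U hU) ≫
        Proj.awayι (Sh.deg U hU) (RelCone.restrictTop Sh z U) (hz U hU) one_pos ≫
          RelProj.emb p chart U hU) :
    IsIso i ∧ i ≫ p = 𝒜.π := by
  have hover : i ≫ p = 𝒜.π := by
    apply colimit.hom_ext
    intro U
    change 𝒜.ι U.1 U.2 ≫ i ≫ p = 𝒜.ι U.1 U.2 ≫ 𝒜.π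
    have e1 : RelProj.emb p chart U.1 U.2 ≫ p = Proj.toSpecZero (Sh.deg U.1 U.2) ≫
        Spec.map (Sh.strZero U.1 U.2) ≫ U.2.fromSpec := by
      rw [RelProj.emb, Category.assoc, ← hP.chart_over U.1 U.2, Iso.inv_hom_id_assoc]
    rw [← Category.assoc, hi U.1 U.2, 𝒜.ι_π]
    simp only [Category.assoc]
    rw [e1, Proj.awayι_toSpecZero_assoc, ← str_θ 𝒜 Sh ι z θ hθ U.1 U.2]
    simp only [Spec.map_comp, Category.assoc]
  have hcov : ⨆ U : Y.affineOpens, (RelProj.emb p chart U.1 U.2).opensRange = ⊤ := by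
    rw [eq_top_iff]
    intro x _
    obtain ⟨U, hU0, hxU, -⟩ := Opens.isBasis_iff_nbhd.1 Y.isBasis_affineOpens
      (show p.base x ∈ (⊤ : Y.Opens) from trivial)
    refine Opens.mem_iSup.mpr ⟨⟨U, hU0⟩, ?_⟩
    rw [opensRange_emb]
    exact hxU
  have hiso : MorphismProperty.isomorphisms Scheme.{u} i := by
    refine IsZariskiLocalAtTarget.of_iSup_eq_top (P := MorphismProperty.isomorphisms Scheme.{u})
      (fun U : Y.affineOpens => (RelProj.emb p chart U.1 U.2).opensRange) hcov fun U => ?_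
    have hcomm : 𝒜.ι U.1 U.2 ≫ i = (Spec.map (θ U.1 U.2) ≫
        Proj.awayι (Sh.deg U.1 U.2) (RelCone.restrictTop Sh z U.1) (hz U.1 U.2) one_pos) ≫
          RelProj.emb p chart U.1 U.2 := by
      rw [hi U.1 U.2, Category.assoc]
    have hrange : (𝒜.ι U.1 U.2).opensRange = i ⁻¹ᵁ (RelProj.emb p chart U.1 U.2).opensRange := by
      rw [opensRange_emb, ← Scheme.Hom.comp_preimage, hover, 𝒜.π_preimage U.1 U.2]
    refine (restrict_iff (MorphismProperty.isomorphisms Scheme.{u}) i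
      (RelProj.emb p chart U.1 U.2) (𝒜.ι U.1 U.2) _ hcomm hrange).mpr ?_
    haveI : IsIso (θ U.1 U.2) :=
      (ConcreteCategory.isIso_iff_bijective _).2 (θ_bijective 𝒜 Sh ι hι z hz hpoly θ hθ U.1 U.2)
    haveI := isIso_awayι_z 𝒜 Sh ι hι z hz hpoly U.1 U.2
    exact (inferInstance : IsIso (Spec.map (θ U.1 U.2) ≫
      Proj.awayι (Sh.deg U.1 U.2) (RelCone.restrictTop Sh z U.1) (hz U.1 U.2) one_pos))
  exact ⟨hiso, hover⟩

end poly

end Groth.Agent.H41.ProjPoly
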