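import Groth.Prelude.Def_RelProj4
import Groth.Agent.H41.GlueOpens
import Groth.Agent.H41.ProjConeLib
import Groth.Agent.H41.RelProjLib

/-!
# The morphism `Proj(u)` on its open of definition `G(u)`

Standard charts of `G(u)`, the refinement relation between them, and the gluing of the local
morphisms `Spec 𝒮'(U')_(u f) ⟶ Spec 𝒮(U)_(f) ⟶ Proj 𝒮(U) ⟶ P`.
-/

set_option autoImplicit false
universe u

open CategoryTheory CategoryTheory.Limits AlgebraicGeometry TopologicalSpace Opposite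
open HomogeneousLocalization
open scoped HomogeneousIdeal

noncomputable section

namespace Groth.Agent.H41.ProjQ

open Groth.Agent.H41.RelConeLib Groth.Agent.H41.ProjConeLib Groth.Agent.H41.RelProjLib

/-! ### ring level -/

section ring

variable {A B C A' : Type u} [CommRing A] [CommRing B] [CommRing C] [CommRing A']
  {𝒜 : ℕ → AddSubgroup A} {ℬ : ℕ → AddSubgroup B} {𝒞 : ℕ → AddSubgroup C}
  {𝒜' : ℕ → AddSubgroup A'}
  [GradedRing 𝒜] [GradedRing ℬ] [GradedRing 𝒞] [GradedRing 𝒜']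

/-- `Away.map` with a prescribed name for the image element. -/
def awayMapEq (φ : 𝒜 →+*ᵍ ℬ) (f : A) (t : B) (h : φ f = t) : Away 𝒜 f →+* Away ℬ t :=
  h ▸ Away.map φ f

theorem awayMapEq_congr {φ₁ φ₂ : 𝒜 →+*ᵍ ℬ} (hφ : φ₁ = φ₂) (f : A) (t : B) (h₁ : φ₁ f = t)
    (h₂ : φ₂ f = t) : awayMapEq φ₁ f t h₁ = awayMapEq φ₂ f t h₂ := by
  subst hφ; rfl

theorem awayMapEq_comp (φ : 𝒜 →+*ᵍ ℬ) (ρ : ℬ →+*ᵍ 𝒞) (f : A) (t : C) (h : ρ (φ f) = t) :
    (awayMapEq ρ (φ f) t h).comp (Away.map φ f) = awayMapEq (ρ.comp φ) f t h := by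
  subst h
  exact (Away.map_comp φ ρ f).symm

theorem awayMapEq_comm (ψ : 𝒜 →+*ᵍ ℬ) (ρ' : ℬ →+*ᵍ 𝒞) (ρ : 𝒜 →+*ᵍ 𝒜') (ψ' : 𝒜' →+*ᵍ 𝒞)
    (hcomm : ∀ x, ρ' (ψ x) = ψ' (ρ x)) (f : A) :
    (awayMapEq ρ' (ψ f) (ψ' (ρ f)) (hcomm f)).comp (Away.map ψ f) =
      (Away.map ψ' (ρ f)).comp (Away.map ρ f) := by
  rw [awayMapEq_comp]
  have h2 : (Away.map ψ' (ρ f)).comp (Away.map ρ f) = awayMapEq (ψ'.comp ρ) f (ψ' (ρ f)) rfl :=
    (Away.map_comp ρ ψ' f).symm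
  rw [h2]
  exact awayMapEq_congr (GradedRingHom.ext fun x => hcomm x) f _ _ _

theorem awayι_comp_map_eq (φ : 𝒜 →+*ᵍ ℬ) (hirr : ℬ₊ ≤ 𝒜₊.map φ) {i : ℕ} (hi : 0 < i) (s : A)
    (hs : s ∈ 𝒜 i) (t : B) (h : φ s = t) (ht : t ∈ ℬ i) :
    Proj.awayι ℬ t ht hi ≫ Proj.map φ hirr =
      Spec.map (CommRingCat.ofHom (awayMapEq φ s t h)) ≫ Proj.awayι 𝒜 s hs hi := by
  subst h
  exact Proj.awayι_comp_map φ hirr hi s hs

theorem awayMap_comp_map (ψ : 𝒜 →+*ᵍ ℬ) {d e : ℕ} (f f' : A) (hf : f ∈ 𝒜 d) (hf' : f' ∈ 𝒜 e)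
    (x : A) (hx : x = f * f') (hx' : ψ x = ψ f * ψ f') :
    (Away.map ψ x).comp (awayMap 𝒜 hf' hx) =
      (awayMap ℬ (ψ.map_mem hf') hx').comp (Away.map ψ f) := by
  refine RingHom.ext fun z => ?_
  obtain ⟨n, a, ha, rfl⟩ := Away.mk_surjective 𝒜 hf z
  simp only [RingHom.coe_comp, Function.comp_apply]
  rw [awayMap_mk 𝒜 hf' hx n hf a ha, Away.map_mk, Away.map_mk ψ f hf n a ha,
    awayMap_mk ℬ (ψ.map_mem hf') hx' n (ψ.map_mem hf) (ψ a) (ψ.map_mem ha)]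
  apply HomogeneousLocalization.val_injective
  simp only [Away.val_mk, map_mul, map_pow]
  rfl

end ring

/-! ### charts -/

section charts

variable {Y Y' : Scheme.{u}} {g : Y' ⟶ Y} {𝒮 : RelProj.QCGrAlg Y} {𝒮' : RelProj.QCGrAlg Y'}
  (u : RelProj.QGrHom g 𝒮 𝒮')
  {P : Scheme.{u}} (p : P ⟶ Y)
  (chart : ∀ (U : Y.Opens) (hU : IsAffineOpen U),
    (((p ⁻¹ᵁ U : P.Opens) : Scheme.{u}) ≅ Proj (𝒮.deg U hU)))
  {P' : Scheme.{u}} (p' : P' ⟶ Y')
  (chart' : ∀ (U' : Y'.Opens) (hU' : IsAffineOpen U'),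
    (((p' ⁻¹ᵁ U' : P'.Opens) : Scheme.{u}) ≅ Proj (𝒮'.deg U' hU')))

/-- the data of a standard chart of `G(u)` -/
structure Ch (g : Y' ⟶ Y) (𝒮 : RelProj.QCGrAlg Y) where
  U : Y.Opens
  hU : IsAffineOpen U
  U' : Y'.Opens
  hU' : IsAffineOpen U'
  hle : U' ≤ g ⁻¹ᵁ U
  d : ℕ
  hd : 0 < d
  f : 𝒮.presheaf.obj (op U)
  hf : f ∈ 𝒮.deg U hU d

/-- the chart restricted to smaller affine opens -/
def Ch.restrict (c : Ch g 𝒮) (V : Y.Opens) (V' : Y'.Opens) (hVa : IsAffineOpen V)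
    (hVa' : IsAffineOpen V') (hle' : V' ≤ g ⁻¹ᵁ V) (hVU : V ≤ c.U) : Ch g 𝒮 :=
  ⟨V, hVa, V', hVa', hle', c.d, c.hd, 𝒮.res c.hU hVa hVU c.f, (𝒮.res c.hU hVa hVU).map_mem c.hf⟩

/-- the chart over the same pair at another element -/
def Ch.mul (c : Ch g 𝒮) (n : ℕ) (hn : 0 < n) (h : 𝒮.presheaf.obj (op c.U))
    (hhn : h ∈ 𝒮.deg c.U c.hU n) : Ch g 𝒮 :=
  ⟨c.U, c.hU, c.U', c.hU', c.hle, n, hn, h, hhn⟩

variable (c : Ch g 𝒮)

/-- the graded homomorphism of a chart -/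
abbrev psi : 𝒮.deg c.U c.hU →+*ᵍ 𝒮'.deg c.U' c.hU' := u.gradedAt c.U c.hU c.U' c.hU' c.hle

/-- the ring of a chart -/
abbrev ring : CommRingCat.{u} :=
  CommRingCat.of (Away (𝒮'.deg c.U' c.hU') (psi u c c.f))

/-- the chart as a morphism to `P'` -/
def E : Spec (ring u c) ⟶ P' :=
  RelProj.awayEmb u p' chart' c.U c.hU c.U' c.hU' c.hle c.hd c.f c.hf

/-- the local piece of `Proj(u)` on the chart -/
def R : Spec (ring u c) ⟶ P :=
  Spec.map (CommRingCat.ofHom (Away.map (psi u c) c.f)) ≫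
    Proj.awayι (𝒮.deg c.U c.hU) c.f c.hf c.hd ≫ RelProj.emb p chart c.U c.hU

theorem E_eq : E u p' chart' c =
    Proj.awayι (𝒮'.deg c.U' c.hU') (psi u c c.f) ((psi u c).map_mem c.hf) c.hd ≫
      RelProj.emb p' chart' c.U' c.hU' := rfl

instance : IsOpenImmersion (E u p' chart' c) := by
  rw [E_eq]; infer_instance

/-- the chart lifted into `G(u)` -/
def lift : Spec (ring u c) ⟶ ((RelProj.domQ u p' chart' : P'.Opens) : Scheme.{u}) :=
  IsOpenImmersion.lift (RelProj.domQ u p' chart').ι (E u p' chart' c)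
    (RelProj.range_awayEmb_subset_domQ u p' chart' c.U c.hU c.U' c.hU' c.hle c.hd c.f c.hf)

@[reassoc]
theorem lift_ι : lift u p' chart' c ≫ (RelProj.domQ u p' chart').ι = E u p' chart' c :=
  IsOpenImmersion.lift_fac _ _ _

instance : IsOpenImmersion (lift u p' chart' c) := by
  have : IsOpenImmersion (lift u p' chart' c ≫ (RelProj.domQ u p' chart').ι) := by
    rw [lift_ι]; infer_instance
  exact IsOpenImmersion.of_comp _ (RelProj.domQ u p' chart').ι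

theorem isProjQMapOn_iff (v : ((RelProj.domQ u p' chart' : P'.Opens) : Scheme.{u}) ⟶ P) :
    RelProj.IsProjQMapOn u p chart p' chart' (RelProj.domQ u p' chart') v ↔
      ∀ c : Ch g 𝒮, lift u p' chart' c ≫ v = R u p chart c :=
  ⟨fun h c => h c.U c.hU c.U' c.hU' c.hle c.d c.hd c.f c.hf _,
    fun h U hU U' hU' hle d hd f hf _ => h ⟨U, hU, U', hU', hle, d, hd, f, hf⟩⟩

/-- `k` refines `c`: the chart of `k` factors through that of `c`, compatibly with the local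
pieces. -/
def Refines (k c : Ch g 𝒮) : Prop :=
  ∃ τ : Spec (ring u k) ⟶ Spec (ring u c),
    E u p' chart' k = τ ≫ E u p' chart' c ∧ R u p chart k = τ ≫ R u p chart c

variable {u p chart p' chart'} in
theorem Refines.trans {k c b : Ch g 𝒮} (h1 : Refines u p chart p' chart' k c)
    (h2 : Refines u p chart p' chart' c b) : Refines u p chart p' chart' k b := by
  obtain ⟨τ₁, hE₁, hR₁⟩ := h1
  obtain ⟨τ₂, hE₂, hR₂⟩ := h2
  exact ⟨τ₁ ≫ τ₂, by rw [hE₁, hE₂, Category.assoc], by rw [hR₁, hR₂, Category.assoc]⟩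

theorem range_E_subset (x : P') (hx : x ∈ Set.range (E u p' chart' c).base) :
    p'.base x ∈ c.U' := by
  obtain ⟨w, rfl⟩ := hx
  exact emb_mem_preimage p' chart' c.U' c.hU' _

theorem mem_range_E_iff (x : P') :
    x ∈ Set.range (E u p' chart' c).base ↔
      ∃ z : Proj (𝒮'.deg c.U' c.hU'), z ∈ Proj.basicOpen (𝒮'.deg c.U' c.hU') (psi u c c.f) ∧
        (RelProj.emb p' chart' c.U' c.hU').base z = x := by
  constructor
  · rintro ⟨w, rfl⟩
    refine ⟨(Proj.awayι (𝒮'.deg c.U' c.hU') (psi u c c.f) ((psi u c).map_mem c.hf) c.hd).base w,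
      ?_, rfl⟩
    rw [← Proj.opensRange_awayι (𝒮'.deg c.U' c.hU') (psi u c c.f) ((psi u c).map_mem c.hf) c.hd]
    exact ⟨w, rfl⟩
  · rintro ⟨z, hz, rfl⟩
    rw [← Proj.opensRange_awayι (𝒮'.deg c.U' c.hU') (psi u c c.f) ((psi u c).map_mem c.hf) c.hd]
      at hz
    obtain ⟨w, rfl⟩ := hz
    exact ⟨w, rfl⟩

end charts

/-! ### the two refinement moves -/

section moves

variable {Y Y' : Scheme.{u}} {g : Y' ⟶ Y} {𝒮 : RelProj.QCGrAlg Y} {𝒮' : RelProj.QCGrAlg Y'}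
  (u : RelProj.QGrHom g 𝒮 𝒮')
  {P : Scheme.{u}} (p : P ⟶ Y)
  (chart : ∀ (U : Y.Opens) (hU : IsAffineOpen U),
    (((p ⁻¹ᵁ U : P.Opens) : Scheme.{u}) ≅ Proj (𝒮.deg U hU)))
  {P' : Scheme.{u}} (p' : P' ⟶ Y')
  (chart' : ∀ (U' : Y'.Opens) (hU' : IsAffineOpen U'),
    (((p' ⁻¹ᵁ U' : P'.Opens) : Scheme.{u}) ≅ Proj (𝒮'.deg U' hU')))
  (hP : RelProj.IsRelProj 𝒮 p chart) (hP' : RelProj.IsRelProj 𝒮' p' chart')

/-- restriction commutes with the maps of `u` -/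
theorem res_comm (c : Ch g 𝒮) {V : Y.Opens} {V' : Y'.Opens} (hVa : IsAffineOpen V)
    (hVa' : IsAffineOpen V') (hle' : V' ≤ g ⁻¹ᵁ V) (hVU : V ≤ c.U) (hVU' : V' ≤ c.U')
    (x : 𝒮.presheaf.obj (op c.U)) :
    𝒮'.res c.hU' hVa' hVU' (psi u c x) =
      u.gradedAt V hVa V' hVa' hle' (𝒮.res c.hU hVa hVU x) := by
  have h1 := u.appLE_map c.hle hVU'
  have h2 := u.map_appLE hVU hle'
  exact (congrArg (fun k => k.hom x) h1).trans (congrArg (fun k => k.hom x) h2).symm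

include hP hP' in
/-- move (R): restricting a chart to basic opens of `U` and `U'` -/
theorem refines_res (c : Ch g 𝒮) (a : Γ(Y, c.U)) (b : Γ(Y', c.U'))
    (V : Y.Opens) (V' : Y'.Opens) (hV : V = Y.basicOpen a) (hV' : V' = Y'.basicOpen b)
    (hVa : IsAffineOpen V) (hVa' : IsAffineOpen V') (hle' : V' ≤ g ⁻¹ᵁ V) (hVU : V ≤ c.U) :
    Refines u p chart p' chart' (c.restrict V V' hVa hVa' hle' hVU) c := by
  subst hV hV'
  unfold Ch.restrict
  have hcomm := res_comm u c hVa hVa' hle' hVU (Y'.basicOpen_le b)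
  refine ⟨Spec.map (CommRingCat.ofHom (awayMapEq (𝒮'.res c.hU' hVa' (Y'.basicOpen_le b))
    (psi u c c.f) _ (hcomm c.f))), ?_, ?_⟩
  · rw [E_eq, E_eq]
    dsimp only
    have h1 := awayι_comp_map_eq (𝒮'.res c.hU' hVa' (Y'.basicOpen_le b))
      (𝒮'.irrelevant_le_map c.U' c.hU' b) c.hd (psi u c c.f) ((psi u c).map_mem c.hf) _
      (hcomm c.f)
      ((u.gradedAt (Y.basicOpen a) hVa (Y'.basicOpen b) hVa' hle').map_mem
        ((𝒮.res c.hU hVa hVU).map_mem c.hf))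
    rw [← RelProj.map_res_emb hP' c.U' c.hU' b, reassoc_of% h1]
  · unfold R
    dsimp only
    have h1 := Proj.awayι_comp_map (𝒮.res c.hU hVa hVU) (𝒮.irrelevant_le_map c.U c.hU a) c.hd
      c.f c.hf
    have h2 := awayMapEq_comm (psi u c) (𝒮'.res c.hU' hVa' (Y'.basicOpen_le b))
      (𝒮.res c.hU hVa hVU) (u.gradedAt (Y.basicOpen a) hVa (Y'.basicOpen b) hVa' hle') hcomm c.f
    rw [← RelProj.map_res_emb hP c.U c.hU a, reassoc_of% h1, ← Spec.map_comp_assoc,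
      ← Spec.map_comp_assoc, ← CommRingCat.ofHom_comp, ← CommRingCat.ofHom_comp, h2]

/-- move (F): multiplying the element of a chart -/
theorem refines_mul (c : Ch g 𝒮) {e : ℕ} (f' : 𝒮.presheaf.obj (op c.U))
    (hf' : f' ∈ 𝒮.deg c.U c.hU e) (h : 𝒮.presheaf.obj (op c.U)) (hh : h = c.f * f') (n : ℕ)
    (hn : n = c.d + e) (hnpos : 0 < n) (hhn : h ∈ 𝒮.deg c.U c.hU n) :
    Refines u p chart p' chart' (c.mul n hnpos h hhn) c := by
  subst hn
  unfold Ch.mul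
  have hx' : psi u c h = psi u c c.f * psi u c f' := by rw [hh, map_mul]
  refine ⟨Spec.map (CommRingCat.ofHom (awayMap (𝒮'.deg c.U' c.hU') ((psi u c).map_mem hf') hx')),
    ?_, ?_⟩
  · rw [E_eq, E_eq]
    dsimp only
    have h1 := Proj.SpecMap_awayMap_awayι (𝒮'.deg c.U' c.hU') ((psi u c).map_mem c.hf) c.hd
      ((psi u c).map_mem hf') hx'
    exact ((reassoc_of% h1) _).symm
  · unfold R
    dsimp only
    have h1 := Proj.SpecMap_awayMap_awayι (𝒮.deg c.U c.hU) c.hf c.hd hf' hh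
    have h2 := awayMap_comp_map (psi u c) c.f f' c.hf hf' h hh hx'
    have e1 : Proj.awayι (𝒮.deg c.U c.hU) h hhn hnpos ≫ RelProj.emb p chart c.U c.hU =
        Spec.map (CommRingCat.ofHom (awayMap (𝒮.deg c.U c.hU) hf' hh)) ≫
          Proj.awayι (𝒮.deg c.U c.hU) c.f c.hf c.hd ≫ RelProj.emb p chart c.U c.hU :=
      ((reassoc_of% h1) _).symm
    have e2 : Spec.map (CommRingCat.ofHom (Away.map (psi u c) h)) ≫
        Spec.map (CommRingCat.ofHom (awayMap (𝒮.deg c.U c.hU) hf' hh)) =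
        Spec.map (CommRingCat.ofHom (awayMap (𝒮'.deg c.U' c.hU') ((psi u c).map_mem hf') hx')) ≫
          Spec.map (CommRingCat.ofHom (Away.map (psi u c) c.f)) := by
      rw [← Spec.map_comp, ← Spec.map_comp, ← CommRingCat.ofHom_comp, ← CommRingCat.ofHom_comp, h2]
    calc _ = Spec.map (CommRingCat.ofHom (Away.map (psi u c) h)) ≫
          Spec.map (CommRingCat.ofHom (awayMap (𝒮.deg c.U c.hU) hf' hh)) ≫
            Proj.awayι (𝒮.deg c.U c.hU) c.f c.hf c.hd ≫ RelProj.emb p chart c.U c.hU :=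
          congrArg (fun k => Spec.map (CommRingCat.ofHom (Away.map (psi u c) h)) ≫ k) e1
      _ = _ := by rw [← Category.assoc, e2, Category.assoc]

end moves

/-! ### membership in charts, common refinements -/

section glue

variable {Y Y' : Scheme.{u}} {g : Y' ⟶ Y} {𝒮 : RelProj.QCGrAlg Y} {𝒮' : RelProj.QCGrAlg Y'}
  (u : RelProj.QGrHom g 𝒮 𝒮')
  {P : Scheme.{u}} (p : P ⟶ Y)
  (chart : ∀ (U : Y.Opens) (hU : IsAffineOpen U),
    (((p ⁻¹ᵁ U : P.Opens) : Scheme.{u}) ≅ Proj (𝒮.deg U hU)))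
  {P' : Scheme.{u}} (p' : P' ⟶ Y')
  (chart' : ∀ (U' : Y'.Opens) (hU' : IsAffineOpen U'),
    (((p' ⁻¹ᵁ U' : P'.Opens) : Scheme.{u}) ≅ Proj (𝒮'.deg U' hU')))
  (hP : RelProj.IsRelProj 𝒮 p chart) (hP' : RelProj.IsRelProj 𝒮' p' chart')

include hP' in
theorem mem_range_E_res (c : Ch g 𝒮) (b : Γ(Y', c.U'))
    (V : Y.Opens) (V' : Y'.Opens) (hV' : V' = Y'.basicOpen b)
    (hVa : IsAffineOpen V) (hVa' : IsAffineOpen V') (hle' : V' ≤ g ⁻¹ᵁ V) (hVU : V ≤ c.U)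
    (x : P') (hx : x ∈ Set.range (E u p' chart' c).base) (hxV : p'.base x ∈ V') :
    x ∈ Set.range (E u p' chart' (c.restrict V V' hVa hVa' hle' hVU)).base := by
  subst hV'
  rw [mem_range_E_iff] at hx ⊢
  obtain ⟨z₁, hz₁, rfl⟩ := hx
  obtain ⟨z, hz⟩ := exists_emb_eq p' chart' (Y'.basicOpen b) hVa' _ hxV
  refine ⟨z, ?_, hz⟩
  have hres := RelProj.map_res_emb hP' c.U' c.hU' b
  have h1 : (RelProj.emb p' chart' c.U' c.hU').base
      ((Proj.map (𝒮'.res c.hU' hVa' (Y'.basicOpen_le b))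
        (𝒮'.irrelevant_le_map c.U' c.hU' b)).base z) =
      (RelProj.emb p' chart' c.U' c.hU').base z₁ :=
    (congrArg (fun k => k.base z) hres).trans hz
  have h2 := (RelProj.emb p' chart' c.U' c.hU').isOpenEmbedding.injective h1
  rw [← h2] at hz₁
  have h3 : z ∈ Proj.basicOpen (𝒮'.deg (Y'.basicOpen b) hVa')
      (𝒮'.res c.hU' hVa' (Y'.basicOpen_le b) (psi u c c.f)) := hz₁
  rw [res_comm u c hVa hVa' hle' hVU (Y'.basicOpen_le b)] at h3
  exact h3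

theorem common_mul (U : Y.Opens) (hU : IsAffineOpen U) (U' : Y'.Opens) (hU' : IsAffineOpen U')
    (hle : U' ≤ g ⁻¹ᵁ U) {d₁ d₂ : ℕ} (hd₁ : 0 < d₁) (hd₂ : 0 < d₂)
    (f₁ f₂ : 𝒮.presheaf.obj (op U)) (hf₁ : f₁ ∈ 𝒮.deg U hU d₁) (hf₂ : f₂ ∈ 𝒮.deg U hU d₂) (x : P')
    (h1 : x ∈ Set.range (E u p' chart' ⟨U, hU, U', hU', hle, d₁, hd₁, f₁, hf₁⟩).base)
    (h2 : x ∈ Set.range (E u p' chart' ⟨U, hU, U', hU', hle, d₂, hd₂, f₂, hf₂⟩).base) :
    ∃ k : Ch g 𝒮, Refines u p chart p' chart' k ⟨U, hU, U', hU', hle, d₁, hd₁, f₁, hf₁⟩ ∧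
      Refines u p chart p' chart' k ⟨U, hU, U', hU', hle, d₂, hd₂, f₂, hf₂⟩ ∧
      x ∈ Set.range (E u p' chart' k).base := by
  have hd : 0 < d₁ + d₂ := Nat.add_pos_left hd₁ _
  have hmem : f₁ * f₂ ∈ 𝒮.deg U hU (d₁ + d₂) := SetLike.mul_mem_graded hf₁ hf₂
  refine ⟨⟨U, hU, U', hU', hle, d₁ + d₂, hd, f₁ * f₂, hmem⟩, ?_, ?_, ?_⟩
  · exact refines_mul u p chart p' chart' ⟨U, hU, U', hU', hle, d₁, hd₁, f₁, hf₁⟩ f₂ hf₂
      (f₁ * f₂) rfl (d₁ + d₂) rfl hd hmem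
  · exact refines_mul u p chart p' chart' ⟨U, hU, U', hU', hle, d₂, hd₂, f₂, hf₂⟩ f₁ hf₁
      (f₁ * f₂) (mul_comm f₁ f₂) (d₁ + d₂) (add_comm d₁ d₂) hd hmem
  · rw [mem_range_E_iff] at h1 h2 ⊢
    obtain ⟨z₁, hz₁, rfl⟩ := h1
    obtain ⟨z₂, hz₂, hz₂x⟩ := h2
    have hzz : z₂ = z₁ := (RelProj.emb p' chart' U' hU').isOpenEmbedding.injective hz₂x
    subst hzz
    refine ⟨z₂, ?_, rfl⟩
    dsimp only [psi] at hz₁ hz₂ ⊢
    rw [map_mul, Proj.basicOpen_mul]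
    exact ⟨hz₁, hz₂⟩

include hP hP' in
theorem common_refinement (c₁ c₂ : Ch g 𝒮) (x : P')
    (h1 : x ∈ Set.range (E u p' chart' c₁).base) (h2 : x ∈ Set.range (E u p' chart' c₂).base) :
    ∃ k : Ch g 𝒮, Refines u p chart p' chart' k c₁ ∧ Refines u p chart p' chart' k c₂ ∧
      x ∈ Set.range (E u p' chart' k).base := by
  have hx1 : p'.base x ∈ c₁.U' := range_E_subset u p' chart' c₁ x h1
  have hx2 : p'.base x ∈ c₂.U' := range_E_subset u p' chart' c₂ x h2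
  have hy1 : g.base (p'.base x) ∈ c₁.U := c₁.hle hx1
  have hy2 : g.base (p'.base x) ∈ c₂.U := c₂.hle hx2
  obtain ⟨a₁, a₂, hV, hyV⟩ := exists_basicOpen_le_affine_inter c₁.hU c₂.hU _ ⟨hy1, hy2⟩
  have hVa : IsAffineOpen (Y.basicOpen a₁) := c₁.hU.basicOpen a₁
  have hVU₂ : Y.basicOpen a₁ ≤ c₂.U := hV ▸ Y.basicOpen_le a₂
  have hb₁ := Scheme.basicOpen_appLE g c₁.U' c₁.U c₁.hle a₁
  have hb₂ := Scheme.basicOpen_appLE g c₂.U' c₂.U c₂.hle a₂
  have hxb₁ : p'.base x ∈ Y'.basicOpen (g.appLE c₁.U c₁.U' c₁.hle a₁) := by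
    rw [hb₁]; exact ⟨hx1, hyV⟩
  have hxb₂ : p'.base x ∈ Y'.basicOpen (g.appLE c₂.U c₂.U' c₂.hle a₂) := by
    rw [hb₂]; exact ⟨hx2, hV ▸ hyV⟩
  have hle₁ : Y'.basicOpen (g.appLE c₁.U c₁.U' c₁.hle a₁) ≤ g ⁻¹ᵁ Y.basicOpen a₁ := by
    rw [hb₁]; exact inf_le_right
  have hle₂ : Y'.basicOpen (g.appLE c₂.U c₂.U' c₂.hle a₂) ≤ g ⁻¹ᵁ Y.basicOpen a₁ := by
    rw [hb₂, hV]; exact inf_le_right
  obtain ⟨e₁, e₂, hV', hyV'⟩ := exists_basicOpen_le_affine_inter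
    (c₁.hU'.basicOpen (g.appLE c₁.U c₁.U' c₁.hle a₁))
    (c₂.hU'.basicOpen (g.appLE c₂.U c₂.U' c₂.hle a₂)) (p'.base x) ⟨hxb₁, hxb₂⟩
  have hVa' : IsAffineOpen (Y'.basicOpen e₁) :=
    (c₁.hU'.basicOpen (g.appLE c₁.U c₁.U' c₁.hle a₁)).basicOpen e₁
  have hle' : Y'.basicOpen e₁ ≤ g ⁻¹ᵁ Y.basicOpen a₁ := (Y'.basicOpen_le e₁).trans hle₁
  -- first restriction
  have r₁' := refines_res u p chart p' chart' hP hP' c₁ a₁ (g.appLE c₁.U c₁.U' c₁.hle a₁)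
    (Y.basicOpen a₁) _ rfl rfl hVa (c₁.hU'.basicOpen _) hle₁ (Y.basicOpen_le a₁)
  have m₁' := mem_range_E_res u p' chart' hP' c₁ (g.appLE c₁.U c₁.U' c₁.hle a₁)
    (Y.basicOpen a₁) _ rfl hVa (c₁.hU'.basicOpen _) hle₁ (Y.basicOpen_le a₁) x h1 hxb₁
  have r₂' := refines_res u p chart p' chart' hP hP' c₂ a₂ (g.appLE c₂.U c₂.U' c₂.hle a₂)
    (Y.basicOpen a₁) _ hV rfl hVa (c₂.hU'.basicOpen _) hle₂ hVU₂
  have m₂' := mem_range_E_res u p' chart' hP' c₂ (g.appLE c₂.U c₂.U' c₂.hle a₂)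
    (Y.basicOpen a₁) _ rfl hVa (c₂.hU'.basicOpen _) hle₂ hVU₂ x h2 hxb₂
  -- second restriction
  have h1V : Y.basicOpen a₁ = Y.basicOpen (1 : Γ(Y, Y.basicOpen a₁)) := by simp
  have r₁ := refines_res u p chart p' chart' hP hP' _ (1 : Γ(Y, Y.basicOpen a₁)) e₁
    (Y.basicOpen a₁) (Y'.basicOpen e₁) h1V rfl hVa hVa' hle' le_rfl |>.trans r₁'
  have m₁ := mem_range_E_res u p' chart' hP' _ e₁
    (Y.basicOpen a₁) (Y'.basicOpen e₁) rfl hVa hVa' hle' le_rfl x m₁' hyV'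
  have r₂ := refines_res u p chart p' chart' hP hP' _ (1 : Γ(Y, Y.basicOpen a₁)) e₂
    (Y.basicOpen a₁) (Y'.basicOpen e₁) h1V hV' hVa hVa' hle' le_rfl |>.trans r₂'
  have m₂ := mem_range_E_res u p' chart' hP' _ e₂
    (Y.basicOpen a₁) (Y'.basicOpen e₁) hV' hVa hVa' hle' le_rfl x m₂' hyV'
  -- product
  obtain ⟨k, hk₁, hk₂, hxk⟩ := common_mul u p chart p' chart' (Y.basicOpen a₁) hVa
    (Y'.basicOpen e₁) hVa' hle' _ _ _ _ _ _ x m₁ m₂
  exact ⟨k, hk₁.trans r₁, hk₂.trans r₂, hxk⟩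

end glue

/-! ### existence and uniqueness -/

section main

variable {Y Y' : Scheme.{u}} {g : Y' ⟶ Y} {𝒮 : RelProj.QCGrAlg Y} {𝒮' : RelProj.QCGrAlg Y'}
  (u : RelProj.QGrHom g 𝒮 𝒮')
  {P : Scheme.{u}} (p : P ⟶ Y)
  (chart : ∀ (U : Y.Opens) (hU : IsAffineOpen U),
    (((p ⁻¹ᵁ U : P.Opens) : Scheme.{u}) ≅ Proj (𝒮.deg U hU)))
  {P' : Scheme.{u}} (p' : P' ⟶ Y')
  (chart' : ∀ (U' : Y'.Opens) (hU' : IsAffineOpen U'),
    (((p' ⁻¹ᵁ U' : P'.Opens) : Scheme.{u}) ≅ Proj (𝒮'.deg U' hU')))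
  (hP : RelProj.IsRelProj 𝒮 p chart) (hP' : RelProj.IsRelProj 𝒮' p' chart')

/-- every point of `G(u)` lies in a standard chart -/
theorem exists_chart (x : P') (hx : x ∈ RelProj.domQ u p' chart') :
    ∃ c : Ch g 𝒮, x ∈ Set.range (E u p' chart' c).base := by
  unfold RelProj.domQ at hx
  rw [Opens.mem_iSup] at hx
  obtain ⟨⟨⟨⟨U, hU⟩, ⟨U', hU'⟩⟩, hle⟩, z, hz, rfl⟩ := hx
  obtain ⟨f, hf, hfz⟩ := (RelCone.mem_domOpen _ _).mp hz
  obtain ⟨i, hi, hfi⟩ := exists_pos_decompose_not_mem (𝒮.deg U hU)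
    (Ideal.comap (u.gradedAt U hU U' hU' hle).toRingHom z.asHomogeneousIdeal.toIdeal) hf hfz
  refine ⟨⟨U, hU, U', hU', hle, i, hi, (DirectSum.decompose (𝒮.deg U hU) f i : _),
    SetLike.coe_mem _⟩, ?_⟩
  rw [mem_range_E_iff]
  exact ⟨z, hfi, rfl⟩

theorem mem_opensRange_lift_iff (c : Ch g 𝒮)
    (x : ((RelProj.domQ u p' chart' : P'.Opens) : Scheme.{u})) :
    x ∈ (lift u p' chart' c).opensRange ↔
      (RelProj.domQ u p' chart').ι.base x ∈ Set.range (E u p' chart' c).base := by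
  constructor
  · rintro ⟨w, rfl⟩
    exact ⟨w, (congrArg (fun k => k.base w) (lift_ι u p' chart' c)).symm⟩
  · rintro ⟨w, hw⟩
    refine ⟨w, (RelProj.domQ u p' chart').ι.isOpenEmbedding.injective ?_⟩
    exact (congrArg (fun k => k.base w) (lift_ι u p' chart' c)).trans hw

/-- morphisms out of `G(u)` agreeing on all standard charts are equal -/
theorem hom_ext_charts {Z : Scheme.{u}}
    (a b : ((RelProj.domQ u p' chart' : P'.Opens) : Scheme.{u}) ⟶ Z)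
    (h : ∀ c : Ch g 𝒮, lift u p' chart' c ≫ a = lift u p' chart' c ≫ b) : a = b := by
  let 𝒰 : ((RelProj.domQ u p' chart' : P'.Opens) : Scheme.{u}).OpenCover :=
    { I₀ := Ch g 𝒮
      X := fun c => Spec (ring u c)
      f := fun c => lift u p' chart' c
      mem₀ := by
        rw [Scheme.presieve₀_mem_precoverage_iff]
        refine ⟨fun x => ?_, fun c => inferInstance⟩
        obtain ⟨c, hc⟩ := exists_chart u p' chart' x.1 x.2
        exact ⟨c, (mem_opensRange_lift_iff u p' chart' c x).mpr hc⟩ }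
  exact 𝒰.hom_ext a b h

theorem refines_lift {k c : Ch g 𝒮}
    (τ : Spec (ring u k) ⟶ Spec (ring u c)) (hE : E u p' chart' k = τ ≫ E u p' chart' c) :
    lift u p' chart' k = τ ≫ lift u p' chart' c := by
  rw [← cancel_mono (RelProj.domQ u p' chart').ι, Category.assoc, lift_ι, lift_ι, hE]

include hP hP' in
/-- existence and uniqueness of `Proj(u)` on `G(u)` -/
theorem existsUnique_isProjQMapOn :
    ∃! v : ((RelProj.domQ u p' chart' : P'.Opens) : Scheme.{u}) ⟶ P,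
      RelProj.IsProjQMapOn u p chart p' chart' (RelProj.domQ u p' chart') v := by
  have hcov : IsOpenCover (fun c : Ch g 𝒮 => (lift u p' chart' c).opensRange) := by
    refine IsOpenCover.mk (eq_top_iff.mpr fun x _ => ?_)
    obtain ⟨c, hc⟩ := exists_chart u p' chart' x.1 x.2
    exact Opens.mem_iSup.mpr ⟨c, (mem_opensRange_lift_iff u p' chart' c x).mpr hc⟩
  have key : ∀ k c : Ch g 𝒮, Refines u p chart p' chart' k c →
      ∃ hle : (lift u p' chart' k).opensRange ≤ (lift u p' chart' c).opensRange,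
        Scheme.homOfLE _ hle ≫ ((lift u p' chart' c).isoOpensRange.inv ≫ R u p chart c) =
          (lift u p' chart' k).isoOpensRange.inv ≫ R u p chart k := by
    rintro k c ⟨τ, hE, hR⟩
    have hl := refines_lift u p' chart' τ hE
    have hle : (lift u p' chart' k).opensRange ≤ (lift u p' chart' c).opensRange := by
      rintro _ ⟨w, rfl⟩
      exact ⟨τ.base w, (congrArg (fun q => q.base w) hl).symm⟩
    refine ⟨hle, ?_⟩
    rw [← cancel_epi (lift u p' chart' k).isoOpensRange.hom, Iso.hom_inv_id_assoc, hR]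
    have h3 : (lift u p' chart' k).isoOpensRange.hom ≫ Scheme.homOfLE _ hle =
        τ ≫ (lift u p' chart' c).isoOpensRange.hom := by
      rw [← cancel_mono (lift u p' chart' c).opensRange.ι, Category.assoc, Category.assoc,
        Scheme.homOfLE_ι, Scheme.Hom.isoOpensRange_hom_ι, Scheme.Hom.isoOpensRange_hom_ι, hl]
    rw [reassoc_of% h3, Iso.hom_inv_id_assoc]
  obtain ⟨v, hv, huniq⟩ := GlueOpens.existsUnique_glue
    (fun c : Ch g 𝒮 => (lift u p' chart' c).opensRange) hcov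
    (fun c => (lift u p' chart' c).isoOpensRange.inv ≫ R u p chart c) (by
      intro c₁ c₂ x hx
      obtain ⟨k, hk₁, hk₂, hxk⟩ := common_refinement u p chart p' chart' hP hP' c₁ c₂ _
        ((mem_opensRange_lift_iff u p' chart' c₁ x).mp hx.1)
        ((mem_opensRange_lift_iff u p' chart' c₂ x).mp hx.2)
      obtain ⟨h1, e1⟩ := key k c₁ hk₁
      obtain ⟨h2, e2⟩ := key k c₂ hk₂
      exact ⟨_, h1, h2, (mem_opensRange_lift_iff u p' chart' k x).mpr hxk, e1.trans e2.symm⟩)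
  refine ⟨v, (isProjQMapOn_iff u p chart p' chart' v).mpr fun c => ?_, fun v' hv' =>
    huniq v' fun c => ?_⟩
  · have h := hv c
    rw [← Scheme.Hom.isoOpensRange_hom_ι (lift u p' chart' c), Category.assoc, h,
      Iso.hom_inv_id_assoc]
  · have h := (isProjQMapOn_iff u p chart p' chart' v').mp hv' c
    rw [← h, ← Category.assoc, Scheme.Hom.isoOpensRange_inv_comp]

include hP hP' in
/-- the local pieces are morphisms over `g` -/
theorem R_over (c : Ch g 𝒮) : R u p chart c ≫ p = E u p' chart' c ≫ p' ≫ g := by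
  have e1 : RelProj.emb p chart c.U c.hU ≫ p = Proj.toSpecZero (𝒮.deg c.U c.hU) ≫
      Spec.map (𝒮.strZero c.U c.hU) ≫ c.hU.fromSpec := by
    rw [RelProj.emb, Category.assoc, ← hP.chart_over c.U c.hU, Iso.inv_hom_id_assoc]
  have e2 : RelProj.emb p' chart' c.U' c.hU' ≫ p' = Proj.toSpecZero (𝒮'.deg c.U' c.hU') ≫
      Spec.map (𝒮'.strZero c.U' c.hU') ≫ c.hU'.fromSpec := by
    rw [RelProj.emb, Category.assoc, ← hP'.chart_over c.U' c.hU', Iso.inv_hom_id_assoc]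
  have hring : 𝒮.strZero c.U c.hU ≫
      CommRingCat.ofHom (fromZeroRingHom (𝒮.deg c.U c.hU) (Submonoid.powers c.f)) ≫
        CommRingCat.ofHom (Away.map (psi u c) c.f) =
      g.appLE c.U c.U' c.hle ≫ 𝒮'.strZero c.U' c.hU' ≫
        CommRingCat.ofHom (fromZeroRingHom (𝒮'.deg c.U' c.hU')
          (Submonoid.powers (psi u c c.f))) := by
    refine CommRingCat.hom_ext (RingHom.ext fun r => ?_)
    show Away.map (psi u c) c.f (fromZeroRingHom _ _ ((𝒮.strZero c.U c.hU).hom r)) =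
      fromZeroRingHom _ _ ((𝒮'.strZero c.U' c.hU').hom ((g.appLE c.U c.U' c.hle).hom r))
    rw [away_map_fromZero]
    congr 1
    apply Subtype.ext
    exact congrArg (fun k => k.hom r) (u.str_appLE c.U c.U' c.hle)
  have hS := congrArg (fun k => Spec.map k ≫ c.hU.fromSpec) hring
  simp only [Spec.map_comp, Category.assoc] at hS
  rw [E_eq, R]
  simp only [Category.assoc]
  rw [e1, reassoc_of% e2, Proj.awayι_toSpecZero_assoc, Proj.awayι_toSpecZero_assoc,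
    ← IsAffineOpen.SpecMap_appLE_fromSpec g c.hU c.hU' c.hle]
  exact hS

include hP hP' in
theorem isProjQMapOn_over (v : ((RelProj.domQ u p' chart' : P'.Opens) : Scheme.{u}) ⟶ P)
    (hv : RelProj.IsProjQMapOn u p chart p' chart' (RelProj.domQ u p' chart') v) :
    v ≫ p = (RelProj.domQ u p' chart').ι ≫ p' ≫ g := by
  refine hom_ext_charts u p' chart' _ _ fun c => ?_
  rw [← Category.assoc, (isProjQMapOn_iff u p chart p' chart' v).mp hv c, lift_ι_assoc]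
  exact R_over u p chart p' chart' hP hP' c

end main

end Groth.Agent.H41.ProjQ
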