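import Groth.Agent.H41.ProjQ9

/-!
# Functoriality: `Proj(u ∘ v) = Proj(v) ∘ Proj(u)` on `G(u ∘ v)`
-/

set_option autoImplicit false
set_option linter.style.haveILetI false
universe u

open CategoryTheory CategoryTheory.Limits AlgebraicGeometry TopologicalSpace Opposite
open HomogeneousLocalization
open scoped HomogeneousIdeal

noncomputable section

namespace Groth.Agent.H41.ProjQ

open Groth.Agent.H41.RelConeLib Groth.Agent.H41.ProjConeLib Groth.Agent.H41.RelProjLib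

/-! ### ring level -/

section ring

variable {A B C : Type u} [CommRing A] [CommRing B] [CommRing C]
  {𝒜 : ℕ → AddSubgroup A} {ℬ : ℕ → AddSubgroup B} {𝒞 : ℕ → AddSubgroup C}
  [GradedRing 𝒜] [GradedRing ℬ] [GradedRing 𝒞]

theorem awayMapEq_id_self (t : A) :
    awayMapEq (GradedRingHom.id 𝒜) t t rfl = RingHom.id _ := by
  show Away.map (GradedRingHom.id 𝒜) t = _
  rw [Away.map_id]

theorem away_map_comp_cast (α : 𝒜 →+*ᵍ ℬ) (β : ℬ →+*ᵍ 𝒞) (γ : 𝒜 →+*ᵍ 𝒞)
    (hγ : ∀ x, γ x = β (α x)) (g : A) (vg : B)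
    (h₂ : (GradedRingHom.id ℬ) (α g) = vg) (h₁ : (GradedRingHom.id 𝒞) (β vg) = γ g) :
    (awayMapEq (GradedRingHom.id 𝒞) (β vg) (γ g) h₁).comp
      ((Away.map β vg).comp
        ((awayMapEq (GradedRingHom.id ℬ) (α g) vg h₂).comp (Away.map α g))) = Away.map γ g := by
  have hγ' : γ = β.comp α := GradedRingHom.ext hγ
  subst hγ'
  have h₂' : α g = vg := h₂
  subst h₂'
  show (awayMapEq (GradedRingHom.id 𝒞) (β (α g)) (β (α g)) rfl).comp
      ((Away.map β (α g)).comp
        ((awayMapEq (GradedRingHom.id ℬ) (α g) (α g) rfl).comp (Away.map α g))) =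
      Away.map (β.comp α) g
  rw [awayMapEq_id_self, awayMapEq_id_self, RingHom.id_comp, RingHom.id_comp]
  exact (Away.map_comp α β g).symm

theorem spec_map_comp4 {R₁ R₂ R₃ R₄ R₅ : Type u} [CommRing R₁] [CommRing R₂] [CommRing R₃]
    [CommRing R₄] [CommRing R₅] (n : R₁ →+* R₂) (a₂ : R₂ →+* R₃) (m : R₃ →+* R₄)
    (a₁ : R₄ →+* R₅) :
    (Spec.map (CommRingCat.ofHom a₁) ≫ Spec.map (CommRingCat.ofHom m) ≫
        Spec.map (CommRingCat.ofHom a₂)) ≫ Spec.map (CommRingCat.ofHom n) =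
      Spec.map (CommRingCat.ofHom (a₁.comp (m.comp (a₂.comp n)))) := by
  simp only [← Spec.map_comp, ← CommRingCat.ofHom_comp]

end ring

/-! ### a topological lemma -/

section openimm

theorem isIso_of_comp_of_surjective {R S T : CommRingCat.{u}} (a : R ⟶ S) (b : S ⟶ T)
    (h : IsIso (a ≫ b)) (ha : Function.Surjective a) : IsIso b := by
  have hbij : Function.Bijective (a ≫ b) := (ConcreteCategory.isIso_iff_bijective _).mp h
  have hinj : Function.Injective a := by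
    intro x y hxy
    apply hbij.1
    show b (a x) = b (a y)
    rw [hxy]
  haveI : IsIso a := (ConcreteCategory.isIso_iff_bijective _).mpr ⟨hinj, ha⟩
  haveI := h
  exact IsIso.of_isIso_comp_left a b

/-- if `f ≫ g` is an open immersion and `g` a closed immersion then `f` is an open immersion -/
theorem isOpenImmersion_of_comp_isClosedImmersion {A B C : Scheme.{u}} (f : A ⟶ B) (g : B ⟶ C)
    [IsClosedImmersion g] [IsOpenImmersion (f ≫ g)] : IsOpenImmersion f := by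
  have hfg : Topology.IsOpenEmbedding (f ≫ g).base := (f ≫ g).isOpenEmbedding
  have hg : Topology.IsClosedEmbedding g.base := g.isClosedEmbedding
  have hcomp : ((f ≫ g).base : A → C) = g.base ∘ f.base := rfl
  have hf : Topology.IsOpenEmbedding f.base := by
    have hemb : Topology.IsEmbedding f.base := by
      have h1 : Topology.IsEmbedding (g.base ∘ f.base) := by
        rw [← hcomp]; exact hfg.isEmbedding
      exact hg.isEmbedding.of_comp_iff.mp h1
    refine ⟨hemb, ?_⟩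
    have hrange : Set.range f.base = g.base ⁻¹' (Set.range (f ≫ g).base) := by
      ext y
      constructor
      · rintro ⟨x, rfl⟩
        exact ⟨x, rfl⟩
      · rintro ⟨x, hx⟩
        exact ⟨x, hg.injective hx⟩
    rw [hrange]
    exact hfg.isOpen_range.preimage g.continuous
  haveI : ∀ x, IsIso (f.stalkMap x) := by
    intro x
    have hiso : IsIso ((f ≫ g).stalkMap x) := inferInstance
    rw [Scheme.Hom.stalkMap_comp] at hiso
    exact isIso_of_comp_of_surjective _ _ hiso (g.stalkMap_surjective _)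
  exact IsOpenImmersion.of_isIso_stalkMap f hf

end openimm

/-! ### functoriality -/

section functorial

variable {Y X : Scheme.{u}} {q : X ⟶ Y} {𝒯 𝒮 : RelProj.QCGrAlg Y} {𝒮L : RelProj.QCGrAlg X}
  (u : RelProj.QGrHom q 𝒮 𝒮L) (v : 𝒯.toQCAlg ⟶ 𝒮.toQCAlg) (hv : RelProj.IsGradedHom v)
  (u' : RelProj.QGrHom q 𝒯 𝒮L)
  (hu' : ∀ U : Y.Opens, u'.app U = v.hom.app (op U) ≫ u.app U)
  {P P' PL : Scheme.{u}} (p : P ⟶ Y)
  (chart : ∀ (U : Y.Opens) (hU : IsAffineOpen U),
    (((p ⁻¹ᵁ U : P.Opens) : Scheme.{u}) ≅ Proj (𝒮.deg U hU)))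
  (p' : P' ⟶ Y)
  (chart' : ∀ (U : Y.Opens) (hU : IsAffineOpen U),
    (((p' ⁻¹ᵁ U : P'.Opens) : Scheme.{u}) ≅ Proj (𝒯.deg U hU)))
  (pL : PL ⟶ X)
  (chartL : ∀ (V : X.Opens) (hV : IsAffineOpen V),
    (((pL ⁻¹ᵁ V : PL.Opens) : Scheme.{u}) ≅ Proj (𝒮L.deg V hV)))
  (r : ((RelProj.domQ u pL chartL : PL.Opens) : Scheme.{u}) ⟶ P)
  (hr : RelProj.IsProjQMapOn u p chart pL chartL (RelProj.domQ u pL chartL) r)
  (r' : ((RelProj.domQ u' pL chartL : PL.Opens) : Scheme.{u}) ⟶ P')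
  (hr' : RelProj.IsProjQMapOn u' p' chart' pL chartL (RelProj.domQ u' pL chartL) r')
  (ρ : ((RelProj.domQ (RelProj.QGrHom.ofHom v hv) p chart : P.Opens) : Scheme.{u}) ⟶ P')
  (hρ : RelProj.IsProjQMapOn (RelProj.QGrHom.ofHom v hv) p' chart' p chart
    (RelProj.domQ (RelProj.QGrHom.ofHom v hv) p chart) ρ)

include hr in
/-- the chart computation behind functoriality -/
theorem exists_tau (U : Y.Opens) (hU : IsAffineOpen U) (V : X.Opens) (hV : IsAffineOpen V)
    (hle : V ≤ q ⁻¹ᵁ U) {d : ℕ} (hd : 0 < d) (g : 𝒯.presheaf.obj (op U))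
    (hg : g ∈ 𝒯.deg U hU d) :
    ∃ τ : Spec (ring u' ⟨U, hU, V, hV, hle, d, hd, g, hg⟩) ⟶
        Spec (ring (RelProj.QGrHom.ofHom v hv) (diag U hU hd g hg)),
      lift u' pL chartL ⟨U, hU, V, hV, hle, d, hd, g, hg⟩ ≫
          PL.homOfLE (domQ_comp_le u v u' hu' hv pL chartL) ≫ r =
        τ ≫ E (RelProj.QGrHom.ofHom v hv) p chart (diag U hU hd g hg) ∧
      τ ≫ Spec.map (CommRingCat.ofHom (Away.map
          ((RelProj.QGrHom.ofHom v hv).gradedAt U hU U hU (le_id U)) g)) =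
        Spec.map (CommRingCat.ofHom (Away.map (u'.gradedAt U hU V hV hle) g)) := by
  have hvg : (v.hom.app (op U)).hom g ∈ 𝒮.deg U hU d := hv U hU d g hg
  have h₁ : (GradedRingHom.id (𝒮L.deg V hV))
      ((u.gradedAt U hU V hV hle) ((v.hom.app (op U)).hom g)) =
      (u'.gradedAt U hU V hV hle) g :=
    (appLE_comp_apply u v u' hu' U V hle g).symm
  have h₂ : (GradedRingHom.id (𝒮.deg U hU))
      (((RelProj.QGrHom.ofHom v hv).gradedAt U hU U hU (le_id U)) g) =
      (v.hom.app (op U)).hom g :=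
    gradedAt_self_apply v hv U hU (le_id U) g
  refine ⟨Spec.map (CommRingCat.ofHom (awayMapEq (GradedRingHom.id (𝒮L.deg V hV)) _ _ h₁)) ≫
    Spec.map (CommRingCat.ofHom (Away.map (u.gradedAt U hU V hV hle)
      ((v.hom.app (op U)).hom g))) ≫
    Spec.map (CommRingCat.ofHom (awayMapEq (GradedRingHom.id (𝒮.deg U hU)) _ _ h₂)), ?_, ?_⟩
  · have s1 : E u' pL chartL ⟨U, hU, V, hV, hle, d, hd, g, hg⟩ =
        Spec.map (CommRingCat.ofHom (awayMapEq (GradedRingHom.id (𝒮L.deg V hV)) _ _ h₁)) ≫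
          E u pL chartL ⟨U, hU, V, hV, hle, d, hd, (v.hom.app (op U)).hom g, hvg⟩ := by
      rw [E_eq, E_eq]
      have hc := awayι_cast hd _ _ h₁ ((u.gradedAt U hU V hV hle).map_mem hvg)
        ((u'.gradedAt U hU V hV hle).map_mem hg)
      exact (congrArg (fun k => k ≫ RelProj.emb pL chartL V hV) hc).symm.trans
        (Category.assoc _ _ _)
    have s2 : lift u' pL chartL ⟨U, hU, V, hV, hle, d, hd, g, hg⟩ ≫
        PL.homOfLE (domQ_comp_le u v u' hu' hv pL chartL) =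
        Spec.map (CommRingCat.ofHom (awayMapEq (GradedRingHom.id (𝒮L.deg V hV)) _ _ h₁)) ≫
          lift u pL chartL ⟨U, hU, V, hV, hle, d, hd, (v.hom.app (op U)).hom g, hvg⟩ := by
      rw [← cancel_mono (RelProj.domQ u pL chartL).ι, Category.assoc, Scheme.homOfLE_ι, lift_ι,
        Category.assoc, lift_ι, s1]
    have s3 : lift u pL chartL ⟨U, hU, V, hV, hle, d, hd, (v.hom.app (op U)).hom g, hvg⟩ ≫ r =
        R u p chart ⟨U, hU, V, hV, hle, d, hd, (v.hom.app (op U)).hom g, hvg⟩ :=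
      (isProjQMapOn_iff u p chart pL chartL r).mp hr _
    have s4 : Spec.map (CommRingCat.ofHom (awayMapEq (GradedRingHom.id (𝒮.deg U hU)) _ _ h₂)) ≫
        E (RelProj.QGrHom.ofHom v hv) p chart (diag U hU hd g hg) =
        Proj.awayι (𝒮.deg U hU) ((v.hom.app (op U)).hom g) hvg hd ≫
          RelProj.emb p chart U hU := by
      rw [E_eq]
      have hc := awayι_cast hd _ _ h₂
        (((RelProj.QGrHom.ofHom v hv).gradedAt U hU U hU (le_id U)).map_mem hg) hvg
      exact (Category.assoc _ _ _).symm.trans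
        (congrArg (fun k => k ≫ RelProj.emb p chart U hU) hc)
    rw [← Category.assoc, s2, Category.assoc, s3]
    unfold R
    dsimp only
    rw [← s4]
    simp only [Category.assoc]
    rfl
  · rw [spec_map_comp4]
    exact congrArg (fun k => Spec.map (CommRingCat.ofHom k))
      (away_map_comp_cast ((RelProj.QGrHom.ofHom v hv).gradedAt U hU U hU (le_id U))
        (u.gradedAt U hU V hV hle) (u'.gradedAt U hU V hV hle)
        (fun x => (appLE_comp_apply u v u' hu' U V hle x).trans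
          (congrArg (fun y => (u.appLE U V hle).hom y)
            (gradedAt_self_apply v hv U hU (le_id U) x)).symm)
        g ((v.hom.app (op U)).hom g) h₂ h₁)

include hr hr' hρ in
/-- functoriality: on `G(u ∘ v) ⊆ G(u)`, `Proj(u)` lands in `G(v)` and
`Proj(u ∘ v) = Proj(v) ∘ Proj(u)` -/
theorem exists_factor :
    ∃ r₀ : ((RelProj.domQ u' pL chartL : PL.Opens) : Scheme.{u}) ⟶
        ((RelProj.domQ (RelProj.QGrHom.ofHom v hv) p chart : P.Opens) : Scheme.{u}),
      r₀ ≫ (RelProj.domQ (RelProj.QGrHom.ofHom v hv) p chart).ι =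
        PL.homOfLE (domQ_comp_le u v u' hu' hv pL chartL) ≫ r ∧ r₀ ≫ ρ = r' := by
  have hrange : Set.range (PL.homOfLE (domQ_comp_le u v u' hu' hv pL chartL) ≫ r).base ⊆
      Set.range (RelProj.domQ (RelProj.QGrHom.ofHom v hv) p chart).ι.base := by
    rintro _ ⟨w', rfl⟩
    obtain ⟨c', hc'⟩ := exists_chart u' pL chartL
      ((RelProj.domQ u' pL chartL).ι.base w') w'.2
    obtain ⟨y, hy⟩ := (mem_opensRange_lift_iff u' pL chartL c' w').mpr hc'
    obtain ⟨U, hU, V, hV, hle, d, hd, g, hg⟩ := c'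
    obtain ⟨τ, h1, -⟩ := exists_tau u v hv u' hu' p chart pL chartL r hr U hU V hV hle hd g hg
    have hy' : (lift u' pL chartL ⟨U, hU, V, hV, hle, d, hd, g, hg⟩).base y = w' := hy
    have e : (PL.homOfLE (domQ_comp_le u v u' hu' hv pL chartL) ≫ r).base w' =
        (E (RelProj.QGrHom.ofHom v hv) p chart (diag U hU hd g hg)).base (τ.base y) := by
      rw [← hy']
      exact congrArg (fun k => k.base y) h1
    rw [e]
    exact RelProj.range_awayEmb_subset_domQ (RelProj.QGrHom.ofHom v hv) p chart U hU U hU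
      (le_id U) hd g hg ⟨τ.base y, rfl⟩
  refine ⟨IsOpenImmersion.lift (RelProj.domQ (RelProj.QGrHom.ofHom v hv) p chart).ι
    (PL.homOfLE (domQ_comp_le u v u' hu' hv pL chartL) ≫ r) hrange,
    IsOpenImmersion.lift_fac _ _ _, ?_⟩
  refine hom_ext_charts u' pL chartL _ _ fun c' => ?_
  obtain ⟨U, hU, V, hV, hle, d, hd, g, hg⟩ := c'
  obtain ⟨τ, h1, h2⟩ := exists_tau u v hv u' hu' p chart pL chartL r hr U hU V hV hle hd g hg
  have e1 : lift u' pL chartL ⟨U, hU, V, hV, hle, d, hd, g, hg⟩ ≫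
      IsOpenImmersion.lift (RelProj.domQ (RelProj.QGrHom.ofHom v hv) p chart).ι
        (PL.homOfLE (domQ_comp_le u v u' hu' hv pL chartL) ≫ r) hrange =
      τ ≫ lift (RelProj.QGrHom.ofHom v hv) p chart (diag U hU hd g hg) := by
    rw [← cancel_mono (RelProj.domQ (RelProj.QGrHom.ofHom v hv) p chart).ι, Category.assoc,
      IsOpenImmersion.lift_fac, Category.assoc, lift_ι, h1]
  rw [← Category.assoc, e1, Category.assoc,
    (isProjQMapOn_iff (RelProj.QGrHom.ofHom v hv) p' chart' p chart ρ).mp hρ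
      (diag U hU hd g hg),
    (isProjQMapOn_iff u' p' chart' pL chartL r').mp hr' ⟨U, hU, V, hV, hle, d, hd, g, hg⟩]
  unfold R diag
  dsimp only
  have h2' := congrArg
    (fun k => k ≫ Proj.awayι (𝒯.deg U hU) g hg hd ≫ RelProj.emb p' chart' U hU) h2
  simp only [Category.assoc] at h2'
  exact h2'

end functorial

/-! ### `Proj(v)` for a (TN)-surjective `v` -/

section tn

variable {Y : Scheme.{u}} {𝒯 𝒮 : RelProj.QCGrAlg Y}
  (v : 𝒯.toQCAlg ⟶ 𝒮.toQCAlg) (hv : RelProj.IsGradedHom v)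
  {P P' : Scheme.{u}} (p : P ⟶ Y)
  (chart : ∀ (U : Y.Opens) (hU : IsAffineOpen U),
    (((p ⁻¹ᵁ U : P.Opens) : Scheme.{u}) ≅ Proj (𝒮.deg U hU)))
  (p' : P' ⟶ Y)
  (chart' : ∀ (U : Y.Opens) (hU : IsAffineOpen U),
    (((p' ⁻¹ᵁ U : P'.Opens) : Scheme.{u}) ≅ Proj (𝒯.deg U hU)))
  (hP : RelProj.IsRelProj 𝒮 p chart) (hP' : RelProj.IsRelProj 𝒯 p' chart')

include hP hP' in
theorem isClosedImmersion_of_tn (n₀ : ℕ)
    (hsurj : ∀ k, n₀ ≤ k → ∀ (U : Y.Opens) (hU : IsAffineOpen U), ∀ y ∈ 𝒮.deg U hU k,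
      ∃ x ∈ 𝒯.deg U hU k, (v.hom.app (op U)).hom x = y)
    (ρ : ((RelProj.domQ (RelProj.QGrHom.ofHom v hv) p chart : P.Opens) : Scheme.{u}) ⟶ P')
    (hρ : RelProj.IsProjQMapOn (RelProj.QGrHom.ofHom v hv) p' chart' p chart
      (RelProj.domQ (RelProj.QGrHom.ofHom v hv) p chart) ρ) :
    RelProj.domQ (RelProj.QGrHom.ofHom v hv) p chart = ⊤ ∧ IsClosedImmersion ρ := by
  have htop := domQ_eq_top_of_tn v hv p chart hP n₀ hsurj
  refine ⟨htop, ?_⟩
  haveI : IsIso (RelProj.domQ (RelProj.QGrHom.ofHom v hv) p chart).ι :=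
    isIso_of_isOpenImmersion_of_opensRange_eq_top _
      (by rw [Scheme.Opens.opensRange_ι]; exact htop)
  have hh : RelProj.IsProjQMap (RelProj.QGrHom.ofHom v hv) p' chart' p chart
      (inv (RelProj.domQ (RelProj.QGrHom.ofHom v hv) p chart).ι ≫ ρ) := by
    refine ⟨htop, fun U hU U' hU' hle d hd f hf => ?_⟩
    have h1 := (isProjQMapOn_iff (RelProj.QGrHom.ofHom v hv) p' chart' p chart ρ).mp hρ
      ⟨U, hU, U', hU', hle, d, hd, f, hf⟩
    have h2 := lift_ι (RelProj.QGrHom.ofHom v hv) p chart ⟨U, hU, U', hU', hle, d, hd, f, hf⟩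
    show E (RelProj.QGrHom.ofHom v hv) p chart ⟨U, hU, U', hU', hle, d, hd, f, hf⟩ ≫
      inv (RelProj.domQ (RelProj.QGrHom.ofHom v hv) p chart).ι ≫ ρ = _
    rw [← h2, Category.assoc, IsIso.hom_inv_id_assoc]
    exact h1
  have hcl : IsClosedImmersion
      (inv (RelProj.domQ (RelProj.QGrHom.ofHom v hv) p chart).ι ≫ ρ) := by
    refine projQMap_of_local (RelProj.QGrHom.ofHom v hv) p' chart' p chart hP' hP
      @IsClosedImmersion _ hh fun U hU d hd f hf => ?_
    apply IsClosedImmersion.spec_of_surjective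
    refine away_map_surjective_of_tn _ n₀ (fun k hk b hb => ?_) hd hf
    obtain ⟨a, ha, hab⟩ := hsurj k hk U hU b hb
    exact ⟨a, ha, (gradedAt_self_apply v hv U hU le_rfl a).trans hab⟩
  have hρeq : ρ = (RelProj.domQ (RelProj.QGrHom.ofHom v hv) p chart).ι ≫
      (inv (RelProj.domQ (RelProj.QGrHom.ofHom v hv) p chart).ι ≫ ρ) := by
    rw [IsIso.hom_inv_id_assoc]
  rw [hρeq]
  infer_instance

end tn

end Groth.Agent.H41.ProjQ
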