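import Groth.Agent.H41.ProjQ10
import Groth.Agent.S12143
import Groth.Agent.S12144

/-!
# Criteria for `r_{L,ψ}` to be an immersion (open, closed), over an affine base
-/

set_option autoImplicit false
set_option linter.style.haveILetI false
universe u

open CategoryTheory CategoryTheory.Limits AlgebraicGeometry TopologicalSpace Opposite
open HomogeneousLocalization
open scoped HomogeneousIdeal

noncomputable section

namespace Groth.Agent.H41.ProjQ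

open Groth.Agent.H41.RelConeLib Groth.Agent.H41.ProjConeLib Groth.Agent.H41.RelProjLib
  Groth.Agent.H41.ProjPoly

/-! ### `Spec` reflects isomorphisms and closed immersions -/

section spec

theorem eq_ΓSpecIso_conj {R S : CommRingCat.{u}} (φ : R ⟶ S) :
    φ = (Scheme.ΓSpecIso R).inv ≫ (Spec.map φ).appTop ≫ (Scheme.ΓSpecIso S).hom := by
  rw [Scheme.ΓSpecIso_naturality, Iso.inv_hom_id_assoc]

theorem isIso_of_isIso_specMap {R S : CommRingCat.{u}} (φ : R ⟶ S) (h : IsIso (Spec.map φ)) :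
    IsIso φ := by
  haveI := h
  haveI : IsIso (Spec.map φ).appTop := inferInstanceAs (IsIso ((Spec.map φ).app ⊤))
  rw [eq_ΓSpecIso_conj φ]
  infer_instance

theorem surjective_of_isClosedImmersion_specMap {R S : CommRingCat.{u}} (φ : R ⟶ S)
    (h : IsClosedImmersion (Spec.map φ)) : Function.Surjective φ := by
  haveI := h
  have h1 : Function.Surjective (Spec.map φ).appTop :=
    (IsClosedImmersion.isAffine_surjective_of_isAffine (Spec.map φ)).2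
  intro y
  obtain ⟨x, hx⟩ := h1 ((Scheme.ΓSpecIso S).inv y)
  refine ⟨(Scheme.ΓSpecIso R).hom x, ?_⟩
  have e := eq_ΓSpecIso_conj φ
  have e1 : φ ((Scheme.ΓSpecIso R).hom x) =
      (Scheme.ΓSpecIso S).hom ((Spec.map φ).appTop
        ((Scheme.ΓSpecIso R).inv ((Scheme.ΓSpecIso R).hom x))) :=
    congrArg (fun k => k.hom ((Scheme.ΓSpecIso R).hom x)) e
  have e2 : (Scheme.ΓSpecIso R).inv ((Scheme.ΓSpecIso R).hom x) = x :=
    congrArg (fun k => k.hom x) (Scheme.ΓSpecIso R).hom_inv_id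
  have e3 : (Scheme.ΓSpecIso S).hom ((Scheme.ΓSpecIso S).inv y) = y :=
    congrArg (fun k => k.hom y) (Scheme.ΓSpecIso S).inv_hom_id
  rw [e1, e2, hx, e3]

end spec

/-! ### ring level: conditions (iii) and (iv) -/

section ring

variable {A B : Type u} [CommRing A] [CommRing B]
  {𝒜 : ℕ → AddSubgroup A} {ℬ : ℕ → AddSubgroup B} [GradedRing 𝒜] [GradedRing ℬ]

theorem fromZero_val' (f : A) (y : 𝒜 0) :
    (fromZeroRingHom 𝒜 (Submonoid.powers f) y).val = Localization.mk (y : A) 1 := by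
  rw [fromZero_val, Localization.mk_eq_mk_iff, Localization.r_iff_exists]
  exact ⟨1, by simp⟩

theorem away_map_injective_iff (ψ : 𝒜 →+*ᵍ ℬ) {d : ℕ} {f : A} (hf : f ∈ 𝒜 d) :
    Function.Injective (Away.map ψ f) ↔
      ∀ m : ℕ, 0 < m → ∀ s' ∈ 𝒜 (m * d), ψ s' = 0 → ∃ k : ℕ, 0 < k ∧ f ^ k * s' = 0 := by
  constructor
  · intro hinj m _ s' hs' h0
    have hs'' : s' ∈ 𝒜 (m • d) := by rwa [smul_eq_mul]
    have hz : Away.map ψ f (Away.mk 𝒜 hf m s' hs'') = 0 := by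
      rw [Away.map_mk]
      apply val_injective
      rw [Away.val_mk, val_zero, h0, Localization.mk_zero]
    have hw := hinj (hz.trans (map_zero _).symm)
    have h1 := congrArg val hw
    rw [Away.val_mk, val_zero, Localization.mk_eq_mk', IsLocalization.mk'_eq_zero_iff] at h1
    obtain ⟨⟨_, e, rfl⟩, he⟩ := h1
    refine ⟨e + 1, Nat.succ_pos e, ?_⟩
    have he' : f ^ e * s' = 0 := he
    rw [pow_succ, mul_right_comm, he', zero_mul]
  · intro H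
    rw [injective_iff_map_eq_zero]
    intro z hz
    obtain ⟨k, a, ha, rfl⟩ := Away.mk_surjective 𝒜 hf z
    rw [Away.map_mk] at hz
    have h1 := congrArg val hz
    rw [Away.val_mk, val_zero, Localization.mk_eq_mk', IsLocalization.mk'_eq_zero_iff] at h1
    obtain ⟨⟨_, e, rfl⟩, he⟩ := h1
    have he' : ψ f ^ e * ψ a = 0 := he
    have hmem : f ^ (e + 1) * a ∈ 𝒜 ((e + 1 + k) * d) := by
      have h2 := SetLike.mul_mem_graded (SetLike.pow_mem_graded (e + 1) hf) ha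
      rwa [← add_smul, smul_eq_mul] at h2
    have hψ : ψ (f ^ (e + 1) * a) = 0 := by
      rw [map_mul, map_pow, pow_succ, mul_right_comm, he', zero_mul]
    obtain ⟨k', _, hk0⟩ := H (e + 1 + k) (by omega) _ hmem hψ
    apply val_injective
    rw [Away.val_mk, val_zero, Localization.mk_eq_mk', IsLocalization.mk'_eq_zero_iff]
    refine ⟨⟨f ^ (k' + (e + 1)), k' + (e + 1), rfl⟩, ?_⟩
    show f ^ (k' + (e + 1)) * a = 0
    rw [pow_add, mul_assoc]
    exact hk0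

theorem away_map_surjective_iff (ψ : 𝒜 →+*ᵍ ℬ) {d : ℕ} {f : A} (hf : f ∈ 𝒜 d)
    {R : Type u} [CommRing R] (σ : R →+* B) (hσ0 : ∀ t, σ t ∈ ℬ 0)
    (hσ : ∀ z : Away ℬ (ψ f), ∃ t : R, z.val = Localization.mk (σ t) 1) :
    Function.Surjective (Away.map ψ f) ↔
      ∀ t : R, ∃ (m : ℕ) (_ : 0 < m) (s' : A) (_ : s' ∈ 𝒜 (m * d)),
        σ t * ψ f ^ m = ψ s' := by
  constructor
  · intro hsurj t
    have h0 : σ t ∈ ℬ (0 • d) := by rw [zero_smul]; exact hσ0 t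
    obtain ⟨w, hw⟩ := hsurj (Away.mk ℬ (ψ.map_mem hf) 0 (σ t) h0)
    obtain ⟨k, a, ha, rfl⟩ := Away.mk_surjective 𝒜 hf w
    rw [Away.map_mk] at hw
    have h1 := congrArg val hw
    rw [Away.val_mk, Away.val_mk, Localization.mk_eq_mk_iff, Localization.r_iff_exists] at h1
    obtain ⟨⟨_, e, rfl⟩, he⟩ := h1
    have he' : ψ f ^ e * (ψ f ^ 0 * ψ a) = ψ f ^ e * (ψ f ^ k * σ t) := he
    have hmem : f ^ (e + 1) * a ∈ 𝒜 ((e + 1 + k) * d) := by
      have h2 := SetLike.mul_mem_graded (SetLike.pow_mem_graded (e + 1) hf) ha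
      rwa [← add_smul, smul_eq_mul] at h2
    refine ⟨e + 1 + k, by omega, f ^ (e + 1) * a, hmem, ?_⟩
    rw [map_mul, map_pow]
    calc σ t * ψ f ^ (e + 1 + k) = ψ f * (ψ f ^ e * (ψ f ^ k * σ t)) := by ring
      _ = ψ f * (ψ f ^ e * (ψ f ^ 0 * ψ a)) := by rw [he']
      _ = ψ f ^ (e + 1) * ψ a := by ring
  · intro H z
    obtain ⟨t, ht⟩ := hσ z
    obtain ⟨m, _, s', hs', heq⟩ := H t
    have hs'' : s' ∈ 𝒜 (m • d) := by rwa [smul_eq_mul]
    refine ⟨Away.mk 𝒜 hf m s' hs'', ?_⟩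
    rw [Away.map_mk]
    apply val_injective
    rw [Away.val_mk, ht, Localization.mk_eq_mk_iff, Localization.r_iff_exists]
    refine ⟨1, ?_⟩
    simp only [OneMemClass.coe_one, one_mul]
    rw [← heq]
    exact mul_comm _ _

end ring

/-! ### a general lemma: `O(T) → 𝒮L(T)_(f)` is surjective when `D_+(f)` is everything -/

section strsurj

variable {X PL : Scheme.{u}} (𝒮L : RelProj.QCGrAlg X) (pL : PL ⟶ X)
  (chartL : ∀ (V : X.Opens) (hV : IsAffineOpen V),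
    (((pL ⁻¹ᵁ V : PL.Opens) : Scheme.{u}) ≅ Proj (𝒮L.deg V hV)))
  (hPL : RelProj.IsRelProj 𝒮L pL chartL)

include hPL in
theorem exists_str_eq_of_forall_not_mem [IsIso pL] (T : X.Opens) (hT : IsAffineOpen T) {d : ℕ}
    (hd : 0 < d) (fB : 𝒮L.presheaf.obj (op T)) (hfB : fB ∈ 𝒮L.deg T hT d)
    (hall : ∀ Q : Proj (𝒮L.deg T hT), fB ∉ Q.asHomogeneousIdeal)
    (z : Away (𝒮L.deg T hT) fB) :
    ∃ t : Γ(X, T), z.val = Localization.mk ((𝒮L.str.app (op T)).hom t) 1 := by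
  have hD : Proj.basicOpen (𝒮L.deg T hT) fB = ⊤ := by
    rw [eq_top_iff]
    intro Q _
    exact (Proj.mem_basicOpen _ _ _).mpr (hall Q)
  haveI : IsIso (Proj.awayι (𝒮L.deg T hT) fB hfB hd) :=
    isIso_of_isOpenImmersion_of_opensRange_eq_top _
      (by rw [Proj.opensRange_awayι]; exact hD)
  have e1 : RelProj.emb pL chartL T hT ≫ pL =
      Proj.toSpecZero (𝒮L.deg T hT) ≫ Spec.map (𝒮L.strZero T hT) ≫ hT.fromSpec := by
    rw [RelProj.emb, Category.assoc, ← hPL.chart_over T hT, Iso.inv_hom_id_assoc]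
  have hm : (Proj.toSpecZero (𝒮L.deg T hT) ≫ Spec.map (𝒮L.strZero T hT)) ≫ hT.fromSpec =
      RelProj.emb pL chartL T hT ≫ pL := by
    rw [e1, Category.assoc]
  haveI : IsOpenImmersion
      ((Proj.toSpecZero (𝒮L.deg T hT) ≫ Spec.map (𝒮L.strZero T hT)) ≫ hT.fromSpec) := by
    rw [hm]; infer_instance
  haveI : IsOpenImmersion (Proj.toSpecZero (𝒮L.deg T hT) ≫ Spec.map (𝒮L.strZero T hT)) :=
    IsOpenImmersion.of_comp _ hT.fromSpec
  haveI : IsIso (Proj.toSpecZero (𝒮L.deg T hT) ≫ Spec.map (𝒮L.strZero T hT)) := by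
    refine isIso_of_isOpenImmersion_of_opensRange_eq_top _ ?_
    rw [eq_top_iff]
    intro y _
    have hy : hT.fromSpec.base y ∈ (T : Set X) := by
      rw [← hT.range_fromSpec]; exact ⟨y, rfl⟩
    have hw : pL.base ((inv pL).base (hT.fromSpec.base y)) = hT.fromSpec.base y :=
      congrArg (fun k => k.base (hT.fromSpec.base y)) (IsIso.inv_hom_id pL)
    have hwT : (inv pL).base (hT.fromSpec.base y) ∈ pL ⁻¹ᵁ T := by
      show pL.base _ ∈ T
      rw [hw]; exact hy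
    obtain ⟨Q, hQ⟩ := exists_emb_eq pL chartL T hT _ hwT
    refine ⟨Q, ?_⟩
    apply hT.fromSpec.isOpenEmbedding.injective
    have h2 : hT.fromSpec.base
        ((Proj.toSpecZero (𝒮L.deg T hT) ≫ Spec.map (𝒮L.strZero T hT)).base Q) =
        pL.base ((RelProj.emb pL chartL T hT).base Q) := congrArg (fun k => k.base Q) hm
    rw [h2, hQ, hw]
  have e2 : Proj.awayι (𝒮L.deg T hT) fB hfB hd ≫
      (Proj.toSpecZero (𝒮L.deg T hT) ≫ Spec.map (𝒮L.strZero T hT)) =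
      Spec.map (𝒮L.strZero T hT ≫
        CommRingCat.ofHom (fromZeroRingHom (𝒮L.deg T hT) (Submonoid.powers fB))) := by
    rw [Spec.map_comp, ← Category.assoc, Proj.awayι_toSpecZero]
  have hiso : IsIso (Spec.map (𝒮L.strZero T hT ≫
      CommRingCat.ofHom (fromZeroRingHom (𝒮L.deg T hT) (Submonoid.powers fB)))) := by
    rw [← e2]; infer_instance
  have hiso' := isIso_of_isIso_specMap _ hiso
  have hbij := (ConcreteCategory.isIso_iff_bijective _).mp hiso'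
  obtain ⟨t, ht⟩ := hbij.2 z
  refine ⟨t, ?_⟩
  rw [← ht]
  exact fromZero_val' fB ((𝒮L.strZero T hT).hom t)

end strsurj

/-! ### the opens `X_t` and the local structure of `r` -/

section core

variable {Y X P PL : Scheme.{u}} {q : X ⟶ Y}
  (L : X.Modules) (hL : PicF.IsInvertible L) (hLq : Coh.IsQCoh L)
  {𝒮 : RelProj.QCGrAlg Y} (𝒮L : RelProj.QCGrAlg X) (j : L ⟶ 𝒮L.toModule)
  (hj : RelProj.IsGrSymAlg L 𝒮L j)
  (u : RelProj.QGrHom q 𝒮 𝒮L)
  (p : P ⟶ Y)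
  (chart : ∀ (U : Y.Opens) (hU : IsAffineOpen U),
    (((p ⁻¹ᵁ U : P.Opens) : Scheme.{u}) ≅ Proj (𝒮.deg U hU)))
  (hP : RelProj.IsRelProj 𝒮 p chart)
  (pL : PL ⟶ X)
  (chartL : ∀ (U : X.Opens) (hU : IsAffineOpen U),
    (((pL ⁻¹ᵁ U : PL.Opens) : Scheme.{u}) ≅ Proj (𝒮L.deg U hU)))
  (hPL : RelProj.IsRelProj 𝒮L pL chartL)
  (r : ((RelProj.domQ u pL chartL : PL.Opens) : Scheme.{u}) ⟶ P)
  (hr : RelProj.IsProjQMapOn u p chart pL chartL (RelProj.domQ u pL chartL) r)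
  (hY : IsAffineOpen (⊤ : Y.Opens))

/-- the open `X_t` of `X` where `t = u s` generates `L^{⊗n}` -/
def Xt (n : ℕ) (s : 𝒮.presheaf.obj (op ⊤)) : X.Opens :=
  ⨆ V : {V : X.affineOpens //
      ((𝒮L.deg V.1 V.2 n : AddSubgroup (𝒮L.presheaf.obj (op (V.1 : X.Opens)))) : Set (𝒮L.presheaf.obj (op (V.1 : X.Opens)))) ⊆
        (Ideal.span {(u.appLE ⊤ (V.1 : X.Opens) (le_top.trans (Scheme.Hom.preimage_top q).ge)).hom s} : Set (𝒮L.presheaf.obj (op (V.1 : X.Opens))))},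
    (V.1.1 : X.Opens)

theorem htopq (V : X.Opens) : V ≤ q ⁻¹ᵁ (⊤ : Y.Opens) :=
  le_top.trans (Scheme.Hom.preimage_top q).ge

include hL hLq hj hP hPL hr in
theorem image_preimage_eq {d : ℕ} (hd : 0 < d) (f : 𝒮.presheaf.obj (op ⊤))
    (hf : f ∈ 𝒮.deg ⊤ hY d) :
    (RelProj.domQ u pL chartL).ι ''ᵁ
        (r ⁻¹ᵁ ((RelProj.emb p chart ⊤ hY) ''ᵁ Proj.basicOpen (𝒮.deg ⊤ hY) f)) =
      pL ⁻¹ᵁ Xt 𝒮L u d f :=
  Groth.Agent.S12144.result q L hL hLq 𝒮 𝒮L j hj u p chart hP pL chartL hPL r hr hY d hd f hf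

include hL hLq hj hP hPL hr in
/-- over an affine `X_t`, `D_+(u s)` is everything -/
theorem forall_not_mem {d : ℕ} (hd : 0 < d) (f : 𝒮.presheaf.obj (op ⊤))
    (hf : f ∈ 𝒮.deg ⊤ hY d) (hXT : IsAffineOpen (Xt 𝒮L u d f))
    (Q : Proj (𝒮L.deg (Xt 𝒮L u d f) hXT)) :
    (u.gradedAt ⊤ hY (Xt 𝒮L u d f) hXT (htopq _)) f ∉ Q.asHomogeneousIdeal := by
  have hmem : (RelProj.emb pL chartL (Xt 𝒮L u d f) hXT).base Q ∈ pL ⁻¹ᵁ Xt 𝒮L u d f :=
    emb_mem_preimage pL chartL _ hXT Q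
  have h44 := image_preimage_eq L hL hLq 𝒮L j hj u p chart hP pL chartL hPL r hr hY hd f hf
  obtain ⟨w', hw', hw'Q⟩ := h44.ge hmem
  have hw'Q' : (RelProj.domQ u pL chartL).ι.base w' =
      (RelProj.emb pL chartL (Xt 𝒮L u d f) hXT).base Q := hw'Q
  exact not_mem_of_map_mem u p chart pL chartL hPL r hr w' ⊤ hY _ hXT (htopq _) Q hw'Q'.symm
    hd f hf hw'

include hL hLq hj hP hPL hr in
/-- over an affine `X_t`, the chart of `(⊤, X_t, s)` is the preimage of `D_+(s)` -/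
theorem lift_opensRange_eq {d : ℕ} (hd : 0 < d) (f : 𝒮.presheaf.obj (op ⊤))
    (hf : f ∈ 𝒮.deg ⊤ hY d) (hXT : IsAffineOpen (Xt 𝒮L u d f)) :
    (lift u pL chartL ⟨⊤, hY, Xt 𝒮L u d f, hXT, htopq _, d, hd, f, hf⟩).opensRange =
      r ⁻¹ᵁ ((RelProj.emb p chart ⊤ hY) ''ᵁ Proj.basicOpen (𝒮.deg ⊤ hY) f) := by
  have h44 := image_preimage_eq L hL hLq 𝒮L j hj u p chart hP pL chartL hPL r hr hY hd f hf
  ext w'
  constructor
  · rintro ⟨y, rfl⟩
    show r.base ((lift u pL chartL ⟨⊤, hY, Xt 𝒮L u d f, hXT, htopq _, d, hd, f, hf⟩).base y) ∈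
      (RelProj.emb p chart ⊤ hY) ''ᵁ Proj.basicOpen (𝒮.deg ⊤ hY) f
    have hrw : r.base ((lift u pL chartL
        ⟨⊤, hY, Xt 𝒮L u d f, hXT, htopq _, d, hd, f, hf⟩).base y) =
        (RelProj.emb p chart ⊤ hY).base
          ((Proj.awayι (𝒮.deg ⊤ hY) f hf hd).base
            ((Spec.map (CommRingCat.ofHom (HomogeneousLocalization.Away.map
              (u.gradedAt ⊤ hY (Xt 𝒮L u d f) hXT (htopq _)) f))).base y)) :=
      congrArg (fun k => k.base y)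
        ((isProjQMapOn_iff u p chart pL chartL r).mp hr
          ⟨⊤, hY, Xt 𝒮L u d f, hXT, htopq _, d, hd, f, hf⟩)
    rw [hrw]
    refine ⟨_, ?_, rfl⟩
    show (Proj.awayι (𝒮.deg ⊤ hY) f hf hd).base _ ∈ Proj.basicOpen (𝒮.deg ⊤ hY) f
    rw [← Proj.opensRange_awayι _ _ hf hd]
    exact ⟨_, rfl⟩
  · intro hw'
    have hmem : (RelProj.domQ u pL chartL).ι.base w' ∈ pL ⁻¹ᵁ Xt 𝒮L u d f :=
      h44.le ⟨w', hw', rfl⟩
    obtain ⟨Q, hQ⟩ := exists_emb_eq pL chartL (Xt 𝒮L u d f) hXT _ hmem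
    have hnot := not_mem_of_map_mem u p chart pL chartL hPL r hr w' ⊤ hY _ hXT (htopq _) Q hQ
      hd f hf hw'
    exact (mem_opensRange_lift_iff u pL chartL
      ⟨⊤, hY, Xt 𝒮L u d f, hXT, htopq _, d, hd, f, hf⟩ w').mpr
      ((mem_range_E_iff u pL chartL ⟨⊤, hY, Xt 𝒮L u d f, hXT, htopq _, d, hd, f, hf⟩ _).mpr
        ⟨Q, (Proj.mem_basicOpen _ _ _).mpr hnot, hQ⟩)

include hL hLq hj hP hPL hr in
/-- over an affine `X_t`, every element of `𝒮L(X_t)_(u s)` comes from a function on `X_t` -/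
theorem exists_str_eq {d : ℕ} (hd : 0 < d) (f : 𝒮.presheaf.obj (op ⊤))
    (hf : f ∈ 𝒮.deg ⊤ hY d) (hXT : IsAffineOpen (Xt 𝒮L u d f))
    (z : Away (𝒮L.deg (Xt 𝒮L u d f) hXT) ((u.gradedAt ⊤ hY (Xt 𝒮L u d f) hXT (htopq _)) f)) :
    ∃ t : Γ(X, Xt 𝒮L u d f),
      z.val = Localization.mk ((𝒮L.str.app (op (Xt 𝒮L u d f))).hom t) 1 := by
  haveI : IsIso pL := Groth.Agent.S12143.result L hL hLq 𝒮L j hj pL chartL hPL
  exact exists_str_eq_of_forall_not_mem 𝒮L pL chartL hPL _ hXT hd _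
    ((u.gradedAt ⊤ hY (Xt 𝒮L u d f) hXT (htopq _)).map_mem hf)
    (forall_not_mem L hL hLq 𝒮L j hj u p chart hP pL chartL hPL r hr hY hd f hf hXT) z

end core

end Groth.Agent.H41.ProjQ
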