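import Groth.Agent.H41.ProjQ11

/-!
# Criteria for `r_{L,ψ}`: passing between `r` and its local pieces
-/

set_option autoImplicit false
set_option linter.style.haveILetI false
universe u

open CategoryTheory CategoryTheory.Limits AlgebraicGeometry TopologicalSpace Opposite
open HomogeneousLocalization
open scoped HomogeneousIdeal

noncomputable section

namespace Groth.Agent.H41.ProjQ

open Groth.Agent.H41.RelConeLib Groth.Agent.H41.ProjConeLib Groth.Agent.H41.RelProjLib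
  Groth.Agent.H41.ProjPoly

section basis

variable {Y : Scheme.{u}} {𝒮 : RelProj.QCGrAlg Y}
  {P : Scheme.{u}} (p : P ⟶ Y)
  (chart : ∀ (U : Y.Opens) (hU : IsAffineOpen U),
    (((p ⁻¹ᵁ U : P.Opens) : Scheme.{u}) ≅ Proj (𝒮.deg U hU)))

/-- a point of an open of a relative `Proj` has a standard neighbourhood inside the open -/
theorem exists_basicOpen_mem_le (U : Y.Opens) (hU : IsAffineOpen U) (W : P.Opens) (x : P)
    (hxW : x ∈ W) (hxU : x ∈ p ⁻¹ᵁ U) :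
    ∃ (d : ℕ) (_ : 0 < d) (f : 𝒮.presheaf.obj (op U)) (_ : f ∈ 𝒮.deg U hU d),
      x ∈ (RelProj.emb p chart U hU) ''ᵁ Proj.basicOpen (𝒮.deg U hU) f ∧
        (RelProj.emb p chart U hU) ''ᵁ Proj.basicOpen (𝒮.deg U hU) f ≤ W := by
  obtain ⟨Q, hQ⟩ := exists_emb_eq p chart U hU x hxU
  have hQW : Q ∈ (RelProj.emb p chart U hU) ⁻¹ᵁ W := by
    show (RelProj.emb p chart U hU).base Q ∈ W
    rw [hQ]; exact hxW
  obtain ⟨d, hd, -, f, hf, hfQ, hsub⟩ :=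
    exists_pos_basicOpen_subset (𝒮.deg U hU) ((RelProj.emb p chart U hU) ⁻¹ᵁ W) Q hQW 0
  refine ⟨d, hd, f, hf, ⟨Q, (Proj.mem_basicOpen _ _ _).mpr hfQ, hQ⟩, ?_⟩
  rintro z ⟨y, hy, rfl⟩
  have hy' : y ∈ Proj.basicOpen (𝒮.deg U hU) f := hy
  exact hsub y ((Proj.mem_basicOpen _ _ _).mp hy')

end basis

section assembly

variable {Y X P PL : Scheme.{u}} {q : X ⟶ Y}
  (L : X.Modules) (hL : PicF.IsInvertible L) (hLq : Coh.IsQCoh L)
  {𝒮 : RelProj.QCGrAlg Y} (𝒮L : RelProj.QCGrAlg X) (j : L ⟶ 𝒮L.toModule)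
  (hj : RelProj.IsGrSymAlg L 𝒮L j)
  (u : RelProj.QGrHom q 𝒮 𝒮L)
  (p : P ⟶ Y)
  (chart : ∀ (U : Y.Opens) (hU : IsAffineOpen U),
    (((p ⁻¹ᵁ U : P.Opens) : Scheme.{u}) ≅ Proj (𝒮.deg U hU)))
  (hP : RelProj.IsRelProj 𝒮 p chart)
  (pL : PL ⟶ X)
  (chartL : ∀ (U : X.Opens) (hU : IsAffineOpen U),
    (((pL ⁻¹ᵁ U : PL.Opens) : Scheme.{u}) ≅ Proj (𝒮L.deg U hU)))
  (hPL : RelProj.IsRelProj 𝒮L pL chartL)
  (r : ((RelProj.domQ u pL chartL : PL.Opens) : Scheme.{u}) ⟶ P)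
  (hr : RelProj.IsProjQMapOn u p chart pL chartL (RelProj.domQ u pL chartL) r)
  (hY : IsAffineOpen (⊤ : Y.Opens))

/-- lifting a standard chart of `P` into an open containing it -/
theorem exists_lift_chart (W : P.Opens) {d : ℕ} (hd : 0 < d) (f : 𝒮.presheaf.obj (op ⊤))
    (hf : f ∈ 𝒮.deg ⊤ hY d)
    (hle : (RelProj.emb p chart ⊤ hY) ''ᵁ Proj.basicOpen (𝒮.deg ⊤ hY) f ≤ W) :
    ∃ (α' : Spec (CommRingCat.of (Away (𝒮.deg ⊤ hY) f)) ⟶ (W : Scheme.{u}))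
      (_ : IsOpenImmersion α'),
      α' ≫ W.ι = Proj.awayι (𝒮.deg ⊤ hY) f hf hd ≫ RelProj.emb p chart ⊤ hY ∧
      ∀ z : (W : Scheme.{u}), z ∈ α'.opensRange ↔
        W.ι.base z ∈ (RelProj.emb p chart ⊤ hY) ''ᵁ Proj.basicOpen (𝒮.deg ⊤ hY) f := by
  have hαr : (Proj.awayι (𝒮.deg ⊤ hY) f hf hd ≫ RelProj.emb p chart ⊤ hY).opensRange =
      (RelProj.emb p chart ⊤ hY) ''ᵁ Proj.basicOpen (𝒮.deg ⊤ hY) f := by
    rw [Scheme.Hom.opensRange_comp, Proj.opensRange_awayι]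
  have hαW : Set.range (Proj.awayι (𝒮.deg ⊤ hY) f hf hd ≫ RelProj.emb p chart ⊤ hY).base ⊆
      Set.range W.ι.base := by
    rw [Scheme.Opens.range_ι]
    rintro _ ⟨y, rfl⟩
    refine hle ?_
    rw [← hαr]
    exact ⟨y, rfl⟩
  have hfac : IsOpenImmersion.lift W.ι
      (Proj.awayι (𝒮.deg ⊤ hY) f hf hd ≫ RelProj.emb p chart ⊤ hY) hαW ≫ W.ι =
      Proj.awayι (𝒮.deg ⊤ hY) f hf hd ≫ RelProj.emb p chart ⊤ hY :=
    IsOpenImmersion.lift_fac _ _ _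
  have himm : IsOpenImmersion (IsOpenImmersion.lift W.ι
      (Proj.awayι (𝒮.deg ⊤ hY) f hf hd ≫ RelProj.emb p chart ⊤ hY) hαW) := by
    haveI : IsOpenImmersion (IsOpenImmersion.lift W.ι
        (Proj.awayι (𝒮.deg ⊤ hY) f hf hd ≫ RelProj.emb p chart ⊤ hY) hαW ≫ W.ι) := by
      rw [hfac]; infer_instance
    exact IsOpenImmersion.of_comp _ W.ι
  refine ⟨_, himm, hfac, fun z => ?_⟩
  rw [← hαr]
  constructor
  · rintro ⟨y, rfl⟩
    exact ⟨y, (congrArg (fun k => k.base y) hfac).symm⟩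
  · rintro ⟨y, hy⟩
    refine ⟨y, W.ι.isOpenEmbedding.injective ?_⟩
    exact (congrArg (fun k => k.base y) hfac).trans hy

include hL hLq hj hP hPL hr in
/-- from a global property of `r` (as a morphism into an open `W`) to its local pieces -/
theorem piece_of_global (W : P.Opens)
    (rW : ((RelProj.domQ u pL chartL : PL.Opens) : Scheme.{u}) ⟶ (W : Scheme.{u}))
    (hrW : rW ≫ W.ι = r) [IsAffineHom rW]
    (Q : MorphismProperty Scheme.{u}) [IsZariskiLocalAtTarget Q] (hQ : Q rW)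
    {d : ℕ} (hd : 0 < d) (f : 𝒮.presheaf.obj (op ⊤)) (hf : f ∈ 𝒮.deg ⊤ hY d)
    (hle : (RelProj.emb p chart ⊤ hY) ''ᵁ Proj.basicOpen (𝒮.deg ⊤ hY) f ≤ W) :
    ∃ hXT : IsAffineOpen (Xt 𝒮L u d f),
      Q (Spec.map (CommRingCat.ofHom
        (Away.map (u.gradedAt ⊤ hY (Xt 𝒮L u d f) hXT (htopq _)) f))) := by
  obtain ⟨α', himm, hfac, hα'⟩ := exists_lift_chart p chart hY W hd f hf hle
  haveI := himm
  have hpre : rW ⁻¹ᵁ α'.opensRange =
      r ⁻¹ᵁ ((RelProj.emb p chart ⊤ hY) ''ᵁ Proj.basicOpen (𝒮.deg ⊤ hY) f) := by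
    ext w'
    have h2 : W.ι.base (rW.base w') = r.base w' := congrArg (fun k => k.base w') hrW
    constructor
    · intro hw'
      have h1 := (hα' (rW.base w')).mp hw'
      rw [h2] at h1
      exact h1
    · intro hw'
      refine (hα' (rW.base w')).mpr ?_
      rw [h2]
      exact hw'
  have haff : IsAffineOpen (rW ⁻¹ᵁ α'.opensRange) := (isAffineOpen_opensRange α').preimage rW
  rw [hpre] at haff
  have h44 := image_preimage_eq L hL hLq 𝒮L j hj u p chart hP pL chartL hPL r hr hY hd f hf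
  have haff2 : IsAffineOpen (pL ⁻¹ᵁ Xt 𝒮L u d f) := by
    have h5 := haff.image_of_isOpenImmersion (RelProj.domQ u pL chartL).ι
    rw [h44] at h5
    exact h5
  haveI : IsIso pL := Groth.Agent.S12143.result L hL hLq 𝒮L j hj pL chartL hPL
  have hXT : IsAffineOpen (Xt 𝒮L u d f) := by
    have h3 := haff2.image_of_isOpenImmersion pL
    have h4 : pL ''ᵁ (pL ⁻¹ᵁ Xt 𝒮L u d f) = Xt 𝒮L u d f := by
      ext x
      constructor
      · rintro ⟨w, hw, rfl⟩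
        exact hw
      · intro hx
        have hw : pL.base ((inv pL).base x) = x :=
          congrArg (fun k => k.base x) (IsIso.inv_hom_id pL)
        refine ⟨(inv pL).base x, ?_, hw⟩
        show pL.base ((inv pL).base x) ∈ Xt 𝒮L u d f
        rw [hw]; exact hx
    rw [h4] at h3
    exact h3
  refine ⟨hXT, ?_⟩
  have hrange := lift_opensRange_eq L hL hLq 𝒮L j hj u p chart hP pL chartL hPL r hr hY hd f hf
    hXT
  have hcomm : lift u pL chartL ⟨⊤, hY, Xt 𝒮L u d f, hXT, htopq _, d, hd, f, hf⟩ ≫ rW =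
      Spec.map (CommRingCat.ofHom
        (Away.map (u.gradedAt ⊤ hY (Xt 𝒮L u d f) hXT (htopq _)) f)) ≫ α' := by
    rw [← cancel_mono W.ι, Category.assoc, hrW, Category.assoc, hfac]
    exact (isProjQMapOn_iff u p chart pL chartL r).mp hr
      ⟨⊤, hY, Xt 𝒮L u d f, hXT, htopq _, d, hd, f, hf⟩
  exact (restrict_iff Q rW α'
    (lift u pL chartL ⟨⊤, hY, Xt 𝒮L u d f, hXT, htopq _, d, hd, f, hf⟩) _ hcomm
    (hrange.trans hpre.symm)).mp (IsZariskiLocalAtTarget.restrict hQ _)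

include hL hLq hj hP hPL hr in
/-- from the local pieces to `r` as a morphism into the union of the `D_+(s_a)` -/
theorem global_of_pieces {ι : Type u} (n : ι → ℕ) (s : ι → 𝒮.presheaf.obj (op ⊤))
    (hn : ∀ a, 0 < n a) (hs : ∀ a, s a ∈ 𝒮.deg ⊤ hY (n a))
    (hcov : (⨆ a, Xt 𝒮L u (n a) (s a)) = ⊤)
    (hXT : ∀ a, IsAffineOpen (Xt 𝒮L u (n a) (s a)))
    (Q : MorphismProperty Scheme.{u}) [IsZariskiLocalAtTarget Q]
    (hQ : ∀ a, Q (Spec.map (CommRingCat.ofHom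
      (Away.map (u.gradedAt ⊤ hY (Xt 𝒮L u (n a) (s a)) (hXT a) (htopq _)) (s a))))) :
    RelProj.domQ u pL chartL = ⊤ ∧
      ∃ rW : ((RelProj.domQ u pL chartL : PL.Opens) : Scheme.{u}) ⟶
          ((⨆ a, (RelProj.emb p chart ⊤ hY) ''ᵁ Proj.basicOpen (𝒮.deg ⊤ hY) (s a) : P.Opens) :
            Scheme.{u}),
        rW ≫ (⨆ a, (RelProj.emb p chart ⊤ hY) ''ᵁ
          Proj.basicOpen (𝒮.deg ⊤ hY) (s a) : P.Opens).ι = r ∧ Q rW := by
  have h44 := fun a => image_preimage_eq L hL hLq 𝒮L j hj u p chart hP pL chartL hPL r hr hY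
    (hn a) (s a) (hs a)
  have hex : ∀ x : X, ∃ a, x ∈ Xt 𝒮L u (n a) (s a) := by
    intro x
    have hx : x ∈ (⨆ a, Xt 𝒮L u (n a) (s a)) := by rw [hcov]; exact Opens.mem_top _
    exact Opens.mem_iSup.mp hx
  have key : ∀ w' : ((RelProj.domQ u pL chartL : PL.Opens) : Scheme.{u}), ∃ a,
      r.base w' ∈ (RelProj.emb p chart ⊤ hY) ''ᵁ Proj.basicOpen (𝒮.deg ⊤ hY) (s a) := by
    intro w'
    obtain ⟨a, ha⟩ := hex (pL.base ((RelProj.domQ u pL chartL).ι.base w'))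
    have ha' : (RelProj.domQ u pL chartL).ι.base w' ∈ pL ⁻¹ᵁ Xt 𝒮L u (n a) (s a) := ha
    obtain ⟨w'', hw'', hww⟩ := (h44 a).ge ha'
    have hww' : (RelProj.domQ u pL chartL).ι.base w'' =
        (RelProj.domQ u pL chartL).ι.base w' := hww
    have heq : w'' = w' := (RelProj.domQ u pL chartL).ι.isOpenEmbedding.injective hww'
    rw [heq] at hw''
    exact ⟨a, hw''⟩
  have htop : RelProj.domQ u pL chartL = ⊤ := by
    rw [eq_top_iff]
    intro w _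
    obtain ⟨a, ha⟩ := hex (pL.base w)
    have ha' : w ∈ pL ⁻¹ᵁ Xt 𝒮L u (n a) (s a) := ha
    obtain ⟨w'', -, hww⟩ := (h44 a).ge ha'
    have hww' : (RelProj.domQ u pL chartL).ι.base w'' = w := hww
    rw [← hww']
    exact w''.2
  refine ⟨htop, ?_⟩
  have hrange : Set.range r.base ⊆ Set.range (⨆ a, (RelProj.emb p chart ⊤ hY) ''ᵁ
      Proj.basicOpen (𝒮.deg ⊤ hY) (s a) : P.Opens).ι.base := by
    rw [Scheme.Opens.range_ι]
    rintro _ ⟨w', rfl⟩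
    obtain ⟨a, ha⟩ := key w'
    exact Opens.mem_iSup.mpr ⟨a, ha⟩
  have hrW : IsOpenImmersion.lift (⨆ a, (RelProj.emb p chart ⊤ hY) ''ᵁ
      Proj.basicOpen (𝒮.deg ⊤ hY) (s a) : P.Opens).ι r hrange ≫
      (⨆ a, (RelProj.emb p chart ⊤ hY) ''ᵁ Proj.basicOpen (𝒮.deg ⊤ hY) (s a) : P.Opens).ι = r :=
    IsOpenImmersion.lift_fac _ _ _
  refine ⟨_, hrW, ?_⟩
  have hch := fun a => exists_lift_chart p chart hY
    (⨆ a, (RelProj.emb p chart ⊤ hY) ''ᵁ Proj.basicOpen (𝒮.deg ⊤ hY) (s a) : P.Opens)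
    (hn a) (s a) (hs a) (le_iSup (fun a => (RelProj.emb p chart ⊤ hY) ''ᵁ
      Proj.basicOpen (𝒮.deg ⊤ hY) (s a)) a)
  choose α' himm hfac hα' using hch
  haveI := himm
  have hcov' : (⨆ a, (α' a).opensRange) = ⊤ := by
    rw [eq_top_iff]
    intro z _
    have hz : (⨆ a, (RelProj.emb p chart ⊤ hY) ''ᵁ
        Proj.basicOpen (𝒮.deg ⊤ hY) (s a) : P.Opens).ι.base z ∈
        (⨆ a, (RelProj.emb p chart ⊤ hY) ''ᵁ Proj.basicOpen (𝒮.deg ⊤ hY) (s a) : P.Opens) := z.2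
    obtain ⟨a, ha⟩ := Opens.mem_iSup.mp hz
    exact Opens.mem_iSup.mpr ⟨a, (hα' a z).mpr ha⟩
  refine IsZariskiLocalAtTarget.of_iSup_eq_top (P := Q) (fun a => (α' a).opensRange) hcov'
    fun a => ?_
  have hpre : (IsOpenImmersion.lift (⨆ a, (RelProj.emb p chart ⊤ hY) ''ᵁ
      Proj.basicOpen (𝒮.deg ⊤ hY) (s a) : P.Opens).ι r hrange) ⁻¹ᵁ (α' a).opensRange =
      r ⁻¹ᵁ ((RelProj.emb p chart ⊤ hY) ''ᵁ Proj.basicOpen (𝒮.deg ⊤ hY) (s a)) := by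
    ext w'
    have h2 : (⨆ a, (RelProj.emb p chart ⊤ hY) ''ᵁ
        Proj.basicOpen (𝒮.deg ⊤ hY) (s a) : P.Opens).ι.base
        ((IsOpenImmersion.lift (⨆ a, (RelProj.emb p chart ⊤ hY) ''ᵁ
          Proj.basicOpen (𝒮.deg ⊤ hY) (s a) : P.Opens).ι r hrange).base w') = r.base w' :=
      congrArg (fun k => k.base w') hrW
    constructor
    · intro hw'
      have h1 := (hα' a _).mp hw'
      rw [h2] at h1
      exact h1
    · intro hw'
      refine (hα' a _).mpr ?_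
      rw [h2]
      exact hw'
  have hrange' := lift_opensRange_eq L hL hLq 𝒮L j hj u p chart hP pL chartL hPL r hr hY (hn a)
    (s a) (hs a) (hXT a)
  have hcomm : lift u pL chartL
      ⟨⊤, hY, Xt 𝒮L u (n a) (s a), hXT a, htopq _, n a, hn a, s a, hs a⟩ ≫
      IsOpenImmersion.lift (⨆ a, (RelProj.emb p chart ⊤ hY) ''ᵁ
        Proj.basicOpen (𝒮.deg ⊤ hY) (s a) : P.Opens).ι r hrange =
      Spec.map (CommRingCat.ofHom
        (Away.map (u.gradedAt ⊤ hY (Xt 𝒮L u (n a) (s a)) (hXT a) (htopq _)) (s a))) ≫ α' a := by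
    rw [← cancel_mono (⨆ a, (RelProj.emb p chart ⊤ hY) ''ᵁ
      Proj.basicOpen (𝒮.deg ⊤ hY) (s a) : P.Opens).ι, Category.assoc, hrW, Category.assoc, hfac a]
    exact (isProjQMapOn_iff u p chart pL chartL r).mp hr
      ⟨⊤, hY, Xt 𝒮L u (n a) (s a), hXT a, htopq _, n a, hn a, s a, hs a⟩
  exact (restrict_iff Q _ (α' a)
    (lift u pL chartL ⟨⊤, hY, Xt 𝒮L u (n a) (s a), hXT a, htopq _, n a, hn a, s a, hs a⟩) _
    hcomm (hrange'.trans hpre.symm)).mpr (hQ a)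

end assembly

end Groth.Agent.H41.ProjQ
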