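import Groth.Agent.H41.ProjQ10

/-!
# The square of retractions of pointed projective cones

`p̂ ∘ Φ̂ = Proj(φ) ∘ p̂'` on `Φ̂⁻¹(Ê)`, on `T`-valued points.
-/

set_option autoImplicit false
set_option linter.style.haveILetI false
universe u

open CategoryTheory CategoryTheory.Limits AlgebraicGeometry TopologicalSpace Opposite
open HomogeneousLocalization
open scoped HomogeneousIdeal

noncomputable section

namespace Groth.Agent.H41.ProjQ

open Groth.Agent.H41.RelConeLib Groth.Agent.H41.ProjConeLib Groth.Agent.H41.RelProjLib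

/-! ### generalities -/

section factor

variable {Y Y' : Scheme.{u}} {g : Y' ⟶ Y} {𝒮 : RelProj.QCGrAlg Y} {𝒮' : RelProj.QCGrAlg Y'}
  (u : RelProj.QGrHom g 𝒮 𝒮')
  {P : Scheme.{u}} (p : P ⟶ Y)
  (chart : ∀ (U : Y.Opens) (hU : IsAffineOpen U),
    (((p ⁻¹ᵁ U : P.Opens) : Scheme.{u}) ≅ Proj (𝒮.deg U hU)))
  {P' : Scheme.{u}} (p' : P' ⟶ Y')
  (chart' : ∀ (U' : Y'.Opens) (hU' : IsAffineOpen U'),
    (((p' ⁻¹ᵁ U' : P'.Opens) : Scheme.{u}) ≅ Proj (𝒮'.deg U' hU')))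

/-- a `T`-valued point of `W` factoring through a standard chart is mapped by `Proj(u)|W` to the
local piece -/
theorem comp_of_factor (W : P'.Opens) (r : (W : Scheme.{u}) ⟶ P)
    (hr : RelProj.IsProjQMapOn u p chart p' chart' W r) (c : Ch g 𝒮)
    (hW : Set.range (E u p' chart' c).base ⊆ Set.range W.ι.base)
    {T₀ : Scheme.{u}} (a₀ : T₀ ⟶ (W : Scheme.{u})) (γ : T₀ ⟶ Spec (ring u c))
    (h : a₀ ≫ W.ι = γ ≫ E u p' chart' c) :
    a₀ ≫ r = γ ≫ R u p chart c := by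
  have h1 : a₀ = γ ≫ IsOpenImmersion.lift W.ι (E u p' chart' c) hW := by
    rw [← cancel_mono W.ι, Category.assoc, IsOpenImmersion.lift_fac, h]
  have h2 : IsOpenImmersion.lift W.ι (E u p' chart' c) hW ≫ r = R u p chart c :=
    hr c.U c.hU c.U' c.hU' c.hle c.d c.hd c.f c.hf hW
  rw [h1, Category.assoc, h2]

/-- morphisms agreeing locally on the source are equal -/
theorem hom_ext_of_local {T Z : Scheme.{u}} (f₁ f₂ : T ⟶ Z)
    (h : ∀ t : T, ∃ T₀ : T.Opens, t ∈ T₀ ∧ T₀.ι ≫ f₁ = T₀.ι ≫ f₂) : f₁ = f₂ := by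
  choose T₀ ht h using h
  let 𝒰 : T.OpenCover :=
    { I₀ := T
      X := fun t => ((T₀ t : T.Opens) : Scheme.{u})
      f := fun t => (T₀ t).ι
      mem₀ := by
        rw [Scheme.presieve₀_mem_precoverage_iff]
        refine ⟨fun x => ⟨x, ⟨x, ht x⟩, rfl⟩, fun t => inferInstance⟩ }
  exact 𝒰.hom_ext f₁ f₂ h

theorem spec_map_comp_eq {R₁ R₂ R₂' R₃ R₄ : Type u} [CommRing R₁] [CommRing R₂] [CommRing R₂']
    [CommRing R₃] [CommRing R₄] (A2 : R₁ →+* R₂) (A1 : R₂ →+* R₄) (B2 : R₁ →+* R₂')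
    (B1 : R₂' →+* R₃) (cst : R₃ →+* R₄) (h : A1.comp A2 = (cst.comp B1).comp B2) :
    Spec.map (CommRingCat.ofHom A1) ≫ Spec.map (CommRingCat.ofHom A2) =
      Spec.map (CommRingCat.ofHom cst) ≫ Spec.map (CommRingCat.ofHom B1) ≫
        Spec.map (CommRingCat.ofHom B2) := by
  simp only [← Spec.map_comp, ← CommRingCat.ofHom_comp]
  exact congrArg (fun m => Spec.map (CommRingCat.ofHom m)) (h.trans (RingHom.comp_assoc _ _ _))

theorem comp_assoc_aux {C : Type*} [Category C] {X0 X1 X2 X2' X3' X4 Z : C} (β : X0 ⟶ X1)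
    (a1 : X1 ⟶ X2) (a2 : X2 ⟶ X4) (cst : X1 ⟶ X2') (b1 : X2' ⟶ X3') (b2 : X3' ⟶ X4)
    (tail : X4 ⟶ Z) (h : a1 ≫ a2 = cst ≫ b1 ≫ b2) :
    (β ≫ a1) ≫ (a2 ≫ tail) = ((β ≫ cst) ≫ b1) ≫ (b2 ≫ tail) := by
  have h' := congrArg (fun m => β ≫ m ≫ tail) h
  simpa only [Category.assoc] using h'

end factor

/-! ### the cone square -/

section conesquare

variable {Y Y' PC PC' : Scheme.{u}} {q : Y' ⟶ Y}
  {𝒮 : RelProj.QCGrAlg Y} {𝒮' : RelProj.QCGrAlg Y'} (u : RelProj.QGrHom q 𝒮 𝒮')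
  {𝒮h : RelProj.QCGrAlg Y} {ι : 𝒮.toQCAlg ⟶ 𝒮h.toQCAlg} {z : 𝒮h.presheaf.obj (op ⊤)}
  (hz : RelCone.IsPolyOver 𝒮 𝒮h ι z)
  (pC : PC ⟶ Y)
  (chartC : ∀ (U : Y.Opens) (hU : IsAffineOpen U),
    (((pC ⁻¹ᵁ U : PC.Opens) : Scheme.{u}) ≅ Proj (𝒮h.deg U hU)))
  (hC : RelProj.IsRelProj 𝒮h pC chartC)
  {𝒮h' : RelProj.QCGrAlg Y'} {ι' : 𝒮'.toQCAlg ⟶ 𝒮h'.toQCAlg} {z' : 𝒮h'.presheaf.obj (op ⊤)}
  (hz' : RelCone.IsPolyOver 𝒮' 𝒮h' ι' z')
  (pC' : PC' ⟶ Y')
  (chartC' : ∀ (U : Y'.Opens) (hU : IsAffineOpen U),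
    (((pC' ⁻¹ᵁ U : PC'.Opens) : Scheme.{u}) ≅ Proj (𝒮h'.deg U hU)))
  (hC' : RelProj.IsRelProj 𝒮h' pC' chartC')
  (uh : RelProj.QGrHom q 𝒮h 𝒮h')
  (huh : ∀ U : Y.Opens, ι.hom.app (op U) ≫ uh.app U = u.app U ≫ ι'.hom.app (op (q ⁻¹ᵁ U)))
  (Φh : ((RelProj.domQ uh pC' chartC' : PC'.Opens) : Scheme.{u}) ⟶ PC)
  (hΦh : RelProj.IsProjQMapOn uh pC chartC pC' chartC' (RelProj.domQ uh pC' chartC') Φh)
  {P P' : Scheme.{u}} (p : P ⟶ Y)
  (chart : ∀ (U : Y.Opens) (hU : IsAffineOpen U),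
    (((p ⁻¹ᵁ U : P.Opens) : Scheme.{u}) ≅ Proj (𝒮.deg U hU)))
  (p' : P' ⟶ Y')
  (chart' : ∀ (U : Y'.Opens) (hU : IsAffineOpen U),
    (((p' ⁻¹ᵁ U : P'.Opens) : Scheme.{u}) ≅ Proj (𝒮'.deg U hU)))
  (Φ : ((RelProj.domQ u p' chart' : P'.Opens) : Scheme.{u}) ⟶ P)
  (hΦ : RelProj.IsProjQMapOn u p chart p' chart' (RelProj.domQ u p' chart') Φ)
  (r : ((RelCone.pointedProjCone 𝒮 hz pC chartC : PC.Opens) : Scheme.{u}) ⟶ P)
  (hr : RelProj.IsProjQMapOn (RelProj.QGrHom.ofHom ι hz.graded) p chart pC chartC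
    (RelCone.pointedProjCone 𝒮 hz pC chartC) r)
  (r' : ((RelCone.pointedProjCone 𝒮' hz' pC' chartC' : PC'.Opens) : Scheme.{u}) ⟶ P')
  (hr' : RelProj.IsProjQMapOn (RelProj.QGrHom.ofHom ι' hz'.graded) p' chart' pC' chartC'
    (RelCone.pointedProjCone 𝒮' hz' pC' chartC') r')
  {T : Scheme.{u}}
  (a : T ⟶ ((RelCone.pointedProjCone 𝒮' hz' pC' chartC' : PC'.Opens) : Scheme.{u}))
  (b : T ⟶ ((RelProj.domQ uh pC' chartC' : PC'.Opens) : Scheme.{u}))
  (c : T ⟶ ((RelCone.pointedProjCone 𝒮 hz pC chartC : PC.Opens) : Scheme.{u}))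
  (hab : a ≫ (RelCone.pointedProjCone 𝒮' hz' pC' chartC').ι = b ≫ (RelProj.domQ uh pC' chartC').ι)
  (hbc : b ≫ Φh = c ≫ (RelCone.pointedProjCone 𝒮 hz pC chartC).ι)

/-- the chart of `û` attached to a chart of `u` -/
def hatCh (k : Ch q 𝒮) : Ch q 𝒮h :=
  ⟨k.U, k.hU, k.U', k.hU', k.hle, k.d, k.hd,
    (RelProj.QGrHom.ofHom ι hz.graded).gradedAt k.U k.hU k.U k.hU (le_id k.U) k.f,
    ((RelProj.QGrHom.ofHom ι hz.graded).gradedAt k.U k.hU k.U k.hU (le_id k.U)).map_mem k.hf⟩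

/-- the diagonal chart downstairs attached to a chart of `u` -/
def diagCh (k : Ch q 𝒮) : Ch (𝟙 Y) 𝒮 := diag k.U k.hU k.hd k.f k.hf

/-- the diagonal chart upstairs attached to a chart of `u` -/
def diagCh' (k : Ch q 𝒮) : Ch (𝟙 Y') 𝒮' :=
  diag k.U' k.hU' k.hd (psi u k k.f) ((psi u k).map_mem k.hf)

include huh in
theorem cone_comm (k : Ch q 𝒮) (x : 𝒮.presheaf.obj (op k.U)) :
    (psi (RelProj.QGrHom.ofHom ι' hz'.graded) (diagCh' u k)) ((psi u k) x) =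
      (psi uh (hatCh hz k)) ((psi (RelProj.QGrHom.ofHom ι hz.graded) (diagCh k)) x) := by
  have h1 : (psi (RelProj.QGrHom.ofHom ι' hz'.graded) (diagCh' u k)) ((psi u k) x) =
      (ι'.hom.app (op k.U')).hom ((u.appLE k.U k.U' k.hle).hom x) :=
    gradedAt_self_apply ι' hz'.graded k.U' k.hU' (le_id k.U') _
  have h2 : (psi (RelProj.QGrHom.ofHom ι hz.graded) (diagCh k)) x = (ι.hom.app (op k.U)).hom x :=
    gradedAt_self_apply ι hz.graded k.U k.hU (le_id k.U) x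
  rw [h1, h2]
  exact (uh_ι u uh huh k.U k.U' k.hle x).symm

include hC hC' huh hr hr' in
/-- the chart computation -/
theorem cone_square_chart (k : Ch q 𝒮) {T₀ : Scheme.{u}}
    (β : T₀ ⟶ Spec (ring uh (hatCh hz k)))
    (a₀ : T₀ ⟶ ((RelCone.pointedProjCone 𝒮' hz' pC' chartC' : PC'.Opens) : Scheme.{u}))
    (c₀ : T₀ ⟶ ((RelCone.pointedProjCone 𝒮 hz pC chartC : PC.Opens) : Scheme.{u}))
    (ha₀ : a₀ ≫ (RelCone.pointedProjCone 𝒮' hz' pC' chartC').ι =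
      β ≫ E uh pC' chartC' (hatCh hz k))
    (hc₀ : c₀ ≫ (RelCone.pointedProjCone 𝒮 hz pC chartC).ι = β ≫ R uh pC chartC (hatCh hz k)) :
    ∃ δ : T₀ ⟶ Spec (ring u k),
      a₀ ≫ r' = δ ≫ E u p' chart' k ∧ c₀ ≫ r = δ ≫ R u p chart k := by
  have hWC : RelProj.domQ (RelProj.QGrHom.ofHom ι hz.graded) pC chartC =
      RelCone.pointedProjCone 𝒮 hz pC chartC := domQ_ofHom_eq ι hz.graded pC chartC hC
  have hWC' : RelProj.domQ (RelProj.QGrHom.ofHom ι' hz'.graded) pC' chartC' =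
      RelCone.pointedProjCone 𝒮' hz' pC' chartC' := domQ_ofHom_eq ι' hz'.graded pC' chartC' hC'
  have hrC : Set.range (E (RelProj.QGrHom.ofHom ι hz.graded) pC chartC (diagCh k)).base ⊆
      Set.range (RelCone.pointedProjCone 𝒮 hz pC chartC).ι.base := by
    have h := RelProj.range_awayEmb_subset_domQ (RelProj.QGrHom.ofHom ι hz.graded) pC chartC
      k.U k.hU k.U k.hU (le_id k.U) k.hd k.f k.hf
    rw [hWC] at h
    exact h
  have hrC' : Set.range (E (RelProj.QGrHom.ofHom ι' hz'.graded) pC' chartC'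
      (diagCh' u k)).base ⊆
      Set.range (RelCone.pointedProjCone 𝒮' hz' pC' chartC').ι.base := by
    have h := RelProj.range_awayEmb_subset_domQ (RelProj.QGrHom.ofHom ι' hz'.graded) pC' chartC'
      k.U' k.hU' k.U' k.hU' (le_id k.U') k.hd (psi u k k.f) ((psi u k).map_mem k.hf)
    rw [hWC'] at h
    exact h
  have hcomm := cone_comm u hz hz' uh huh k
  have heq : (GradedRingHom.id (𝒮h'.deg k.U' k.hU'))
      ((psi (RelProj.QGrHom.ofHom ι' hz'.graded) (diagCh' u k)) ((psi u k) k.f)) =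
      (psi uh (hatCh hz k)) (hatCh hz k).f := hcomm k.f
  -- the side of `c`
  have hc1 : c₀ ≫ (RelCone.pointedProjCone 𝒮 hz pC chartC).ι =
      (β ≫ Spec.map (CommRingCat.ofHom (Away.map (psi uh (hatCh hz k)) (hatCh hz k).f))) ≫
        E (RelProj.QGrHom.ofHom ι hz.graded) pC chartC (diagCh k) := by
    rw [hc₀, Category.assoc]
    rfl
  have hc2 := comp_of_factor (RelProj.QGrHom.ofHom ι hz.graded) p chart pC chartC
    (RelCone.pointedProjCone 𝒮 hz pC chartC) r hr (diagCh k) hrC c₀ _ hc1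
  -- the side of `a`
  have hmem1 : (psi (RelProj.QGrHom.ofHom ι' hz'.graded) (diagCh' u k)) ((psi u k) k.f) ∈
      𝒮h'.deg k.U' k.hU' k.d :=
    (psi (RelProj.QGrHom.ofHom ι' hz'.graded) (diagCh' u k)).map_mem ((psi u k).map_mem k.hf)
  have hmem2 : (psi uh (hatCh hz k)) (hatCh hz k).f ∈ 𝒮h'.deg k.U' k.hU' k.d :=
    (psi uh (hatCh hz k)).map_mem (hatCh hz k).hf
  have hcast := awayι_cast k.hd _ _ heq hmem1 hmem2
  have ha1 : a₀ ≫ (RelCone.pointedProjCone 𝒮' hz' pC' chartC').ι =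
      (β ≫ Spec.map (CommRingCat.ofHom
        (awayMapEq (GradedRingHom.id (𝒮h'.deg k.U' k.hU')) _ _ heq))) ≫
        E (RelProj.QGrHom.ofHom ι' hz'.graded) pC' chartC' (diagCh' u k) := by
    rw [ha₀, Category.assoc]
    exact congrArg (fun m => β ≫ m)
      ((reassoc_of% hcast) (RelProj.emb pC' chartC' k.U' k.hU')).symm
  have ha2 := comp_of_factor (RelProj.QGrHom.ofHom ι' hz'.graded) p' chart' pC' chartC'
    (RelCone.pointedProjCone 𝒮' hz' pC' chartC') r' hr' (diagCh' u k) hrC' a₀ _ ha1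
  refine ⟨(β ≫ Spec.map (CommRingCat.ofHom
      (awayMapEq (GradedRingHom.id (𝒮h'.deg k.U' k.hU')) _ _ heq))) ≫
    Spec.map (CommRingCat.ofHom (Away.map (psi (RelProj.QGrHom.ofHom ι' hz'.graded)
      (diagCh' u k)) (diagCh' u k).f)), ?_, ?_⟩
  · rw [ha2]
    simp only [Category.assoc]
    rfl
  · rw [hc2]
    have hring : (Away.map (psi uh (hatCh hz k)) (hatCh hz k).f).comp
        (Away.map (psi (RelProj.QGrHom.ofHom ι hz.graded) (diagCh k)) k.f) =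
        ((awayMapEq (GradedRingHom.id (𝒮h'.deg k.U' k.hU')) _ _ heq).comp
          (Away.map (psi (RelProj.QGrHom.ofHom ι' hz'.graded) (diagCh' u k))
            (diagCh' u k).f)).comp (Away.map (psi u k) k.f) := by
      have h3 : (awayMapEq (GradedRingHom.id (𝒮h'.deg k.U' k.hU')) _ _ heq).comp
          (Away.map (psi (RelProj.QGrHom.ofHom ι' hz'.graded) (diagCh' u k))
            ((psi u k) k.f)) =
          awayMapEq (psi (RelProj.QGrHom.ofHom ι' hz'.graded) (diagCh' u k)) ((psi u k) k.f)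
            _ (hcomm k.f) := by
        exact (awayMapEq_comp (psi (RelProj.QGrHom.ofHom ι' hz'.graded) (diagCh' u k))
          (GradedRingHom.id (𝒮h'.deg k.U' k.hU')) ((psi u k) k.f) _ heq).trans
          (awayMapEq_congr (GradedRingHom.ext fun x => rfl) _ _ _ _)
      have h4 := awayMapEq_comm (psi u k)
        (psi (RelProj.QGrHom.ofHom ι' hz'.graded) (diagCh' u k))
        (psi (RelProj.QGrHom.ofHom ι hz.graded) (diagCh k)) (psi uh (hatCh hz k)) hcomm k.f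
      exact h4.symm.trans (congrArg (fun m => RingHom.comp m (Away.map (psi u k) k.f)) h3.symm)
    have hspec := spec_map_comp_eq _ _ _ _ _ hring
    exact comp_assoc_aux β _ _ _ _ _
      (Proj.awayι (𝒮.deg k.U k.hU) k.f k.hf k.hd ≫ RelProj.emb p chart k.U k.hU) hspec

include hC hC' hΦh hbc in
/-- every point of `T` has its image in `G(û)` inside a chart attached to a chart of `u` -/
theorem exists_hat_chart (t : T) :
    ∃ k : Ch q 𝒮, b.base t ∈ (lift uh pC' chartC' (hatCh hz k)).opensRange := by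
  have hWC : RelProj.domQ (RelProj.QGrHom.ofHom ι hz.graded) pC chartC =
      RelCone.pointedProjCone 𝒮 hz pC chartC := domQ_ofHom_eq ι hz.graded pC chartC hC
  have hΦh' := (isProjQMapOn_iff uh pC chartC pC' chartC' Φh).mp hΦh
  have hbct : Φh.base (b.base t) =
      (RelCone.pointedProjCone 𝒮 hz pC chartC).ι.base (c.base t) :=
    congrArg (fun m => m.base t) hbc
  have hx : (RelCone.pointedProjCone 𝒮 hz pC chartC).ι.base (c.base t) ∈
      RelProj.domQ (RelProj.QGrHom.ofHom ι hz.graded) pC chartC := by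
    rw [hWC]; exact (c.base t).2
  obtain ⟨U, hU, d, hd, f, hf, hxE⟩ := exists_diag_chart ι hz.graded pC chartC hC _ hx
  obtain ⟨z₀, hz₀, hz₀x⟩ := (mem_range_E_iff (RelProj.QGrHom.ofHom ι hz.graded) pC chartC
    (diag U hU hd f hf) _).mp hxE
  have hover := isProjQMapOn_over uh pC chartC pC' chartC' hC hC' Φh hΦh
  have hpt : pC.base (Φh.base (b.base t)) =
      q.base (pC'.base ((RelProj.domQ uh pC' chartC').ι.base (b.base t))) :=
    congrArg (fun m => m.base (b.base t)) hover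
  have hyU : q.base (pC'.base ((RelProj.domQ uh pC' chartC').ι.base (b.base t))) ∈ U := by
    rw [← hpt, hbct, ← hz₀x]
    exact emb_mem_preimage pC chartC U hU z₀
  obtain ⟨U', hU0', hyU', hle⟩ := Opens.isBasis_iff_nbhd.1 Y'.isBasis_affineOpens
    (show pC'.base ((RelProj.domQ uh pC' chartC').ι.base (b.base t)) ∈ q ⁻¹ᵁ U from hyU)
  have hU' : IsAffineOpen U' := hU0'
  exact ⟨⟨U, hU, U', hU', hle, d, hd, f, hf⟩,
    mem_opensRange_lift_of_mem uh pC chartC pC' chartC' hC hC' Φh hΦh'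
      (hatCh hz ⟨U, hU, U', hU', hle, d, hd, f, hf⟩) (b.base t)
      ⟨z₀, hz₀, hz₀x.trans hbct.symm⟩ hyU'⟩

include hC hC' huh hΦh hr hr' hab hbc in
/-- the local form of the cone square -/
theorem cone_square_local (t : T) :
    ∃ (T₀ : T.Opens) (_ : t ∈ T₀) (k : Ch q 𝒮) (δ : (T₀ : Scheme.{u}) ⟶ Spec (ring u k)),
      (T₀.ι ≫ a) ≫ r' = δ ≫ E u p' chart' k ∧ (T₀.ι ≫ c) ≫ r = δ ≫ R u p chart k := by
  have hΦh' := (isProjQMapOn_iff uh pC chartC pC' chartC' Φh).mp hΦh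
  obtain ⟨k, hbt⟩ := exists_hat_chart hz pC chartC hC pC' chartC' hC' uh Φh hΦh b c hbc t
  refine ⟨b ⁻¹ᵁ (lift uh pC' chartC' (hatCh hz k)).opensRange, hbt, k, ?_⟩
  have hrange : Set.range ((b ⁻¹ᵁ (lift uh pC' chartC' (hatCh hz k)).opensRange).ι ≫ b).base ⊆
      Set.range (lift uh pC' chartC' (hatCh hz k)).base := by
    rintro _ ⟨w, rfl⟩
    exact w.2
  obtain ⟨β, hβ⟩ : ∃ β : ((b ⁻¹ᵁ (lift uh pC' chartC' (hatCh hz k)).opensRange : T.Opens) :
      Scheme.{u}) ⟶ Spec (ring uh (hatCh hz k)),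
      β ≫ lift uh pC' chartC' (hatCh hz k) =
        (b ⁻¹ᵁ (lift uh pC' chartC' (hatCh hz k)).opensRange).ι ≫ b :=
    ⟨IsOpenImmersion.lift _ _ hrange, IsOpenImmersion.lift_fac _ _ _⟩
  have ha₀ : ((b ⁻¹ᵁ (lift uh pC' chartC' (hatCh hz k)).opensRange).ι ≫ a) ≫
      (RelCone.pointedProjCone 𝒮' hz' pC' chartC').ι = β ≫ E uh pC' chartC' (hatCh hz k) := by
    rw [Category.assoc, hab, ← Category.assoc, ← hβ, Category.assoc, lift_ι]
  have hc₀ : ((b ⁻¹ᵁ (lift uh pC' chartC' (hatCh hz k)).opensRange).ι ≫ c) ≫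
      (RelCone.pointedProjCone 𝒮 hz pC chartC).ι = β ≫ R uh pC chartC (hatCh hz k) := by
    rw [Category.assoc, ← hbc, ← Category.assoc, ← hβ, Category.assoc, hΦh' (hatCh hz k)]
  exact cone_square_chart u hz pC chartC hC hz' pC' chartC' hC' uh huh p chart p' chart' r hr r' hr'
    k β _ _ ha₀ hc₀

include hC hC' huh hΦh hΦ hr hr' hab hbc in
/-- the cone square on `T`-valued points -/
theorem cone_square :
    Set.range (a ≫ r').base ⊆ ((RelProj.domQ u p' chart' : P'.Opens) : Set P') ∧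
      ∀ dd : T ⟶ ((RelProj.domQ u p' chart' : P'.Opens) : Scheme.{u}),
        a ≫ r' = dd ≫ (RelProj.domQ u p' chart').ι → c ≫ r = dd ≫ Φ := by
  constructor
  · rintro _ ⟨t, rfl⟩
    obtain ⟨T₀, ht, k, δ, h1, -⟩ := cone_square_local u hz pC chartC hC hz' pC' chartC' hC' uh huh
      Φh hΦh p chart p' chart' r hr r' hr' a b c hab hbc t
    have e : (a ≫ r').base t = (E u p' chart' k).base (δ.base ⟨t, ht⟩) :=
      congrArg (fun m => m.base ⟨t, ht⟩) h1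
    rw [e]
    have h2 := RelProj.range_awayEmb_subset_domQ u p' chart' k.U k.hU k.U' k.hU' k.hle k.hd k.f
      k.hf ⟨δ.base ⟨t, ht⟩, rfl⟩
    rw [Scheme.Opens.range_ι] at h2
    exact h2
  · intro dd hdd
    refine hom_ext_of_local _ _ fun t => ?_
    obtain ⟨T₀, ht, k, δ, h1, h2⟩ := cone_square_local u hz pC chartC hC hz' pC' chartC' hC' uh huh
      Φh hΦh p chart p' chart' r hr r' hr' a b c hab hbc t
    refine ⟨T₀, ht, ?_⟩
    have h3 : (T₀.ι ≫ dd) ≫ (RelProj.domQ u p' chart').ι = δ ≫ E u p' chart' k := by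
      rw [Category.assoc, ← hdd, ← Category.assoc, h1]
    have h4 := comp_of_factor u p chart p' chart' (RelProj.domQ u p' chart') Φ hΦ k
      (RelProj.range_awayEmb_subset_domQ u p' chart' k.U k.hU k.U' k.hU' k.hle k.hd k.f k.hf)
      (T₀.ι ≫ dd) δ h3
    rw [← Category.assoc, h2, ← Category.assoc, h4]

end conesquare

end Groth.Agent.H41.ProjQ
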