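import Groth.Agent.H41.ProjQ13

/-!
# Commutative squares of graded morphisms and the induced morphisms of relative `Proj`

For graded homomorphisms `φ : 𝒜 → ℬ` on `Y`, `φ' : 𝒜' → ℬ'` on `Y'` and graded `q`-morphisms
`u : 𝒜 → 𝒜'`, `v : ℬ → ℬ'` with `v ∘ φ = φ' ∘ u`:
`Proj(φ) ∘ Proj(v) = Proj(u) ∘ Proj(φ')` where defined, on `T`-valued points.
-/

set_option autoImplicit false
set_option linter.style.haveILetI false
universe u

open CategoryTheory CategoryTheory.Limits AlgebraicGeometry TopologicalSpace Opposite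
open HomogeneousLocalization
open scoped HomogeneousIdeal

noncomputable section

namespace Groth.Agent.H41.ProjQ

open Groth.Agent.H41.RelConeLib Groth.Agent.H41.ProjConeLib Groth.Agent.H41.RelProjLib

/-! ### polynomial extension of ring homomorphisms -/

section poly

variable {Y : Scheme.{u}} {𝒮 𝒮h : RelProj.QCGrAlg Y} {ι : 𝒮.toQCAlg ⟶ 𝒮h.toQCAlg}
  {z : 𝒮h.presheaf.obj (op ⊤)} (h : RelCone.IsPolyOver 𝒮 𝒮h ι z)
  (U : Y.Opens) (hU : IsAffineOpen U)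

include h hU in
/-- ring homomorphisms out of `𝒮[z](U)` are determined on `𝒮(U)` and `z` -/
theorem ringHom_ext_poly {R : Type*} [Semiring R] (f g : 𝒮h.presheaf.obj (op U) →+* R)
    (hι : ∀ a, f ((ι.hom.app (op U)).hom a) = g ((ι.hom.app (op U)).hom a))
    (hz : f (RelCone.restrictTop 𝒮h z U) = g (RelCone.restrictTop 𝒮h z U)) : f = g := by
  have hfg : f.comp (Polynomial.eval₂RingHom (ι.hom.app (op U)).hom
      (RelCone.restrictTop 𝒮h z U)) =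
      g.comp (Polynomial.eval₂RingHom (ι.hom.app (op U)).hom (RelCone.restrictTop 𝒮h z U)) := by
    apply Polynomial.ringHom_ext
    · intro a
      simp only [RingHom.coe_comp, Function.comp_apply, Polynomial.coe_eval₂RingHom,
        Polynomial.eval₂_C]
      exact hι a
    · simp only [RingHom.coe_comp, Function.comp_apply, Polynomial.coe_eval₂RingHom,
        Polynomial.eval₂_X]
      exact hz
  refine RingHom.ext fun x => ?_
  obtain ⟨p, rfl⟩ := (h.bij U hU).2 x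
  exact RingHom.congr_fun hfg p

end poly

/-! ### the general square -/

section square

variable {Y Y' : Scheme.{u}} {q : Y' ⟶ Y}
  {𝒜 ℬ : RelProj.QCGrAlg Y} (φ : 𝒜.toQCAlg ⟶ ℬ.toQCAlg) (hφ : RelProj.IsGradedHom φ)
  {𝒜' ℬ' : RelProj.QCGrAlg Y'} (φ' : 𝒜'.toQCAlg ⟶ ℬ'.toQCAlg) (hφ' : RelProj.IsGradedHom φ')
  (u : RelProj.QGrHom q 𝒜 𝒜') (v : RelProj.QGrHom q ℬ ℬ')
  (hcomm : ∀ (U : Y.Opens) (_ : IsAffineOpen U) (U' : Y'.Opens) (_ : IsAffineOpen U')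
    (hle : U' ≤ q ⁻¹ᵁ U) (x : 𝒜.presheaf.obj (op U)),
    (v.appLE U U' hle).hom ((φ.hom.app (op U)).hom x) =
      (φ'.hom.app (op U')).hom ((u.appLE U U' hle).hom x))
  {PA PB PA' PB' : Scheme.{u}}
  (pA : PA ⟶ Y)
  (chartA : ∀ (U : Y.Opens) (hU : IsAffineOpen U),
    (((pA ⁻¹ᵁ U : PA.Opens) : Scheme.{u}) ≅ Proj (𝒜.deg U hU)))
  (pB : PB ⟶ Y)
  (chartB : ∀ (U : Y.Opens) (hU : IsAffineOpen U),
    (((pB ⁻¹ᵁ U : PB.Opens) : Scheme.{u}) ≅ Proj (ℬ.deg U hU)))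
  (hB : RelProj.IsRelProj ℬ pB chartB)
  (pA' : PA' ⟶ Y')
  (chartA' : ∀ (U : Y'.Opens) (hU : IsAffineOpen U),
    (((pA' ⁻¹ᵁ U : PA'.Opens) : Scheme.{u}) ≅ Proj (𝒜'.deg U hU)))
  (pB' : PB' ⟶ Y')
  (chartB' : ∀ (U : Y'.Opens) (hU : IsAffineOpen U),
    (((pB' ⁻¹ᵁ U : PB'.Opens) : Scheme.{u}) ≅ Proj (ℬ'.deg U hU)))
  (hB' : RelProj.IsRelProj ℬ' pB' chartB')
  (Φv : ((RelProj.domQ v pB' chartB' : PB'.Opens) : Scheme.{u}) ⟶ PB)
  (hΦv : RelProj.IsProjQMapOn v pB chartB pB' chartB' (RelProj.domQ v pB' chartB') Φv)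
  (Φu : ((RelProj.domQ u pA' chartA' : PA'.Opens) : Scheme.{u}) ⟶ PA)
  (hΦu : RelProj.IsProjQMapOn u pA chartA pA' chartA' (RelProj.domQ u pA' chartA') Φu)
  (r : ((RelProj.domQ (RelProj.QGrHom.ofHom φ hφ) pB chartB : PB.Opens) : Scheme.{u}) ⟶ PA)
  (hr : RelProj.IsProjQMapOn (RelProj.QGrHom.ofHom φ hφ) pA chartA pB chartB
    (RelProj.domQ (RelProj.QGrHom.ofHom φ hφ) pB chartB) r)
  (r' : ((RelProj.domQ (RelProj.QGrHom.ofHom φ' hφ') pB' chartB' : PB'.Opens) : Scheme.{u}) ⟶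
    PA')
  (hr' : RelProj.IsProjQMapOn (RelProj.QGrHom.ofHom φ' hφ') pA' chartA' pB' chartB'
    (RelProj.domQ (RelProj.QGrHom.ofHom φ' hφ') pB' chartB') r')
  {T : Scheme.{u}}
  (a : T ⟶ ((RelProj.domQ (RelProj.QGrHom.ofHom φ' hφ') pB' chartB' : PB'.Opens) : Scheme.{u}))
  (b : T ⟶ ((RelProj.domQ v pB' chartB' : PB'.Opens) : Scheme.{u}))
  (c : T ⟶ ((RelProj.domQ (RelProj.QGrHom.ofHom φ hφ) pB chartB : PB.Opens) : Scheme.{u}))
  (hab : a ≫ (RelProj.domQ (RelProj.QGrHom.ofHom φ' hφ') pB' chartB').ι =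
    b ≫ (RelProj.domQ v pB' chartB').ι)
  (hbc : b ≫ Φv = c ≫ (RelProj.domQ (RelProj.QGrHom.ofHom φ hφ) pB chartB).ι)

/-- the chart of `v` attached to a chart of `u` -/
def sqCh (k : Ch q 𝒜) : Ch q ℬ :=
  ⟨k.U, k.hU, k.U', k.hU', k.hle, k.d, k.hd,
    (RelProj.QGrHom.ofHom φ hφ).gradedAt k.U k.hU k.U k.hU (le_id k.U) k.f,
    ((RelProj.QGrHom.ofHom φ hφ).gradedAt k.U k.hU k.U k.hU (le_id k.U)).map_mem k.hf⟩

include hcomm in
theorem square_comm (k : Ch q 𝒜) (x : 𝒜.presheaf.obj (op k.U)) :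
    (psi (RelProj.QGrHom.ofHom φ' hφ') (diagCh' u k)) ((psi u k) x) =
      (psi v (sqCh φ hφ k)) ((psi (RelProj.QGrHom.ofHom φ hφ) (diagCh k)) x) := by
  have h1 : (psi (RelProj.QGrHom.ofHom φ' hφ') (diagCh' u k)) ((psi u k) x) =
      (φ'.hom.app (op k.U')).hom ((u.appLE k.U k.U' k.hle).hom x) :=
    gradedAt_self_apply φ' hφ' k.U' k.hU' (le_id k.U') _
  have h2 : (psi (RelProj.QGrHom.ofHom φ hφ) (diagCh k)) x = (φ.hom.app (op k.U)).hom x :=
    gradedAt_self_apply φ hφ k.U k.hU (le_id k.U) x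
  rw [h1, h2]
  exact (hcomm k.U k.hU k.U' k.hU' k.hle x).symm

include hcomm hr hr' in
/-- the chart computation -/
theorem square_chart (k : Ch q 𝒜) {T₀ : Scheme.{u}}
    (β : T₀ ⟶ Spec (ring v (sqCh φ hφ k)))
    (a₀ : T₀ ⟶ ((RelProj.domQ (RelProj.QGrHom.ofHom φ' hφ') pB' chartB' : PB'.Opens) :
      Scheme.{u}))
    (c₀ : T₀ ⟶ ((RelProj.domQ (RelProj.QGrHom.ofHom φ hφ) pB chartB : PB.Opens) : Scheme.{u}))
    (ha₀ : a₀ ≫ (RelProj.domQ (RelProj.QGrHom.ofHom φ' hφ') pB' chartB').ι =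
      β ≫ E v pB' chartB' (sqCh φ hφ k))
    (hc₀ : c₀ ≫ (RelProj.domQ (RelProj.QGrHom.ofHom φ hφ) pB chartB).ι =
      β ≫ R v pB chartB (sqCh φ hφ k)) :
    ∃ δ : T₀ ⟶ Spec (ring u k),
      a₀ ≫ r' = δ ≫ E u pA' chartA' k ∧ c₀ ≫ r = δ ≫ R u pA chartA k := by
  have hrC : Set.range (E (RelProj.QGrHom.ofHom φ hφ) pB chartB (diagCh k)).base ⊆
      Set.range (RelProj.domQ (RelProj.QGrHom.ofHom φ hφ) pB chartB).ι.base :=
    RelProj.range_awayEmb_subset_domQ (RelProj.QGrHom.ofHom φ hφ) pB chartB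
      k.U k.hU k.U k.hU (le_id k.U) k.hd k.f k.hf
  have hrC' : Set.range (E (RelProj.QGrHom.ofHom φ' hφ') pB' chartB' (diagCh' u k)).base ⊆
      Set.range (RelProj.domQ (RelProj.QGrHom.ofHom φ' hφ') pB' chartB').ι.base :=
    RelProj.range_awayEmb_subset_domQ (RelProj.QGrHom.ofHom φ' hφ') pB' chartB'
      k.U' k.hU' k.U' k.hU' (le_id k.U') k.hd (psi u k k.f) ((psi u k).map_mem k.hf)
  have hcm := square_comm φ hφ φ' hφ' u v hcomm k
  have heq : (GradedRingHom.id (ℬ'.deg k.U' k.hU'))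
      ((psi (RelProj.QGrHom.ofHom φ' hφ') (diagCh' u k)) ((psi u k) k.f)) =
      (psi v (sqCh φ hφ k)) (sqCh φ hφ k).f := hcm k.f
  -- the side of `c`
  have hc1 : c₀ ≫ (RelProj.domQ (RelProj.QGrHom.ofHom φ hφ) pB chartB).ι =
      (β ≫ Spec.map (CommRingCat.ofHom (Away.map (psi v (sqCh φ hφ k)) (sqCh φ hφ k).f))) ≫
        E (RelProj.QGrHom.ofHom φ hφ) pB chartB (diagCh k) := by
    rw [hc₀, Category.assoc]
    rfl
  have hc2 := comp_of_factor (RelProj.QGrHom.ofHom φ hφ) pA chartA pB chartB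
    (RelProj.domQ (RelProj.QGrHom.ofHom φ hφ) pB chartB) r hr (diagCh k) hrC c₀ _ hc1
  -- the side of `a`
  have hmem1 : (psi (RelProj.QGrHom.ofHom φ' hφ') (diagCh' u k)) ((psi u k) k.f) ∈
      ℬ'.deg k.U' k.hU' k.d :=
    (psi (RelProj.QGrHom.ofHom φ' hφ') (diagCh' u k)).map_mem ((psi u k).map_mem k.hf)
  have hmem2 : (psi v (sqCh φ hφ k)) (sqCh φ hφ k).f ∈ ℬ'.deg k.U' k.hU' k.d :=
    (psi v (sqCh φ hφ k)).map_mem (sqCh φ hφ k).hf
  have hcast := awayι_cast k.hd _ _ heq hmem1 hmem2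
  have ha1 : a₀ ≫ (RelProj.domQ (RelProj.QGrHom.ofHom φ' hφ') pB' chartB').ι =
      (β ≫ Spec.map (CommRingCat.ofHom
        (awayMapEq (GradedRingHom.id (ℬ'.deg k.U' k.hU')) _ _ heq))) ≫
        E (RelProj.QGrHom.ofHom φ' hφ') pB' chartB' (diagCh' u k) := by
    rw [ha₀, Category.assoc]
    exact congrArg (fun m => β ≫ m)
      ((reassoc_of% hcast) (RelProj.emb pB' chartB' k.U' k.hU')).symm
  have ha2 := comp_of_factor (RelProj.QGrHom.ofHom φ' hφ') pA' chartA' pB' chartB'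
    (RelProj.domQ (RelProj.QGrHom.ofHom φ' hφ') pB' chartB') r' hr' (diagCh' u k) hrC' a₀ _ ha1
  refine ⟨(β ≫ Spec.map (CommRingCat.ofHom
      (awayMapEq (GradedRingHom.id (ℬ'.deg k.U' k.hU')) _ _ heq))) ≫
    Spec.map (CommRingCat.ofHom (Away.map (psi (RelProj.QGrHom.ofHom φ' hφ')
      (diagCh' u k)) (diagCh' u k).f)), ?_, ?_⟩
  · rw [ha2]
    simp only [Category.assoc]
    rfl
  · rw [hc2]
    have hring : (Away.map (psi v (sqCh φ hφ k)) (sqCh φ hφ k).f).comp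
        (Away.map (psi (RelProj.QGrHom.ofHom φ hφ) (diagCh k)) k.f) =
        ((awayMapEq (GradedRingHom.id (ℬ'.deg k.U' k.hU')) _ _ heq).comp
          (Away.map (psi (RelProj.QGrHom.ofHom φ' hφ') (diagCh' u k))
            (diagCh' u k).f)).comp (Away.map (psi u k) k.f) := by
      have h3 : (awayMapEq (GradedRingHom.id (ℬ'.deg k.U' k.hU')) _ _ heq).comp
          (Away.map (psi (RelProj.QGrHom.ofHom φ' hφ') (diagCh' u k))
            ((psi u k) k.f)) =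
          awayMapEq (psi (RelProj.QGrHom.ofHom φ' hφ') (diagCh' u k)) ((psi u k) k.f)
            _ (hcm k.f) :=
        (awayMapEq_comp (psi (RelProj.QGrHom.ofHom φ' hφ') (diagCh' u k))
          (GradedRingHom.id (ℬ'.deg k.U' k.hU')) ((psi u k) k.f) _ heq).trans
          (awayMapEq_congr (GradedRingHom.ext fun x => rfl) _ _ _ _)
      have h4 := awayMapEq_comm (psi u k)
        (psi (RelProj.QGrHom.ofHom φ' hφ') (diagCh' u k))
        (psi (RelProj.QGrHom.ofHom φ hφ) (diagCh k)) (psi v (sqCh φ hφ k)) hcm k.f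
      exact h4.symm.trans (congrArg (fun m => RingHom.comp m (Away.map (psi u k) k.f)) h3.symm)
    have hspec := spec_map_comp_eq _ _ _ _ _ hring
    exact comp_assoc_aux β _ _ _ _ _
      (Proj.awayι (𝒜.deg k.U k.hU) k.f k.hf k.hd ≫ RelProj.emb pA chartA k.U k.hU) hspec

include hB hB' hΦv hbc in
/-- every point of `T` has its image in `G(v)` inside a chart attached to a chart of `u` -/
theorem exists_sq_chart (t : T) :
    ∃ k : Ch q 𝒜, b.base t ∈ (lift v pB' chartB' (sqCh φ hφ k)).opensRange := by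
  have hΦv' := (isProjQMapOn_iff v pB chartB pB' chartB' Φv).mp hΦv
  have hbct : Φv.base (b.base t) =
      (RelProj.domQ (RelProj.QGrHom.ofHom φ hφ) pB chartB).ι.base (c.base t) :=
    congrArg (fun m => m.base t) hbc
  have hx : (RelProj.domQ (RelProj.QGrHom.ofHom φ hφ) pB chartB).ι.base (c.base t) ∈
      RelProj.domQ (RelProj.QGrHom.ofHom φ hφ) pB chartB := (c.base t).2
  obtain ⟨U, hU, d, hd, f, hf, hxE⟩ := exists_diag_chart φ hφ pB chartB hB _ hx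
  obtain ⟨z₀, hz₀, hz₀x⟩ := (mem_range_E_iff (RelProj.QGrHom.ofHom φ hφ) pB chartB
    (diag U hU hd f hf) _).mp hxE
  have hover := isProjQMapOn_over v pB chartB pB' chartB' hB hB' Φv hΦv
  have hpt : pB.base (Φv.base (b.base t)) =
      q.base (pB'.base ((RelProj.domQ v pB' chartB').ι.base (b.base t))) :=
    congrArg (fun m => m.base (b.base t)) hover
  have hyU : q.base (pB'.base ((RelProj.domQ v pB' chartB').ι.base (b.base t))) ∈ U := by
    rw [← hpt, hbct, ← hz₀x]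
    exact emb_mem_preimage pB chartB U hU z₀
  obtain ⟨U', hU0', hyU', hle⟩ := Opens.isBasis_iff_nbhd.1 Y'.isBasis_affineOpens
    (show pB'.base ((RelProj.domQ v pB' chartB').ι.base (b.base t)) ∈ q ⁻¹ᵁ U from hyU)
  have hU' : IsAffineOpen U' := hU0'
  exact ⟨⟨U, hU, U', hU', hle, d, hd, f, hf⟩,
    mem_opensRange_lift_of_mem v pB chartB pB' chartB' hB hB' Φv hΦv'
      (sqCh φ hφ ⟨U, hU, U', hU', hle, d, hd, f, hf⟩) (b.base t)
      ⟨z₀, hz₀, hz₀x.trans hbct.symm⟩ hyU'⟩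

include hcomm hB hB' hΦv hr hr' hab hbc in
/-- the local form of the square -/
theorem square_local (t : T) :
    ∃ (T₀ : T.Opens) (_ : t ∈ T₀) (k : Ch q 𝒜) (δ : (T₀ : Scheme.{u}) ⟶ Spec (ring u k)),
      (T₀.ι ≫ a) ≫ r' = δ ≫ E u pA' chartA' k ∧ (T₀.ι ≫ c) ≫ r = δ ≫ R u pA chartA k := by
  have hΦv' := (isProjQMapOn_iff v pB chartB pB' chartB' Φv).mp hΦv
  obtain ⟨k, hbt⟩ := exists_sq_chart φ hφ v pB chartB hB pB' chartB' hB' Φv hΦv b c hbc t
  refine ⟨b ⁻¹ᵁ (lift v pB' chartB' (sqCh φ hφ k)).opensRange, hbt, k, ?_⟩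
  have hrange : Set.range ((b ⁻¹ᵁ (lift v pB' chartB' (sqCh φ hφ k)).opensRange).ι ≫ b).base ⊆
      Set.range (lift v pB' chartB' (sqCh φ hφ k)).base := by
    rintro _ ⟨w, rfl⟩
    exact w.2
  obtain ⟨β, hβ⟩ : ∃ β : ((b ⁻¹ᵁ (lift v pB' chartB' (sqCh φ hφ k)).opensRange : T.Opens) :
      Scheme.{u}) ⟶ Spec (ring v (sqCh φ hφ k)),
      β ≫ lift v pB' chartB' (sqCh φ hφ k) =
        (b ⁻¹ᵁ (lift v pB' chartB' (sqCh φ hφ k)).opensRange).ι ≫ b :=
    ⟨IsOpenImmersion.lift _ _ hrange, IsOpenImmersion.lift_fac _ _ _⟩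
  have ha₀ : ((b ⁻¹ᵁ (lift v pB' chartB' (sqCh φ hφ k)).opensRange).ι ≫ a) ≫
      (RelProj.domQ (RelProj.QGrHom.ofHom φ' hφ') pB' chartB').ι =
      β ≫ E v pB' chartB' (sqCh φ hφ k) := by
    rw [Category.assoc, hab, ← Category.assoc, ← hβ, Category.assoc, lift_ι]
  have hc₀ : ((b ⁻¹ᵁ (lift v pB' chartB' (sqCh φ hφ k)).opensRange).ι ≫ c) ≫
      (RelProj.domQ (RelProj.QGrHom.ofHom φ hφ) pB chartB).ι =
      β ≫ R v pB chartB (sqCh φ hφ k) := by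
    rw [Category.assoc, ← hbc, ← Category.assoc, ← hβ, Category.assoc, hΦv' (sqCh φ hφ k)]
  exact square_chart φ hφ φ' hφ' u v hcomm pA chartA pB chartB pA' chartA' pB' chartB' r hr r' hr'
    k β _ _ ha₀ hc₀

include hcomm hB hB' hΦv hΦu hr hr' hab hbc in
/-- the square on `T`-valued points -/
theorem square :
    Set.range (a ≫ r').base ⊆ ((RelProj.domQ u pA' chartA' : PA'.Opens) : Set PA') ∧
      ∀ dd : T ⟶ ((RelProj.domQ u pA' chartA' : PA'.Opens) : Scheme.{u}),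
        a ≫ r' = dd ≫ (RelProj.domQ u pA' chartA').ι → c ≫ r = dd ≫ Φu := by
  constructor
  · rintro _ ⟨t, rfl⟩
    obtain ⟨T₀, ht, k, δ, h1, -⟩ := square_local φ hφ φ' hφ' u v hcomm pA chartA pB chartB hB
      pA' chartA' pB' chartB' hB' Φv hΦv r hr r' hr' a b c hab hbc t
    have e : (a ≫ r').base t = (E u pA' chartA' k).base (δ.base ⟨t, ht⟩) :=
      congrArg (fun m => m.base ⟨t, ht⟩) h1
    rw [e]
    have h2 := RelProj.range_awayEmb_subset_domQ u pA' chartA' k.U k.hU k.U' k.hU' k.hle k.hd k.f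
      k.hf ⟨δ.base ⟨t, ht⟩, rfl⟩
    rw [Scheme.Opens.range_ι] at h2
    exact h2
  · intro dd hdd
    refine hom_ext_of_local _ _ fun t => ?_
    obtain ⟨T₀, ht, k, δ, h1, h2⟩ := square_local φ hφ φ' hφ' u v hcomm pA chartA pB chartB hB
      pA' chartA' pB' chartB' hB' Φv hΦv r hr r' hr' a b c hab hbc t
    refine ⟨T₀, ht, ?_⟩
    have h3 : (T₀.ι ≫ dd) ≫ (RelProj.domQ u pA' chartA').ι = δ ≫ E u pA' chartA' k := by
      rw [Category.assoc, ← hdd, ← Category.assoc, h1]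
    have h4 := comp_of_factor u pA chartA pA' chartA' (RelProj.domQ u pA' chartA') Φu hΦu k
      (RelProj.range_awayEmb_subset_domQ u pA' chartA' k.U k.hU k.U' k.hU' k.hle k.hd k.f k.hf)
      (T₀.ι ≫ dd) δ h3
    rw [← Category.assoc, h2, ← Category.assoc, h4]

end square

end Groth.Agent.H41.ProjQ
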