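import Groth.Agent.H41.ProjQ14
import Groth.Agent.H41.ConeImmLib

/-!
# The square of cone immersions: `Φ̂ ∘ i' = i ∘ Spec(φ)`
-/

set_option autoImplicit false
set_option linter.style.haveILetI false
universe u

open CategoryTheory CategoryTheory.Limits AlgebraicGeometry TopologicalSpace Opposite
open HomogeneousLocalization
open scoped HomogeneousIdeal

noncomputable section

namespace Groth.Agent.H41.ProjQ

open Groth.Agent.H41.RelConeLib Groth.Agent.H41.ProjConeLib Groth.Agent.H41.RelProjLib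
  Groth.Agent.H41.ConeImmLib

section ring

variable {A B : Type u} [CommRing A] [CommRing B]
  {𝒜 : ℕ → AddSubgroup A} {ℬ : ℕ → AddSubgroup B} [GradedRing 𝒜] [GradedRing ℬ]

theorem awayMapEq_mk (φ : 𝒜 →+*ᵍ ℬ) {d : ℕ} {f : A} (hf : f ∈ 𝒜 d) (t : B) (h : φ f = t)
    (ht : t ∈ ℬ d) (k : ℕ) (x : A) (hx : x ∈ 𝒜 (k • d)) :
    awayMapEq φ f t h (Away.mk 𝒜 hf k x hx) = Away.mk ℬ ht k (φ x) (φ.map_mem hx) := by
  subst h
  exact Away.map_mk φ f hf k x hx

theorem spec_map_comp_eq' {R₁ R₂ R₃ R₄ R₅ : Type u} [CommRing R₁] [CommRing R₂] [CommRing R₃]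
    [CommRing R₄] [CommRing R₅] (AM : R₁ →+* R₂) (cst : R₂ →+* R₃) (a' : R₃ →+* R₅)
    (a : R₁ →+* R₄) (w : R₄ →+* R₅) (h : (a'.comp cst).comp AM = w.comp a) :
    (Spec.map (CommRingCat.ofHom a') ≫ Spec.map (CommRingCat.ofHom cst)) ≫
        Spec.map (CommRingCat.ofHom AM) =
      Spec.map (CommRingCat.ofHom w) ≫ Spec.map (CommRingCat.ofHom a) := by
  simp only [← Spec.map_comp, ← CommRingCat.ofHom_comp]
  exact congrArg (fun m => Spec.map (CommRingCat.ofHom m)) h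

end ring

/-- morphisms agreeing on an open cover of the source are equal -/
theorem hom_ext_of_cover {T Z : Scheme.{u}} (f₁ f₂ : T ⟶ Z)
    (h : ∀ t : T, ∃ (V : Scheme.{u}) (j : V ⟶ T), IsOpenImmersion j ∧ t ∈ Set.range j.base ∧
      j ≫ f₁ = j ≫ f₂) : f₁ = f₂ := by
  choose V j hj ht h using h
  let 𝒰 : T.OpenCover :=
    { I₀ := T
      X := V
      f := j
      mem₀ := by
        rw [Scheme.presieve₀_mem_precoverage_iff]
        exact ⟨fun x => ⟨x, ht x⟩, fun t => hj t⟩ }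
  exact 𝒰.hom_ext f₁ f₂ h

section coneimm

variable {Y Y' PC PC' : Scheme.{u}} {q : Y' ⟶ Y}
  {𝒮 : RelProj.QCGrAlg Y} {𝒮' : RelProj.QCGrAlg Y'} (u : RelProj.QGrHom q 𝒮 𝒮')
  {𝒮h : RelProj.QCGrAlg Y} {ι : 𝒮.toQCAlg ⟶ 𝒮h.toQCAlg} {z : 𝒮h.presheaf.obj (op ⊤)}
  (hz : RelCone.IsPolyOver 𝒮 𝒮h ι z)
  (pC : PC ⟶ Y)
  (chartC : ∀ (U : Y.Opens) (hU : IsAffineOpen U),
    (((pC ⁻¹ᵁ U : PC.Opens) : Scheme.{u}) ≅ Proj (𝒮h.deg U hU)))
  {𝒮h' : RelProj.QCGrAlg Y'} {ι' : 𝒮'.toQCAlg ⟶ 𝒮h'.toQCAlg} {z' : 𝒮h'.presheaf.obj (op ⊤)}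
  (hz' : RelCone.IsPolyOver 𝒮' 𝒮h' ι' z')
  (pC' : PC' ⟶ Y')
  (chartC' : ∀ (U : Y'.Opens) (hU : IsAffineOpen U),
    (((pC' ⁻¹ᵁ U : PC'.Opens) : Scheme.{u}) ≅ Proj (𝒮h'.deg U hU)))
  (uh : RelProj.QGrHom q 𝒮h 𝒮h')
  (huh : ∀ U : Y.Opens, ι.hom.app (op U) ≫ uh.app U = u.app U ≫ ι'.hom.app (op (q ⁻¹ᵁ U)))
  (huhz : (uh.app ⊤).hom z = RelCone.restrictTop 𝒮h' z' (q ⁻¹ᵁ ⊤))
  (Φh : ((RelProj.domQ uh pC' chartC' : PC'.Opens) : Scheme.{u}) ⟶ PC)
  (hΦh : RelProj.IsProjQMapOn uh pC chartC pC' chartC' (RelProj.domQ uh pC' chartC') Φh)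
  (Φc : 𝒮'.toQCAlg.spec ⟶ 𝒮.toQCAlg.spec) (hΦc : RelSpec.IsSpecQMap u.toQHom Φc)
  (i : 𝒮.toQCAlg.spec ⟶ PC) (hi : RelCone.IsConeImm 𝒮 hz pC chartC i)
  (i' : 𝒮'.toQCAlg.spec ⟶ PC') (hi' : RelCone.IsConeImm 𝒮' hz' pC' chartC' i')

/-- the chart of `û` at `z` -/
def zCh (U : Y.Opens) (hU : IsAffineOpen U) (U' : Y'.Opens) (hU' : IsAffineOpen U')
    (hle : U' ≤ q ⁻¹ᵁ U) : Ch q 𝒮h :=
  ⟨U, hU, U', hU', hle, 1, one_pos, RelCone.restrictTop 𝒮h z U, hz.deg_z U hU⟩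

include huh huhz in
theorem coneimm_ring (U : Y.Opens) (hU : IsAffineOpen U) (U' : Y'.Opens) (hU' : IsAffineOpen U')
    (hle : U' ≤ q ⁻¹ᵁ U) :
    (hz'.awayZToBase U' hU').comp (awayMapEq (uh.gradedAt U hU U' hU' hle)
        (RelCone.restrictTop 𝒮h z U) (RelCone.restrictTop 𝒮h' z' U')
        (uh_z uh huhz U U' hle)) =
      (u.appLE U U' hle).hom.comp (hz.awayZToBase U hU) := by
  refine ringHom_ext_away hz U hU _ _ fun k y hy hm => ?_
  rw [RingHom.comp_apply, RingHom.comp_apply,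
    awayMapEq_mk (uh.gradedAt U hU U' hU' hle) (hz.deg_z U hU) _ (uh_z uh huhz U U' hle)
      (hz'.deg_z U' hU') k _ hm,
    hz'.awayZToBase_of_val U' hU' _ _ k rfl, hz.awayZToBase_of_val U hU _ _ k rfl,
    hz.evalOne_ι]
  show hz'.evalOne U' hU' ((uh.appLE U U' hle).hom ((ι.hom.app (op U)).hom y)) = _
  rw [uh_ι u uh huh U U' hle y, hz'.evalOne_ι]

include huhz hi' in
theorem coneimm_chart (U : Y.Opens) (hU : IsAffineOpen U) (U' : Y'.Opens)
    (hU' : IsAffineOpen U') (hle : U' ≤ q ⁻¹ᵁ U) :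
    𝒮'.toQCAlg.ι U' hU' ≫ i' =
      (Spec.map (CommRingCat.ofHom (hz'.awayZToBase U' hU')) ≫
        Spec.map (CommRingCat.ofHom (awayMapEq (GradedRingHom.id (𝒮h'.deg U' hU'))
          ((uh.gradedAt U hU U' hU' hle) (RelCone.restrictTop 𝒮h z U))
          (RelCone.restrictTop 𝒮h' z' U') (uh_z uh huhz U U' hle)))) ≫
        E uh pC' chartC' (zCh hz U hU U' hU' hle) := by
  rw [hi' U' hU', Category.assoc]
  have hcast := awayι_cast one_pos
    ((uh.gradedAt U hU U' hU' hle) (RelCone.restrictTop 𝒮h z U))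
    (RelCone.restrictTop 𝒮h' z' U') (uh_z uh huhz U U' hle)
    ((uh.gradedAt U hU U' hU' hle).map_mem (hz.deg_z U hU)) (hz'.deg_z U' hU')
  exact congrArg (fun m => Spec.map (CommRingCat.ofHom (hz'.awayZToBase U' hU')) ≫ m)
    ((reassoc_of% hcast) (RelProj.emb pC' chartC' U' hU')).symm

include huh huhz hΦh hΦc hi hi' in
/-- the square of cone immersions -/
theorem coneimm_square :
    Set.range i'.base ⊆ ((RelProj.domQ uh pC' chartC' : PC'.Opens) : Set PC') ∧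
      ∀ i'' : 𝒮'.toQCAlg.spec ⟶ ((RelProj.domQ uh pC' chartC' : PC'.Opens) : Scheme.{u}),
        i'' ≫ (RelProj.domQ uh pC' chartC').ι = i' → i'' ≫ Φh = Φc ≫ i := by
  constructor
  · rintro _ ⟨y, rfl⟩
    obtain ⟨U, hU, U', hU', hle, y', hy'⟩ := exists_chart_pair q 𝒮'.toQCAlg y
    have hch := coneimm_chart hz hz' pC' chartC' uh huhz i' hi' U hU U' hU' hle
    rw [← hy']
    have e := congrArg (fun m => m.base y') hch
    have e' : i'.base ((𝒮'.toQCAlg.ι U' hU').base y') =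
        (E uh pC' chartC' (zCh hz U hU U' hU' hle)).base
          ((Spec.map (CommRingCat.ofHom (hz'.awayZToBase U' hU')) ≫
            Spec.map (CommRingCat.ofHom (awayMapEq (GradedRingHom.id (𝒮h'.deg U' hU'))
              ((uh.gradedAt U hU U' hU' hle) (RelCone.restrictTop 𝒮h z U))
              (RelCone.restrictTop 𝒮h' z' U') (uh_z uh huhz U U' hle)))).base y') := e
    rw [e']
    have h2 := RelProj.range_awayEmb_subset_domQ uh pC' chartC' U hU U' hU' hle one_pos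
      (RelCone.restrictTop 𝒮h z U) (hz.deg_z U hU)
    rw [Scheme.Opens.range_ι] at h2
    exact h2 ⟨_, rfl⟩
  · intro i'' hi''
    refine hom_ext_of_cover _ _ fun y => ?_
    obtain ⟨U, hU, U', hU', hle, y', hy'⟩ := exists_chart_pair q 𝒮'.toQCAlg y
    refine ⟨_, 𝒮'.toQCAlg.ι U' hU', inferInstance, ⟨y', hy'⟩, ?_⟩
    have hch := coneimm_chart hz hz' pC' chartC' uh huhz i' hi' U hU U' hU' hle
    have h3 : (𝒮'.toQCAlg.ι U' hU' ≫ i'') ≫ (RelProj.domQ uh pC' chartC').ι =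
        (Spec.map (CommRingCat.ofHom (hz'.awayZToBase U' hU')) ≫
          Spec.map (CommRingCat.ofHom (awayMapEq (GradedRingHom.id (𝒮h'.deg U' hU'))
            ((uh.gradedAt U hU U' hU' hle) (RelCone.restrictTop 𝒮h z U))
            (RelCone.restrictTop 𝒮h' z' U') (uh_z uh huhz U U' hle)))) ≫
          E uh pC' chartC' (zCh hz U hU U' hU' hle) := by
      rw [Category.assoc, hi'', hch]
    have h4 := comp_of_factor uh pC chartC pC' chartC' (RelProj.domQ uh pC' chartC') Φh hΦh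
      (zCh hz U hU U' hU' hle)
      (RelProj.range_awayEmb_subset_domQ uh pC' chartC' U hU U' hU' hle one_pos
        (RelCone.restrictTop 𝒮h z U) (hz.deg_z U hU)) _ _ h3
    have hL : 𝒮'.toQCAlg.ι U' hU' ≫ i'' ≫ Φh =
        (Spec.map (CommRingCat.ofHom (hz'.awayZToBase U' hU')) ≫
          Spec.map (CommRingCat.ofHom (awayMapEq (GradedRingHom.id (𝒮h'.deg U' hU'))
            ((uh.gradedAt U hU U' hU' hle) (RelCone.restrictTop 𝒮h z U))
            (RelCone.restrictTop 𝒮h' z' U') (uh_z uh huhz U U' hle)))) ≫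
          R uh pC chartC (zCh hz U hU U' hU' hle) := by
      rw [← Category.assoc]
      exact h4
    have hR : 𝒮'.toQCAlg.ι U' hU' ≫ Φc ≫ i =
        Spec.map (u.toQHom.appLE U U' hle) ≫
          Spec.map (CommRingCat.ofHom (hz.awayZToBase U hU)) ≫
            Proj.awayι (𝒮h.deg U hU) (RelCone.restrictTop 𝒮h z U) (hz.deg_z U hU) one_pos ≫
              RelProj.emb pC chartC U hU := by
      rw [← Category.assoc, hΦc U hU U' hU' hle, Category.assoc, hi U hU]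
    rw [hL, hR]
    have hring : ((hz'.awayZToBase U' hU').comp
        (awayMapEq (GradedRingHom.id (𝒮h'.deg U' hU'))
          ((uh.gradedAt U hU U' hU' hle) (RelCone.restrictTop 𝒮h z U))
          (RelCone.restrictTop 𝒮h' z' U') (uh_z uh huhz U U' hle))).comp
        (Away.map (uh.gradedAt U hU U' hU' hle) (RelCone.restrictTop 𝒮h z U)) =
        (u.appLE U U' hle).hom.comp (hz.awayZToBase U hU) := by
      rw [RingHom.comp_assoc]
      have h5 : (awayMapEq (GradedRingHom.id (𝒮h'.deg U' hU'))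
          ((uh.gradedAt U hU U' hU' hle) (RelCone.restrictTop 𝒮h z U))
          (RelCone.restrictTop 𝒮h' z' U') (uh_z uh huhz U U' hle)).comp
          (Away.map (uh.gradedAt U hU U' hU' hle) (RelCone.restrictTop 𝒮h z U)) =
          awayMapEq (uh.gradedAt U hU U' hU' hle) (RelCone.restrictTop 𝒮h z U)
            (RelCone.restrictTop 𝒮h' z' U') (uh_z uh huhz U U' hle) :=
        (awayMapEq_comp (uh.gradedAt U hU U' hU' hle) (GradedRingHom.id (𝒮h'.deg U' hU'))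
          (RelCone.restrictTop 𝒮h z U) _ (uh_z uh huhz U U' hle)).trans
          (awayMapEq_congr (GradedRingHom.ext fun x => rfl) _ _ _ _)
      rw [h5]
      exact coneimm_ring u hz hz' uh huh huhz U hU U' hU' hle
    have hspec := spec_map_comp_eq' _ _ _ _ _ hring
    exact (Category.assoc _ _ _).symm.trans
      ((congrArg (fun m => m ≫ Proj.awayι (𝒮h.deg U hU) (RelCone.restrictTop 𝒮h z U)
        (hz.deg_z U hU) one_pos ≫ RelProj.emb pC chartC U hU) hspec).trans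
        (Category.assoc _ _ _))

end coneimm

end Groth.Agent.H41.ProjQ
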