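import Groth.Agent.H41.ProjQ
import Mathlib.AlgebraicGeometry.Morphisms.ClosedImmersion

/-!
# Local structure of `Proj(u)` on `G(u)`: preimages of standard opens
-/

set_option autoImplicit false
universe u

open CategoryTheory CategoryTheory.Limits AlgebraicGeometry TopologicalSpace Opposite
open HomogeneousLocalization
open scoped HomogeneousIdeal

noncomputable section

namespace Groth.Agent.H41.ProjQ

open Groth.Agent.H41.RelConeLib Groth.Agent.H41.ProjConeLib Groth.Agent.H41.RelProjLib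

/-! ### ring level -/

section ring

variable {A B : Type u} [CommRing A] [CommRing B]
  {𝒜 : ℕ → AddSubgroup A} {ℬ : ℕ → AddSubgroup B} [GradedRing 𝒜] [GradedRing ℬ]

theorem map_isLocalizationElem (ψ : 𝒜 →+*ᵍ ℬ) {d' d : ℕ} {f' f : A} (hf' : f' ∈ 𝒜 d')
    (hf : f ∈ 𝒜 d) :
    Away.map ψ f' (Away.isLocalizationElem hf' hf) =
      Away.isLocalizationElem (ψ.map_mem hf') (ψ.map_mem hf) := by
  unfold Away.isLocalizationElem
  rw [Away.map_mk]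
  apply val_injective
  simp only [Away.val_mk, map_pow]
  rfl

theorem awayι_map_mem_basicOpen_iff (ψ : 𝒜 →+*ᵍ ℬ) {d' d : ℕ} (hd' : 0 < d') (hd : 0 < d)
    {f' f : A} (hf' : f' ∈ 𝒜 d') (hf : f ∈ 𝒜 d)
    (w : Spec (CommRingCat.of (Away ℬ (ψ f')))) :
    (Proj.awayι 𝒜 f' hf' hd').base
        ((Spec.map (CommRingCat.ofHom (Away.map ψ f'))).base w) ∈ Proj.basicOpen 𝒜 f ↔
      (Proj.awayι ℬ (ψ f') (ψ.map_mem hf') hd').base w ∈ Proj.basicOpen ℬ (ψ f) := by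
  have h1 := Proj.awayι_preimage_basicOpen 𝒜 hf' hd' hf hd
  have h2 := Proj.awayι_preimage_basicOpen ℬ (ψ.map_mem hf') hd' (ψ.map_mem hf) hd
  have e := map_isLocalizationElem ψ hf' hf
  change (Spec.map (CommRingCat.ofHom (Away.map ψ f'))).base w ∈
      (Proj.awayι 𝒜 f' hf' hd' ⁻¹ᵁ Proj.basicOpen 𝒜 f) ↔
    w ∈ (Proj.awayι ℬ (ψ f') (ψ.map_mem hf') hd' ⁻¹ᵁ Proj.basicOpen ℬ (ψ f))
  rw [h1, show (Proj.awayι ℬ (ψ f') (ψ.map_mem hf') hd' ⁻¹ᵁ Proj.basicOpen ℬ (ψ f)) =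
    PrimeSpectrum.basicOpen (Away.isLocalizationElem (ψ.map_mem hf') (ψ.map_mem hf)) from h2, ← e]
  exact Iff.rfl

theorem away_map_surjective_of_tn (φ : 𝒜 →+*ᵍ ℬ) (n₀ : ℕ)
    (hsurj : ∀ k, n₀ ≤ k → ∀ b ∈ ℬ k, ∃ a ∈ 𝒜 k, φ a = b) {d : ℕ} (hd : 0 < d) {s : A}
    (hs : s ∈ 𝒜 d) : Function.Surjective (Away.map φ s) := by
  intro w
  obtain ⟨k, b, hb, rfl⟩ := Away.mk_surjective ℬ (φ.map_mem hs) w
  have hmem : φ s ^ n₀ * b ∈ ℬ (n₀ • d + k • d) :=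
    SetLike.mul_mem_graded (SetLike.pow_mem_graded _ (φ.map_mem hs)) hb
  have hle : n₀ ≤ n₀ • d + k • d := by
    simp only [smul_eq_mul]; nlinarith
  obtain ⟨a, ha, hab⟩ := hsurj _ hle _ hmem
  have ha' : a ∈ 𝒜 ((n₀ + k) • d) := by rwa [add_smul]
  refine ⟨Away.mk 𝒜 hs (n₀ + k) a ha', ?_⟩
  rw [Away.map_mk]
  apply val_injective
  rw [Away.val_mk, Away.val_mk, Localization.mk_eq_mk_iff, Localization.r_iff_exists]
  refine ⟨1, ?_⟩
  simp only [OneMemClass.coe_one, one_mul]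
  rw [hab, pow_add]
  ring_nf
  rfl

theorem away_map_injective_of_tn (φ : 𝒜 →+*ᵍ ℬ) (n₀ : ℕ)
    (hinj : ∀ k, n₀ ≤ k → ∀ a ∈ 𝒜 k, φ a = 0 → a = 0) {d : ℕ} (hd : 0 < d) {s : A}
    (hs : s ∈ 𝒜 d) : Function.Injective (Away.map φ s) := by
  rw [injective_iff_map_eq_zero]
  intro z hz
  obtain ⟨k, a, ha, rfl⟩ := Away.mk_surjective 𝒜 hs z
  rw [Away.map_mk] at hz
  have h1 := congrArg val hz
  rw [Away.val_mk, val_zero, Localization.mk_eq_mk', IsLocalization.mk'_eq_zero_iff] at h1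
  obtain ⟨⟨m, j, rfl⟩, hm⟩ := h1
  apply val_injective
  rw [Away.val_mk, val_zero, Localization.mk_eq_mk', IsLocalization.mk'_eq_zero_iff]
  refine ⟨⟨s ^ (j + n₀), j + n₀, rfl⟩, ?_⟩
  have hmem : s ^ (j + n₀) * a ∈ 𝒜 ((j + n₀) • d + k • d) :=
    SetLike.mul_mem_graded (SetLike.pow_mem_graded _ hs) ha
  have hle : n₀ ≤ (j + n₀) • d + k • d := by
    simp only [smul_eq_mul]; nlinarith
  apply hinj _ hle _ hmem
  rw [map_mul, map_pow, pow_add, mul_right_comm]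
  have hm' : φ s ^ j * φ a = 0 := hm
  rw [hm', zero_mul]

/-- a point of `Proj` avoids a homogeneous element of positive degree -/
theorem exists_pos_homogeneous_not_mem (z : Proj 𝒜) :
    ∃ (i : ℕ) (_ : 0 < i) (f : A) (_ : f ∈ 𝒜 i), f ∉ z.asHomogeneousIdeal := by
  have h := z.not_irrelevant_le
  rw [SetLike.not_le_iff_exists] at h
  obtain ⟨b, hb, hbz⟩ := h
  obtain ⟨i, hi, hbi⟩ := exists_pos_decompose_not_mem 𝒜 z.asHomogeneousIdeal.toIdeal hb hbz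
  exact ⟨i, hi, _, SetLike.coe_mem _, hbi⟩

end ring

/-! ### a lemma on restrictions to open subschemes -/

section restrict

theorem restrict_iff {X Z A B : Scheme.{u}} (Q : MorphismProperty Scheme.{u}) [Q.RespectsIso]
    (h : X ⟶ Z) (α : A ⟶ Z) (β : B ⟶ X) [IsOpenImmersion α] [IsOpenImmersion β] (s : B ⟶ A)
    (hcomm : β ≫ h = s ≫ α) (hrange : β.opensRange = h ⁻¹ᵁ α.opensRange) :
    Q (h ∣_ α.opensRange) ↔ Q s := by
  have key : h ∣_ α.opensRange =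
      (β.isoOpensRange ≪≫ X.isoOfEq hrange).inv ≫ s ≫ α.isoOpensRange.hom := by
    rw [Iso.eq_inv_comp, ← cancel_mono α.opensRange.ι]
    simp only [Category.assoc, Iso.trans_hom, morphismRestrict_ι, Scheme.isoOfEq_hom_ι_assoc,
      Scheme.Hom.isoOpensRange_hom_ι_assoc, Scheme.Hom.isoOpensRange_hom_ι]
    exact hcomm
  rw [key, Q.cancel_left_of_respectsIso, Q.cancel_right_of_respectsIso]

end restrict

/-! ### preimages of standard opens -/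

section pre

variable {Y Y' : Scheme.{u}} {g : Y' ⟶ Y} {𝒮 : RelProj.QCGrAlg Y} {𝒮' : RelProj.QCGrAlg Y'}
  (u : RelProj.QGrHom g 𝒮 𝒮')
  {P : Scheme.{u}} (p : P ⟶ Y)
  (chart : ∀ (U : Y.Opens) (hU : IsAffineOpen U),
    (((p ⁻¹ᵁ U : P.Opens) : Scheme.{u}) ≅ Proj (𝒮.deg U hU)))
  {P' : Scheme.{u}} (p' : P' ⟶ Y')
  (chart' : ∀ (U' : Y'.Opens) (hU' : IsAffineOpen U'),
    (((p' ⁻¹ᵁ U' : P'.Opens) : Scheme.{u}) ≅ Proj (𝒮'.deg U' hU')))
  (hP : RelProj.IsRelProj 𝒮 p chart) (hP' : RelProj.IsRelProj 𝒮' p' chart')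
  (v : ((RelProj.domQ u p' chart' : P'.Opens) : Scheme.{u}) ⟶ P)
  (hv : ∀ c : Ch g 𝒮, lift u p' chart' c ≫ v = R u p chart c)

include hv in
theorem core (U : Y.Opens) (hU : IsAffineOpen U) (U' : Y'.Opens) (hU' : IsAffineOpen U')
    (hle : U' ≤ g ⁻¹ᵁ U) {d₄ d₅ : ℕ} (hd₄ : 0 < d₄) (hd₅ : 0 < d₅)
    (F₄ F₅ : 𝒮.presheaf.obj (op U)) (hF₄ : F₄ ∈ 𝒮.deg U hU d₄) (hF₅ : F₅ ∈ 𝒮.deg U hU d₅)
    (y : ((RelProj.domQ u p' chart' : P'.Opens) : Scheme.{u})) (x : P')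
    (hx : (RelProj.domQ u p' chart').ι.base y = x)
    (hy : x ∈ Set.range (E u p' chart' ⟨U, hU, U', hU', hle, d₄, hd₄, F₄, hF₄⟩).base)
    (hvy : v.base y ∈ (RelProj.emb p chart U hU) ''ᵁ Proj.basicOpen (𝒮.deg U hU) F₅) :
    x ∈ Set.range (E u p' chart' ⟨U, hU, U', hU', hle, d₅, hd₅, F₅, hF₅⟩).base := by
  obtain ⟨w, hw⟩ := hy
  have hyw : (lift u p' chart' ⟨U, hU, U', hU', hle, d₄, hd₄, F₄, hF₄⟩).base w = y := by
    apply (RelProj.domQ u p' chart').ι.isOpenEmbedding.injective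
    rw [hx, ← hw]
    exact congrArg (fun k => k.base w) (lift_ι u p' chart' ⟨U, hU, U', hU', hle, d₄, hd₄, F₄, hF₄⟩)
  have h1 : v.base y = (R u p chart ⟨U, hU, U', hU', hle, d₄, hd₄, F₄, hF₄⟩).base w := by
    rw [← hyw, ← hv ⟨U, hU, U', hU', hle, d₄, hd₄, F₄, hF₄⟩]
    rfl
  rw [h1] at hvy
  obtain ⟨q, hq, hqe⟩ := hvy
  have h2 : (R u p chart ⟨U, hU, U', hU', hle, d₄, hd₄, F₄, hF₄⟩).base w =
      (RelProj.emb p chart U hU).base ((Proj.awayι (𝒮.deg U hU) F₄ hF₄ hd₄).base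
        ((Spec.map (CommRingCat.ofHom (Away.map (u.gradedAt U hU U' hU' hle) F₄))).base w)) := rfl
  rw [h2] at hqe
  have h3 := (RelProj.emb p chart U hU).isOpenEmbedding.injective hqe
  have hq' : q ∈ Proj.basicOpen (𝒮.deg U hU) F₅ := hq
  rw [h3] at hq'
  have h4 := (awayι_map_mem_basicOpen_iff (u.gradedAt U hU U' hU' hle) hd₄ hd₅ hF₄ hF₅ w).mp hq'
  rw [mem_range_E_iff]
  exact ⟨_, h4, hw⟩

include hP hP' hv in
/-- a point of `G(u)` over `U'` mapping into `D_+(f) ⊆ Proj 𝒮(U)` lies in the standard chart -/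
theorem mem_opensRange_lift_of_mem (c₀ : Ch g 𝒮)
    (y : ((RelProj.domQ u p' chart' : P'.Opens) : Scheme.{u}))
    (hvy : v.base y ∈ (RelProj.emb p chart c₀.U c₀.hU) ''ᵁ
      Proj.basicOpen (𝒮.deg c₀.U c₀.hU) c₀.f)
    (hy' : p'.base ((RelProj.domQ u p' chart').ι.base y) ∈ c₀.U') :
    y ∈ (lift u p' chart' c₀).opensRange := by
  obtain ⟨x, hx⟩ : ∃ x, (RelProj.domQ u p' chart').ι.base y = x := ⟨_, rfl⟩
  rw [hx] at hy'
  have hxG : x ∈ RelProj.domQ u p' chart' := hx ▸ y.2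
  obtain ⟨c', hc'⟩ := exists_chart u p' chart' x hxG
  have hx1 : p'.base x ∈ c'.U' := range_E_subset u p' chart' c' x hc'
  have hy1 : g.base (p'.base x) ∈ c'.U := c'.hle hx1
  have hy0 : g.base (p'.base x) ∈ c₀.U := c₀.hle hy'
  obtain ⟨a, a₁, hV, hyV⟩ := exists_basicOpen_le_affine_inter c₀.hU c'.hU _ ⟨hy0, hy1⟩
  have hVa : IsAffineOpen (Y.basicOpen a) := c₀.hU.basicOpen a
  have hVU' : Y.basicOpen a ≤ c'.U := hV ▸ Y.basicOpen_le a₁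
  have hb₀ := Scheme.basicOpen_appLE g c₀.U' c₀.U c₀.hle a
  have hb₁ := Scheme.basicOpen_appLE g c'.U' c'.U c'.hle a₁
  have hxb₀ : p'.base x ∈ Y'.basicOpen (g.appLE c₀.U c₀.U' c₀.hle a) := by
    rw [hb₀]; exact ⟨hy', hyV⟩
  have hxb₁ : p'.base x ∈ Y'.basicOpen (g.appLE c'.U c'.U' c'.hle a₁) := by
    rw [hb₁]; exact ⟨hx1, hV ▸ hyV⟩
  obtain ⟨e₀, e₁, hV', hyV'⟩ := exists_basicOpen_le_affine_inter
    (c₀.hU'.basicOpen (g.appLE c₀.U c₀.U' c₀.hle a))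
    (c'.hU'.basicOpen (g.appLE c'.U c'.U' c'.hle a₁)) (p'.base x) ⟨hxb₀, hxb₁⟩
  obtain ⟨e₀', he₀'⟩ := c₀.hU'.basicOpen_basicOpen_is_basicOpen
    (g.appLE c₀.U c₀.U' c₀.hle a) e₀
  obtain ⟨e₁', he₁'⟩ := c'.hU'.basicOpen_basicOpen_is_basicOpen
    (g.appLE c'.U c'.U' c'.hle a₁) e₁
  have hVa' : IsAffineOpen (Y'.basicOpen e₀) :=
    (c₀.hU'.basicOpen (g.appLE c₀.U c₀.U' c₀.hle a)).basicOpen e₀
  have hle' : Y'.basicOpen e₀ ≤ g ⁻¹ᵁ Y.basicOpen a :=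
    (Y'.basicOpen_le e₀).trans (by rw [hb₀]; exact inf_le_right)
  have r₅ := refines_res u p chart p' chart' hP hP' c₀ a e₀' (Y.basicOpen a) (Y'.basicOpen e₀)
    rfl he₀'.symm hVa hVa' hle' (Y.basicOpen_le a)
  have m₄ := mem_range_E_res u p' chart' hP' c' e₁' (Y.basicOpen a) (Y'.basicOpen e₀)
    (hV'.trans he₁'.symm) hVa hVa' hle' hVU' x hc' hyV'
  have hover := isProjQMapOn_over u p chart p' chart' hP hP' v
    ((isProjQMapOn_iff u p chart p' chart' v).mpr hv)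
  have hpv : p.base (v.base y) = g.base (p'.base x) := by
    rw [← hx]
    exact congrArg (fun k => k.base y) hover
  have hvV : v.base y ∈ (RelProj.emb p chart (Y.basicOpen a) hVa) ''ᵁ
      Proj.basicOpen (𝒮.deg (Y.basicOpen a) hVa)
        (𝒮.res c₀.hU hVa (Y.basicOpen_le a) c₀.f) := by
    have hmem : v.base y ∈ p ⁻¹ᵁ Y.basicOpen a := by
      show p.base (v.base y) ∈ Y.basicOpen a
      rw [hpv]; exact hyV
    obtain ⟨q', hq'⟩ := exists_emb_eq p chart (Y.basicOpen a) hVa _ hmem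
    obtain ⟨q₀, hq₀, hq₀e⟩ := hvy
    have hres := RelProj.map_res_emb hP c₀.U c₀.hU a
    have h1 : (RelProj.emb p chart c₀.U c₀.hU).base
        ((Proj.map (𝒮.res c₀.hU hVa (Y.basicOpen_le a))
          (𝒮.irrelevant_le_map c₀.U c₀.hU a)).base q') =
        (RelProj.emb p chart c₀.U c₀.hU).base q₀ :=
      (congrArg (fun k => k.base q') hres).trans (hq'.trans hq₀e.symm)
    have h2 := (RelProj.emb p chart c₀.U c₀.hU).isOpenEmbedding.injective h1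
    have hq₀' : q₀ ∈ Proj.basicOpen (𝒮.deg c₀.U c₀.hU) c₀.f := hq₀
    rw [← h2] at hq₀'
    exact ⟨q', hq₀', hq'⟩
  have m₅ := core u p chart p' chart' v hv (Y.basicOpen a) hVa (Y'.basicOpen e₀) hVa' hle'
    c'.hd c₀.hd _ _ _ ((𝒮.res c₀.hU hVa (Y.basicOpen_le a)).map_mem c₀.hf) y x hx m₄ hvV
  obtain ⟨τ, hE, -⟩ := r₅
  rw [mem_opensRange_lift_iff, hx]
  obtain ⟨w, hw⟩ := m₅
  refine ⟨τ.base w, ?_⟩
  rw [← hw]
  exact (congrArg (fun k => k.base w) hE).symm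

end pre

end Groth.Agent.H41.ProjQ
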