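import Groth.Agent.H41.ProjQ3

/-!
# `Proj(φ)` over one base, stated on diagonal charts only (the form used for the retraction of the
pointed projective cone)
-/

set_option autoImplicit false
universe u

open CategoryTheory CategoryTheory.Limits AlgebraicGeometry TopologicalSpace Opposite
open HomogeneousLocalization
open scoped HomogeneousIdeal

noncomputable section

namespace Groth.Agent.H41.ProjQ

open Groth.Agent.H41.RelConeLib Groth.Agent.H41.ProjConeLib Groth.Agent.H41.RelProjLib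

/-! ### casts between homogeneous localizations at equal elements -/

section ring

variable {A B : Type u} [CommRing A] [CommRing B]
  {𝒜 : ℕ → AddSubgroup A} {ℬ : ℕ → AddSubgroup B} [GradedRing 𝒜] [GradedRing ℬ]

theorem bijective_awayMapEq_id (t t' : A) (h : (GradedRingHom.id 𝒜) t = t') :
    Function.Bijective (awayMapEq (GradedRingHom.id 𝒜) t t' h) := by
  subst h
  show Function.Bijective (Away.map (GradedRingHom.id 𝒜) t)
  rw [Away.map_id]
  exact Function.bijective_id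

theorem isIso_spec_awayMapEq_id (t t' : A) (h : (GradedRingHom.id 𝒜) t = t') :
    IsIso (Spec.map (CommRingCat.ofHom (awayMapEq (GradedRingHom.id 𝒜) t t' h))) := by
  have : IsIso (CommRingCat.ofHom (awayMapEq (GradedRingHom.id 𝒜) t t' h)) :=
    (ConcreteCategory.isIso_iff_bijective _).2 (bijective_awayMapEq_id t t' h)
  infer_instance

theorem awayι_cast {i : ℕ} (hi : 0 < i) (t t' : A) (h : (GradedRingHom.id 𝒜) t = t')
    (ht : t ∈ 𝒜 i) (ht' : t' ∈ 𝒜 i) :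
    Spec.map (CommRingCat.ofHom (awayMapEq (GradedRingHom.id 𝒜) t t' h)) ≫
      Proj.awayι 𝒜 t ht hi = Proj.awayι 𝒜 t' ht' hi := by
  have h1 := awayι_comp_map_eq (GradedRingHom.id 𝒜) (by simp) hi t ht t' h ht'
  rw [Proj.map_id, Category.comp_id] at h1
  exact h1.symm

theorem awayMapEq_retraction (ψ : 𝒜 →+*ᵍ ℬ) (θ : ℬ →+*ᵍ 𝒜)
    (hθ : θ.comp ψ = GradedRingHom.id 𝒜) (f : A) (hf : θ (ψ f) = f) :
    (awayMapEq θ (ψ f) f hf).comp (Away.map ψ f) = RingHom.id _ := by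
  rw [awayMapEq_comp ψ θ f f hf]
  have h2 : awayMapEq (θ.comp ψ) f f hf = awayMapEq (GradedRingHom.id 𝒜) f f rfl :=
    awayMapEq_congr hθ f f _ _
  rw [h2]
  show Away.map (GradedRingHom.id 𝒜) f = _
  rw [Away.map_id]

theorem spec_awayMapEq_retraction (ψ : 𝒜 →+*ᵍ ℬ) (θ : ℬ →+*ᵍ 𝒜)
    (hθ : θ.comp ψ = GradedRingHom.id 𝒜) (f : A) (hf : θ (ψ f) = f) :
    Spec.map (CommRingCat.ofHom (awayMapEq θ (ψ f) f hf)) ≫
      Spec.map (CommRingCat.ofHom (Away.map ψ f)) = 𝟙 _ := by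
  rw [← Spec.map_comp, ← CommRingCat.ofHom_comp, awayMapEq_retraction ψ θ hθ f hf]
  exact Spec.map_id _

/-- `Spec` of `Away.map ψ f` is surjective on points when `ψ` has a graded retraction -/
theorem surjective_spec_away_map_of_retraction (ψ : 𝒜 →+*ᵍ ℬ) (θ : ℬ →+*ᵍ 𝒜)
    (hθ : θ.comp ψ = GradedRingHom.id 𝒜) (f : A) :
    Function.Surjective (Spec.map (CommRingCat.ofHom (Away.map ψ f))).base := by
  have hf : θ (ψ f) = f := by
    have := congrArg (fun k : 𝒜 →+*ᵍ 𝒜 => k f) hθ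
    exact this
  have hcomp := awayMapEq_retraction ψ θ hθ f hf
  have hsec : Spec.map (CommRingCat.ofHom (awayMapEq θ (ψ f) f hf)) ≫
      Spec.map (CommRingCat.ofHom (Away.map ψ f)) = 𝟙 _ := by
    rw [← Spec.map_comp, ← CommRingCat.ofHom_comp, hcomp]
    exact Spec.map_id _
  intro y
  refine ⟨(Spec.map (CommRingCat.ofHom (awayMapEq θ (ψ f) f hf))).base y, ?_⟩
  exact congrArg (fun k => k.base y) hsec

end ring

section diagform

variable {Y : Scheme.{u}} {𝒜 ℬ : RelProj.QCGrAlg Y} (φ : 𝒜.toQCAlg ⟶ ℬ.toQCAlg)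
  (hφ : RelProj.IsGradedHom φ)
  {PA PB : Scheme.{u}} (pA : PA ⟶ Y)
  (chartA : ∀ (U : Y.Opens) (hU : IsAffineOpen U),
    (((pA ⁻¹ᵁ U : PA.Opens) : Scheme.{u}) ≅ Proj (𝒜.deg U hU)))
  (pB : PB ⟶ Y)
  (chartB : ∀ (U : Y.Opens) (hU : IsAffineOpen U),
    (((pB ⁻¹ᵁ U : PB.Opens) : Scheme.{u}) ≅ Proj (ℬ.deg U hU)))
  (hA : RelProj.IsRelProj 𝒜 pA chartA) (hB : RelProj.IsRelProj ℬ pB chartB)

/-- the chart equations on the diagonal pairs `(U, U)`, with arbitrary lifts of the charts -/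
def DiagEq (W : PB.Opens) (r : (W : Scheme.{u}) ⟶ PA) : Prop :=
  ∀ (U : Y.Opens) (hU : IsAffineOpen U) (d : ℕ) (hd : 0 < d) (f : 𝒜.presheaf.obj (op U))
    (hf : f ∈ 𝒜.deg U hU d)
    (g : Spec (CommRingCat.of (HomogeneousLocalization.Away (ℬ.deg U hU)
      ((RelProj.gradedHomAt φ hφ U hU) f))) ⟶ (W : Scheme.{u})),
    g ≫ W.ι = Proj.awayι (ℬ.deg U hU) ((RelProj.gradedHomAt φ hφ U hU) f)
        ((RelProj.gradedHomAt φ hφ U hU).2 hf) hd ≫ RelProj.emb pB chartB U hU →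
      g ≫ r = Spec.map (CommRingCat.ofHom (HomogeneousLocalization.Away.map
          (RelProj.gradedHomAt φ hφ U hU) f)) ≫
        Proj.awayι (𝒜.deg U hU) f hf hd ≫ RelProj.emb pA chartA U hU

include hB in
theorem exists_diag_chart (x : PB)
    (hx : x ∈ RelProj.domQ (RelProj.QGrHom.ofHom φ hφ) pB chartB) :
    ∃ (U : Y.Opens) (hU : IsAffineOpen U) (d : ℕ) (hd : 0 < d) (f : 𝒜.presheaf.obj (op U))
      (hf : f ∈ 𝒜.deg U hU d),
      x ∈ Set.range (E (RelProj.QGrHom.ofHom φ hφ) pB chartB (diag U hU hd f hf)).base := by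
  rw [domQ_ofHom_eq φ hφ pB chartB hB, Opens.mem_iSup] at hx
  obtain ⟨⟨U, hU⟩, z, hz, rfl⟩ := hx
  obtain ⟨f, hf, hfz⟩ := (RelCone.mem_domOpen _ _).mp hz
  obtain ⟨i, hi, hfi⟩ := exists_pos_decompose_not_mem (𝒜.deg U hU)
    (Ideal.comap (RelProj.gradedHomAt φ hφ U hU).toRingHom z.asHomogeneousIdeal.toIdeal) hf hfz
  refine ⟨U, hU, i, hi, (DirectSum.decompose (𝒜.deg U hU) f i : _), SetLike.coe_mem _, ?_⟩
  rw [mem_range_E_iff]
  refine ⟨z, ?_, rfl⟩
  show (RelProj.QGrHom.ofHom φ hφ).gradedAt U hU U hU (le_id U)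
    (DirectSum.decompose (𝒜.deg U hU) f i : _) ∉ z.asHomogeneousIdeal
  rw [gradedAt_self_apply]
  exact hfi

include hB in
/-- morphisms out of `G(φ)` agreeing on the diagonal charts are equal -/
theorem hom_ext_diag {Z : Scheme.{u}}
    (a b : ((RelProj.domQ (RelProj.QGrHom.ofHom φ hφ) pB chartB : PB.Opens) : Scheme.{u}) ⟶ Z)
    (h : ∀ (U : Y.Opens) (hU : IsAffineOpen U) (d : ℕ) (hd : 0 < d) (f : 𝒜.presheaf.obj (op U))
      (hf : f ∈ 𝒜.deg U hU d),
      lift (RelProj.QGrHom.ofHom φ hφ) pB chartB (diag U hU hd f hf) ≫ a =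
        lift (RelProj.QGrHom.ofHom φ hφ) pB chartB (diag U hU hd f hf) ≫ b) : a = b := by
  let 𝒰 : ((RelProj.domQ (RelProj.QGrHom.ofHom φ hφ) pB chartB : PB.Opens) :
      Scheme.{u}).OpenCover :=
    { I₀ := Ch (𝟙 Y) 𝒜
      X := fun c => Spec (ring (RelProj.QGrHom.ofHom φ hφ) (diag c.U c.hU c.hd c.f c.hf))
      f := fun c => lift (RelProj.QGrHom.ofHom φ hφ) pB chartB (diag c.U c.hU c.hd c.f c.hf)
      mem₀ := by
        rw [Scheme.presieve₀_mem_precoverage_iff]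
        refine ⟨fun x => ?_, fun c => inferInstance⟩
        obtain ⟨U, hU, d, hd, f, hf, hc⟩ := exists_diag_chart φ hφ pB chartB hB x.1 x.2
        exact ⟨diag U hU hd f hf, (mem_opensRange_lift_iff _ pB chartB _ x).mpr hc⟩ }
  exact 𝒰.hom_ext a b fun c => h c.U c.hU c.d c.hd c.f c.hf

/-- the cast between the two names of the ring of a diagonal chart -/
abbrev κ (U : Y.Opens) (hU : IsAffineOpen U) {d : ℕ} (hd : 0 < d) (f : 𝒜.presheaf.obj (op U))
    (hf : f ∈ 𝒜.deg U hU d) :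
    Spec (ring (RelProj.QGrHom.ofHom φ hφ) (diag U hU hd f hf)) ⟶
      Spec (CommRingCat.of (HomogeneousLocalization.Away (ℬ.deg U hU)
        ((RelProj.gradedHomAt φ hφ U hU) f))) :=
  Spec.map (CommRingCat.ofHom (awayMapEq (GradedRingHom.id (ℬ.deg U hU))
    ((RelProj.gradedHomAt φ hφ U hU) f)
    ((RelProj.QGrHom.ofHom φ hφ).gradedAt U hU U hU (le_id U) f)
    (gradedAt_self_apply φ hφ U hU (le_id U) f).symm))

theorem κ_E (U : Y.Opens) (hU : IsAffineOpen U) {d : ℕ} (hd : 0 < d)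
    (f : 𝒜.presheaf.obj (op U)) (hf : f ∈ 𝒜.deg U hU d) :
    κ φ hφ U hU hd f hf ≫ Proj.awayι (ℬ.deg U hU) ((RelProj.gradedHomAt φ hφ U hU) f)
        ((RelProj.gradedHomAt φ hφ U hU).2 hf) hd ≫ RelProj.emb pB chartB U hU =
      E (RelProj.QGrHom.ofHom φ hφ) pB chartB (diag U hU hd f hf) := by
  rw [E_eq]
  exact (reassoc_of% (awayι_cast hd ((RelProj.gradedHomAt φ hφ U hU) f)
    ((RelProj.QGrHom.ofHom φ hφ).gradedAt U hU U hU (le_id U) f)
    (gradedAt_self_apply φ hφ U hU (le_id U) f).symm ((RelProj.gradedHomAt φ hφ U hU).2 hf)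
    (((RelProj.QGrHom.ofHom φ hφ).gradedAt U hU U hU (le_id U)).map_mem hf))) _

theorem κ_R (U : Y.Opens) (hU : IsAffineOpen U) {d : ℕ} (hd : 0 < d)
    (f : 𝒜.presheaf.obj (op U)) (hf : f ∈ 𝒜.deg U hU d) :
    κ φ hφ U hU hd f hf ≫ Spec.map (CommRingCat.ofHom (HomogeneousLocalization.Away.map
          (RelProj.gradedHomAt φ hφ U hU) f)) ≫
        Proj.awayι (𝒜.deg U hU) f hf hd ≫ RelProj.emb pA chartA U hU =
      R (RelProj.QGrHom.ofHom φ hφ) pA chartA (diag U hU hd f hf) := by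
  unfold R
  have hring : (awayMapEq (GradedRingHom.id (ℬ.deg U hU)) ((RelProj.gradedHomAt φ hφ U hU) f)
      ((RelProj.QGrHom.ofHom φ hφ).gradedAt U hU U hU (le_id U) f)
      (gradedAt_self_apply φ hφ U hU (le_id U) f).symm).comp
        (Away.map (RelProj.gradedHomAt φ hφ U hU) f) =
      Away.map ((RelProj.QGrHom.ofHom φ hφ).gradedAt U hU U hU (le_id U)) f := by
    rw [awayMapEq_comp]
    exact awayMapEq_congr (by
      rw [gradedAt_self]
      exact GradedRingHom.ext fun x => rfl) f _ _ rfl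
  have e2 : κ φ hφ U hU hd f hf ≫ Spec.map (CommRingCat.ofHom (HomogeneousLocalization.Away.map
      (RelProj.gradedHomAt φ hφ U hU) f)) =
      Spec.map (CommRingCat.ofHom
        (Away.map ((RelProj.QGrHom.ofHom φ hφ).gradedAt U hU U hU (le_id U)) f)) := by
    rw [← Spec.map_comp, ← CommRingCat.ofHom_comp]
    exact congrArg (fun k => Spec.map (CommRingCat.ofHom k)) hring
  exact (reassoc_of% e2) _

instance (U : Y.Opens) (hU : IsAffineOpen U) {d : ℕ} (hd : 0 < d)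
    (f : 𝒜.presheaf.obj (op U)) (hf : f ∈ 𝒜.deg U hU d) : IsIso (κ φ hφ U hU hd f hf) :=
  isIso_spec_awayMapEq_id _ _ _

include hB in
theorem range_diag_subset (W : PB.Opens)
    (hW : RelProj.domQ (RelProj.QGrHom.ofHom φ hφ) pB chartB = W)
    (U : Y.Opens) (hU : IsAffineOpen U) {d : ℕ} (hd : 0 < d)
    (f : 𝒜.presheaf.obj (op U)) (hf : f ∈ 𝒜.deg U hU d) :
    Set.range (Proj.awayι (ℬ.deg U hU) ((RelProj.gradedHomAt φ hφ U hU) f)
        ((RelProj.gradedHomAt φ hφ U hU).2 hf) hd ≫ RelProj.emb pB chartB U hU).base ⊆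
        Set.range W.ι.base := by
  rw [Scheme.Opens.range_ι, ← hW, domQ_ofHom_eq φ hφ pB chartB hB]
  rintro _ ⟨y, rfl⟩
  refine Opens.mem_iSup.mpr ⟨⟨U, hU⟩, _, ?_, rfl⟩
  have hb : (Proj.awayι (ℬ.deg U hU) ((RelProj.gradedHomAt φ hφ U hU) f)
      ((RelProj.gradedHomAt φ hφ U hU).2 hf) hd).base y ∈
      Proj.basicOpen (ℬ.deg U hU) ((RelProj.gradedHomAt φ hφ U hU) f) :=
    (Proj.opensRange_awayι (ℬ.deg U hU) _ ((RelProj.gradedHomAt φ hφ U hU).2 hf) hd).le
      ⟨y, rfl⟩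
  exact (RelCone.mem_domOpen _ _).mpr
    ⟨f, HomogeneousIdeal.mem_irrelevant_of_mem _ hd hf, hb⟩

/-- morphisms out of `Proj(𝒜)` agreeing on all standard opens are equal -/
theorem hom_ext_standard {Z : Scheme.{u}} (a b : PA ⟶ Z)
    (h : ∀ (U : Y.Opens) (hU : IsAffineOpen U) (d : ℕ) (hd : 0 < d) (f : 𝒜.presheaf.obj (op U))
      (hf : f ∈ 𝒜.deg U hU d),
      (Proj.awayι (𝒜.deg U hU) f hf hd ≫ RelProj.emb pA chartA U hU) ≫ a =
        (Proj.awayι (𝒜.deg U hU) f hf hd ≫ RelProj.emb pA chartA U hU) ≫ b) : a = b := by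
  let 𝒰 : PA.OpenCover :=
    { I₀ := Ch (𝟙 Y) 𝒜
      X := fun c => Spec (CommRingCat.of (HomogeneousLocalization.Away (𝒜.deg c.U c.hU) c.f))
      f := fun c => Proj.awayι (𝒜.deg c.U c.hU) c.f c.hf c.hd ≫ RelProj.emb pA chartA c.U c.hU
      mem₀ := by
        rw [Scheme.presieve₀_mem_precoverage_iff]
        refine ⟨fun x => ?_, fun c => inferInstance⟩
        obtain ⟨U, hU, d, hd, f, hf, q, hq, hqx⟩ := exists_standard_open pA chartA x
        have hq' : q ∈ Proj.basicOpen (𝒜.deg U hU) f := hq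
        rw [← Proj.opensRange_awayι (𝒜.deg U hU) f hf hd] at hq'
        obtain ⟨y, hy⟩ := hq'
        refine ⟨diag U hU hd f hf, y, ?_⟩
        show (RelProj.emb pA chartA U hU).base ((Proj.awayι (𝒜.deg U hU) f hf hd).base y) = x
        rw [hy]
        exact hqx }
  exact 𝒰.hom_ext a b fun c => h c.U c.hU c.d c.hd c.f c.hf

include hA hB in
/-- the diagonal form of the chart equations is equivalent to `IsProjQMapOn` on `G(φ)` -/
theorem diagEq_iff (W : PB.Opens)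
    (hW : RelProj.domQ (RelProj.QGrHom.ofHom φ hφ) pB chartB = W) (r : (W : Scheme.{u}) ⟶ PA) :
    DiagEq φ hφ pA chartA pB chartB W r ↔
      RelProj.IsProjQMapOn (RelProj.QGrHom.ofHom φ hφ) pA chartA pB chartB
        (RelProj.domQ (RelProj.QGrHom.ofHom φ hφ) pB chartB) ((PB.isoOfEq hW).hom ≫ r) := by
  constructor
  · intro hr
    obtain ⟨v₀, hv₀, -⟩ := existsUnique_isProjQMapOn (RelProj.QGrHom.ofHom φ hφ) pA chartA pB chartB
      hA hB
    have hv₀' := (isProjQMapOn_iff _ pA chartA pB chartB v₀).mp hv₀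
    suffices h : (PB.isoOfEq hW).hom ≫ r = v₀ by rw [h]; exact hv₀
    refine hom_ext_diag φ hφ pB chartB hB _ _ fun U hU d hd f hf => ?_
    rw [hv₀' (diag U hU hd f hf)]
    have hrange := range_diag_subset φ hφ pB chartB hB W hW U hU hd f hf
    have hg := hr U hU d hd f hf (IsOpenImmersion.lift W.ι _ hrange)
      (IsOpenImmersion.lift_fac _ _ _)
    have hl : lift (RelProj.QGrHom.ofHom φ hφ) pB chartB (diag U hU hd f hf) ≫
        (PB.isoOfEq hW).hom = κ φ hφ U hU hd f hf ≫ IsOpenImmersion.lift W.ι _ hrange := by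
      rw [← cancel_mono W.ι, Category.assoc, Category.assoc, Scheme.isoOfEq_hom_ι, lift_ι,
        IsOpenImmersion.lift_fac, κ_E]
    rw [← Category.assoc, hl, Category.assoc, hg, κ_R]
  · intro hv U hU d hd f hf g hg
    have hv' := (isProjQMapOn_iff _ pA chartA pB chartB _).mp hv (diag U hU hd f hf)
    have hl : lift (RelProj.QGrHom.ofHom φ hφ) pB chartB (diag U hU hd f hf) ≫
        (PB.isoOfEq hW).hom = κ φ hφ U hU hd f hf ≫ g := by
      rw [← cancel_mono W.ι, Category.assoc, Category.assoc, Scheme.isoOfEq_hom_ι, lift_ι, hg,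
        κ_E]
    rw [← Category.assoc, hl, Category.assoc, ← κ_R φ hφ pA chartA U hU hd f hf] at hv'
    exact (cancel_epi (κ φ hφ U hU hd f hf)).mp hv'

end diagform

end Groth.Agent.H41.ProjQ
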