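import Groth.Agent.H41.ProjQ4
import Groth.Agent.H41.ProjConeLib2

/-!
# The graded retraction `z ↦ 0` of `𝒮 → 𝒮[z]` over an affine open
-/

set_option autoImplicit false
universe u

open CategoryTheory CategoryTheory.Limits AlgebraicGeometry TopologicalSpace Opposite
open HomogeneousLocalization
open scoped HomogeneousIdeal

noncomputable section

namespace Groth.Agent.H41.ProjQ

open Groth.Agent.H41.RelConeLib Groth.Agent.H41.ProjConeLib Groth.Agent.H41.RelProjLib

section cone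

variable {Y : Scheme.{u}} {𝒮 𝒮h : RelProj.QCGrAlg Y} {ι : 𝒮.toQCAlg ⟶ 𝒮h.toQCAlg}
  {z : 𝒮h.presheaf.obj (op ⊤)} (h : RelCone.IsPolyOver 𝒮 𝒮h ι z)
  (U : Y.Opens) (hU : IsAffineOpen U)

/-- "set `z = 0`" -/
def evalZero : 𝒮h.presheaf.obj (op U) →+* 𝒮.presheaf.obj (op U) :=
  (Polynomial.evalRingHom 0).comp (h.polyEquiv U hU).symm.toRingHom

theorem evalZero_ι (x : 𝒮.presheaf.obj (op U)) :
    evalZero h U hU ((ι.hom.app (op U)).hom x) = x := by
  have e : h.polyEquiv U hU (Polynomial.C x) = (ι.hom.app (op U)).hom x := by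
    rw [RelCone.IsPolyOver.polyEquiv_apply, Polynomial.eval₂_C]
  rw [evalZero, RingHom.comp_apply, ← e]
  simp

theorem evalZero_z : evalZero h U hU (RelCone.restrictTop 𝒮h z U) = 0 := by
  have e : h.polyEquiv U hU Polynomial.X = RelCone.restrictTop 𝒮h z U := by
    rw [RelCone.IsPolyOver.polyEquiv_apply, Polynomial.eval₂_X]
  rw [evalZero, RingHom.comp_apply, ← e]
  simp

theorem evalZero_mem {k : ℕ} {b : 𝒮h.presheaf.obj (op U)} (hb : b ∈ 𝒮h.deg U hU k) :
    evalZero h U hU b ∈ 𝒮.deg U hU k := by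
  obtain ⟨x, hx, hbx⟩ := exists_homogeneous_expansion h U hU k b hb
  rw [hbx, map_sum, Finset.sum_eq_single 0]
  · rw [map_mul, map_pow, evalZero_ι, evalZero_z, pow_zero, mul_one]
    simpa using hx 0
  · intro m _ hm
    rw [map_mul, map_pow, evalZero_z, zero_pow hm, mul_zero]
  · intro h0
    exact absurd (Finset.mem_range.mpr (Nat.succ_pos k)) h0

/-- the graded retraction `𝒮[z](U) → 𝒮(U)` -/
def evalZeroGr : 𝒮h.deg U hU →+*ᵍ 𝒮.deg U hU :=
  { evalZero h U hU with map_mem := fun hb => evalZero_mem h U hU hb }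

theorem evalZeroGr_comp :
    (evalZeroGr h U hU).comp (RelProj.gradedHomAt ι h.graded U hU) =
      GradedRingHom.id (𝒮.deg U hU) :=
  GradedRingHom.ext fun x => evalZero_ι h U hU x

end cone

end Groth.Agent.H41.ProjQ
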