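import Groth.Agent.H41.ProjQ5

/-!
# The projection of the pointed affine cone onto `Proj(𝒮)`
-/

set_option autoImplicit false
universe u

open CategoryTheory CategoryTheory.Limits AlgebraicGeometry TopologicalSpace Opposite
open HomogeneousLocalization
open scoped HomogeneousIdeal

noncomputable section

namespace Groth.Agent.H41.ProjQ

open Groth.Agent.H41.RelConeLib Groth.Agent.H41.ProjConeLib Groth.Agent.H41.RelProjLib

/-! ### points of `Proj` -/

section ring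

variable {A B : Type u} [CommRing A] [CommRing B]
  {𝒜 : ℕ → AddSubgroup A} {ℬ : ℕ → AddSubgroup B} [GradedRing 𝒜] [GradedRing ℬ]

theorem proj_point_mem_of_pos (q₁ q₂ : Proj 𝒜)
    (h : ∀ (e : ℕ), 0 < e → ∀ a ∈ 𝒜 e,
      (a ∈ q₁.asHomogeneousIdeal ↔ a ∈ q₂.asHomogeneousIdeal))
    (e : ℕ) (a : A) (ha : a ∈ 𝒜 e) (ha1 : a ∈ q₁.asHomogeneousIdeal) :
    a ∈ q₂.asHomogeneousIdeal := by
  by_cases he : 0 < e
  · exact (h e he a ha).mp ha1
  · have he0 : e = 0 := by omega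
    subst he0
    obtain ⟨i, hi, g, hg, hgq⟩ := exists_pos_homogeneous_not_mem q₁
    have hag : a * g ∈ 𝒜 (0 + i) := SetLike.mul_mem_graded ha hg
    have h1 : a * g ∈ q₁.asHomogeneousIdeal :=
      Ideal.mul_mem_right g q₁.asHomogeneousIdeal.toIdeal ha1
    have h2 : a * g ∈ q₂.asHomogeneousIdeal := (h (0 + i) (by omega) _ hag).mp h1
    have hg2 : g ∉ q₂.asHomogeneousIdeal := fun hg2 => hgq ((h i hi g hg).mpr hg2)
    exact (q₂.isPrime.mem_or_mem h2).resolve_right hg2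

theorem proj_point_le_of_pos (q₁ q₂ : Proj 𝒜)
    (h : ∀ (e : ℕ), 0 < e → ∀ a ∈ 𝒜 e,
      (a ∈ q₁.asHomogeneousIdeal ↔ a ∈ q₂.asHomogeneousIdeal)) :
    q₁.asHomogeneousIdeal.toIdeal ≤ q₂.asHomogeneousIdeal.toIdeal := by
  intro a ha
  rw [q₂.asHomogeneousIdeal.isHomogeneous.mem_iff]
  intro i
  exact proj_point_mem_of_pos q₁ q₂ h i _ (SetLike.coe_mem _)
    (q₁.asHomogeneousIdeal.isHomogeneous i ha)

/-- points of `Proj` are determined by their homogeneous elements of positive degree -/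
theorem proj_point_ext (q₁ q₂ : Proj 𝒜)
    (h : ∀ (e : ℕ), 0 < e → ∀ a ∈ 𝒜 e,
      (a ∈ q₁.asHomogeneousIdeal ↔ a ∈ q₂.asHomogeneousIdeal)) :
    q₁ = q₂ := by
  have key : q₁.asHomogeneousIdeal = q₂.asHomogeneousIdeal := by
    apply HomogeneousIdeal.toIdeal_injective
    exact le_antisymm (proj_point_le_of_pos q₁ q₂ h)
      (proj_point_le_of_pos q₂ q₁ fun e he a ha => (h e he a ha).symm)
  exact ProjectiveSpectrum.ext key

/-- the image of a point of `D_+(ψ f)` under the morphism induced by `ψ` -/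
theorem awayι_spec_map_eq (ψ : 𝒜 →+*ᵍ ℬ) {d : ℕ} (hd : 0 < d) {f : A} (hf : f ∈ 𝒜 d)
    (w : Spec (CommRingCat.of (Away ℬ (ψ f)))) (q : Proj 𝒜)
    (h : ∀ (e : ℕ), 0 < e → ∀ a ∈ 𝒜 e,
      (ψ a ∈ ((Proj.awayι ℬ (ψ f) (ψ.map_mem hf) hd).base w).asHomogeneousIdeal ↔
        a ∈ q.asHomogeneousIdeal)) :
    (Proj.awayι 𝒜 f hf hd).base ((Spec.map (CommRingCat.ofHom (Away.map ψ f))).base w) = q := by
  refine proj_point_ext _ _ fun e he a ha => ?_
  rw [← h e he a ha, ← not_iff_not]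
  have key := awayι_map_mem_basicOpen_iff ψ hd he hf ha w
  rw [Proj.mem_basicOpen, Proj.mem_basicOpen] at key
  exact key

end ring

/-! ### morphisms satisfying the diagonal chart equations, on points -/

section diagform

variable {Y : Scheme.{u}} {𝒜 ℬ : RelProj.QCGrAlg Y} (φ : 𝒜.toQCAlg ⟶ ℬ.toQCAlg)
  (hφ : RelProj.IsGradedHom φ)
  {PA PB : Scheme.{u}} (pA : PA ⟶ Y)
  (chartA : ∀ (U : Y.Opens) (hU : IsAffineOpen U),
    (((pA ⁻¹ᵁ U : PA.Opens) : Scheme.{u}) ≅ Proj (𝒜.deg U hU)))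
  (pB : PB ⟶ Y)
  (chartB : ∀ (U : Y.Opens) (hU : IsAffineOpen U),
    (((pB ⁻¹ᵁ U : PB.Opens) : Scheme.{u}) ≅ Proj (ℬ.deg U hU)))
  (hA : RelProj.IsRelProj 𝒜 pA chartA) (hB : RelProj.IsRelProj ℬ pB chartB)

include hB in
/-- the value of a morphism satisfying the diagonal chart equations at a point of a standard
chart -/
theorem diagEq_apply (W : PB.Opens)
    (hW : RelProj.domQ (RelProj.QGrHom.ofHom φ hφ) pB chartB = W) (r : (W : Scheme.{u}) ⟶ PA)
    (hr : DiagEq φ hφ pA chartA pB chartB W r)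
    (U : Y.Opens) (hU : IsAffineOpen U) {d : ℕ} (hd : 0 < d) (f : 𝒜.presheaf.obj (op U))
    (hf : f ∈ 𝒜.deg U hU d)
    (w : Spec (CommRingCat.of (HomogeneousLocalization.Away (ℬ.deg U hU)
      ((RelProj.gradedHomAt φ hφ U hU) f))))
    (t : (W : Scheme.{u}))
    (ht : W.ι.base t = (RelProj.emb pB chartB U hU).base
      ((Proj.awayι (ℬ.deg U hU) ((RelProj.gradedHomAt φ hφ U hU) f)
        ((RelProj.gradedHomAt φ hφ U hU).2 hf) hd).base w)) :
    r.base t = (RelProj.emb pA chartA U hU).base ((Proj.awayι (𝒜.deg U hU) f hf hd).base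
      ((Spec.map (CommRingCat.ofHom (HomogeneousLocalization.Away.map
        (RelProj.gradedHomAt φ hφ U hU) f))).base w)) := by
  have hrange := range_diag_subset φ hφ pB chartB hB W hW U hU hd f hf
  have hg := hr U hU d hd f hf (IsOpenImmersion.lift W.ι _ hrange)
    (IsOpenImmersion.lift_fac _ _ _)
  have h1 : (IsOpenImmersion.lift W.ι _ hrange).base w = t :=
    W.ι.isOpenEmbedding.injective
      ((congrArg (fun k => k.base w) (IsOpenImmersion.lift_fac W.ι _ hrange)).trans ht.symm)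
  rw [← h1]
  exact congrArg (fun k => k.base w) hg

include hA hB in
/-- the preimage of a standard open under a morphism satisfying the diagonal chart equations -/
theorem diagEq_preimage (W : PB.Opens)
    (hW : RelProj.domQ (RelProj.QGrHom.ofHom φ hφ) pB chartB = W) (r : (W : Scheme.{u}) ⟶ PA)
    (hr : DiagEq φ hφ pA chartA pB chartB W r)
    (U : Y.Opens) (hU : IsAffineOpen U) {d : ℕ} (hd : 0 < d) (f : 𝒜.presheaf.obj (op U))
    (hf : f ∈ 𝒜.deg U hU d) (t : (W : Scheme.{u})) :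
    r.base t ∈ ((RelProj.emb pA chartA U hU) ''ᵁ Proj.basicOpen (𝒜.deg U hU) f : PA.Opens) ↔
      W.ι.base t ∈ ((RelProj.emb pB chartB U hU) ''ᵁ
        Proj.basicOpen (ℬ.deg U hU) ((RelProj.gradedHomAt φ hφ U hU) f) : PB.Opens) := by
  constructor
  · intro ht
    have hv := (diagEq_iff φ hφ pA chartA pB chartB hA hB W hW r).mp hr
    have hpre := preimage_eq_opensRange_lift (RelProj.QGrHom.ofHom φ hφ) pA chartA pB chartB
      hA hB _ hv U hU hd f hf
    have e : (PB.isoOfEq hW).hom.base ((PB.isoOfEq hW).inv.base t) = t :=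
      congrArg (fun k => k.base t) (PB.isoOfEq hW).inv_hom_id
    have hy : (PB.isoOfEq hW).inv.base t ∈ ((PB.isoOfEq hW).hom ≫ r) ⁻¹ᵁ
        ((RelProj.emb pA chartA U hU) ''ᵁ Proj.basicOpen (𝒜.deg U hU) f) := by
      show r.base ((PB.isoOfEq hW).hom.base ((PB.isoOfEq hW).inv.base t)) ∈
        ((RelProj.emb pA chartA U hU) ''ᵁ Proj.basicOpen (𝒜.deg U hU) f : PA.Opens)
      rw [e]
      exact ht
    have hy2 := hpre.le hy
    rw [mem_opensRange_lift_iff, mem_range_E_iff] at hy2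
    obtain ⟨Q, hQ, hQt⟩ := hy2
    have e2 : (RelProj.domQ (RelProj.QGrHom.ofHom φ hφ) pB chartB).ι.base
        ((PB.isoOfEq hW).inv.base t) = W.ι.base t :=
      congrArg (fun k => k.base t) (Scheme.isoOfEq_inv_ι PB hW)
    refine ⟨Q, ?_, hQt.trans e2⟩
    have hQ' : Q ∈ Proj.basicOpen (ℬ.deg U hU)
        ((RelProj.QGrHom.ofHom φ hφ).gradedAt U hU U hU (le_id U) f) := hQ
    rw [gradedAt_self_apply] at hQ'
    exact hQ'
  · rintro ⟨Q, hQ, hQt⟩
    have hQ' : Q ∈ Proj.basicOpen (ℬ.deg U hU) ((RelProj.gradedHomAt φ hφ U hU) f) := hQ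
    rw [← Proj.opensRange_awayι (ℬ.deg U hU) ((RelProj.gradedHomAt φ hφ U hU) f)
      ((RelProj.gradedHomAt φ hφ U hU).2 hf) hd] at hQ'
    obtain ⟨w, hw⟩ := hQ'
    have ht : W.ι.base t = (RelProj.emb pB chartB U hU).base
        ((Proj.awayι (ℬ.deg U hU) ((RelProj.gradedHomAt φ hφ U hU) f)
          ((RelProj.gradedHomAt φ hφ U hU).2 hf) hd).base w) :=
      hQt.symm.trans (congrArg (fun k => (RelProj.emb pB chartB U hU).base k) hw.symm)
    rw [diagEq_apply φ hφ pA chartA pB chartB hB W hW r hr U hU hd f hf w t ht]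
    refine ⟨_, ?_, rfl⟩
    show _ ∈ Proj.basicOpen (𝒜.deg U hU) f
    rw [← Proj.opensRange_awayι (𝒜.deg U hU) f hf hd]
    exact ⟨_, rfl⟩

end diagform

/-! ### the cone -/

section cone

variable {Y : Scheme.{u}} {𝒮 𝒮h : RelProj.QCGrAlg Y} {ι : 𝒮.toQCAlg ⟶ 𝒮h.toQCAlg}
  {z : 𝒮h.presheaf.obj (op ⊤)} (hz : RelCone.IsPolyOver 𝒮 𝒮h ι z)

theorem awayZToBase_fromZero (U : Y.Opens) (hU : IsAffineOpen U) (a : 𝒮h.deg U hU 0) :
    hz.awayZToBase U hU (fromZeroRingHom (𝒮h.deg U hU)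
      (Submonoid.powers (RelCone.restrictTop 𝒮h z U)) a) = hz.evalOne U hU a.1 := by
  refine hz.awayZToBase_of_val U hU _ a.1 0 ?_
  show (HomogeneousLocalization.mk ⟨0, a, 1, one_mem _⟩ :
    HomogeneousLocalization (𝒮h.deg U hU) (Submonoid.powers (RelCone.restrictTop 𝒮h z U))).val = _
  rw [HomogeneousLocalization.val_mk]
  congr 1
  exact Subtype.ext (pow_zero _).symm

theorem str_awayZToBase (U : Y.Opens) (hU : IsAffineOpen U) :
    𝒮h.strZero U hU ≫ CommRingCat.ofHom (fromZeroRingHom (𝒮h.deg U hU)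
      (Submonoid.powers (RelCone.restrictTop 𝒮h z U))) ≫
        CommRingCat.ofHom (hz.awayZToBase U hU) = 𝒮.str.app (op U) := by
  refine CommRingCat.hom_ext (RingHom.ext fun r => ?_)
  show hz.awayZToBase U hU (fromZeroRingHom _ _ ((𝒮h.strZero U hU).hom r)) =
    (𝒮.str.app (op U)).hom r
  rw [awayZToBase_fromZero]
  show hz.evalOne U hU ((𝒮h.str.app (op U)).hom r) = _
  have hc : (𝒮h.str.app (op U)).hom r =
      (ι.hom.app (op U)).hom ((𝒮.str.app (op U)).hom r) :=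
    (congrArg (fun k => (k.app (op U)).hom r) ι.comm).symm
  rw [hc, hz.evalOne_ι]

variable {PC : Scheme.{u}} (pC : PC ⟶ Y)
  (chartC : ∀ (U : Y.Opens) (hU : IsAffineOpen U),
    (((pC ⁻¹ᵁ U : PC.Opens) : Scheme.{u}) ≅ Proj (𝒮h.deg U hU)))
  (hPC : RelProj.IsRelProj 𝒮h pC chartC)

include hPC in
/-- the canonical immersion of the affine cone is a morphism over the base -/
theorem coneImm_over (i : 𝒮.toQCAlg.spec ⟶ PC) (hi : RelCone.IsConeImm 𝒮 hz pC chartC i) :
    i ≫ pC = 𝒮.toQCAlg.π := by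
  apply colimit.hom_ext
  intro U
  change 𝒮.toQCAlg.ι U.1 U.2 ≫ i ≫ pC = 𝒮.toQCAlg.ι U.1 U.2 ≫ 𝒮.toQCAlg.π
  have e1 : RelProj.emb pC chartC U.1 U.2 ≫ pC = Proj.toSpecZero (𝒮h.deg U.1 U.2) ≫
      Spec.map (𝒮h.strZero U.1 U.2) ≫ U.2.fromSpec := by
    rw [RelProj.emb, Category.assoc, ← hPC.chart_over U.1 U.2, Iso.inv_hom_id_assoc]
  rw [← Category.assoc, hi U.1 U.2, 𝒮.toQCAlg.ι_π]
  simp only [Category.assoc]
  rw [e1, Proj.awayι_toSpecZero_assoc, ← str_awayZToBase hz U.1 U.2]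
  simp only [Spec.map_comp, Category.assoc]

include hPC in
/-- the pointed affine cone is carried into the pointed projective cone -/
theorem pointedCone_le (i : 𝒮.toQCAlg.spec ⟶ PC) (hi : RelCone.IsConeImm 𝒮 hz pC chartC i) :
    RelCone.pointedCone 𝒮 ≤ i ⁻¹ᵁ RelCone.pointedProjCone 𝒮 hz pC chartC := by
  intro c hc
  obtain ⟨U, hU0, hcU, -⟩ := Opens.isBasis_iff_nbhd.1 Y.isBasis_affineOpens
    (show 𝒮.toQCAlg.π.base c ∈ (⊤ : Y.Opens) from trivial)
  have hU : IsAffineOpen U := hU0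
  obtain ⟨y, rfl⟩ := exists_ι_eq 𝒮.toQCAlg U hU c hcU
  rw [mem_pointedCone_iff, mem_vertexCompl_iff] at hc
  obtain ⟨a, ha, hay⟩ := hc
  obtain ⟨j, hj, hnj⟩ := exists_pos_decompose_not_mem (𝒮.deg U hU) y.asIdeal ha hay
  show i.base ((𝒮.toQCAlg.ι U hU).base y) ∈ RelCone.pointedProjCone 𝒮 hz pC chartC
  rw [coneImm_apply hz pC chartC i hi U hU, mem_pointedProjCone_iff hz pC chartC hPC U hU,
    RelCone.mem_domOpen]
  refine ⟨(DirectSum.decompose (𝒮.deg U hU) a j : _),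
    HomogeneousIdeal.mem_irrelevant_of_mem _ hj (SetLike.coe_mem _), ?_⟩
  intro hmem
  exact hnj ((mem_awayι_iff hz U hU y hj _ (SetLike.coe_mem _)).1 hmem)

variable {P : Scheme.{u}} (p : P ⟶ Y)
  (chart : ∀ (U : Y.Opens) (hU : IsAffineOpen U),
    (((p ⁻¹ᵁ U : P.Opens) : Scheme.{u}) ≅ Proj (𝒮.deg U hU)))
  (hP : RelProj.IsRelProj 𝒮 p chart)

include hP hPC in
/-- the preimage of a standard open of `Proj(𝒮)` in the pointed affine cone is a basic open of
a chart of the cone -/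
theorem cone_preimage_standard (i : 𝒮.toQCAlg.spec ⟶ PC)
    (hi : RelCone.IsConeImm 𝒮 hz pC chartC i)
    (r : ((RelCone.pointedProjCone 𝒮 hz pC chartC : PC.Opens) : Scheme.{u}) ⟶ P)
    (hr : DiagEq ι hz.graded p chart pC chartC (RelCone.pointedProjCone 𝒮 hz pC chartC) r)
    (i' : ((RelCone.pointedCone 𝒮 : 𝒮.toQCAlg.spec.Opens) : Scheme.{u}) ⟶
      ((RelCone.pointedProjCone 𝒮 hz pC chartC : PC.Opens) : Scheme.{u}))
    (hi' : i' ≫ (RelCone.pointedProjCone 𝒮 hz pC chartC).ι = (RelCone.pointedCone 𝒮).ι ≫ i)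
    (U : Y.Opens) (hU : IsAffineOpen U) {d : ℕ} (hd : 0 < d) (f : 𝒮.presheaf.obj (op U))
    (hf : f ∈ 𝒮.deg U hU d) :
    (RelCone.pointedCone 𝒮).ι ''ᵁ ((i' ≫ r) ⁻¹ᵁ
        ((RelProj.emb p chart U hU) ''ᵁ Proj.basicOpen (𝒮.deg U hU) f)) =
      (𝒮.toQCAlg.ι U hU) ''ᵁ (PrimeSpectrum.basicOpen f) := by
  have hW : RelProj.domQ (RelProj.QGrHom.ofHom ι hz.graded) pC chartC =
      RelCone.pointedProjCone 𝒮 hz pC chartC := domQ_ofHom_eq ι hz.graded pC chartC hPC
  ext c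
  constructor
  · rintro ⟨e, he, rfl⟩
    have he' : r.base (i'.base e) ∈ ((RelProj.emb p chart U hU) ''ᵁ
        Proj.basicOpen (𝒮.deg U hU) f : P.Opens) := he
    rw [diagEq_preimage ι hz.graded p chart pC chartC hP hPC _ hW r hr U hU hd f hf] at he'
    obtain ⟨Q, hQ, hQe⟩ := he'
    have e1 : (RelCone.pointedProjCone 𝒮 hz pC chartC).ι.base (i'.base e) =
        i.base ((RelCone.pointedCone 𝒮).ι.base e) := congrArg (fun k => k.base e) hi'
    have hover := coneImm_over hz pC chartC hPC i hi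
    have hcU : 𝒮.toQCAlg.π.base ((RelCone.pointedCone 𝒮).ι.base e) ∈ U := by
      have h3 : pC.base (i.base ((RelCone.pointedCone 𝒮).ι.base e)) =
          𝒮.toQCAlg.π.base ((RelCone.pointedCone 𝒮).ι.base e) :=
        congrArg (fun k => k.base ((RelCone.pointedCone 𝒮).ι.base e)) hover
      have h6 : pC.base ((RelProj.emb pC chartC U hU).base Q) ∈ U :=
        emb_mem_preimage pC chartC U hU Q
      have h7 : (RelProj.emb pC chartC U hU).base Q =
          i.base ((RelCone.pointedCone 𝒮).ι.base e) := hQe.trans e1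
      rw [h7, h3] at h6
      exact h6
    obtain ⟨y, hy⟩ := exists_ι_eq 𝒮.toQCAlg U hU _ hcU
    refine ⟨y, ?_, hy⟩
    have e2 : (RelProj.emb pC chartC U hU).base Q = (RelProj.emb pC chartC U hU).base
        ((Proj.awayι (𝒮h.deg U hU) (RelCone.restrictTop 𝒮h z U) (hz.deg_z U hU) one_pos).base
          ((Spec.map (CommRingCat.ofHom (hz.awayZToBase U hU))).base y)) := by
      have h5 := coneImm_apply hz pC chartC i hi U hU y
      rw [hy] at h5
      exact hQe.trans (e1.trans h5)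
    have e3 := (RelProj.emb pC chartC U hU).isOpenEmbedding.injective e2
    show f ∉ y.asIdeal
    intro hfy
    have h4 := (mem_awayι_iff hz U hU y hd f hf).2 hfy
    rw [← e3] at h4
    exact ((Proj.mem_basicOpen _ _ _).1 hQ) h4
  · rintro ⟨y, hy, rfl⟩
    have hfy : f ∉ y.asIdeal := hy
    have hc : (𝒮.toQCAlg.ι U hU).base y ∈ RelCone.pointedCone 𝒮 := by
      rw [mem_pointedCone_iff, mem_vertexCompl_iff]
      exact ⟨f, HomogeneousIdeal.mem_irrelevant_of_mem _ hd hf, hfy⟩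
    refine ⟨⟨_, hc⟩, ?_, rfl⟩
    show r.base (i'.base ⟨_, hc⟩) ∈ ((RelProj.emb p chart U hU) ''ᵁ
        Proj.basicOpen (𝒮.deg U hU) f : P.Opens)
    rw [diagEq_preimage ι hz.graded p chart pC chartC hP hPC _ hW r hr U hU hd f hf]
    have e1 : (RelCone.pointedProjCone 𝒮 hz pC chartC).ι.base (i'.base ⟨_, hc⟩) =
        i.base ((𝒮.toQCAlg.ι U hU).base y) := congrArg (fun k => k.base ⟨_, hc⟩) hi'
    rw [e1, coneImm_apply hz pC chartC i hi U hU]
    refine ⟨_, ?_, rfl⟩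
    exact (Proj.mem_basicOpen _ _ _).2 fun hm => hfy ((mem_awayι_iff hz U hU y hd f hf).1 hm)

include hP hPC in
/-- the projection of the pointed affine cone onto `Proj(𝒮)` is affine and surjective -/
theorem cone_projection_affine_surjective (i : 𝒮.toQCAlg.spec ⟶ PC)
    (hi : RelCone.IsConeImm 𝒮 hz pC chartC i)
    (r : ((RelCone.pointedProjCone 𝒮 hz pC chartC : PC.Opens) : Scheme.{u}) ⟶ P)
    (hr : DiagEq ι hz.graded p chart pC chartC (RelCone.pointedProjCone 𝒮 hz pC chartC) r)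
    (i' : ((RelCone.pointedCone 𝒮 : 𝒮.toQCAlg.spec.Opens) : Scheme.{u}) ⟶
      ((RelCone.pointedProjCone 𝒮 hz pC chartC : PC.Opens) : Scheme.{u}))
    (hi' : i' ≫ (RelCone.pointedProjCone 𝒮 hz pC chartC).ι = (RelCone.pointedCone 𝒮).ι ≫ i) :
    IsAffineHom (i' ≫ r) ∧ Function.Surjective (i' ≫ r).base := by
  have hW : RelProj.domQ (RelProj.QGrHom.ofHom ι hz.graded) pC chartC =
      RelCone.pointedProjCone 𝒮 hz pC chartC := domQ_ofHom_eq ι hz.graded pC chartC hPC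
  constructor
  · refine isAffineHom_of_forall_exists_isAffineOpen (f := i' ≫ r) fun x => ?_
    obtain ⟨U, hU, d, hd, f, hf, hx⟩ := exists_standard_open p chart x
    refine ⟨_, hx, ?_, ?_⟩
    · exact (Proj.isAffineOpen_basicOpen (𝒮.deg U hU) f hf hd).image_of_isOpenImmersion _
    · refine ((RelCone.pointedCone 𝒮).ι.isAffineOpen_iff_of_isOpenImmersion).mp ?_
      rw [cone_preimage_standard hz pC chartC hPC p chart hP i hi r hr i' hi' U hU hd f hf]
      exact (IsAffineOpen.Spec_basicOpen f).image_of_isOpenImmersion _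
  · intro x
    obtain ⟨U, hU, d, hd, f, hf, q, hq, hqx⟩ := exists_standard_open p chart x
    have hq' : q ∈ Proj.basicOpen (𝒮.deg U hU) f := hq
    let y : Spec (𝒮.presheaf.obj (op U)) :=
      (⟨q.asHomogeneousIdeal.toIdeal, q.isPrime⟩ : PrimeSpectrum (𝒮.presheaf.obj (op U)))
    have hfy : f ∉ y.asIdeal := (Proj.mem_basicOpen _ _ _).1 hq'
    have hc : (𝒮.toQCAlg.ι U hU).base y ∈ RelCone.pointedCone 𝒮 := by
      rw [mem_pointedCone_iff, mem_vertexCompl_iff]
      exact ⟨f, HomogeneousIdeal.mem_irrelevant_of_mem _ hd hf, hfy⟩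
    refine ⟨⟨_, hc⟩, ?_⟩
    have hQ : (Proj.awayι (𝒮h.deg U hU) (RelCone.restrictTop 𝒮h z U) (hz.deg_z U hU)
        one_pos).base ((Spec.map (CommRingCat.ofHom (hz.awayZToBase U hU))).base y) ∈
        Proj.basicOpen (𝒮h.deg U hU) ((RelProj.gradedHomAt ι hz.graded U hU) f) :=
      (Proj.mem_basicOpen _ _ _).2 fun hm => hfy ((mem_awayι_iff hz U hU y hd f hf).1 hm)
    rw [← Proj.opensRange_awayι (𝒮h.deg U hU) ((RelProj.gradedHomAt ι hz.graded U hU) f)
      ((RelProj.gradedHomAt ι hz.graded U hU).2 hf) hd] at hQ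
    obtain ⟨w, hw0⟩ := hQ
    have hw : (Proj.awayι (𝒮h.deg U hU) ((RelProj.gradedHomAt ι hz.graded U hU) f)
        ((RelProj.gradedHomAt ι hz.graded U hU).2 hf) hd).base w =
      (Proj.awayι (𝒮h.deg U hU) (RelCone.restrictTop 𝒮h z U) (hz.deg_z U hU)
        one_pos).base ((Spec.map (CommRingCat.ofHom (hz.awayZToBase U hU))).base y) := hw0
    have ht : (RelCone.pointedProjCone 𝒮 hz pC chartC).ι.base (i'.base ⟨_, hc⟩) =
        (RelProj.emb pC chartC U hU).base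
          ((Proj.awayι (𝒮h.deg U hU) ((RelProj.gradedHomAt ι hz.graded U hU) f)
            ((RelProj.gradedHomAt ι hz.graded U hU).2 hf) hd).base w) :=
      ((congrArg (fun k => k.base ⟨_, hc⟩) hi').trans
        (coneImm_apply hz pC chartC i hi U hU y)).trans
        (congrArg (fun k => (RelProj.emb pC chartC U hU).base k) hw.symm)
    show r.base (i'.base ⟨_, hc⟩) = x
    rw [diagEq_apply ι hz.graded p chart pC chartC hPC _ hW r hr U hU hd f hf w _ ht, ← hqx]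
    congr 1
    refine awayι_spec_map_eq (RelProj.gradedHomAt ι hz.graded U hU) hd hf w q
      fun e he a ha => ?_
    rw [hw]
    exact mem_awayι_iff hz U hU y he a ha

end cone

end Groth.Agent.H41.ProjQ
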