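import Groth.Agent.H41.ProjQ7
import Groth.Agent.H41.GrModSections

/-!
# Dominance of `Proj(u)` on `G(u)`: pointwise criteria

* `exists_not_mem_of_not_isNilpotent`: a non-nilpotent homogeneous element of positive degree is
  avoided by a point of `Proj`.
* `exists_pos_basicOpen_subset`, `exists_of_open`: the `D_+(f)` with `f` of (large) positive degree
  form a basis.
* `not_mem_of_map_mem` / `exists_map_mem`: pointwise description of `r⁻¹(D_+(f))` for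
  `r = Proj(u)` on `G(u)`.
* `exists_of_dominant`, `isDominant_of_transfer`.
-/

set_option autoImplicit false
set_option linter.style.haveILetI false
universe u

open CategoryTheory CategoryTheory.Limits AlgebraicGeometry TopologicalSpace Opposite
open HomogeneousLocalization
open scoped HomogeneousIdeal

noncomputable section

namespace Groth.Agent.H41.ProjQ

open Groth.Agent.H41.RelConeLib Groth.Agent.H41.ProjConeLib Groth.Agent.H41.RelProjLib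

/-! ### ring level -/

section ring

variable {A : Type u} [CommRing A] (𝒜 : ℕ → AddSubgroup A) [GradedRing 𝒜]

/-- a non-nilpotent homogeneous element of positive degree is avoided by a point of `Proj` -/
theorem exists_not_mem_of_not_isNilpotent {d : ℕ} (hd : 0 < d) {f : A} (hf : f ∈ 𝒜 d)
    (hnil : ¬ IsNilpotent f) : ∃ Q : Proj 𝒜, f ∉ Q.asHomogeneousIdeal := by
  have hnt : Nontrivial (Away 𝒜 f) := by
    refine ⟨⟨0, 1, fun h01 => hnil ?_⟩⟩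
    have h1 := congrArg HomogeneousLocalization.val h01
    rw [HomogeneousLocalization.val_zero, HomogeneousLocalization.val_one] at h1
    have h2 : (algebraMap A (Localization (Submonoid.powers f))) 1 = 0 := by
      rw [map_one]; exact h1.symm
    rw [IsLocalization.map_eq_zero_iff (Submonoid.powers f)] at h2
    obtain ⟨⟨m, k, rfl⟩, hm⟩ := h2
    exact ⟨k, by simpa using hm⟩
  obtain ⟨y⟩ : Nonempty (Spec (CommRingCat.of (Away 𝒜 f))) :=
    inferInstanceAs (Nonempty (PrimeSpectrum (Away 𝒜 f)))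
  have hy : (Proj.awayι 𝒜 f hf hd).base y ∈ Proj.basicOpen 𝒜 f := by
    rw [← Proj.opensRange_awayι 𝒜 f hf hd]
    exact ⟨y, rfl⟩
  exact ⟨_, (Proj.mem_basicOpen 𝒜 f _).mp hy⟩

/-- the `D_+(f)`, `f` homogeneous of large positive degree, form a basis of `Proj` -/
theorem exists_pos_basicOpen_subset (W : (Proj 𝒜).Opens) (Q : Proj 𝒜) (hQ : Q ∈ W) (m : ℕ) :
    ∃ (d : ℕ) (_ : 0 < d) (_ : m ≤ d) (f : A) (_ : f ∈ 𝒜 d), f ∉ Q.asHomogeneousIdeal ∧
      ∀ y : Proj 𝒜, f ∉ y.asHomogeneousIdeal → y ∈ W := by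
  obtain ⟨k, a, ha, haQ, haW⟩ :=
    Groth.Agent.H41.GrModSections.exists_homogeneous_basicOpen_subset 𝒜 W Q hQ
  obtain ⟨i, hi, s, hs, hsQ⟩ := exists_pos_homogeneous_not_mem Q
  have hpos : 0 < k + i := Nat.add_pos_right k hi
  refine ⟨(m + 1) • (k + i), ?_, ?_, (a * s) ^ (m + 1),
    SetLike.pow_mem_graded _ (SetLike.mul_mem_graded ha hs), ?_, ?_⟩
  · rw [smul_eq_mul]; exact Nat.mul_pos (Nat.succ_pos m) hpos
  · rw [smul_eq_mul]; exact (Nat.le_succ m).trans (Nat.le_mul_of_pos_right _ hpos)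
  · intro h
    have h' : (a * s) ^ (m + 1) ∈ Q.asHomogeneousIdeal.toIdeal := h
    have h2 := Q.isPrime.mem_of_pow_mem _ h'
    exact (Q.isPrime.mem_or_mem h2).elim haQ hsQ
  · intro y hy
    refine haW y (fun h => hy ?_)
    have h' : a * s ∈ y.asHomogeneousIdeal.toIdeal := Ideal.mul_mem_right _ _ h
    exact Ideal.pow_mem_of_mem y.asHomogeneousIdeal.toIdeal h' _ (Nat.succ_pos m)

end ring

/-! ### scheme level -/

section scheme

variable {Y Y' : Scheme.{u}} {g : Y' ⟶ Y} {𝒮 : RelProj.QCGrAlg Y} {𝒮' : RelProj.QCGrAlg Y'}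
  (u : RelProj.QGrHom g 𝒮 𝒮')
  {P : Scheme.{u}} (p : P ⟶ Y)
  (chart : ∀ (U : Y.Opens) (hU : IsAffineOpen U),
    (((p ⁻¹ᵁ U : P.Opens) : Scheme.{u}) ≅ Proj (𝒮.deg U hU)))
  {P' : Scheme.{u}} (p' : P' ⟶ Y')
  (chart' : ∀ (U' : Y'.Opens) (hU' : IsAffineOpen U'),
    (((p' ⁻¹ᵁ U' : P'.Opens) : Scheme.{u}) ≅ Proj (𝒮'.deg U' hU')))
  (hP : RelProj.IsRelProj 𝒮 p chart) (hP' : RelProj.IsRelProj 𝒮' p' chart')
  (r : ((RelProj.domQ u p' chart' : P'.Opens) : Scheme.{u}) ⟶ P)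
  (hr : RelProj.IsProjQMapOn u p chart p' chart' (RelProj.domQ u p' chart') r)

/-- basis of a relative `Proj` over an affine open of the base -/
theorem exists_of_open (U : Y.Opens) (hU : IsAffineOpen U) (W : P.Opens) (x : P) (hxW : x ∈ W)
    (hxU : x ∈ p ⁻¹ᵁ U) (m : ℕ) :
    ∃ (d : ℕ) (_ : 0 < d) (_ : m ≤ d) (f : 𝒮.presheaf.obj (op U)) (_ : f ∈ 𝒮.deg U hU d),
      ¬ IsNilpotent f ∧
        ∀ z : P, z ∈ (RelProj.emb p chart U hU) ''ᵁ Proj.basicOpen (𝒮.deg U hU) f → z ∈ W := by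
  obtain ⟨Q, hQ⟩ := exists_emb_eq p chart U hU x hxU
  have hQW : Q ∈ (RelProj.emb p chart U hU) ⁻¹ᵁ W := by
    show (RelProj.emb p chart U hU).base Q ∈ W
    rw [hQ]; exact hxW
  obtain ⟨d, hd, hmd, f, hf, hfQ, hsub⟩ :=
    exists_pos_basicOpen_subset (𝒮.deg U hU) ((RelProj.emb p chart U hU) ⁻¹ᵁ W) Q hQW m
  refine ⟨d, hd, hmd, f, hf, ?_, ?_⟩
  · rintro ⟨k, hk⟩
    apply hfQ
    have hmem : f ^ k ∈ Q.asHomogeneousIdeal.toIdeal := by rw [hk]; exact zero_mem _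
    exact Q.isPrime.mem_of_pow_mem _ hmem
  · rintro z ⟨y, hy, rfl⟩
    have hy' : y ∈ Proj.basicOpen (𝒮.deg U hU) f := hy
    exact hsub y ((Proj.mem_basicOpen _ _ _).mp hy')

include hP' hr in
/-- if `r` maps `w'` into `D_+(f)` then `u f` does not vanish at `w'` -/
theorem not_mem_of_map_mem (w' : ((RelProj.domQ u p' chart' : P'.Opens) : Scheme.{u}))
    (U : Y.Opens) (hU : IsAffineOpen U) (U' : Y'.Opens) (hU' : IsAffineOpen U')
    (hle : U' ≤ g ⁻¹ᵁ U) (Q : Proj (𝒮'.deg U' hU'))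
    (hQ : (RelProj.emb p' chart' U' hU').base Q = (RelProj.domQ u p' chart').ι.base w')
    {d : ℕ} (hd : 0 < d) (f : 𝒮.presheaf.obj (op U)) (hf : f ∈ 𝒮.deg U hU d)
    (hrw : r.base w' ∈ (RelProj.emb p chart U hU) ''ᵁ Proj.basicOpen (𝒮.deg U hU) f) :
    (u.gradedAt U hU U' hU' hle) f ∉ Q.asHomogeneousIdeal := by
  have hdom : (RelProj.emb p' chart' U' hU').base Q ∈ RelProj.domQ u p' chart' := by
    rw [hQ]; exact w'.2
  have h1 := (mem_domQ_iff u p' chart' hP' U hU U' hU' hle Q).mp hdom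
  rw [RelCone.mem_domOpen] at h1
  obtain ⟨s, hs, hsQ⟩ := h1
  obtain ⟨n, hn, hsn⟩ := exists_pos_decompose_not_mem (𝒮.deg U hU)
    (Ideal.comap (u.gradedAt U hU U' hU' hle).toRingHom Q.asHomogeneousIdeal.toIdeal) hs hsQ
  obtain ⟨sn, hsndef⟩ : ∃ sn : 𝒮.presheaf.obj (op U),
      sn = (DirectSum.decompose (𝒮.deg U hU) s n : 𝒮.presheaf.obj (op U)) := ⟨_, rfl⟩
  have hsnmem : sn ∈ 𝒮.deg U hU n := by rw [hsndef]; exact SetLike.coe_mem _
  have hsn' : (u.gradedAt U hU U' hU' hle) sn ∉ Q.asHomogeneousIdeal := by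
    rw [hsndef]; exact hsn
  have hwc : (RelProj.domQ u p' chart').ι.base w' ∈ Set.range
      (E u p' chart' ⟨U, hU, U', hU', hle, n, hn, sn, hsnmem⟩).base :=
    (mem_range_E_iff u p' chart' ⟨U, hU, U', hU', hle, n, hn, sn, hsnmem⟩ _).mpr
      ⟨Q, (Proj.mem_basicOpen _ _ _).mpr hsn', hQ⟩
  obtain ⟨y, hy⟩ := hwc
  have hwy : (lift u p' chart' ⟨U, hU, U', hU', hle, n, hn, sn, hsnmem⟩).base y = w' :=
    (RelProj.domQ u p' chart').ι.isOpenEmbedding.injective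
      ((congrArg (fun k => k.base y) (lift_ι u p' chart'
        ⟨U, hU, U', hU', hle, n, hn, sn, hsnmem⟩)).trans hy)
  have hrw' : r.base w' = (RelProj.emb p chart U hU).base
      ((Proj.awayι (𝒮.deg U hU) sn hsnmem hn).base
        ((Spec.map (CommRingCat.ofHom (HomogeneousLocalization.Away.map
          (u.gradedAt U hU U' hU' hle) sn))).base y)) := by
    rw [← hwy]
    exact congrArg (fun k => k.base y)
      ((isProjQMapOn_iff u p chart p' chart' r).mp hr ⟨U, hU, U', hU', hle, n, hn, sn, hsnmem⟩)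
  obtain ⟨QY, hQY, hQYr⟩ := hrw
  have hQYr' : (RelProj.emb p chart U hU).base QY = r.base w' := hQYr
  have hQYeq := (RelProj.emb p chart U hU).isOpenEmbedding.injective (hQYr'.trans hrw')
  have hQY' : QY ∈ Proj.basicOpen (𝒮.deg U hU) f := hQY
  rw [hQYeq] at hQY'
  have h2 := (awayι_map_mem_basicOpen_iff (u.gradedAt U hU U' hU' hle) hn hd hsnmem hf y).mp hQY'
  have hQeq : (Proj.awayι (𝒮'.deg U' hU') ((u.gradedAt U hU U' hU' hle) sn)
      ((u.gradedAt U hU U' hU' hle).map_mem hsnmem) hn).base y = Q :=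
    (RelProj.emb p' chart' U' hU').isOpenEmbedding.injective (hy.trans hQ.symm)
  rw [hQeq] at h2
  exact (Proj.mem_basicOpen _ _ _).mp h2

include hr in
/-- a point where `u f` does not vanish lies in `G(u)` and `r` maps it into `D_+(f)` -/
theorem exists_map_mem (U : Y.Opens) (hU : IsAffineOpen U) (U' : Y'.Opens)
    (hU' : IsAffineOpen U') (hle : U' ≤ g ⁻¹ᵁ U) (Q₀ : Proj (𝒮'.deg U' hU'))
    {d : ℕ} (hd : 0 < d) (f : 𝒮.presheaf.obj (op U)) (hf : f ∈ 𝒮.deg U hU d)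
    (hnot : (u.gradedAt U hU U' hU' hle) f ∉ Q₀.asHomogeneousIdeal) :
    ∃ w' : ((RelProj.domQ u p' chart' : P'.Opens) : Scheme.{u}),
      (RelProj.domQ u p' chart').ι.base w' = (RelProj.emb p' chart' U' hU').base Q₀ ∧
      r.base w' ∈ (RelProj.emb p chart U hU) ''ᵁ Proj.basicOpen (𝒮.deg U hU) f := by
  have hwc : (RelProj.emb p' chart' U' hU').base Q₀ ∈ Set.range
      (E u p' chart' ⟨U, hU, U', hU', hle, d, hd, f, hf⟩).base :=
    (mem_range_E_iff u p' chart' ⟨U, hU, U', hU', hle, d, hd, f, hf⟩ _).mpr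
      ⟨Q₀, (Proj.mem_basicOpen _ _ _).mpr hnot, rfl⟩
  obtain ⟨y, hy⟩ := hwc
  refine ⟨(lift u p' chart' ⟨U, hU, U', hU', hle, d, hd, f, hf⟩).base y,
    (congrArg (fun k => k.base y) (lift_ι u p' chart'
      ⟨U, hU, U', hU', hle, d, hd, f, hf⟩)).trans hy, ?_⟩
  have hrw : r.base ((lift u p' chart' ⟨U, hU, U', hU', hle, d, hd, f, hf⟩).base y) =
      (RelProj.emb p chart U hU).base
        ((Proj.awayι (𝒮.deg U hU) f hf hd).base
          ((Spec.map (CommRingCat.ofHom (HomogeneousLocalization.Away.map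
            (u.gradedAt U hU U' hU' hle) f))).base y)) :=
    congrArg (fun k => k.base y)
      ((isProjQMapOn_iff u p chart p' chart' r).mp hr ⟨U, hU, U', hU', hle, d, hd, f, hf⟩)
  rw [hrw]
  refine ⟨_, ?_, rfl⟩
  show (Proj.awayι (𝒮.deg U hU) f hf hd).base _ ∈ Proj.basicOpen (𝒮.deg U hU) f
  rw [← Proj.opensRange_awayι _ _ hf hd]
  exact ⟨_, rfl⟩

/-- a dominant `r` meets every nonempty `D_+(f)` -/
theorem exists_of_dominant (hdom : IsDominant r) (U : Y.Opens) (hU : IsAffineOpen U) {d : ℕ}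
    (hd : 0 < d) (f : 𝒮.presheaf.obj (op U)) (hf : f ∈ 𝒮.deg U hU d) (hnil : ¬ IsNilpotent f) :
    ∃ w' : ((RelProj.domQ u p' chart' : P'.Opens) : Scheme.{u}),
      r.base w' ∈ (RelProj.emb p chart U hU) ''ᵁ Proj.basicOpen (𝒮.deg U hU) f := by
  obtain ⟨Q₀, hQ₀⟩ := exists_not_mem_of_not_isNilpotent (𝒮.deg U hU) hd hf hnil
  have hne : (((RelProj.emb p chart U hU) ''ᵁ Proj.basicOpen (𝒮.deg U hU) f : P.Opens) :
      Set P).Nonempty :=
    ⟨(RelProj.emb p chart U hU).base Q₀, Q₀, (Proj.mem_basicOpen _ _ _).mpr hQ₀, rfl⟩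
  exact hdom.denseRange.exists_mem_open
    ((RelProj.emb p chart U hU) ''ᵁ Proj.basicOpen (𝒮.deg U hU) f).isOpen hne

end scheme

/-! ### transfer of dominance between two graded morphisms to the same algebra -/

section transfer

variable {Y X : Scheme.{u}} {q : X ⟶ Y} {𝒮₁ 𝒮₂ : RelProj.QCGrAlg Y} {𝒮L : RelProj.QCGrAlg X}
  (u₁ : RelProj.QGrHom q 𝒮₁ 𝒮L) (u₂ : RelProj.QGrHom q 𝒮₂ 𝒮L)
  {P₁ P₂ PL : Scheme.{u}} (p₁ : P₁ ⟶ Y)
  (chart₁ : ∀ (U : Y.Opens) (hU : IsAffineOpen U),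
    (((p₁ ⁻¹ᵁ U : P₁.Opens) : Scheme.{u}) ≅ Proj (𝒮₁.deg U hU)))
  (p₂ : P₂ ⟶ Y)
  (chart₂ : ∀ (U : Y.Opens) (hU : IsAffineOpen U),
    (((p₂ ⁻¹ᵁ U : P₂.Opens) : Scheme.{u}) ≅ Proj (𝒮₂.deg U hU)))
  (pL : PL ⟶ X)
  (chartL : ∀ (V : X.Opens) (hV : IsAffineOpen V),
    (((pL ⁻¹ᵁ V : PL.Opens) : Scheme.{u}) ≅ Proj (𝒮L.deg V hV)))
  (hP₁ : RelProj.IsRelProj 𝒮₁ p₁ chart₁) (hPL : RelProj.IsRelProj 𝒮L pL chartL)
  (r₁ : ((RelProj.domQ u₁ pL chartL : PL.Opens) : Scheme.{u}) ⟶ P₁)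
  (hr₁ : RelProj.IsProjQMapOn u₁ p₁ chart₁ pL chartL (RelProj.domQ u₁ pL chartL) r₁)
  (r₂ : ((RelProj.domQ u₂ pL chartL : PL.Opens) : Scheme.{u}) ⟶ P₂)
  (hr₂ : RelProj.IsProjQMapOn u₂ p₂ chart₂ pL chartL (RelProj.domQ u₂ pL chartL) r₂)

include hP₁ hPL hr₁ hr₂ in
/-- if `r₁` is dominant and every non-nilpotent homogeneous `f₂` of large degree has the same
image as some non-nilpotent homogeneous `f₁`, then `r₂` is dominant -/
theorem isDominant_of_transfer (m : ℕ) (hdom : IsDominant r₁)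
    (H : ∀ (U : Y.Opens) (hU : IsAffineOpen U) (d : ℕ), 0 < d → m ≤ d →
      ∀ f₂ ∈ 𝒮₂.deg U hU d, ¬ IsNilpotent f₂ →
        ∃ (d₁ : ℕ) (_ : 0 < d₁) (f₁ : 𝒮₁.presheaf.obj (op U)) (_ : f₁ ∈ 𝒮₁.deg U hU d₁),
          ¬ IsNilpotent f₁ ∧ ∀ (V : X.Opens) (_ : IsAffineOpen V) (hle : V ≤ q ⁻¹ᵁ U),
            (u₁.appLE U V hle).hom f₁ = (u₂.appLE U V hle).hom f₂) :
    IsDominant r₂ := by
  refine ⟨?_⟩
  show Dense (Set.range r₂.base)
  rw [dense_iff_inter_open]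
  rintro W hW ⟨x, hx⟩
  obtain ⟨U, hU0, hxU, -⟩ := (Opens.isBasis_iff_nbhd.mp Y.isBasis_affineOpens)
    (show p₂.base x ∈ (⊤ : Y.Opens) from Opens.mem_top _)
  have hU : IsAffineOpen U := hU0
  obtain ⟨d, hd, hmd, f₂, hf₂, hnil₂, hsub⟩ :=
    exists_of_open p₂ chart₂ U hU ⟨W, hW⟩ x hx hxU m
  obtain ⟨d₁, hd₁, f₁, hf₁, hnil₁, hcomp⟩ := H U hU d hd hmd f₂ hf₂ hnil₂
  obtain ⟨w₁, hw₁⟩ := exists_of_dominant u₁ p₁ chart₁ pL chartL r₁ hdom U hU hd₁ f₁ hf₁ hnil₁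
  have hover := isProjQMapOn_over u₁ p₁ chart₁ pL chartL hP₁ hPL r₁ hr₁
  have hpt : p₁.base (r₁.base w₁) =
      q.base (pL.base ((RelProj.domQ u₁ pL chartL).ι.base w₁)) :=
    congrArg (fun k => k.base w₁) hover
  have hr₁U : p₁.base (r₁.base w₁) ∈ U := by
    obtain ⟨QY, -, hQYr⟩ := hw₁
    have hQYr' : (RelProj.emb p₁ chart₁ U hU).base QY = r₁.base w₁ := hQYr
    rw [← hQYr']
    exact emb_mem_preimage p₁ chart₁ U hU QY
  have hxq : pL.base ((RelProj.domQ u₁ pL chartL).ι.base w₁) ∈ q ⁻¹ᵁ U := by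
    show q.base _ ∈ U
    rw [← hpt]; exact hr₁U
  obtain ⟨V, hV0, hxV, hVle⟩ := (Opens.isBasis_iff_nbhd.mp X.isBasis_affineOpens) hxq
  have hV : IsAffineOpen V := hV0
  obtain ⟨Q, hQ⟩ := exists_emb_eq pL chartL V hV ((RelProj.domQ u₁ pL chartL).ι.base w₁) hxV
  have hnot₁ := not_mem_of_map_mem u₁ p₁ chart₁ pL chartL hPL r₁ hr₁ w₁ U hU V hV hVle Q hQ
    hd₁ f₁ hf₁ hw₁
  have hnot₂ : (u₂.gradedAt U hU V hV hVle) f₂ ∉ Q.asHomogeneousIdeal := by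
    intro h
    apply hnot₁
    show (u₁.appLE U V hVle).hom f₁ ∈ Q.asHomogeneousIdeal
    rw [hcomp V hV hVle]
    exact h
  obtain ⟨w₂, -, hw₂⟩ := exists_map_mem u₂ p₂ chart₂ pL chartL r₂ hr₂ U hU V hV hVle Q hd
    f₂ hf₂ hnot₂
  exact ⟨r₂.base w₂, hsub _ hw₂, w₂, rfl⟩

end transfer

end Groth.Agent.H41.ProjQ
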