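import Groth.Agent.H41.ProjQ8

/-!
# `G(u ∘ v) ⊆ G(u)`, transfer of dominance elementwise, colimits
-/

set_option autoImplicit false
set_option linter.style.haveILetI false
universe u

open CategoryTheory CategoryTheory.Limits AlgebraicGeometry TopologicalSpace Opposite
open HomogeneousLocalization
open scoped HomogeneousIdeal

noncomputable section

namespace Groth.Agent.H41.ProjQ

open Groth.Agent.H41.RelConeLib Groth.Agent.H41.ProjConeLib Groth.Agent.H41.RelProjLib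

/-! ### composites `u' = u ∘ v` -/

section comp

variable {Y X : Scheme.{u}} {q : X ⟶ Y} {𝒯 𝒮 : RelProj.QCGrAlg Y} {𝒮L : RelProj.QCGrAlg X}
  (u : RelProj.QGrHom q 𝒮 𝒮L) (v : 𝒯.toQCAlg ⟶ 𝒮.toQCAlg) (u' : RelProj.QGrHom q 𝒯 𝒮L)
  (hu' : ∀ U : Y.Opens, u'.app U = v.hom.app (op U) ≫ u.app U)

include hu' in
theorem appLE_comp_apply (U : Y.Opens) (V : X.Opens) (hle : V ≤ q ⁻¹ᵁ U)
    (g : 𝒯.presheaf.obj (op U)) :
    (u'.appLE U V hle).hom g = (u.appLE U V hle).hom ((v.hom.app (op U)).hom g) := by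
  have e : u'.appLE U V hle = v.hom.app (op U) ≫ u.appLE U V hle := by
    show u'.app U ≫ 𝒮L.presheaf.map (homOfLE hle).op =
      v.hom.app (op U) ≫ (u.app U ≫ 𝒮L.presheaf.map (homOfLE hle).op)
    rw [hu' U, Category.assoc]
  exact congrArg (fun k => k.hom g) e

include hu' in
/-- `G(u ∘ v) ⊆ G(u)` -/
theorem domQ_comp_le (hv : RelProj.IsGradedHom v) {PL : Scheme.{u}} (pL : PL ⟶ X)
    (chartL : ∀ (V : X.Opens) (hV : IsAffineOpen V),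
      (((pL ⁻¹ᵁ V : PL.Opens) : Scheme.{u}) ≅ Proj (𝒮L.deg V hV))) :
    RelProj.domQ u' pL chartL ≤ RelProj.domQ u pL chartL := by
  unfold RelProj.domQ
  apply iSup_mono
  intro V
  apply (Scheme.Hom.opensFunctor _).monotone
  intro x hx
  rw [RelCone.mem_domOpen] at hx ⊢
  obtain ⟨f, hf, hfx⟩ := hx
  refine ⟨(v.hom.app (op V.1.1.1)).hom f, ?_, ?_⟩
  · exact map_mem_irrelevant (RelProj.gradedHomAt v hv V.1.1.1 V.1.1.2) hf
  · intro hmem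
    apply hfx
    show (u'.appLE V.1.1.1 V.1.2.1 V.2).hom f ∈ x.asHomogeneousIdeal
    rw [appLE_comp_apply u v u' hu']
    exact hmem

end comp

/-! ### dominance, elementwise -/

section scheme

variable {Y : Scheme.{u}} {𝒮 : RelProj.QCGrAlg Y}
  {P : Scheme.{u}} (p : P ⟶ Y)
  (chart : ∀ (U : Y.Opens) (hU : IsAffineOpen U),
    (((p ⁻¹ᵁ U : P.Opens) : Scheme.{u}) ≅ Proj (𝒮.deg U hU)))

/-- a morphism meeting every `D_+(f)`, `f` non-nilpotent of large degree, is dominant -/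
theorem isDominant_of_forall {Z : Scheme.{u}} (r : Z ⟶ P) (m : ℕ)
    (H : ∀ (U : Y.Opens) (hU : IsAffineOpen U) (d : ℕ), 0 < d → m ≤ d →
      ∀ f ∈ 𝒮.deg U hU d, ¬ IsNilpotent f →
        ∃ w : Z, r.base w ∈ (RelProj.emb p chart U hU) ''ᵁ Proj.basicOpen (𝒮.deg U hU) f) :
    IsDominant r := by
  refine ⟨?_⟩
  show Dense (Set.range r.base)
  rw [dense_iff_inter_open]
  rintro W hW ⟨x, hx⟩
  obtain ⟨U, hU0, hxU, -⟩ := (Opens.isBasis_iff_nbhd.mp Y.isBasis_affineOpens)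
    (show p.base x ∈ (⊤ : Y.Opens) from Opens.mem_top _)
  have hU : IsAffineOpen U := hU0
  obtain ⟨d, hd, hmd, f, hf, hnil, hsub⟩ := exists_of_open p chart U hU ⟨W, hW⟩ x hx hxU m
  obtain ⟨w, hw⟩ := H U hU d hd hmd f hf hnil
  exact ⟨r.base w, hsub _ hw, w, rfl⟩

end scheme

section transfer

variable {Y X : Scheme.{u}} {q : X ⟶ Y} {𝒮₁ 𝒮₂ : RelProj.QCGrAlg Y} {𝒮L : RelProj.QCGrAlg X}
  (u₁ : RelProj.QGrHom q 𝒮₁ 𝒮L) (u₂ : RelProj.QGrHom q 𝒮₂ 𝒮L)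
  {P₁ P₂ PL : Scheme.{u}} (p₁ : P₁ ⟶ Y)
  (chart₁ : ∀ (U : Y.Opens) (hU : IsAffineOpen U),
    (((p₁ ⁻¹ᵁ U : P₁.Opens) : Scheme.{u}) ≅ Proj (𝒮₁.deg U hU)))
  (p₂ : P₂ ⟶ Y)
  (chart₂ : ∀ (U : Y.Opens) (hU : IsAffineOpen U),
    (((p₂ ⁻¹ᵁ U : P₂.Opens) : Scheme.{u}) ≅ Proj (𝒮₂.deg U hU)))
  (pL : PL ⟶ X)
  (chartL : ∀ (V : X.Opens) (hV : IsAffineOpen V),
    (((pL ⁻¹ᵁ V : PL.Opens) : Scheme.{u}) ≅ Proj (𝒮L.deg V hV)))
  (hP₁ : RelProj.IsRelProj 𝒮₁ p₁ chart₁) (hPL : RelProj.IsRelProj 𝒮L pL chartL)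
  (r₁ : ((RelProj.domQ u₁ pL chartL : PL.Opens) : Scheme.{u}) ⟶ P₁)
  (hr₁ : RelProj.IsProjQMapOn u₁ p₁ chart₁ pL chartL (RelProj.domQ u₁ pL chartL) r₁)
  (r₂ : ((RelProj.domQ u₂ pL chartL : PL.Opens) : Scheme.{u}) ⟶ P₂)
  (hr₂ : RelProj.IsProjQMapOn u₂ p₂ chart₂ pL chartL (RelProj.domQ u₂ pL chartL) r₂)

include hP₁ hPL hr₁ hr₂ in
/-- if `r₁` is dominant, `f₁` is non-nilpotent and `u₁ f₁ = u₂ f₂`, then `r₂` meets `D_+(f₂)` -/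
theorem exists_transfer (hdom : IsDominant r₁) (U : Y.Opens) (hU : IsAffineOpen U)
    {d₁ : ℕ} (hd₁ : 0 < d₁) (f₁ : 𝒮₁.presheaf.obj (op U)) (hf₁ : f₁ ∈ 𝒮₁.deg U hU d₁)
    (hnil₁ : ¬ IsNilpotent f₁)
    {d₂ : ℕ} (hd₂ : 0 < d₂) (f₂ : 𝒮₂.presheaf.obj (op U)) (hf₂ : f₂ ∈ 𝒮₂.deg U hU d₂)
    (hcomp : ∀ (V : X.Opens) (_ : IsAffineOpen V) (hle : V ≤ q ⁻¹ᵁ U),
      (u₁.appLE U V hle).hom f₁ = (u₂.appLE U V hle).hom f₂) :
    ∃ w₂ : ((RelProj.domQ u₂ pL chartL : PL.Opens) : Scheme.{u}),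
      r₂.base w₂ ∈ (RelProj.emb p₂ chart₂ U hU) ''ᵁ Proj.basicOpen (𝒮₂.deg U hU) f₂ := by
  obtain ⟨w₁, hw₁⟩ := exists_of_dominant u₁ p₁ chart₁ pL chartL r₁ hdom U hU hd₁ f₁ hf₁ hnil₁
  have hover := isProjQMapOn_over u₁ p₁ chart₁ pL chartL hP₁ hPL r₁ hr₁
  have hpt : p₁.base (r₁.base w₁) =
      q.base (pL.base ((RelProj.domQ u₁ pL chartL).ι.base w₁)) :=
    congrArg (fun k => k.base w₁) hover
  have hr₁U : p₁.base (r₁.base w₁) ∈ U := by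
    obtain ⟨QY, -, hQYr⟩ := hw₁
    have hQYr' : (RelProj.emb p₁ chart₁ U hU).base QY = r₁.base w₁ := hQYr
    rw [← hQYr']
    exact emb_mem_preimage p₁ chart₁ U hU QY
  have hxq : pL.base ((RelProj.domQ u₁ pL chartL).ι.base w₁) ∈ q ⁻¹ᵁ U := by
    show q.base _ ∈ U
    rw [← hpt]; exact hr₁U
  obtain ⟨V, hV0, hxV, hVle⟩ := (Opens.isBasis_iff_nbhd.mp X.isBasis_affineOpens) hxq
  have hV : IsAffineOpen V := hV0
  obtain ⟨Q, hQ⟩ := exists_emb_eq pL chartL V hV ((RelProj.domQ u₁ pL chartL).ι.base w₁) hxV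
  have hnot₁ := not_mem_of_map_mem u₁ p₁ chart₁ pL chartL hPL r₁ hr₁ w₁ U hU V hV hVle Q hQ
    hd₁ f₁ hf₁ hw₁
  have hnot₂ : (u₂.gradedAt U hU V hV hVle) f₂ ∉ Q.asHomogeneousIdeal := by
    intro h
    apply hnot₁
    show (u₁.appLE U V hVle).hom f₁ ∈ Q.asHomogeneousIdeal
    rw [hcomp V hV hVle]
    exact h
  obtain ⟨w₂, -, hw₂⟩ := exists_map_mem u₂ p₂ chart₂ pL chartL r₂ hr₂ U hU V hV hVle Q hd₂
    f₂ hf₂ hnot₂
  exact ⟨w₂, hw₂⟩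

end transfer

/-! ### colimits -/

section colim

variable {Y X : Scheme.{u}} {q : X ⟶ Y} {𝒮 : RelProj.QCGrAlg Y} {𝒮L : RelProj.QCGrAlg X}
  (u : RelProj.QGrHom q 𝒮 𝒮L)
  {PL : Scheme.{u}} (pL : PL ⟶ X)
  (chartL : ∀ (V : X.Opens) (hV : IsAffineOpen V),
    (((pL ⁻¹ᵁ V : PL.Opens) : Scheme.{u}) ≅ Proj (𝒮L.deg V hV)))
  {Λ : Type u} (𝒮i : Λ → RelProj.QCGrAlg Y) (φ : ∀ i, (𝒮i i).toQCAlg ⟶ 𝒮.toQCAlg)
  (hφ : ∀ i, RelProj.IsGradedHom (φ i))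
  (hsurj : ∀ (U : Y.Opens), IsAffineOpen U → ∀ x : 𝒮.presheaf.obj (op U),
      ∃ (i : Λ) (y : (𝒮i i).presheaf.obj (op U)), ((φ i).hom.app (op U)).hom y = x)
  (ui : ∀ i, RelProj.QGrHom q (𝒮i i) 𝒮L)
  (hui : ∀ i (U : Y.Opens), (ui i).app U = (φ i).hom.app (op U) ≫ u.app U)

include hφ in
/-- homogeneous elements lift to homogeneous elements along a jointly surjective family -/
theorem exists_homogeneous_lift (i : Λ) (U : Y.Opens) (hU : IsAffineOpen U) (n : ℕ)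
    (y : (𝒮i i).presheaf.obj (op U)) (f : 𝒮.presheaf.obj (op U)) (hf : f ∈ 𝒮.deg U hU n)
    (hy : ((φ i).hom.app (op U)).hom y = f) :
    ((φ i).hom.app (op U)).hom
      (DirectSum.decompose ((𝒮i i).deg U hU) y n : (𝒮i i).presheaf.obj (op U)) = f := by
  have h0 := GradedRingHom.map_directSumDecompose _ _
    (RelProj.gradedHomAt (φ i) (hφ i) U hU) (x := y) (i := n)
  have h1 : (RelProj.gradedHomAt (φ i) (hφ i) U hU) y = ((φ i).hom.app (op U)).hom y := rfl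
  rw [h1, hy, DirectSum.decompose_of_mem_same _ hf] at h0
  exact h0

include hφ hsurj hui in
/-- `G(u)` is the union of the `G(u ∘ φ_i)` -/
theorem exists_mem_domQ_of_surj (w : PL) (hw : w ∈ RelProj.domQ u pL chartL) :
    ∃ i, w ∈ RelProj.domQ (ui i) pL chartL := by
  unfold RelProj.domQ at hw
  rw [Opens.mem_iSup] at hw
  obtain ⟨⟨⟨⟨U, hU⟩, ⟨V, hV⟩⟩, hle⟩, z, hz, hzw⟩ := hw
  have hz' : z ∈ RelCone.domOpen (u.gradedAt U hU V hV hle) := hz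
  rw [RelCone.mem_domOpen] at hz'
  obtain ⟨s, hs, hsz⟩ := hz'
  obtain ⟨n, hn, hsn⟩ := exists_pos_decompose_not_mem (𝒮.deg U hU)
    (Ideal.comap (u.gradedAt U hU V hV hle).toRingHom z.asHomogeneousIdeal.toIdeal) hs hsz
  obtain ⟨i, y, hy⟩ := hsurj U hU
    (DirectSum.decompose (𝒮.deg U hU) s n : 𝒮.presheaf.obj (op U))
  refine ⟨i, ?_⟩
  unfold RelProj.domQ
  rw [Opens.mem_iSup]
  refine ⟨⟨(⟨U, hU⟩, ⟨V, hV⟩), hle⟩, z, ?_, hzw⟩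
  show z ∈ RelCone.domOpen ((ui i).gradedAt U hU V hV hle)
  rw [RelCone.mem_domOpen]
  refine ⟨(DirectSum.decompose ((𝒮i i).deg U hU) y n : (𝒮i i).presheaf.obj (op U)), ?_, ?_⟩
  · exact HomogeneousIdeal.mem_irrelevant_of_mem _ hn (SetLike.coe_mem _)
  · have e1 := exists_homogeneous_lift 𝒮i φ hφ i U hU n y _ (SetLike.coe_mem _) hy
    have e2 := appLE_comp_apply u (φ i) (ui i) (hui i) U V hle
      (DirectSum.decompose ((𝒮i i).deg U hU) y n : (𝒮i i).presheaf.obj (op U))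
    intro hmem
    apply hsn
    show (u.appLE U V hle).hom
      (DirectSum.decompose (𝒮.deg U hU) s n : 𝒮.presheaf.obj (op U)) ∈ z.asHomogeneousIdeal
    rw [← e1, ← e2]
    exact hmem

end colim

end Groth.Agent.H41.ProjQ
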