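import Groth.Prelude.Def_PicRel2
import Groth.Agent.H22.PullGen

/-!
# Functoriality of `PicF.pullCl` (pullback of isomorphism classes of modules)
-/

set_option autoImplicit false
universe u
open CategoryTheory CategoryTheory.Limits AlgebraicGeometry

namespace Groth.Agent.H41.PullCl

open PicF

theorem pullCl_cl {Y Y' : Scheme.{u}} (g : Y' ⟶ Y) (L : Y.Modules) :
    pullCl g (cl L) = cl ((Scheme.Modules.pullback g).obj L) := rfl

theorem pullCl_comp {Y Y' Y'' : Scheme.{u}} (g : Y'' ⟶ Y') (h : Y' ⟶ Y) (c : Cl Y) :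
    pullCl g (pullCl h c) = pullCl (g ≫ h) c := by
  induction c using Quot.ind with
  | _ L => exact Quot.sound ⟨(Scheme.Modules.pullbackComp g h).app L⟩

theorem pullCl_id {Y : Scheme.{u}} (c : Cl Y) : pullCl (𝟙 Y) c = c := by
  induction c using Quot.ind with
  | _ L => exact Quot.sound ⟨(Scheme.Modules.pullbackId Y).app L⟩

theorem pullCl_congr {Y Y' : Scheme.{u}} {g g' : Y' ⟶ Y} (h : g = g') (c : Cl Y) :
    pullCl g c = pullCl g' c := by rw [h]

theorem pullCl_inv_hom {Y Y' : Scheme.{u}} (e : Y' ≅ Y) (c : Cl Y) :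
    pullCl e.inv (pullCl e.hom c) = c := by
  rw [pullCl_comp, e.inv_hom_id, pullCl_id]

theorem pullCl_hom_inv {Y Y' : Scheme.{u}} (e : Y' ≅ Y) (c : Cl Y') :
    pullCl e.hom (pullCl e.inv c) = c := by
  rw [pullCl_comp, e.hom_inv_id, pullCl_id]

theorem isInvertibleCl_pullCl {Y Y' : Scheme.{u}} (g : Y' ⟶ Y) {c : Cl Y}
    (hc : IsInvertibleCl c) : IsInvertibleCl (pullCl g c) := by
  obtain ⟨L, rfl, hL⟩ := hc
  exact ⟨_, rfl, Groth.Agent.H22.PullGen.isInvertible_pullback g hL⟩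

@[reassoc] theorem XTmap_fst {X S : Scheme.{u}} (f : X ⟶ S) {T T' : Over S} (h : T' ⟶ T) :
    PicF.XTmap f h ≫ pullback.fst f T.hom = pullback.fst f T'.hom :=
  (pullback.lift_fst _ _ _).trans (Category.comp_id _)

@[reassoc] theorem XTmap_snd {X S : Scheme.{u}} (f : X ⟶ S) {T T' : Over S} (h : T' ⟶ T) :
    PicF.XTmap f h ≫ pullback.snd f T.hom = pullback.snd f T'.hom ≫ h.left :=
  pullback.lift_snd _ _ _

/-- Compatibility of `XTmap` with the canonical isomorphisms `(X ×_S S') ×_{S'} T ≅ X ×_S T`. -/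
theorem key {X S S' : Scheme.{u}} (f : X ⟶ S) (g : S' ⟶ S) {T T' : Over S'} (h : T' ⟶ T)
    (ht : Over.mk (T'.hom ≫ g) ⟶ Over.mk (T.hom ≫ g)) (hht : ht.left = h.left) :
    (pullbackLeftPullbackSndIso f g T'.hom).inv ≫ PicF.XTmap (pullback.snd f g) h =
      PicF.XTmap f ht ≫ (pullbackLeftPullbackSndIso f g T.hom).inv := by
  have hw : h.left ≫ T.hom = T'.hom := Over.w h
  have e1 : PicF.XTmap f ht ≫ pullback.fst f (T.hom ≫ g) = pullback.fst f (T'.hom ≫ g) :=
    XTmap_fst f ht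
  have e2 : PicF.XTmap f ht ≫ pullback.snd f (T.hom ≫ g) = pullback.snd f (T'.hom ≫ g) ≫ h.left := by
    rw [← hht]; exact XTmap_snd f ht
  apply pullback.hom_ext
  · apply pullback.hom_ext
    · rw [Category.assoc, Category.assoc, Category.assoc, Category.assoc, XTmap_fst_assoc,
        pullbackLeftPullbackSndIso_inv_fst, pullbackLeftPullbackSndIso_inv_fst, e1]
    · rw [Category.assoc, Category.assoc, Category.assoc, Category.assoc, XTmap_fst_assoc,
        pullbackLeftPullbackSndIso_inv_fst_snd, pullbackLeftPullbackSndIso_inv_fst_snd,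
        reassoc_of% e2, hw]
  · rw [Category.assoc, Category.assoc, XTmap_snd, pullbackLeftPullbackSndIso_inv_snd_snd_assoc,
      pullbackLeftPullbackSndIso_inv_snd_snd, e2]

end Groth.Agent.H41.PullCl
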