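import Groth.Agent.H41.RelMulTw
import Groth.Agent.H41.BilinGlueRestrict
import Mathlib

/-!
# The pairing `O(n) ⊗ O(-n) → O` on a relative `Proj`
-/

set_option autoImplicit false
set_option linter.style.haveILetI false
set_option linter.unusedSectionVars false
universe u

open CategoryTheory CategoryTheory.Limits AlgebraicGeometry HomogeneousIdeal TopologicalSpace Opposite
open Groth.Agent.H8 Groth.Agent.H41.GrModQCoh Groth.Agent.H41.GrModMaps
  Groth.Agent.H41.RelTildeMaps Groth.Agent.H41.RelMul Groth.Agent.H41.RelMulTw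

noncomputable section

namespace Groth.Agent.H41.RelMulUnit

section Ring

variable {A σ : Type u} [CommRing A] [SetLike σ A] [AddSubgroupClass σ A] (𝒜 : ℕ → σ) [GradedRing 𝒜]

theorem rsect_ext {W : (Proj 𝒜).Opens} (r r' : Γ(Proj 𝒜, W))
    (h : ∀ x : W, (rval 𝒜 r x).val = (rval 𝒜 r' x).val) : r = r' := by
  show (r : GrTwist.O (𝒜 := 𝒜) (op W)) = r'
  exact Subtype.ext (funext fun x => HomogeneousLocalization.val_injective _ (h x))

/-- The unit section of `O(0)`. -/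
def oneSect (V : (Proj 𝒜).Opens) : Γ(GrTwist.twist 𝒜 0, V) :=
  TildeMul.twFrac 𝒜 0 V (i := 0) (j := 0) (by simp) ⟨1, SetLike.GradedOne.one_mem⟩
    ⟨1, SetLike.GradedOne.one_mem⟩ (fun x => GrMod.one_nin x.1)

theorem val_oneSect (V : (Proj 𝒜).Opens) (x : V) : GrTwist.val (oneSect 𝒜 V) x = 1 :=
  Localization.mk_one

theorem bijective_smul_oneSect (V : (Proj 𝒜).Opens) :
    Function.Bijective (fun r : Γ(Proj 𝒜, V) => r • oneSect 𝒜 V) :=
  RelTwistInv.bijective_smul_fracSect 𝒜 (W := V) (n := 0) (p := 0) (q := 0)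
    ⟨1, SetLike.GradedOne.one_mem⟩ ⟨1, SetLike.GradedOne.one_mem⟩ (by simp)
    (fun x => GrMod.one_nin x.1) (fun x => GrMod.one_nin x.1)

theorem val_smul_oneSect (V : (Proj 𝒜).Opens) (r : Γ(Proj 𝒜, V)) (x : V) :
    GrTwist.val (r • oneSect 𝒜 V) x = (rval 𝒜 r x).val := by
  have h := val_smul 𝒜 𝒜 0 r (oneSect 𝒜 V) x
  refine h.trans ?_
  have h1 : GrMod.val (oneSect 𝒜 V) x = (1 : GrTwist.Loc 𝒜 x.1) := val_oneSect 𝒜 V x
  rw [h1]
  exact mul_one _

theorem tw_exists_mul_unit {m n : ℤ} (hc : m + n = 0) {V : (Proj 𝒜).Opens}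
    (s : Γ(GrTwist.twist 𝒜 m, V)) (t : Γ(GrTwist.twist 𝒜 n, V)) :
    ∃ r : Γ(Proj 𝒜, V), ∀ x : V,
      (rval 𝒜 r x).val = GrTwist.val s x * GrTwist.val t x := by
  obtain ⟨z, hz⟩ := tw_exists_mul 𝒜 hc s t
  obtain ⟨r, hr⟩ := (bijective_smul_oneSect 𝒜 V).2 z
  refine ⟨r, fun x => ?_⟩
  rw [← val_smul_oneSect 𝒜 V r x, ← hz x]
  exact congrArg (fun τ : Γ(GrTwist.twist 𝒜 0, V) => GrTwist.val τ x) hr

theorem tw_bijective_mul_unitFrac_unit {m n : ℤ} (hc : m + n = 0) {V : (Proj 𝒜).Opens}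
    {p q : ℕ} (u : 𝒜 p) (v : 𝒜 q) (hpq : (p : ℤ) = q + n)
    (hux : ∀ x : V, (u : A) ∉ x.1.asHomogeneousIdeal)
    (hvx : ∀ x : V, (v : A) ∉ x.1.asHomogeneousIdeal)
    (β : Γ(GrTwist.twist 𝒜 m, V) → Γ(Proj 𝒜, V))
    (hβ : ∀ s x, (rval 𝒜 (β s) x).val =
      GrTwist.val s x * (Localization.mk (u : A) ⟨v, hvx x⟩ : GrTwist.Loc 𝒜 x.1)) :
    Function.Bijective β := by
  have h1 : Function.Bijective ((fun r : Γ(Proj 𝒜, V) => r • oneSect 𝒜 V) ∘ β) :=
    tw_bijective_mul_unitFrac 𝒜 hc u v hpq hux hvx _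
      (fun s x => (val_smul_oneSect 𝒜 V (β s) x).trans (hβ s x))
  exact (Function.Bijective.of_comp_iff' (bijective_smul_oneSect 𝒜 V) β).mp h1

variable {B σ' : Type u} [CommRing B] [SetLike σ' B] [AddSubgroupClass σ' B] {ℬ : ℕ → σ'}
  [GradedRing ℬ]

/-- Values of structure-sheaf sections pulled back along a composite with `Proj.map`. -/
theorem rval_comp_app {𝒜 : ℕ → σ} [GradedRing 𝒜] (ψ : 𝒜 →+*ᵍ ℬ) (hψ : ℬ₊ ≤ (𝒜₊).map ψ)
    {P : Scheme.{u}} (f : Proj 𝒜 ⟶ P) (g : Proj ℬ ⟶ P)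
    (e : Proj.map ψ hψ ≫ f = g) (W : P.Opens) (w : Γ(P, W)) (y : ProjectiveSpectrum ℬ)
    (hy : g.base y ∈ W) (hy' : f.base (ProjectiveSpectrum.comap ψ hψ y) ∈ W) :
    (rval ℬ (g.app W w) ⟨y, hy⟩).val =
      GrTwist.locMap ψ hψ y
        (rval 𝒜 (f.app W w) ⟨ProjectiveSpectrum.comap ψ hψ y, hy'⟩).val := by
  subst e
  exact HomogeneousLocalization.val_localRingHom _

theorem rval_app_res {P : Scheme.{u}} (f : Proj 𝒜 ⟶ P) {V W : P.Opens} (h : V ≤ W)
    (w : Γ(P, W)) (x : (f ⁻¹ᵁ V : (Proj 𝒜).Opens)) :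
    rval 𝒜 (f.app V (P.presheaf.map (homOfLE h).op w)) x =
      rval 𝒜 (f.app W w) ⟨x.1, h x.2⟩ := by
  have e : f.app V (P.presheaf.map (homOfLE h).op w) =
      (Proj 𝒜).presheaf.map ((Opens.map f.base).map (homOfLE h)).op (f.app W w) :=
    congr($(f.naturality (homOfLE h).op) w)
  rw [e]; rfl

theorem rval_app_add {P : Scheme.{u}} (f : Proj 𝒜 ⟶ P) (W : P.Opens) (w w' : Γ(P, W))
    (x : (f ⁻¹ᵁ W : (Proj 𝒜).Opens)) :
    (rval 𝒜 (f.app W (w + w')) x).val =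
      (rval 𝒜 (f.app W w) x).val + (rval 𝒜 (f.app W w') x).val := by
  rw [map_add]
  show (rval 𝒜 (f.app W w) x + rval 𝒜 (f.app W w') x).val = _
  exact HomogeneousLocalization.val_add _ _

theorem rval_app_mul {P : Scheme.{u}} (f : Proj 𝒜 ⟶ P) (W : P.Opens) (w w' : Γ(P, W))
    (x : (f ⁻¹ᵁ W : (Proj 𝒜).Opens)) :
    (rval 𝒜 (f.app W (w * w')) x).val =
      (rval 𝒜 (f.app W w) x).val * (rval 𝒜 (f.app W w') x).val := by
  rw [map_mul]
  show (rval 𝒜 (f.app W w) x * rval 𝒜 (f.app W w') x).val = _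
  exact HomogeneousLocalization.val_mul _ _

end Ring

section Rel

variable {Y P : Scheme.{u}} (𝒮 : RelProj.QCGrAlg Y) (p : P ⟶ Y)
  (chart : ∀ (U : Y.Opens) (hU : IsAffineOpen U),
    (((p ⁻¹ᵁ U : P.Opens) : Scheme.{u}) ≅ Proj (𝒮.deg U hU)))
  (hP : RelProj.IsRelProj 𝒮 p chart)
  (m n : ℤ) (hc : m + n = 0)
  (F : P.Modules)
  (lam : ∀ (U : Y.Opens) (hU : IsAffineOpen U),
    F ⟶ (Scheme.Modules.pushforward (RelProj.emb p chart U hU)).obj
      (GrTwist.twist (𝒮.deg U hU) m))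
  (hF : RelProj.IsRelTwist 𝒮 p chart m F lam)
  (L : P.Modules)
  (lamL : ∀ (U : Y.Opens) (hU : IsAffineOpen U),
    L ⟶ (Scheme.Modules.pushforward (RelProj.emb p chart U hU)).obj
      (GrTwist.twist (𝒮.deg U hU) n))
  (hL : RelProj.IsRelTwist 𝒮 p chart n L lamL)

/-- A section of the structure module, read as a function. -/
abbrev toFn {W : P.Opens} (w : Γ(Coh.structureModule P, W)) : Γ(P, W) := w

/-- On the chart over `U`, the function `w` reads as the product of `s` and `t`. -/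
def RelAt (U : Y.Opens) (hU : IsAffineOpen U) (W : P.Opens) (s : Γ(F, W)) (t : Γ(L, W))
    (w : Γ(Coh.structureModule P, W)) : Prop :=
  ∀ x : (RelProj.emb p chart U hU ⁻¹ᵁ W : (Proj (𝒮.deg U hU)).Opens),
    (rval (𝒮.deg U hU) ((RelProj.emb p chart U hU).app W (toFn w)) x).val =
      GrTwist.val (V := RelProj.emb p chart U hU ⁻¹ᵁ W) ((lam U hU).app W s) x *
        GrTwist.val (V := RelProj.emb p chart U hU ⁻¹ᵁ W) ((lamL U hU).app W t) x

local notation "RA" => RelAt 𝒮 p chart m n F lam L lamL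

set_option backward.isDefEq.respectTransparency false in
theorem RelAt.res {U : Y.Opens} {hU : IsAffineOpen U} {W V : P.Opens} (h : V ≤ W)
    {s : Γ(F, W)} {t : Γ(L, W)} {w : Γ(Coh.structureModule P, W)} (H : RA U hU W s t w) :
    RA U hU V (F.presheaf.map (homOfLE h).op s) (L.presheaf.map (homOfLE h).op t)
      ((Coh.structureModule P).presheaf.map (homOfLE h).op w) := by
  intro x
  have e1 : rval (𝒮.deg U hU) ((RelProj.emb p chart U hU).app V
      (toFn ((Coh.structureModule P).presheaf.map (homOfLE h).op w))) x =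
      rval (𝒮.deg U hU) ((RelProj.emb p chart U hU).app W (toFn w)) ⟨x.1, h x.2⟩ :=
    rval_app_res (𝒮.deg U hU) (RelProj.emb p chart U hU) h (toFn w) x
  have e2 := tw_val_app_res (𝒮.deg U hU) (RelProj.emb p chart U hU) (lam U hU) h s x
  have e3 := tw_val_app_res (𝒮.deg U hU) (RelProj.emb p chart U hU) (lamL U hU) h t x
  rw [e1, e2, e3]
  exact H ⟨x.1, h x.2⟩

theorem RelAt.unique {U : Y.Opens} {hU : IsAffineOpen U} {W : P.Opens} (hW : W ≤ p ⁻¹ᵁ U)
    {s : Γ(F, W)} {t : Γ(L, W)} {w w' : Γ(Coh.structureModule P, W)} (H : RA U hU W s t w)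
    (H' : RA U hU W s t w') : w = w' := by
  haveI : IsIso ((RelProj.emb p chart U hU).app W) :=
    (RelProj.emb p chart U hU).isIso_app W (by rw [opensRange_emb]; exact hW)
  have heps : Function.Bijective ((RelProj.emb p chart U hU).app W) :=
    ConcreteCategory.bijective_of_isIso _
  have h1 : (RelProj.emb p chart U hU).app W (toFn w) =
      (RelProj.emb p chart U hU).app W (toFn w') :=
    rsect_ext (𝒮.deg U hU) _ _ fun x => (H x).trans (H' x).symm
  exact heps.1 h1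

include hc in
theorem RelAt.exists {U : Y.Opens} {hU : IsAffineOpen U} {W : P.Opens} (hW : W ≤ p ⁻¹ᵁ U)
    (s : Γ(F, W)) (t : Γ(L, W)) : ∃ w : Γ(Coh.structureModule P, W), RA U hU W s t w := by
  haveI : IsIso ((RelProj.emb p chart U hU).app W) :=
    (RelProj.emb p chart U hU).isIso_app W (by rw [opensRange_emb]; exact hW)
  have heps : Function.Bijective ((RelProj.emb p chart U hU).app W) :=
    ConcreteCategory.bijective_of_isIso _
  obtain ⟨z, hz⟩ := tw_exists_mul_unit (𝒮.deg U hU) hc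
    (V := RelProj.emb p chart U hU ⁻¹ᵁ W) ((lam U hU).app W s) ((lamL U hU).app W t)
  obtain ⟨w, hw⟩ := heps.2 z
  refine ⟨(w : Γ(P, W)), fun x => ?_⟩
  have h1 : (RelProj.emb p chart U hU).app W (toFn (P := P) (W := W) w) = z := hw
  rw [h1]
  exact hz x

include hP hF hL in
theorem RelAt.basicOpen {U : Y.Opens} {hU : IsAffineOpen U} (r : Γ(Y, U)) {W : P.Opens}
    {s : Γ(F, W)} {t : Γ(L, W)} {w : Γ(Coh.structureModule P, W)} (H : RA U hU W s t w) :
    RA (Y.basicOpen r) (hU.basicOpen r) W s t w := by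
  rintro ⟨y, hy⟩
  have hy' : (RelProj.emb p chart U hU).base (ProjectiveSpectrum.comap
      (𝒮.res hU (hU.basicOpen r) (Y.basicOpen_le r)) (𝒮.irrelevant_le_map U hU r) y) ∈ W := by
    have e := congrArg (fun φ : Proj (𝒮.deg (Y.basicOpen r) (hU.basicOpen r)) ⟶ P => φ.base y)
      (RelProj.map_res_emb hP U hU r)
    have e' : (RelProj.emb p chart U hU).base (ProjectiveSpectrum.comap
        (𝒮.res hU (hU.basicOpen r) (Y.basicOpen_le r)) (𝒮.irrelevant_le_map U hU r) y) =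
        (RelProj.emb p chart (Y.basicOpen r) (hU.basicOpen r)).base y := e
    rw [e']; exact hy
  have e1 := rval_comp_app (𝒮.res hU (hU.basicOpen r) (Y.basicOpen_le r))
    (𝒮.irrelevant_le_map U hU r) (RelProj.emb p chart U hU)
    (RelProj.emb p chart (Y.basicOpen r) (hU.basicOpen r)) (RelProj.map_res_emb hP U hU r)
    W (toFn w) y hy hy'
  have e2 := hF.compat U hU r W s y hy hy'
  have e3 := hL.compat U hU r W t y hy hy'
  have e4 := H ⟨_, hy'⟩
  rw [e1, e4, map_mul, ← e2, ← e3]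

include hc hP hF hL in
theorem RelAt.of_basicOpen {U : Y.Opens} {hU : IsAffineOpen U} (r : Γ(Y, U)) (D : Y.Opens)
    (hD : IsAffineOpen D) (e : D = Y.basicOpen r) {W : P.Opens} (hW : W ≤ p ⁻¹ᵁ D)
    {s : Γ(F, W)} {t : Γ(L, W)} {w : Γ(Coh.structureModule P, W)} (H : RA D hD W s t w) :
    RA U hU W s t w := by
  subst e
  have hWU : W ≤ p ⁻¹ᵁ U := hW.trans (fun z hz => Y.basicOpen_le r hz)
  obtain ⟨w', hw'⟩ := RelAt.exists 𝒮 p chart m n hc F lam L lamL (hU := hU) hWU s t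
  have h2 := RelAt.basicOpen 𝒮 p chart hP m n F lam hF L lamL hL r hw'
  have h3 : w = w' := RelAt.unique 𝒮 p chart m n F lam L lamL hW H h2
  rw [h3]; exact hw'

set_option backward.isDefEq.respectTransparency false in
theorem RelAt.of_local {U : Y.Opens} {hU : IsAffineOpen U} {W : P.Opens}
    {s : Γ(F, W)} {t : Γ(L, W)} {w : Γ(Coh.structureModule P, W)}
    (H : ∀ y : (RelProj.emb p chart U hU ⁻¹ᵁ W : (Proj (𝒮.deg U hU)).Opens),
      ∃ (V : P.Opens) (h : V ≤ W), (RelProj.emb p chart U hU).base y.1 ∈ V ∧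
        RA U hU V (F.presheaf.map (homOfLE h).op s) (L.presheaf.map (homOfLE h).op t)
          ((Coh.structureModule P).presheaf.map (homOfLE h).op w)) : RA U hU W s t w := by
  intro x
  obtain ⟨V, h, hxV, HV⟩ := H x
  have e := HV ⟨x.1, hxV⟩
  have e1 : rval (𝒮.deg U hU) ((RelProj.emb p chart U hU).app V
      (toFn ((Coh.structureModule P).presheaf.map (homOfLE h).op w))) ⟨x.1, hxV⟩ =
      rval (𝒮.deg U hU) ((RelProj.emb p chart U hU).app W (toFn w)) ⟨x.1, h hxV⟩ :=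
    rval_app_res (𝒮.deg U hU) (RelProj.emb p chart U hU) h (toFn w) ⟨x.1, hxV⟩
  have e2 := tw_val_app_res (𝒮.deg U hU) (RelProj.emb p chart U hU) (lam U hU) h s ⟨x.1, hxV⟩
  have e3 := tw_val_app_res (𝒮.deg U hU) (RelProj.emb p chart U hU) (lamL U hU) h t ⟨x.1, hxV⟩
  rw [e1, e2, e3] at e
  exact e

include hc hP hF hL in
theorem RelAt.transfer {U : Y.Opens} {hU : IsAffineOpen U} {U' : Y.Opens} {hU' : IsAffineOpen U'}
    {W : P.Opens} (hW : W ≤ p ⁻¹ᵁ U) {s : Γ(F, W)} {t : Γ(L, W)}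
    {w : Γ(Coh.structureModule P, W)}
    (H : RA U hU W s t w) : RA U' hU' W s t w := by
  refine RelAt.of_local 𝒮 p chart m n F lam L lamL fun y => ?_
  have hyW : (RelProj.emb p chart U' hU').base y.1 ∈ W := y.2
  have hyU' : (RelProj.emb p chart U' hU').base y.1 ∈ p ⁻¹ᵁ U' := by
    have : (RelProj.emb p chart U' hU').base y.1 ∈ (RelProj.emb p chart U' hU').opensRange :=
      ⟨y.1, rfl⟩
    rwa [opensRange_emb] at this
  obtain ⟨r, r', hrr', hxr⟩ := exists_basicOpen_le_affine_inter hU hU'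
    (p.base ((RelProj.emb p chart U' hU').base y.1)) ⟨hW hyW, hyU'⟩
  refine ⟨W ⊓ p ⁻¹ᵁ Y.basicOpen r, inf_le_left, ⟨hyW, hxr⟩, ?_⟩
  have h1 := RelAt.basicOpen 𝒮 p chart hP m n F lam hF L lamL hL r
    (RelAt.res 𝒮 p chart m n F lam L lamL
      (inf_le_left : W ⊓ p ⁻¹ᵁ Y.basicOpen r ≤ W) H)
  exact RelAt.of_basicOpen 𝒮 p chart hP m n hc F lam hF L lamL hL r'
    (Y.basicOpen r) (hU.basicOpen r) hrr' inf_le_right h1

/-- The global product relation. -/
def Rel (W : P.Opens) (s : Γ(F, W)) (t : Γ(L, W)) (w : Γ(Coh.structureModule P, W)) : Prop :=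
  ∀ (U : Y.Opens) (hU : IsAffineOpen U), RA U hU W s t w

include hc hP hF hL in
set_option backward.isDefEq.respectTransparency false in
theorem glueRel : BilinGlue.GlueRel F L (Coh.structureModule P)
    (Rel 𝒮 p chart m n F lam L lamL) where
  unique W s t w w' H H' := by
    refine section_eq_of_cover (Coh.structureModule P) _ _ fun z hz => ?_
    obtain ⟨U, hU, hzU, -⟩ := Opens.isBasis_iff_nbhd.mp Y.isBasis_affineOpens
      (show p.base z ∈ (⊤ : Y.Opens) from trivial)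
    refine ⟨W ⊓ p ⁻¹ᵁ U, inf_le_left, ⟨hz, hzU⟩, ?_⟩
    exact RelAt.unique 𝒮 p chart m n F lam L lamL (hU := hU) inf_le_right
      (RelAt.res 𝒮 p chart m n F lam L lamL inf_le_left (H U hU))
      (RelAt.res 𝒮 p chart m n F lam L lamL inf_le_left (H' U hU))
  res h s t w H := fun U hU => RelAt.res 𝒮 p chart m n F lam L lamL h (H U hU)
  of_local W s t w H := fun U hU =>
    RelAt.of_local 𝒮 p chart m n F lam L lamL fun y => by
      obtain ⟨V, h, hxV, HV⟩ := H _ y.2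
      exact ⟨V, h, hxV, HV U hU⟩
  exists_local W s t x hx := by
    obtain ⟨U, hU, hxU, -⟩ := Opens.isBasis_iff_nbhd.mp Y.isBasis_affineOpens
      (show p.base x ∈ (⊤ : Y.Opens) from trivial)
    obtain ⟨w, hw⟩ := RelAt.exists 𝒮 p chart m n hc F lam L lamL (hU := hU)
      (inf_le_right : W ⊓ p ⁻¹ᵁ U ≤ p ⁻¹ᵁ U)
      (F.presheaf.map (homOfLE (inf_le_left : W ⊓ p ⁻¹ᵁ U ≤ W)).op s)
      (L.presheaf.map (homOfLE (inf_le_left : W ⊓ p ⁻¹ᵁ U ≤ W)).op t)
    exact ⟨W ⊓ p ⁻¹ᵁ U, inf_le_left, ⟨hx, hxU⟩, w, fun U' hU' =>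
      RelAt.transfer 𝒮 p chart hP m n hc F lam hF L lamL hL inf_le_right hw⟩
  add_left W s s' t w w' H H' := fun U hU x => by
    have e1 : (rval (𝒮.deg U hU) ((RelProj.emb p chart U hU).app W (toFn (w + w'))) x).val =
        (rval (𝒮.deg U hU) ((RelProj.emb p chart U hU).app W (toFn w)) x).val +
          (rval (𝒮.deg U hU) ((RelProj.emb p chart U hU).app W (toFn w')) x).val :=
      rval_app_add (𝒮.deg U hU) (RelProj.emb p chart U hU) W (toFn w) (toFn w') x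
    have e2 := tw_val_app_add (𝒮.deg U hU) (RelProj.emb p chart U hU) (lam U hU) W s s' x
    rw [e1, e2, add_mul, H U hU x, H' U hU x]
  add_right W s t t' w w' H H' := fun U hU x => by
    have e1 : (rval (𝒮.deg U hU) ((RelProj.emb p chart U hU).app W (toFn (w + w'))) x).val =
        (rval (𝒮.deg U hU) ((RelProj.emb p chart U hU).app W (toFn w)) x).val +
          (rval (𝒮.deg U hU) ((RelProj.emb p chart U hU).app W (toFn w')) x).val :=
      rval_app_add (𝒮.deg U hU) (RelProj.emb p chart U hU) W (toFn w) (toFn w') x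
    have e2 := tw_val_app_add (𝒮.deg U hU) (RelProj.emb p chart U hU) (lamL U hU) W t t' x
    rw [e1, e2, mul_add, H U hU x, H' U hU x]
  smul_left W r s t w H := fun U hU x => by
    have e1 : (rval (𝒮.deg U hU) ((RelProj.emb p chart U hU).app W (toFn (r • w))) x).val =
        (rval (𝒮.deg U hU) ((RelProj.emb p chart U hU).app W r) x).val *
          (rval (𝒮.deg U hU) ((RelProj.emb p chart U hU).app W (toFn w)) x).val :=
      rval_app_mul (𝒮.deg U hU) (RelProj.emb p chart U hU) W r (toFn w) x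
    have e2 := tw_val_app_smul (𝒮.deg U hU) (RelProj.emb p chart U hU) (lam U hU) W r s x
    rw [e1, e2, H U hU x, mul_assoc]
  smul_right W r s t w H := fun U hU x => by
    have e1 : (rval (𝒮.deg U hU) ((RelProj.emb p chart U hU).app W (toFn (r • w))) x).val =
        (rval (𝒮.deg U hU) ((RelProj.emb p chart U hU).app W r) x).val *
          (rval (𝒮.deg U hU) ((RelProj.emb p chart U hU).app W (toFn w)) x).val :=
      rval_app_mul (𝒮.deg U hU) (RelProj.emb p chart U hU) W r (toFn w) x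
    have e2 := tw_val_app_smul (𝒮.deg U hU) (RelProj.emb p chart U hU) (lamL U hU) W r t x
    rw [e1, e2, H U hU x, mul_left_comm]

include hc hP hF hL in
/-- Against a unit-fraction generator of `O(n)`, the pairing `O(m) → O` is bijective. -/
theorem bijective_mul_of_readsFrac
    (hG : BilinGlue.GlueRel F L (Coh.structureModule P) (Rel 𝒮 p chart m n F lam L lamL))
    {U : Y.Opens} {hU : IsAffineOpen U} {W : P.Opens} (hW : W ≤ p ⁻¹ᵁ U) {σ : Γ(L, W)}
    {a b : ℕ} (u : 𝒮.deg U hU a) (v : 𝒮.deg U hU b) (hab : (a : ℤ) = b + n)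
    (hux : ∀ x : (RelProj.emb p chart U hU ⁻¹ᵁ W : (Proj (𝒮.deg U hU)).Opens),
      (u : 𝒮.presheaf.obj (op U)) ∉ x.1.asHomogeneousIdeal)
    (hvx : ∀ x : (RelProj.emb p chart U hU ⁻¹ᵁ W : (Proj (𝒮.deg U hU)).Opens),
      (v : 𝒮.presheaf.obj (op U)) ∉ x.1.asHomogeneousIdeal)
    (hσ : RelTwistXf.ReadsFrac 𝒮 p chart n L lamL U hU W σ u v) :
    Function.Bijective (fun s : Γ(F, W) => hG.mul W s σ) := by
  haveI : IsIso ((RelProj.emb p chart U hU).app W) :=
    (RelProj.emb p chart U hU).isIso_app W (by rw [opensRange_emb]; exact hW)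
  have heps : Function.Bijective ((RelProj.emb p chart U hU).app W) :=
    ConcreteCategory.bijective_of_isIso _
  have hlam := hF.bijective U hU W hW
  let e := Equiv.ofBijective _ hlam
  let g := fun s : Γ(F, W) => hG.mul W s σ
  let β : Γ(GrTwist.twist (𝒮.deg U hU) m, RelProj.emb p chart U hU ⁻¹ᵁ W) →
      Γ(Proj (𝒮.deg U hU), RelProj.emb p chart U hU ⁻¹ᵁ W) :=
    fun z => (RelProj.emb p chart U hU).app W (toFn (g (e.symm z)))
  have hβ : ∀ z x, (rval (𝒮.deg U hU) (β z) x).val = GrTwist.val z x *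
      (Localization.mk (u : 𝒮.presheaf.obj (op U)) ⟨v, hvx x⟩ :
        GrTwist.Loc (𝒮.deg U hU) x.1) := by
    intro z x
    have h1 := hG.mul_spec W (e.symm z) σ U hU x
    have h2 : (lam U hU).app W (e.symm z) = z := e.apply_symm_apply z
    have h3 := hσ x (hvx x)
    rw [h2, h3] at h1
    exact h1
  have hb := tw_bijective_mul_unitFrac_unit (𝒮.deg U hU) hc u v hab hux hvx β hβ
  have hcomp : (fun w : Γ(Coh.structureModule P, W) =>
      (RelProj.emb p chart U hU).app W (toFn w)) ∘ g = β ∘ (lam U hU).app W := by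
    funext s
    show (RelProj.emb p chart U hU).app W (toFn (g s)) =
      (RelProj.emb p chart U hU).app W (toFn (g (e.symm ((lam U hU).app W s))))
    rw [show e.symm ((lam U hU).app W s) = s from e.symm_apply_apply s]
  have hbij : Function.Bijective ((fun w : Γ(Coh.structureModule P, W) =>
      (RelProj.emb p chart U hU).app W (toFn w)) ∘ g) := by
    rw [hcomp]; exact hb.comp hlam
  exact (Function.Bijective.of_comp_iff' (f := fun w : Γ(Coh.structureModule P, W) =>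
      (RelProj.emb p chart U hU).app W (toFn w)) heps g).mp hbij

include hc hP hF hL in
set_option backward.isDefEq.respectTransparency false in
/-- `O(m)|U₀ ⊗ O(n)|U₀ ≅ O_{U₀}` (`m + n = 0`) when `U₀` is covered by opens `D₊(f)` of the
charts with `deg f` dividing `n`. -/
theorem nonempty_restrict_iso (U₀ : P.Opens)
    (hcov : ∀ z ∈ U₀, ∃ (V : Y.Opens) (hV : IsAffineOpen V) (e : ℕ) (k : ℤ)
      (f : 𝒮.presheaf.obj (op V)), f ∈ 𝒮.deg V hV e ∧ n = e * k ∧
        z ∈ RelProj.emb p chart V hV ''ᵁ Proj.basicOpen (𝒮.deg V hV) f) :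
    Nonempty (CohB1.tensorMod (F.restrict U₀.ι) (L.restrict U₀.ι) ≅
      Coh.structureModule (U₀ : Scheme.{u})) := by
  have hG := glueRel 𝒮 p chart hP m n hc F lam hF L lamL hL
  suffices h : Nonempty (CohB1.tensorMod (F.restrict U₀.ι) (L.restrict U₀.ι) ≅
      (Coh.structureModule P).restrict U₀.ι) by
    obtain ⟨e⟩ := h
    exact ⟨e ≪≫ Scheme.Modules.restrictUnitIso U₀.ι⟩
  refine (hG.restrict U₀).nonempty_iso ?_
  intro V₀ x' hx'
  obtain ⟨V, hV, e, k, f, hf, hnk, hz⟩ := hcov (U₀.ι.base x') (by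
    have : U₀.ι.base x' ∈ U₀.ι.opensRange := ⟨x', rfl⟩
    rwa [Scheme.Opens.opensRange_ι] at this)
  -- the open of `P` on which everything happens
  have hWle : U₀.ι ''ᵁ (U₀.ι ⁻¹ᵁ (RelProj.emb p chart V hV ''ᵁ Proj.basicOpen (𝒮.deg V hV) f) ⊓ V₀) ≤
      RelProj.emb p chart V hV ''ᵁ Proj.basicOpen (𝒮.deg V hV) f := by
    rintro _ ⟨z, hz', rfl⟩
    exact hz'.1
  have hDle : RelProj.emb p chart V hV ''ᵁ Proj.basicOpen (𝒮.deg V hV) f ≤ p ⁻¹ᵁ V := by
    rintro _ ⟨z, _, rfl⟩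
    have : (RelProj.emb p chart V hV).base z ∈ (RelProj.emb p chart V hV).opensRange := ⟨z, rfl⟩
    rwa [opensRange_emb] at this
  have hWV := hWle.trans hDle
  have hfx : ∀ (j : ℕ) (z : (RelProj.emb p chart V hV ⁻¹ᵁ
      (U₀.ι ''ᵁ (U₀.ι ⁻¹ᵁ (RelProj.emb p chart V hV ''ᵁ Proj.basicOpen (𝒮.deg V hV) f) ⊓ V₀)) :
      (Proj (𝒮.deg V hV)).Opens)), f ^ j ∉ z.1.asHomogeneousIdeal := by
    intro j z h
    have h1 : z.1 ∈ RelProj.emb p chart V hV ⁻¹ᵁ
        (RelProj.emb p chart V hV ''ᵁ Proj.basicOpen (𝒮.deg V hV) f) := hWle z.2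
    rw [(RelProj.emb p chart V hV).preimage_image_eq] at h1
    exact ((ProjectiveSpectrum.mem_basicOpen (𝒮.deg V hV) f z.1).mp h1)
      (z.1.isPrime.mem_of_pow_mem _ h)
  have hpowu : f ^ k.toNat ∈ 𝒮.deg V hV (k.toNat • e) := SetLike.pow_mem_graded _ hf
  have hpowv : f ^ (-k).toNat ∈ 𝒮.deg V hV ((-k).toNat • e) := SetLike.pow_mem_graded _ hf
  have hpq : ((k.toNat • e : ℕ) : ℤ) = ((-k).toNat • e : ℕ) + n := by
    have h := Int.toNat_sub_toNat_neg k
    simp only [smul_eq_mul]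
    push_cast
    rw [hnk]
    linear_combination (e : ℤ) * h
  obtain ⟨σ, hσ⟩ := RelTwistXf.exists_readsFrac 𝒮 p chart n L lamL hL V hV _ hWV
    (⟨f ^ k.toNat, hpowu⟩ : 𝒮.deg V hV (k.toNat • e))
    (⟨f ^ (-k).toNat, hpowv⟩ : 𝒮.deg V hV ((-k).toNat • e)) hpq (hfx _)
  refine ⟨U₀.ι ⁻¹ᵁ (RelProj.emb p chart V hV ''ᵁ Proj.basicOpen (𝒮.deg V hV) f) ⊓ V₀,
    inf_le_right, ⟨hz, hx'⟩, σ, ?_, ?_⟩
  · have hb := (RelTwistXf.ReadsFrac.bijective_smul 𝒮 p chart n L lamL hL hWV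
      (⟨f ^ k.toNat, hpowu⟩ : 𝒮.deg V hV (k.toNat • e))
      (⟨f ^ (-k).toNat, hpowv⟩ : 𝒮.deg V hV ((-k).toNat • e)) hpq (hfx _) (hfx _) hσ)
    have he : Function.Bijective (⇑(ConcreteCategory.hom (U₀.ι.appIso
        (U₀.ι ⁻¹ᵁ (RelProj.emb p chart V hV ''ᵁ Proj.basicOpen (𝒮.deg V hV) f) ⊓ V₀)).inv)) :=
      ConcreteCategory.bijective_of_isIso _
    exact (hb.comp he).2
  · have hb := bijective_mul_of_readsFrac 𝒮 p chart hP m n hc F lam hF L lamL hL hG hWV
      (⟨f ^ k.toNat, hpowu⟩ : 𝒮.deg V hV (k.toNat • e))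
      (⟨f ^ (-k).toNat, hpowv⟩ : 𝒮.deg V hV ((-k).toNat • e)) hpq (hfx _) (hfx _) hσ
    have heq : (fun s : Γ(F.restrict U₀.ι,
        U₀.ι ⁻¹ᵁ (RelProj.emb p chart V hV ''ᵁ Proj.basicOpen (𝒮.deg V hV) f) ⊓ V₀) =>
        (hG.restrict U₀).mul _ s σ) = fun s => hG.mul _ s σ :=
      funext fun s => hG.restrict_mul U₀ _ s σ
    rw [heq]
    exact hb

end Rel

end Groth.Agent.H41.RelMulUnit
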