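import Groth.Agent.H41.LinGlue
import Groth.Agent.H41.RelMulUnit
import Mathlib

/-!
# The comparison `O_{Proj 𝒜}(n) ⟶ h_* O_{Proj ℬ}(n)` for a morphism of relative `Proj`'s
-/

set_option autoImplicit false
set_option linter.style.haveILetI false
set_option linter.unusedSectionVars false
universe u

open CategoryTheory CategoryTheory.Limits AlgebraicGeometry HomogeneousIdeal TopologicalSpace Opposite
open Groth.Agent.H8 Groth.Agent.H41.GrModQCoh Groth.Agent.H41.GrModMaps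
  Groth.Agent.H41.RelTildeMaps Groth.Agent.H41.RelMul Groth.Agent.H41.RelMulTw
  Groth.Agent.H41.RelMulUnit

noncomputable section

namespace Groth.Agent.H41.RelComap

section Ring

variable {A σA : Type u} [CommRing A] [SetLike σA A] [AddSubgroupClass σA A] {𝒜 : ℕ → σA}
  [GradedRing 𝒜]
  {B σB : Type u} [CommRing B] [SetLike σB B] [AddSubgroupClass σB B] {ℬ : ℕ → σB} [GradedRing ℬ]
  {C σC : Type u} [CommRing C] [SetLike σC C] [AddSubgroupClass σC C] {𝒞 : ℕ → σC} [GradedRing 𝒞]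
  {D σD : Type u} [CommRing D] [SetLike σD D] [AddSubgroupClass σD D] {𝒟 : ℕ → σD} [GradedRing 𝒟]
  (ψ₁ : 𝒜 →+*ᵍ ℬ) (h₁ : ℬ₊ ≤ (𝒜₊).map ψ₁) (ψ₂ : ℬ →+*ᵍ 𝒞) (h₂ : 𝒞₊ ≤ (ℬ₊).map ψ₂)
  (ψ₃ : 𝒜 →+*ᵍ 𝒟) (h₃ : 𝒟₊ ≤ (𝒜₊).map ψ₃) (ψ₄ : 𝒟 →+*ᵍ 𝒞) (h₄ : 𝒞₊ ≤ (𝒟₊).map ψ₄)
  (hcomm : ∀ a, ψ₂ (ψ₁ a) = ψ₄ (ψ₃ a))

include hcomm in
theorem comap_comap_eq (y : ProjectiveSpectrum 𝒞) :
    ProjectiveSpectrum.comap ψ₁ h₁ (ProjectiveSpectrum.comap ψ₂ h₂ y) =
      ProjectiveSpectrum.comap ψ₃ h₃ (ProjectiveSpectrum.comap ψ₄ h₄ y) := by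
  apply ProjectiveSpectrum.ext
  apply HomogeneousIdeal.toIdeal_injective
  ext a
  show ψ₂ (ψ₁ a) ∈ y.asHomogeneousIdeal ↔ ψ₄ (ψ₃ a) ∈ y.asHomogeneousIdeal
  rw [hcomm a]

include hcomm in
theorem locMap_comm (n : ℤ) (y : ProjectiveSpectrum 𝒞) {V : (Proj 𝒜).Opens}
    (z : Γ(GrTwist.twist 𝒜 n, V))
    (hx₁ : ProjectiveSpectrum.comap ψ₁ h₁ (ProjectiveSpectrum.comap ψ₂ h₂ y) ∈ V)
    (hx₂ : ProjectiveSpectrum.comap ψ₃ h₃ (ProjectiveSpectrum.comap ψ₄ h₄ y) ∈ V) :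
    GrTwist.locMap ψ₂ h₂ y (GrTwist.locMap ψ₁ h₁ (ProjectiveSpectrum.comap ψ₂ h₂ y)
        (GrTwist.val z ⟨_, hx₁⟩)) =
      GrTwist.locMap ψ₄ h₄ y (GrTwist.locMap ψ₃ h₃ (ProjectiveSpectrum.comap ψ₄ h₄ y)
        (GrTwist.val z ⟨_, hx₂⟩)) := by
  have hx := comap_comap_eq ψ₁ h₁ ψ₂ h₂ ψ₃ h₃ ψ₄ h₄ hcomm y
  obtain ⟨V', hx₁V', iV, i, j, a, s, nin, -, hw⟩ :=
    (z : GrTwist.sectN (𝒜 := 𝒜) n (op V)).2 ⟨_, hx₁⟩
  have hx₂V' : ProjectiveSpectrum.comap ψ₃ h₃ (ProjectiveSpectrum.comap ψ₄ h₄ y) ∈ V' :=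
    hx ▸ hx₁V'
  have e1 : GrTwist.val z ⟨_, hx₁⟩ = Localization.mk (a : A) ⟨s, nin ⟨_, hx₁V'⟩⟩ :=
    hw ⟨_, hx₁V'⟩
  have e2 : GrTwist.val z ⟨_, hx₂⟩ = Localization.mk (a : A) ⟨s, nin ⟨_, hx₂V'⟩⟩ :=
    hw ⟨_, hx₂V'⟩
  rw [e1, e2]
  simp only [GrTwist.locMap_mk]
  congr 1
  · exact hcomm a
  · exact Subtype.ext (hcomm s)

end Ring

section Rel

variable {Y PA PB : Scheme.{u}} {𝒜 ℬ : RelProj.QCGrAlg Y}
  (φ : 𝒜.toQCAlg ⟶ ℬ.toQCAlg) (hφ : RelProj.IsGradedHom φ)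
  (hirr : ∀ (U : Y.Opens) (hU : IsAffineOpen U),
    (ℬ.deg U hU)₊ ≤ ((𝒜.deg U hU)₊).map (RelProj.gradedHomAt φ hφ U hU))
  (pA : PA ⟶ Y) (pB : PB ⟶ Y)
  (chartA : ∀ (U : Y.Opens) (hU : IsAffineOpen U),
    (((pA ⁻¹ᵁ U : PA.Opens) : Scheme.{u}) ≅ Proj (𝒜.deg U hU)))
  (chartB : ∀ (U : Y.Opens) (hU : IsAffineOpen U),
    (((pB ⁻¹ᵁ U : PB.Opens) : Scheme.{u}) ≅ Proj (ℬ.deg U hU)))
  (hA : RelProj.IsRelProj 𝒜 pA chartA) (hB : RelProj.IsRelProj ℬ pB chartB)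
  (h : PB ⟶ PA) (hh : RelProj.IsRelProjMap φ hφ hirr chartA chartB h) (n : ℤ)
  (LA : PA.Modules)
  (lamA : ∀ (U : Y.Opens) (hU : IsAffineOpen U),
    LA ⟶ (Scheme.Modules.pushforward (RelProj.emb pA chartA U hU)).obj
      (GrTwist.twist (𝒜.deg U hU) n))
  (hLA : RelProj.IsRelTwist 𝒜 pA chartA n LA lamA)
  (LB : PB.Modules)
  (lamB : ∀ (U : Y.Opens) (hU : IsAffineOpen U),
    LB ⟶ (Scheme.Modules.pushforward (RelProj.emb pB chartB U hU)).obj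
      (GrTwist.twist (ℬ.deg U hU) n))
  (hLB : RelProj.IsRelTwist ℬ pB chartB n LB lamB)

include hh in
theorem emb_comm (U : Y.Opens) (hU : IsAffineOpen U) :
    RelProj.emb pB chartB U hU ≫ h =
      Proj.map (RelProj.gradedHomAt φ hφ U hU) (hirr U hU) ≫ RelProj.emb pA chartA U hU := by
  have e := hh U hU
  unfold RelProj.emb
  rw [Category.assoc, e, Iso.inv_hom_id_assoc]

include hh in
theorem emb_comm_base (U : Y.Opens) (hU : IsAffineOpen U)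
    (y : ProjectiveSpectrum (ℬ.deg U hU)) :
    h.base ((RelProj.emb pB chartB U hU).base y) =
      (RelProj.emb pA chartA U hU).base
        (ProjectiveSpectrum.comap (RelProj.gradedHomAt φ hφ U hU) (hirr U hU) y) :=
  congrArg (fun ψ : Proj (ℬ.deg U hU) ⟶ PA => ψ.base y)
    (emb_comm φ hφ hirr pA pB chartA chartB h hh U hU)

/-- On the chart over `U`, the section `t` reads as the image of `s`. -/
def RelAt (U : Y.Opens) (hU : IsAffineOpen U) (W : PA.Opens) (V : PB.Opens) (s : Γ(LA, W))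
    (t : Γ(LB, V)) : Prop :=
  ∀ (y : ProjectiveSpectrum (ℬ.deg U hU)) (hy : (RelProj.emb pB chartB U hU).base y ∈ V)
    (hy' : (RelProj.emb pA chartA U hU).base
      (ProjectiveSpectrum.comap (RelProj.gradedHomAt φ hφ U hU) (hirr U hU) y) ∈ W),
    GrTwist.val (V := RelProj.emb pB chartB U hU ⁻¹ᵁ V) ((lamB U hU).app V t) ⟨y, hy⟩ =
      GrTwist.locMap (RelProj.gradedHomAt φ hφ U hU) (hirr U hU) y
        (GrTwist.val (V := RelProj.emb pA chartA U hU ⁻¹ᵁ W) ((lamA U hU).app W s) ⟨_, hy'⟩)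

local notation "RA" => RelAt φ hφ hirr pA pB chartA chartB n LA lamA LB lamB

theorem RelAt.resT {U : Y.Opens} {hU : IsAffineOpen U} {W : PA.Opens} {V V' : PB.Opens}
    (hV' : V' ≤ V) {s : Γ(LA, W)} {t : Γ(LB, V)} (H : RA U hU W V s t) :
    RA U hU W V' s (LB.presheaf.map (homOfLE hV').op t) := by
  intro y hy hy'
  have e := tw_val_app_res (ℬ.deg U hU) (RelProj.emb pB chartB U hU) (lamB U hU) hV' t ⟨y, hy⟩
  rw [e]
  exact H y (hV' hy) hy'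

theorem RelAt.resS {U : Y.Opens} {hU : IsAffineOpen U} {W W' : PA.Opens} (hW' : W' ≤ W)
    {V : PB.Opens} {s : Γ(LA, W)} {t : Γ(LB, V)} (H : RA U hU W V s t) :
    RA U hU W' V (LA.presheaf.map (homOfLE hW').op s) t := by
  intro y hy hy'
  have e := tw_val_app_res (𝒜.deg U hU) (RelProj.emb pA chartA U hU) (lamA U hU) hW' s ⟨_, hy'⟩
  rw [e]
  exact H y hy (hW' hy')

include hh in
theorem mem_of_le {U : Y.Opens} {hU : IsAffineOpen U} {W : PA.Opens} {V : PB.Opens}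
    (hVW : V ≤ h ⁻¹ᵁ W) (y : ProjectiveSpectrum (ℬ.deg U hU))
    (hy : (RelProj.emb pB chartB U hU).base y ∈ V) :
    (RelProj.emb pA chartA U hU).base
      (ProjectiveSpectrum.comap (RelProj.gradedHomAt φ hφ U hU) (hirr U hU) y) ∈ W := by
  have h1 : h.base ((RelProj.emb pB chartB U hU).base y) ∈ W := hVW hy
  rwa [emb_comm_base φ hφ hirr pA pB chartA chartB h hh U hU y] at h1

include hh hLB in
theorem RelAt.unique {U : Y.Opens} {hU : IsAffineOpen U} {W : PA.Opens} {V : PB.Opens}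
    (hV : V ≤ pB ⁻¹ᵁ U) (hVW : V ≤ h ⁻¹ᵁ W) {s : Γ(LA, W)} {t t' : Γ(LB, V)}
    (H : RA U hU W V s t) (H' : RA U hU W V s t') : t = t' := by
  apply (hLB.bijective U hU V hV).1
  refine tw_sect_ext (ℬ.deg U hU) (W := RelProj.emb pB chartB U hU ⁻¹ᵁ V) _ _ fun x => ?_
  have hy' := mem_of_le φ hφ hirr pA pB chartA chartB h hh hVW x.1 x.2
  exact (H x.1 x.2 hy').trans (H' x.1 x.2 hy').symm

include hh hLB in
theorem RelAt.exists {U : Y.Opens} {hU : IsAffineOpen U} {W : PA.Opens} {V : PB.Opens}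
    (hV : V ≤ pB ⁻¹ᵁ U) (hVW : V ≤ h ⁻¹ᵁ W) (s : Γ(LA, W)) :
    ∃ t : Γ(LB, V), RA U hU W V s t := by
  have hle : RelProj.emb pB chartB U hU ⁻¹ᵁ V ≤
      Proj.map (RelProj.gradedHomAt φ hφ U hU) (hirr U hU) ⁻¹ᵁ
        (RelProj.emb pA chartA U hU ⁻¹ᵁ W) := fun y hy =>
    mem_of_le φ hφ hirr pA pB chartA chartB h hh hVW y hy
  obtain ⟨t, ht⟩ := (hLB.bijective U hU V hV).2
    ((GrTwist.twist (ℬ.deg U hU) n).presheaf.map (homOfLE hle).op
      ((GrTwist.comap (RelProj.gradedHomAt φ hφ U hU) (hirr U hU) n).app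
        (RelProj.emb pA chartA U hU ⁻¹ᵁ W) ((lamA U hU).app W s)))
  refine ⟨t, fun y hy hy' => ?_⟩
  have h1 := congrArg (fun τ : Γ(GrTwist.twist (ℬ.deg U hU) n,
    RelProj.emb pB chartB U hU ⁻¹ᵁ V) => GrTwist.val τ ⟨y, hy⟩) ht
  exact h1

include hA hB hLA hLB in
theorem RelAt.basicOpen {U : Y.Opens} {hU : IsAffineOpen U} (r : Γ(Y, U)) {W : PA.Opens}
    {V : PB.Opens} {s : Γ(LA, W)} {t : Γ(LB, V)} (H : RA U hU W V s t) :
    RA (Y.basicOpen r) (hU.basicOpen r) W V s t := by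
  intro y hy hy'
  have hcomm : ∀ a, (ℬ.res hU (hU.basicOpen r) (Y.basicOpen_le r))
      (RelProj.gradedHomAt φ hφ U hU a) =
      RelProj.gradedHomAt φ hφ (Y.basicOpen r) (hU.basicOpen r)
        (𝒜.res hU (hU.basicOpen r) (Y.basicOpen_le r) a) := fun a =>
    (congr($(φ.hom.naturality (homOfLE (Y.basicOpen_le r)).op) a)).symm
  have hyB : (RelProj.emb pB chartB U hU).base (ProjectiveSpectrum.comap
      (ℬ.res hU (hU.basicOpen r) (Y.basicOpen_le r)) (ℬ.irrelevant_le_map U hU r) y) ∈ V := by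
    have e := congrArg (fun ψ : Proj (ℬ.deg (Y.basicOpen r) (hU.basicOpen r)) ⟶ PB => ψ.base y)
      (RelProj.map_res_emb hB U hU r)
    have e' : (RelProj.emb pB chartB U hU).base (ProjectiveSpectrum.comap
        (ℬ.res hU (hU.basicOpen r) (Y.basicOpen_le r)) (ℬ.irrelevant_le_map U hU r) y) =
        (RelProj.emb pB chartB (Y.basicOpen r) (hU.basicOpen r)).base y := e
    rw [e']; exact hy
  have hyA : (RelProj.emb pA chartA U hU).base (ProjectiveSpectrum.comap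
      (𝒜.res hU (hU.basicOpen r) (Y.basicOpen_le r)) (𝒜.irrelevant_le_map U hU r)
      (ProjectiveSpectrum.comap (RelProj.gradedHomAt φ hφ (Y.basicOpen r) (hU.basicOpen r))
        (hirr _ (hU.basicOpen r)) y)) ∈ W := by
    have e := congrArg (fun ψ : Proj (𝒜.deg (Y.basicOpen r) (hU.basicOpen r)) ⟶ PA =>
      ψ.base (ProjectiveSpectrum.comap (RelProj.gradedHomAt φ hφ (Y.basicOpen r) (hU.basicOpen r))
        (hirr _ (hU.basicOpen r)) y))
      (RelProj.map_res_emb hA U hU r)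
    have e' : (RelProj.emb pA chartA U hU).base (ProjectiveSpectrum.comap
        (𝒜.res hU (hU.basicOpen r) (Y.basicOpen_le r)) (𝒜.irrelevant_le_map U hU r)
        (ProjectiveSpectrum.comap (RelProj.gradedHomAt φ hφ (Y.basicOpen r) (hU.basicOpen r))
          (hirr _ (hU.basicOpen r)) y)) =
        (RelProj.emb pA chartA (Y.basicOpen r) (hU.basicOpen r)).base
          (ProjectiveSpectrum.comap (RelProj.gradedHomAt φ hφ (Y.basicOpen r) (hU.basicOpen r))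
            (hirr _ (hU.basicOpen r)) y) := e
    rw [e']; exact hy'
  have hx := comap_comap_eq (RelProj.gradedHomAt φ hφ U hU) (hirr U hU)
    (ℬ.res hU (hU.basicOpen r) (Y.basicOpen_le r)) (ℬ.irrelevant_le_map U hU r)
    (𝒜.res hU (hU.basicOpen r) (Y.basicOpen_le r)) (𝒜.irrelevant_le_map U hU r)
    (RelProj.gradedHomAt φ hφ (Y.basicOpen r) (hU.basicOpen r)) (hirr _ (hU.basicOpen r))
    hcomm y
  have hyA' : (RelProj.emb pA chartA U hU).base (ProjectiveSpectrum.comap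
      (RelProj.gradedHomAt φ hφ U hU) (hirr U hU) (ProjectiveSpectrum.comap
      (ℬ.res hU (hU.basicOpen r) (Y.basicOpen_le r)) (ℬ.irrelevant_le_map U hU r) y)) ∈ W := by
    rw [hx]; exact hyA
  have e1 := hLB.compat U hU r V t y hy hyB
  have e2 := H _ hyB hyA'
  have e3 := hLA.compat U hU r W s _ hy' hyA
  rw [e1, e2, e3]
  exact locMap_comm (RelProj.gradedHomAt φ hφ U hU) (hirr U hU)
    (ℬ.res hU (hU.basicOpen r) (Y.basicOpen_le r)) (ℬ.irrelevant_le_map U hU r)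
    (𝒜.res hU (hU.basicOpen r) (Y.basicOpen_le r)) (𝒜.irrelevant_le_map U hU r)
    (RelProj.gradedHomAt φ hφ (Y.basicOpen r) (hU.basicOpen r)) (hirr _ (hU.basicOpen r))
    hcomm n y ((lamA U hU).app W s) hyA' hyA

include hA hB hh hLA hLB in
theorem RelAt.of_basicOpen {U : Y.Opens} {hU : IsAffineOpen U} (r : Γ(Y, U)) (D : Y.Opens)
    (hD : IsAffineOpen D) (e : D = Y.basicOpen r) {W : PA.Opens} {V : PB.Opens}
    (hV : V ≤ pB ⁻¹ᵁ D) (hVW : V ≤ h ⁻¹ᵁ W)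
    {s : Γ(LA, W)} {t : Γ(LB, V)} (H : RA D hD W V s t) : RA U hU W V s t := by
  subst e
  have hVU : V ≤ pB ⁻¹ᵁ U := hV.trans (fun z hz => Y.basicOpen_le r hz)
  obtain ⟨t', ht'⟩ := RelAt.exists φ hφ hirr pA pB chartA chartB h hh n LA lamA LB lamB hLB
    (hU := hU) hVU hVW s
  have h2 := RelAt.basicOpen φ hφ hirr pA pB chartA chartB hA hB n LA lamA hLA LB lamB hLB r ht'
  have h3 : t = t' := RelAt.unique φ hφ hirr pA pB chartA chartB h hh n LA lamA LB lamB hLB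
    hV hVW H h2
  rw [h3]; exact ht'

theorem RelAt.of_local {U : Y.Opens} {hU : IsAffineOpen U} {W : PA.Opens} {V : PB.Opens}
    {s : Γ(LA, W)} {t : Γ(LB, V)}
    (H : ∀ (y : ProjectiveSpectrum (ℬ.deg U hU)) (_ : (RelProj.emb pB chartB U hU).base y ∈ V),
      ∃ (V' : PB.Opens) (hV' : V' ≤ V), (RelProj.emb pB chartB U hU).base y ∈ V' ∧
        RA U hU W V' s (LB.presheaf.map (homOfLE hV').op t)) : RA U hU W V s t := by
  intro y hy hy'
  obtain ⟨V', hV', hyV', HV'⟩ := H y hy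
  have e := HV' y hyV' hy'
  have e1 := tw_val_app_res (ℬ.deg U hU) (RelProj.emb pB chartB U hU) (lamB U hU) hV' t ⟨y, hyV'⟩
  rw [e1] at e
  exact e

include hA hB hh hLA hLB in
theorem RelAt.transfer {U : Y.Opens} {hU : IsAffineOpen U} {U' : Y.Opens} {hU' : IsAffineOpen U'}
    {W : PA.Opens} {V : PB.Opens} (hV : V ≤ pB ⁻¹ᵁ U) (hVW : V ≤ h ⁻¹ᵁ W)
    {s : Γ(LA, W)} {t : Γ(LB, V)} (H : RA U hU W V s t) : RA U' hU' W V s t := by
  refine RelAt.of_local φ hφ hirr pA pB chartA chartB n LA lamA LB lamB fun y hyV => ?_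
  have hyU' : (RelProj.emb pB chartB U' hU').base y ∈ pB ⁻¹ᵁ U' := by
    have : (RelProj.emb pB chartB U' hU').base y ∈ (RelProj.emb pB chartB U' hU').opensRange :=
      ⟨y, rfl⟩
    rwa [opensRange_emb] at this
  obtain ⟨r, r', hrr', hxr⟩ := exists_basicOpen_le_affine_inter hU hU'
    (pB.base ((RelProj.emb pB chartB U' hU').base y)) ⟨hV hyV, hyU'⟩
  refine ⟨V ⊓ pB ⁻¹ᵁ Y.basicOpen r, inf_le_left, ⟨hyV, hxr⟩, ?_⟩
  have h1 := RelAt.basicOpen φ hφ hirr pA pB chartA chartB hA hB n LA lamA hLA LB lamB hLB r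
    (RelAt.resT φ hφ hirr pA pB chartA chartB n LA lamA LB lamB
      (inf_le_left : V ⊓ pB ⁻¹ᵁ Y.basicOpen r ≤ V) H)
  exact RelAt.of_basicOpen φ hφ hirr pA pB chartA chartB hA hB h hh n LA lamA hLA LB lamB hLB r'
    (Y.basicOpen r) (hU.basicOpen r) hrr' inf_le_right (inf_le_left.trans hVW) h1

/-- The global relation. -/
def Rel (W : PA.Opens) (V : PB.Opens) (s : Γ(LA, W)) (t : Γ(LB, V)) : Prop :=
  ∀ (U : Y.Opens) (hU : IsAffineOpen U), RA U hU W V s t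

include hA hB hh hLA hLB in
theorem linRel : LinGlue.LinRel h LA LB (Rel φ hφ hirr pA pB chartA chartB n LA lamA LB lamB) where
  unique W V hVW s t t' H H' := by
    refine section_eq_of_cover LB _ _ fun z hz => ?_
    obtain ⟨U, hU, hzU, -⟩ := Opens.isBasis_iff_nbhd.mp Y.isBasis_affineOpens
      (show pB.base z ∈ (⊤ : Y.Opens) from trivial)
    refine ⟨V ⊓ pB ⁻¹ᵁ U, inf_le_left, ⟨hz, hzU⟩, ?_⟩
    exact RelAt.unique φ hφ hirr pA pB chartA chartB h hh n LA lamA LB lamB hLB (hU := hU)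
      inf_le_right (inf_le_left.trans hVW)
      (RelAt.resT φ hφ hirr pA pB chartA chartB n LA lamA LB lamB inf_le_left (H U hU))
      (RelAt.resT φ hφ hirr pA pB chartA chartB n LA lamA LB lamB inf_le_left (H' U hU))
  resT hV' s t H := fun U hU =>
    RelAt.resT φ hφ hirr pA pB chartA chartB n LA lamA LB lamB hV' (H U hU)
  resS hW' _ s t H := fun U hU =>
    RelAt.resS φ hφ hirr pA pB chartA chartB n LA lamA LB lamB hW' (H U hU)
  of_local W V s t H := fun U hU =>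
    RelAt.of_local φ hφ hirr pA pB chartA chartB n LA lamA LB lamB fun y hy => by
      obtain ⟨V', hV', hxV', HV'⟩ := H _ hy
      exact ⟨V', hV', hxV', HV' U hU⟩
  exists_local W s x hx := by
    obtain ⟨U, hU, hxU, -⟩ := Opens.isBasis_iff_nbhd.mp Y.isBasis_affineOpens
      (show pB.base x ∈ (⊤ : Y.Opens) from trivial)
    obtain ⟨t, ht⟩ := RelAt.exists φ hφ hirr pA pB chartA chartB h hh n LA lamA LB lamB hLB
      (hU := hU) (inf_le_right : h ⁻¹ᵁ W ⊓ pB ⁻¹ᵁ U ≤ pB ⁻¹ᵁ U) inf_le_left s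
    exact ⟨h ⁻¹ᵁ W ⊓ pB ⁻¹ᵁ U, inf_le_left, ⟨hx, hxU⟩, t, fun U' hU' =>
      RelAt.transfer φ hφ hirr pA pB chartA chartB hA hB h hh n LA lamA hLA LB lamB hLB
        inf_le_right inf_le_left ht⟩
  add W V s s' t t' H H' := fun U hU y hy hy' => by
    have e1 := tw_val_app_add (ℬ.deg U hU) (RelProj.emb pB chartB U hU) (lamB U hU) V t t' ⟨y, hy⟩
    have e2 := tw_val_app_add (𝒜.deg U hU) (RelProj.emb pA chartA U hU) (lamA U hU) W s s'
      ⟨_, hy'⟩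
    rw [e1, e2, map_add, H U hU y hy hy', H' U hU y hy hy']
  smul W a s t H := fun U hU y hy hy' => by
    have e1 := tw_val_app_smul (ℬ.deg U hU) (RelProj.emb pB chartB U hU) (lamB U hU) (h ⁻¹ᵁ W)
      (h.app W a) t ⟨y, hy⟩
    have e2 := tw_val_app_smul (𝒜.deg U hU) (RelProj.emb pA chartA U hU) (lamA U hU) W a s
      ⟨_, hy'⟩
    have e3 := rval_comp_app (RelProj.gradedHomAt φ hφ U hU) (hirr U hU)
      (RelProj.emb pA chartA U hU) (RelProj.emb pB chartB U hU ≫ h)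
      (emb_comm φ hφ hirr pA pB chartA chartB h hh U hU).symm W a y hy hy'
    rw [e1, e2, map_mul, H U hU y hy hy', ← e3]
    rfl

end Rel

end Groth.Agent.H41.RelComap
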