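import Groth.Agent.H41.RelTildeTN2
import Groth.Agent.H18.RestrictUnit
import Groth.Prelude.Def_Pic
import Mathlib

/-!
# Invertibility of the twisting sheaves of a relative `Proj` generated in degree one
-/

set_option autoImplicit false
set_option linter.style.haveILetI false
universe u

open CategoryTheory CategoryTheory.Limits AlgebraicGeometry HomogeneousIdeal TopologicalSpace Opposite
open Groth.Agent.H8 Groth.Agent.H41.GrModQCoh Groth.Agent.H41.GrModMaps
  Groth.Agent.H41.RelTildeMaps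

namespace Groth.Agent.H41.RelTwistInv

section Ring

variable {A σ : Type u} [CommRing A] [SetLike σ A] [AddSubgroupClass σ A] (𝒜 : ℕ → σ) [GradedRing 𝒜]

theorem mk_mul_mk_swap {S : Submonoid A} (u v : A) (hu : u ∈ S) (hv : v ∈ S) :
    (Localization.mk u ⟨v, hv⟩ : Localization S) * Localization.mk v ⟨u, hu⟩ = 1 := by
  rw [Localization.mk_mul, ← Localization.mk_one, Localization.mk_eq_mk_iff,
    Localization.r_iff_exists]
  refine ⟨1, ?_⟩
  simp only [OneMemClass.coe_one, one_mul, Submonoid.coe_mul, mul_one]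
  ring

/-- Multiplication by a unit fraction `u/v` of degree `n` is a bijection `O(W) → O(n)(W)`. -/
theorem bijective_smul_fracSect {W : (Proj 𝒜).Opens} {n : ℤ} {p q : ℕ} (u : 𝒜 p) (v : 𝒜 q)
    (hpq : (p : ℤ) = q + n)
    (hux : ∀ x : W, (u : A) ∉ x.1.asHomogeneousIdeal)
    (hvx : ∀ x : W, (v : A) ∉ x.1.asHomogeneousIdeal) :
    Function.Bijective (fun r : Γ(Proj 𝒜, W) => r • fracSect 𝒜 𝒜 n W hpq u v hvx) := by
  have hswap : ∀ x : W, (Localization.mk (u : A) ⟨v, hvx x⟩ : GrTwist.Loc 𝒜 x.1) *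
      Localization.mk (v : A) ⟨u, hux x⟩ = 1 := fun x => mk_mul_mk_swap (u : A) v (hux x) (hvx x)
  have hsmul : ∀ (r : Γ(Proj 𝒜, W)) (x : W),
      (show GrTwist.Loc 𝒜 x.1 from GrMod.val (r • fracSect 𝒜 𝒜 n W hpq u v hvx) x) =
        (rval 𝒜 r x).val * Localization.mk (u : A) ⟨v, hvx x⟩ := fun r x =>
    val_smul 𝒜 𝒜 n r _ x
  constructor
  · intro r r' h
    have h' : ∀ x : W, (rval 𝒜 r x).val = (rval 𝒜 r' x).val := fun x => by
      have h1 : (rval 𝒜 r x).val * Localization.mk (u : A) ⟨v, hvx x⟩ =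
          (rval 𝒜 r' x).val * Localization.mk (u : A) ⟨v, hvx x⟩ := by
        rw [← hsmul r x, ← hsmul r' x]
        exact congrArg (fun s : Γ(GrMod.tilde 𝒜 𝒜 n, W) =>
          (show GrTwist.Loc 𝒜 x.1 from GrMod.val s x)) h
      calc (rval 𝒜 r x).val
          = (rval 𝒜 r x).val * Localization.mk (u : A) ⟨v, hvx x⟩ *
              Localization.mk (v : A) ⟨u, hux x⟩ := by rw [mul_assoc, hswap x, mul_one]
        _ = (rval 𝒜 r' x).val * Localization.mk (u : A) ⟨v, hvx x⟩ *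
              Localization.mk (v : A) ⟨u, hux x⟩ := by rw [h1]
        _ = (rval 𝒜 r' x).val := by rw [mul_assoc, hswap x, mul_one]
    show (r : GrTwist.O (𝒜 := 𝒜) (op W)) = r'
    exact Subtype.ext (funext fun x => HomogeneousLocalization.val_injective _ (h' x))
  · intro t
    have hex : ∀ x : W, ∃ c : GrTwist.A0 𝒜 x.1,
        c.val = (show GrTwist.Loc 𝒜 x.1 from GrMod.val t x) *
          Localization.mk (v : A) ⟨u, hux x⟩ := by
      intro x
      obtain ⟨V', hxV', iV, i, j, m, g, gnin, hcase, hw⟩ := (t : GrMod.sect 𝒜 𝒜 n (op W)).2 x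
      have hvalx : (show GrTwist.Loc 𝒜 x.1 from GrMod.val t x) =
          Localization.mk (m : A) ⟨g, gnin ⟨x.1, hxV'⟩⟩ := hw ⟨x.1, hxV'⟩
      rcases hcase with hdeg | hm0
      · have e : i + q = j + p := by omega
        have hav : (m : A) * v ∈ 𝒜 (j + p) := e ▸ SetLike.mul_mem_graded m.2 v.2
        have hsu : (g : A) * u ∈ 𝒜 (j + p) := SetLike.mul_mem_graded g.2 u.2
        refine ⟨HomogeneousLocalization.mk ⟨j + p, ⟨(m : A) * v, hav⟩, ⟨(g : A) * u, hsu⟩,
          fun h => (x.1.isPrime.mem_or_mem h).elim (gnin ⟨x.1, hxV'⟩) (hux x)⟩, ?_⟩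
        rw [HomogeneousLocalization.val_mk, hvalx, Localization.mk_mul]
        rfl
      · refine ⟨0, ?_⟩
        rw [hvalx, hm0, Localization.mk_zero, zero_mul]
        exact HomogeneousLocalization.val_zero
    choose c hc using hex
    have hloc : (ProjectiveSpectrum.StructureSheaf.isLocallyFraction 𝒜).pred c := by
      intro x
      obtain ⟨V', hxV', iV, i, j, m, g, gnin, hcase, hw⟩ := (t : GrMod.sect 𝒜 𝒜 n (op W)).2 x
      have hw' : ∀ y : V', (show GrTwist.Loc 𝒜 (iV y).1 from GrMod.val t (iV y)) =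
          Localization.mk (m : A) ⟨g, gnin y⟩ := fun y => hw y
      rcases hcase with hdeg | hm0
      · have e : i + q = j + p := by omega
        have hav : (m : A) * v ∈ 𝒜 (j + p) := e ▸ SetLike.mul_mem_graded m.2 v.2
        have hsu : (g : A) * u ∈ 𝒜 (j + p) := SetLike.mul_mem_graded g.2 u.2
        refine ⟨V', hxV', iV, j + p, ⟨(m : A) * v, hav⟩, ⟨(g : A) * u, hsu⟩,
          fun y h => (y.1.isPrime.mem_or_mem h).elim (gnin y) (hux (iV y)), fun y => ?_⟩
        apply HomogeneousLocalization.val_injective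
        refine (hc (iV y)).trans ?_
        rw [HomogeneousLocalization.val_mk, hw' y, Localization.mk_mul]
        rfl
      · refine ⟨V', hxV', iV, 0, ⟨0, zero_mem _⟩, ⟨1, SetLike.GradedOne.one_mem⟩,
          fun y h => y.1.isPrime.ne_top ((Ideal.eq_top_iff_one _).mpr h), fun y => ?_⟩
        apply HomogeneousLocalization.val_injective
        refine (hc (iV y)).trans ?_
        rw [HomogeneousLocalization.val_mk, hw' y, hm0, Localization.mk_zero, zero_mul]
        simp only [Localization.mk_zero]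
    refine ⟨(show Γ(Proj 𝒜, W) from (⟨c, hloc⟩ : GrTwist.O (𝒜 := 𝒜) (op W))), ?_⟩
    refine sect_ext 𝒜 𝒜 n _ _ fun x => ?_
    have h1 := hsmul (show Γ(Proj 𝒜, W) from (⟨c, hloc⟩ : GrTwist.O (𝒜 := 𝒜) (op W))) x
    have h2 : (rval 𝒜 (show Γ(Proj 𝒜, W) from (⟨c, hloc⟩ : GrTwist.O (𝒜 := 𝒜) (op W))) x).val =
        (show GrTwist.Loc 𝒜 x.1 from GrMod.val t x) * Localization.mk (v : A) ⟨u, hux x⟩ := hc x
    rw [h2, mul_assoc, mul_comm (Localization.mk (v : A) _), hswap x, mul_one] at h1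
    exact h1

end Ring

section Rel

variable {Y P : Scheme.{u}} (𝒮 : RelProj.QCGrAlg Y) (p : P ⟶ Y)
  (chart : ∀ (U : Y.Opens) (hU : IsAffineOpen U),
    (((p ⁻¹ᵁ U : P.Opens) : Scheme.{u}) ≅ Proj (𝒮.deg U hU)))
  (n : ℤ) (L : P.Modules)
  (lam : ∀ (U : Y.Opens) (hU : IsAffineOpen U),
    L ⟶ (Scheme.Modules.pushforward (RelProj.emb p chart U hU)).obj
      (GrTwist.twist (𝒮.deg U hU) n))
  (hL : RelProj.IsRelTwist 𝒮 p chart n L lam)

include hL in
/-- A unit fraction of degree `n` on a chart trivialises the twisting sheaf on its domain. -/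
theorem nonempty_restrict_iso_of_unitFrac (U : Y.Opens) (hU : IsAffineOpen U)
    (V : (Proj (𝒮.deg U hU)).Opens) {a b : ℕ} (u : 𝒮.deg U hU a) (v : 𝒮.deg U hU b)
    (hab : (a : ℤ) = b + n)
    (hux : ∀ x : V, (u : 𝒮.presheaf.obj (op U)) ∉ x.1.asHomogeneousIdeal)
    (hvx : ∀ x : V, (v : 𝒮.presheaf.obj (op U)) ∉ x.1.asHomogeneousIdeal) :
    Nonempty (L.restrict (RelProj.emb p chart U hU ''ᵁ V).ι ≅
      Coh.structureModule ↑(RelProj.emb p chart U hU ''ᵁ V)) := by
  have hW₀le : RelProj.emb p chart U hU ''ᵁ V ≤ p ⁻¹ᵁ U := by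
    rintro _ ⟨z, _, rfl⟩
    have : (RelProj.emb p chart U hU).base z ∈ (RelProj.emb p chart U hU).opensRange := ⟨z, rfl⟩
    rwa [opensRange_emb] at this
  have hpre : ∀ W : P.Opens, W ≤ RelProj.emb p chart U hU ''ᵁ V →
      RelProj.emb p chart U hU ⁻¹ᵁ W ≤ V := fun W hW z hz => by
    have h1 : z ∈ RelProj.emb p chart U hU ⁻¹ᵁ (RelProj.emb p chart U hU ''ᵁ V) := hW hz
    rwa [(RelProj.emb p chart U hU).preimage_image_eq] at h1
  let τ : ∀ (W : P.Opens) (hW : W ≤ RelProj.emb p chart U hU ''ᵁ V),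
      Γ(GrMod.tilde (𝒮.deg U hU) (𝒮.deg U hU) n, RelProj.emb p chart U hU ⁻¹ᵁ W) := fun W hW =>
    fracSect (𝒮.deg U hU) (𝒮.deg U hU) n (RelProj.emb p chart U hU ⁻¹ᵁ W) hab u v
      (fun z => hvx ⟨z.1, hpre W hW z.2⟩)
  obtain ⟨σ, hsig⟩ := (hL.bijective U hU _ hW₀le).2 (τ _ le_rfl)
  refine Groth.Agent.H18.RestrictUnit.nonempty_restrict_iso_unit _ L σ fun W hW => ?_
  have hlamb := hL.bijective U hU W (hW.trans hW₀le)
  haveI : IsIso ((RelProj.emb p chart U hU).app W) :=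
    (RelProj.emb p chart U hU).isIso_app W (by rw [opensRange_emb]; exact hW.trans hW₀le)
  have heps : Function.Bijective ((RelProj.emb p chart U hU).app W) :=
    ConcreteCategory.bijective_of_isIso _
  have htau := bijective_smul_fracSect (𝒮.deg U hU) (W := RelProj.emb p chart U hU ⁻¹ᵁ W) u v hab
    (fun z => hux ⟨z.1, hpre W hW z.2⟩) (fun z => hvx ⟨z.1, hpre W hW z.2⟩)
  have hcomp : ∀ r : Γ(P, W), (lam U hU).app W (r • L.presheaf.map (homOfLE hW).op σ) =
      ((RelProj.emb p chart U hU).app W r) • τ W hW := by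
    intro r
    rw [Scheme.Modules.Hom.app_smul, app_res (lam U hU) hW σ, hsig]
    rfl
  have hb : Function.Bijective
      (fun r : Γ(P, W) => (lam U hU).app W (r • L.presheaf.map (homOfLE hW).op σ)) := by
    have e : (fun r : Γ(P, W) => (lam U hU).app W (r • L.presheaf.map (homOfLE hW).op σ)) =
        (fun a : Γ(Proj (𝒮.deg U hU), RelProj.emb p chart U hU ⁻¹ᵁ W) => a • τ W hW) ∘
          ((RelProj.emb p chart U hU).app W) := funext hcomp
    rw [e]
    exact htau.comp heps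
  exact (Function.Bijective.of_comp_iff' hlamb _).mp hb

include hL in
theorem isInvertible_of_isGenDegOne (hgen : 𝒮.IsGenDegOne) : PicF.IsInvertible L := by
  intro y
  obtain ⟨U, hU, hyU, -⟩ := Opens.isBasis_iff_nbhd.mp Y.isBasis_affineOpens
    (show p.base y ∈ (⊤ : Y.Opens) from trivial)
  obtain ⟨y', hy'⟩ : ∃ y', (RelProj.emb p chart U hU).base y' = y := by
    have : y ∈ (RelProj.emb p chart U hU).opensRange := by
      rw [opensRange_emb]; exact hyU
    exact this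
  have hgenU := RelTildeTN2.irrelevant_eq_span_of_closure (𝒮.deg U hU) (hgen U hU)
  obtain ⟨f, hf1, hfy⟩ : ∃ f ∈ 𝒮.deg U hU 1, f ∉ y'.asHomogeneousIdeal := by
    by_contra hcon
    push Not at hcon
    apply y'.not_irrelevant_le
    intro a ha
    have h1 : a ∈ Ideal.span ((𝒮.deg U hU 1 : AddSubgroup _) : Set (𝒮.presheaf.obj (op U))) := by
      rw [← hgenU]; exact ha
    exact (Ideal.span_le (I := y'.asHomogeneousIdeal.toIdeal)).mpr (fun b hb => hcon b hb) h1
  have hpow : ∀ k : ℕ, f ^ k ∈ 𝒮.deg U hU k := fun k => by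
    have := SetLike.pow_mem_graded k hf1
    rwa [smul_eq_mul, mul_one] at this
  have hpq : ((n.toNat : ℕ) : ℤ) = ((-n).toNat : ℕ) + n := by
    have := Int.toNat_sub_toNat_neg n
    omega
  have hfx : ∀ (k : ℕ) (x : (Proj.basicOpen (𝒮.deg U hU) f : (Proj (𝒮.deg U hU)).Opens)),
      f ^ k ∉ x.1.asHomogeneousIdeal := fun k x h =>
    ((ProjectiveSpectrum.mem_basicOpen (𝒮.deg U hU) f x.1).mp x.2)
      (x.1.isPrime.mem_of_pow_mem _ h)
  refine ⟨RelProj.emb p chart U hU ''ᵁ Proj.basicOpen (𝒮.deg U hU) f,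
    ⟨y', (ProjectiveSpectrum.mem_basicOpen (𝒮.deg U hU) f y').mpr hfy, hy'⟩, ?_⟩
  exact nonempty_restrict_iso_of_unitFrac 𝒮 p chart n L lam hL U hU
    (Proj.basicOpen (𝒮.deg U hU) f) ⟨f ^ n.toNat, hpow _⟩ ⟨f ^ (-n).toNat, hpow _⟩ hpq
    (hfx _) (hfx _)

end Rel

end Groth.Agent.H41.RelTwistInv
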