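import Groth.Agent.H41.RelTwistInv2
import Groth.Agent.H22.GenLocus
import Mathlib

/-!
# The open `X_f` of a relative `Proj`: trivialisation of `O(nd)` over `X_f`, and `X_f` as the
non-vanishing locus of the section `α_d(f)` of `O(d)`
-/

set_option autoImplicit false
set_option linter.style.haveILetI false
universe u

open CategoryTheory CategoryTheory.Limits AlgebraicGeometry HomogeneousIdeal TopologicalSpace Opposite
open Groth.Agent.H8 Groth.Agent.H41.GrModQCoh Groth.Agent.H41.GrModMaps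
  Groth.Agent.H41.RelTildeMaps

namespace Groth.Agent.H41.RelTwistXf

/-- In the localization at a prime, `c * (a/1) ≠ b/1` when `a` lies in the prime and `b` does not. -/
theorem mul_mk_ne_mk {A : Type*} [CommRing A] (I : Ideal A) [hI : I.IsPrime]
    (c : Localization.AtPrime I) (a b : A) (ha : a ∈ I) (hb : b ∉ I)
    (h1 : (1 : A) ∈ I.primeCompl) :
    c * Localization.mk a ⟨1, h1⟩ ≠ Localization.mk b ⟨1, h1⟩ := by
  intro h
  have e1 : ∀ z : A, (Localization.mk z ⟨1, h1⟩ : Localization.AtPrime I) =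
      algebraMap A (Localization.AtPrime I) z := fun z => Localization.mk_one_eq_algebraMap z
  have hu : IsUnit (Localization.mk b ⟨1, h1⟩ : Localization.AtPrime I) := by
    rw [e1]
    exact IsLocalization.map_units (Localization.AtPrime I) (⟨b, hb⟩ : I.primeCompl)
  rw [← h] at hu
  have hu' := isUnit_of_mul_isUnit_right hu
  rw [e1] at hu'
  exact ((IsLocalization.AtPrime.isUnit_to_map_iff (Localization.AtPrime I) I a).mp hu') ha

set_option backward.isDefEq.respectTransparency false in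
/-- If `s` is a global family of sections of `M` such that `r ↦ r • s_V` is bijective on every
member of a basis, then `M` is isomorphic to the structure sheaf. -/
theorem nonempty_iso_unit_of_sections_basis {Y : Scheme.{u}} (M : Y.Modules)
    (s : SheafOfModules.sections (R := Y.ringCatSheaf) M) {ι : Type*} (B : ι → Y.Opens)
    (hB : Opens.IsBasis (Set.range B))
    (h : ∀ i, Function.Bijective
      (fun r : Γ(Y, B i) => r • Groth.Agent.H18.RestrictUnit.sec M s (B i))) :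
    Nonempty (M ≅ SheafOfModules.unit Y.ringCatSheaf) := by
  let φ' : SheafOfModules.unit Y.ringCatSheaf ⟶ (M : SheafOfModules Y.ringCatSheaf) :=
    (SheafOfModules.unitHomEquiv (R := Y.ringCatSheaf) M).symm s
  have hs : SheafOfModules.unitHomEquiv (R := Y.ringCatSheaf) M φ' = s :=
    Equiv.apply_symm_apply _ _
  let φ : (SheafOfModules.unit Y.ringCatSheaf : Y.Modules) ⟶ M := φ'
  have key : ∀ (V : Y.Opens) (r : Γ(Y, V)),
      (φ'.val.app (op V)).hom r = r • Groth.Agent.H18.RestrictUnit.sec M s V := by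
    intro V r
    have h1 := (φ'.val.app (op V)).hom.map_smul r (1 : Γ(Y, V))
    have h2 : (r • (1 : Γ(Y, V)) : Γ(Y, V)) = r := mul_one r
    have h3 : (φ'.val.app (op V)).hom (1 : Γ(Y, V)) = Groth.Agent.H18.RestrictUnit.sec M s V := by
      rw [← hs]; rfl
    rw [← h3]
    refine Eq.trans ?_ h1
    exact congrArg _ h2.symm
  have : IsIso φ := by
    refine isIso_of_bijective_basis φ B hB fun i => ?_
    have he : (⇑(ConcreteCategory.hom (Scheme.Modules.Hom.app φ (B i))) :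
        Γ(Y, B i) → Γ(M, B i)) =
        fun r : Γ(Y, B i) => r • Groth.Agent.H18.RestrictUnit.sec M s (B i) := by
      funext r
      exact key (B i) r
    exact he ▸ h i
  exact ⟨(asIso φ).symm⟩

set_option backward.isDefEq.respectTransparency false in
/-- If `σ` is a section of `N` over `U` such that `r ↦ r • σ|_W` is bijective for every open
`W ≤ U` small with respect to a cover of `U`, then `N|_U` is isomorphic to the structure sheaf. -/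
theorem nonempty_restrict_iso_unit_of_cover {X : Scheme.{u}} (U : X.Opens) (N : X.Modules)
    (σ : Γ(N, U)) (S : X.Opens → Prop) (hS : ∀ x ∈ U, ∃ A, S A ∧ x ∈ A)
    (h : ∀ (W : X.Opens) (hW : W ≤ U), (∃ A, S A ∧ W ≤ A) → Function.Bijective
      (fun r : Γ(X, W) => r • N.presheaf.map (homOfLE hW).op σ)) :
    Nonempty (N.restrict U.ι ≅ SheafOfModules.unit (↑U : Scheme.{u}).ringCatSheaf) := by
  refine nonempty_iso_unit_of_sections_basis (N.restrict U.ι)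
    (Groth.Agent.H18.RestrictUnit.restrictSections U N σ)
    (ι := {V : (↑U : Scheme.{u}).Opens // ∃ A, S A ∧ U.ι ''ᵁ V ≤ A}) (fun V => V.1) ?_ ?_
  · rw [Opens.isBasis_iff_nbhd]
    intro V' x hx
    obtain ⟨A, hA, hxA⟩ := hS (U.ι.base x) (U.ι_image_le ⊤ ⟨x, trivial, rfl⟩)
    have hle : U.ι ''ᵁ (V' ⊓ U.ι ⁻¹ᵁ A) ≤ A := by
      rintro _ ⟨z, hz, rfl⟩
      exact hz.2
    exact ⟨V' ⊓ U.ι ⁻¹ᵁ A, ⟨⟨V' ⊓ U.ι ⁻¹ᵁ A, A, hA, hle⟩, rfl⟩, ⟨hx, hxA⟩, inf_le_left⟩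
  · rintro ⟨V, A, hA, hVA⟩
    have hb := h (U.ι ''ᵁ V) (U.ι_image_le V) ⟨A, hA, hVA⟩
    have he : Function.Bijective (⇑(ConcreteCategory.hom (U.ι.appIso V).inv)) :=
      ConcreteCategory.bijective_of_isIso _
    exact hb.comp he

section Rel

variable {Y P : Scheme.{u}} (𝒮 : RelProj.QCGrAlg Y) (p : P ⟶ Y)
  (chart : ∀ (U : Y.Opens) (hU : IsAffineOpen U),
    (((p ⁻¹ᵁ U : P.Opens) : Scheme.{u}) ≅ Proj (𝒮.deg U hU)))

theorem chart_hom_comp_emb (U : Y.Opens) (hU : IsAffineOpen U) :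
    (chart U hU).hom ≫ RelProj.emb p chart U hU = (p ⁻¹ᵁ U).ι := by
  unfold RelProj.emb
  rw [Iso.hom_inv_id_assoc]

theorem emb_image_eq (U : Y.Opens) (hU : IsAffineOpen U) (D : (Proj (𝒮.deg U hU)).Opens) :
    (p ⁻¹ᵁ U).ι ''ᵁ ((chart U hU).hom ⁻¹ᵁ D) = RelProj.emb p chart U hU ''ᵁ D := by
  ext x
  constructor
  · rintro ⟨z, hz, rfl⟩
    refine ⟨(chart U hU).hom.base z, hz, ?_⟩
    exact congrArg (fun φ : (↑(p ⁻¹ᵁ U) : Scheme.{u}) ⟶ P => φ.base z)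
      (chart_hom_comp_emb 𝒮 p chart U hU)
  · rintro ⟨y, hy, rfl⟩
    have e : (chart U hU).hom.base ((chart U hU).inv.base y) = y :=
      congrArg (fun φ : Proj (𝒮.deg U hU) ⟶ Proj (𝒮.deg U hU) => φ.base y)
        (chart U hU).inv_hom_id
    refine ⟨(chart U hU).inv.base y, ?_, rfl⟩
    show (chart U hU).hom.base ((chart U hU).inv.base y) ∈ D
    rw [e]
    exact hy

/-- The restriction of a global section of `𝒮` to an open. -/
abbrev resTop (f : 𝒮.presheaf.obj (op ⊤)) (U : Y.Opens) : 𝒮.presheaf.obj (op U) :=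
  (𝒮.presheaf.map (homOfLE (le_top : U ≤ ⊤)).op).hom f

theorem res_resTop (f : 𝒮.presheaf.obj (op ⊤)) {U D : Y.Opens} (h : D ≤ U) :
    (𝒮.presheaf.map (homOfLE h).op).hom (resTop 𝒮 f U) = resTop 𝒮 f D := by
  have h1 : 𝒮.presheaf.map (homOfLE (le_top : U ≤ ⊤)).op ≫ 𝒮.presheaf.map (homOfLE h).op =
      𝒮.presheaf.map (homOfLE (le_top : D ≤ ⊤)).op := by
    rw [← Functor.map_comp]; rfl
  exact congrArg (fun k => k.hom f) h1

variable (n : ℤ) (L : P.Modules)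
  (lam : ∀ (U : Y.Opens) (hU : IsAffineOpen U),
    L ⟶ (Scheme.Modules.pushforward (RelProj.emb p chart U hU)).obj
      (GrTwist.twist (𝒮.deg U hU) n))

/-- The section `σ` of `L` over `W` reads `u / v` at every point of the chart over `U`. -/
def ReadsFrac (U : Y.Opens) (hU : IsAffineOpen U) (W : P.Opens) (σ : Γ(L, W))
    (u v : 𝒮.presheaf.obj (op U)) : Prop :=
  ∀ (x : (RelProj.emb p chart U hU ⁻¹ᵁ W : (Proj (𝒮.deg U hU)).Opens))
    (hv : v ∉ x.1.asHomogeneousIdeal),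
    GrTwist.val (V := RelProj.emb p chart U hU ⁻¹ᵁ W) ((lam U hU).app W σ) x =
      Localization.mk u ⟨v, hv⟩

theorem ReadsFrac.res {U : Y.Opens} {hU : IsAffineOpen U} {W W' : P.Opens} (hW : W' ≤ W)
    {σ : Γ(L, W)} {u v : 𝒮.presheaf.obj (op U)}
    (h : ReadsFrac 𝒮 p chart n L lam U hU W σ u v) :
    ReadsFrac 𝒮 p chart n L lam U hU W' (L.presheaf.map (homOfLE hW).op σ) u v := by
  intro x hv
  have e := app_res (lam U hU) hW σ
  have e2 : GrTwist.val (V := RelProj.emb p chart U hU ⁻¹ᵁ W')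
      ((lam U hU).app W' (L.presheaf.map (homOfLE hW).op σ)) x =
      GrTwist.val (V := RelProj.emb p chart U hU ⁻¹ᵁ W) ((lam U hU).app W σ) ⟨x.1, hW x.2⟩ := by
    rw [e]; rfl
  exact e2.trans (h ⟨x.1, hW x.2⟩ hv)

theorem ReadsFrac.app_eq {U : Y.Opens} {hU : IsAffineOpen U} {W : P.Opens} {σ : Γ(L, W)}
    {a b : ℕ} (u : 𝒮.deg U hU a) (v : 𝒮.deg U hU b) (hab : (a : ℤ) = b + n)
    (hvx : ∀ x : (RelProj.emb p chart U hU ⁻¹ᵁ W : (Proj (𝒮.deg U hU)).Opens),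
      (v : 𝒮.presheaf.obj (op U)) ∉ x.1.asHomogeneousIdeal)
    (h : ReadsFrac 𝒮 p chart n L lam U hU W σ u v) :
    (lam U hU).app W σ = fracSect (𝒮.deg U hU) (𝒮.deg U hU) n
      (RelProj.emb p chart U hU ⁻¹ᵁ W) hab u v hvx :=
  sect_ext (𝒮.deg U hU) (𝒮.deg U hU) n (W := RelProj.emb p chart U hU ⁻¹ᵁ W) _ _
    fun x => h x (hvx x)

theorem ReadsFrac.unique (hL : RelProj.IsRelTwist 𝒮 p chart n L lam)
    {U : Y.Opens} {hU : IsAffineOpen U} {W : P.Opens} (hW : W ≤ p ⁻¹ᵁ U) {σ σ' : Γ(L, W)}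
    {u v : 𝒮.presheaf.obj (op U)}
    (hvx : ∀ x : (RelProj.emb p chart U hU ⁻¹ᵁ W : (Proj (𝒮.deg U hU)).Opens),
      v ∉ x.1.asHomogeneousIdeal)
    (h : ReadsFrac 𝒮 p chart n L lam U hU W σ u v)
    (h' : ReadsFrac 𝒮 p chart n L lam U hU W σ' u v) : σ = σ' := by
  apply (hL.bijective U hU W hW).1
  exact sect_ext (𝒮.deg U hU) (𝒮.deg U hU) n (W := RelProj.emb p chart U hU ⁻¹ᵁ W) _ _
    fun x => (h x (hvx x)).trans (h' x (hvx x)).symm

theorem exists_readsFrac (hL : RelProj.IsRelTwist 𝒮 p chart n L lam)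
    (U : Y.Opens) (hU : IsAffineOpen U) (W : P.Opens) (hW : W ≤ p ⁻¹ᵁ U)
    {a b : ℕ} (u : 𝒮.deg U hU a) (v : 𝒮.deg U hU b) (hab : (a : ℤ) = b + n)
    (hvx : ∀ x : (RelProj.emb p chart U hU ⁻¹ᵁ W : (Proj (𝒮.deg U hU)).Opens),
      (v : 𝒮.presheaf.obj (op U)) ∉ x.1.asHomogeneousIdeal) :
    ∃ σ : Γ(L, W), ReadsFrac 𝒮 p chart n L lam U hU W σ u v := by
  obtain ⟨σ, hσ⟩ := (hL.bijective U hU W hW).2
    (fracSect (𝒮.deg U hU) (𝒮.deg U hU) n (RelProj.emb p chart U hU ⁻¹ᵁ W) hab u v hvx)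
  refine ⟨σ, fun x hv => ?_⟩
  have := congrArg (fun τ : Γ(GrMod.tilde (𝒮.deg U hU) (𝒮.deg U hU) n,
    RelProj.emb p chart U hU ⁻¹ᵁ W) => GrMod.val τ x) hσ
  exact this

theorem ReadsFrac.bijective_smul (hL : RelProj.IsRelTwist 𝒮 p chart n L lam)
    {U : Y.Opens} {hU : IsAffineOpen U} {W : P.Opens} (hW : W ≤ p ⁻¹ᵁ U) {σ : Γ(L, W)}
    {a b : ℕ} (u : 𝒮.deg U hU a) (v : 𝒮.deg U hU b) (hab : (a : ℤ) = b + n)
    (hux : ∀ x : (RelProj.emb p chart U hU ⁻¹ᵁ W : (Proj (𝒮.deg U hU)).Opens),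
      (u : 𝒮.presheaf.obj (op U)) ∉ x.1.asHomogeneousIdeal)
    (hvx : ∀ x : (RelProj.emb p chart U hU ⁻¹ᵁ W : (Proj (𝒮.deg U hU)).Opens),
      (v : 𝒮.presheaf.obj (op U)) ∉ x.1.asHomogeneousIdeal)
    (h : ReadsFrac 𝒮 p chart n L lam U hU W σ u v) :
    Function.Bijective (fun r : Γ(P, W) => r • σ) := by
  have hσ := ReadsFrac.app_eq 𝒮 p chart n L lam u v hab hvx h
  have hlamb := hL.bijective U hU W hW
  haveI : IsIso ((RelProj.emb p chart U hU).app W) :=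
    (RelProj.emb p chart U hU).isIso_app W (by rw [opensRange_emb]; exact hW)
  have heps : Function.Bijective ((RelProj.emb p chart U hU).app W) :=
    ConcreteCategory.bijective_of_isIso _
  have htau := RelTwistInv.bijective_smul_fracSect (𝒮.deg U hU)
    (W := RelProj.emb p chart U hU ⁻¹ᵁ W) u v hab hux hvx
  have hcomp : ∀ r : Γ(P, W), (lam U hU).app W (r • σ) =
      ((RelProj.emb p chart U hU).app W r) • fracSect (𝒮.deg U hU) (𝒮.deg U hU) n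
        (RelProj.emb p chart U hU ⁻¹ᵁ W) hab u v hvx := by
    intro r
    rw [Scheme.Modules.Hom.app_smul, hσ]
    rfl
  have hb : Function.Bijective (fun r : Γ(P, W) => (lam U hU).app W (r • σ)) := by
    have e : (fun r : Γ(P, W) => (lam U hU).app W (r • σ)) =
        (fun a : Γ(Proj (𝒮.deg U hU), RelProj.emb p chart U hU ⁻¹ᵁ W) =>
          a • fracSect (𝒮.deg U hU) (𝒮.deg U hU) n
            (RelProj.emb p chart U hU ⁻¹ᵁ W) hab u v hvx) ∘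
          ((RelProj.emb p chart U hU).app W) := funext hcomp
    rw [e]
    exact htau.comp heps
  exact (Function.Bijective.of_comp_iff' hlamb _).mp hb

/-- Values of `r • σ` on a chart. -/
theorem val_lam_smul (U : Y.Opens) (hU : IsAffineOpen U) (W : P.Opens) (r : Γ(P, W))
    (σ : Γ(L, W)) (x : (RelProj.emb p chart U hU ⁻¹ᵁ W : (Proj (𝒮.deg U hU)).Opens)) :
    GrTwist.val (V := RelProj.emb p chart U hU ⁻¹ᵁ W) ((lam U hU).app W (r • σ)) x =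
      (rval (𝒮.deg U hU) ((RelProj.emb p chart U hU).app W r) x).val *
        GrTwist.val (V := RelProj.emb p chart U hU ⁻¹ᵁ W) ((lam U hU).app W σ) x := by
  have e1 := congrArg (fun τ : Γ(GrMod.tilde (𝒮.deg U hU) (𝒮.deg U hU) n,
    RelProj.emb p chart U hU ⁻¹ᵁ W) => GrMod.val τ x)
    (Scheme.Modules.Hom.app_smul (lam U hU) r σ)
  exact e1.trans (val_smul (𝒮.deg U hU) (𝒮.deg U hU) n
    ((RelProj.emb p chart U hU).app W r) ((lam U hU).app W σ) x)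

theorem ReadsFrac.basicOpen (hL : RelProj.IsRelTwist 𝒮 p chart n L lam)
    (hP : RelProj.IsRelProj 𝒮 p chart) {U : Y.Opens} {hU : IsAffineOpen U} (r : Γ(Y, U))
    {W : P.Opens} {σ : Γ(L, W)} {u v : 𝒮.presheaf.obj (op U)}
    (h : ReadsFrac 𝒮 p chart n L lam U hU W σ u v) :
    ReadsFrac 𝒮 p chart n L lam (Y.basicOpen r) (hU.basicOpen r) W σ
      ((𝒮.presheaf.map (homOfLE (Y.basicOpen_le r)).op).hom u)
      ((𝒮.presheaf.map (homOfLE (Y.basicOpen_le r)).op).hom v) := by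
  rintro ⟨y, hy⟩ hv
  have hy' : (RelProj.emb p chart U hU).base (ProjectiveSpectrum.comap
      (𝒮.res hU (hU.basicOpen r) (Y.basicOpen_le r)) (𝒮.irrelevant_le_map U hU r) y) ∈ W := by
    have e := congrArg (fun φ : Proj (𝒮.deg (Y.basicOpen r) (hU.basicOpen r)) ⟶ P => φ.base y)
      (RelProj.map_res_emb hP U hU r)
    have e' : (RelProj.emb p chart U hU).base (ProjectiveSpectrum.comap
        (𝒮.res hU (hU.basicOpen r) (Y.basicOpen_le r)) (𝒮.irrelevant_le_map U hU r) y) =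
        (RelProj.emb p chart (Y.basicOpen r) (hU.basicOpen r)).base y := e
    rw [e']; exact hy
  have e1 := hL.compat U hU r W σ y hy hy'
  have hv' : v ∉ (ProjectiveSpectrum.comap (𝒮.res hU (hU.basicOpen r) (Y.basicOpen_le r))
      (𝒮.irrelevant_le_map U hU r) y).asHomogeneousIdeal := fun h' => hv h'
  have e2 := h ⟨_, hy'⟩ hv'
  rw [e2, GrTwist.locMap_mk] at e1
  exact e1

theorem ReadsFrac.of_eq_basicOpen (hL : RelProj.IsRelTwist 𝒮 p chart n L lam)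
    (hP : RelProj.IsRelProj 𝒮 p chart) {U : Y.Opens} {hU : IsAffineOpen U} (r : Γ(Y, U))
    (D : Y.Opens) (hD : IsAffineOpen D) (e : D = Y.basicOpen r) (hDU : D ≤ U)
    {W : P.Opens} {σ : Γ(L, W)} {u v : 𝒮.presheaf.obj (op U)}
    (h : ReadsFrac 𝒮 p chart n L lam U hU W σ u v) :
    ReadsFrac 𝒮 p chart n L lam D hD W σ
      ((𝒮.presheaf.map (homOfLE hDU).op).hom u) ((𝒮.presheaf.map (homOfLE hDU).op).hom v) := by
  subst e
  exact ReadsFrac.basicOpen 𝒮 p chart n L lam hL hP r h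

section Xf

variable {d : ℕ} (f : 𝒮.presheaf.obj (op ⊤)) (Xf : P.Opens)
  (hXf : ∀ (U : Y.Opens) (hU : IsAffineOpen U),
    Xf ⊓ p ⁻¹ᵁ U = (p ⁻¹ᵁ U).ι ''ᵁ ((chart U hU).hom ⁻¹ᵁ
      Proj.basicOpen (𝒮.deg U hU) ((𝒮.presheaf.map (homOfLE (le_top : U ≤ ⊤)).op).hom f)))

include hXf in
theorem not_mem_of_le (U : Y.Opens) (hU : IsAffineOpen U) (W : P.Opens)
    (hW : W ≤ Xf ⊓ p ⁻¹ᵁ U)
    (x : (RelProj.emb p chart U hU ⁻¹ᵁ W : (Proj (𝒮.deg U hU)).Opens)) :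
    resTop 𝒮 f U ∉ x.1.asHomogeneousIdeal := by
  have h1 : (RelProj.emb p chart U hU).base x.1 ∈ Xf ⊓ p ⁻¹ᵁ U := hW x.2
  rw [hXf U hU, emb_image_eq 𝒮 p chart U hU] at h1
  have h2 : x.1 ∈ RelProj.emb p chart U hU ⁻¹ᵁ (RelProj.emb p chart U hU ''ᵁ
      Proj.basicOpen (𝒮.deg U hU) (resTop 𝒮 f U)) := h1
  rw [(RelProj.emb p chart U hU).preimage_image_eq] at h2
  exact (ProjectiveSpectrum.mem_basicOpen (𝒮.deg U hU) _ x.1).mp h2

include hXf in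
theorem pow_not_mem_of_le (U : Y.Opens) (hU : IsAffineOpen U) (W : P.Opens)
    (hW : W ≤ Xf ⊓ p ⁻¹ᵁ U)
    (x : (RelProj.emb p chart U hU ⁻¹ᵁ W : (Proj (𝒮.deg U hU)).Opens)) (k : ℕ) :
    (resTop 𝒮 f U) ^ k ∉ x.1.asHomogeneousIdeal := fun h =>
  not_mem_of_le 𝒮 p chart f Xf hXf U hU W hW x (x.1.isPrime.mem_of_pow_mem k h)

include hXf in
/-- The fraction `f^a / f^b` of degree `n` glues to a section of `O(n)` over `X_f`. -/
theorem exists_global_section (hL : RelProj.IsRelTwist 𝒮 p chart n L lam)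
    (hP : RelProj.IsRelProj 𝒮 p chart)
    (hf : ∀ (U : Y.Opens) (hU : IsAffineOpen U), resTop 𝒮 f U ∈ 𝒮.deg U hU d)
    {a b : ℕ} (hab : ((a • d : ℕ) : ℤ) = ((b • d : ℕ) : ℤ) + n) :
    ∃ σ : Γ(L, Xf), ∀ (U : Y.Opens) (hU : IsAffineOpen U),
      ReadsFrac 𝒮 p chart n L lam U hU (Xf ⊓ p ⁻¹ᵁ U)
        (L.presheaf.map (homOfLE (inf_le_left : Xf ⊓ p ⁻¹ᵁ U ≤ Xf)).op σ)
        ((resTop 𝒮 f U) ^ a) ((resTop 𝒮 f U) ^ b) := by
  classical
  have hpow : ∀ (k : ℕ) (U : Y.Opens) (hU : IsAffineOpen U),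
      (resTop 𝒮 f U) ^ k ∈ 𝒮.deg U hU (k • d) := fun k U hU =>
    SetLike.pow_mem_graded k (hf U hU)
  have hex : ∀ U : {U : Y.Opens // IsAffineOpen U}, ∃ σ : Γ(L, Xf ⊓ p ⁻¹ᵁ U.1),
      ReadsFrac 𝒮 p chart n L lam U.1 U.2 (Xf ⊓ p ⁻¹ᵁ U.1) σ
        ((resTop 𝒮 f U.1) ^ a) ((resTop 𝒮 f U.1) ^ b) := by
    intro U
    exact exists_readsFrac 𝒮 p chart n L lam hL U.1 U.2 _ inf_le_right
      (⟨_, hpow a U.1 U.2⟩ : 𝒮.deg U.1 U.2 (a • d)) (⟨_, hpow b U.1 U.2⟩ : 𝒮.deg U.1 U.2 (b • d))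
      hab (fun x => pow_not_mem_of_le 𝒮 p chart f Xf hXf U.1 U.2 _ le_rfl x b)
  choose τ hτ using hex
  have hcompat : TopCat.Presheaf.IsCompatible L.presheaf
      (fun U : {U : Y.Opens // IsAffineOpen U} => Xf ⊓ p ⁻¹ᵁ U.1) τ := by
    intro U V
    change L.presheaf.map (homOfLE (inf_le_left :
        (Xf ⊓ p ⁻¹ᵁ U.1) ⊓ (Xf ⊓ p ⁻¹ᵁ V.1) ≤ Xf ⊓ p ⁻¹ᵁ U.1)).op (τ U) =
      L.presheaf.map (homOfLE (inf_le_right :
        (Xf ⊓ p ⁻¹ᵁ U.1) ⊓ (Xf ⊓ p ⁻¹ᵁ V.1) ≤ Xf ⊓ p ⁻¹ᵁ V.1)).op (τ V)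
    refine section_eq_of_cover L _ _ fun x hx => ?_
    obtain ⟨r, r', hrr', hxr⟩ := exists_basicOpen_le_affine_inter U.2 V.2 (p.base x)
      ⟨hx.1.2, hx.2.2⟩
    have hDU : Y.basicOpen r ≤ U.1 := Y.basicOpen_le r
    have hDV : Y.basicOpen r ≤ V.1 := by rw [hrr']; exact Y.basicOpen_le r'
    have hle1 : Xf ⊓ p ⁻¹ᵁ Y.basicOpen r ≤ Xf ⊓ p ⁻¹ᵁ U.1 := fun z hz => ⟨hz.1, hDU hz.2⟩
    have hle2 : Xf ⊓ p ⁻¹ᵁ Y.basicOpen r ≤ Xf ⊓ p ⁻¹ᵁ V.1 := fun z hz => ⟨hz.1, hDV hz.2⟩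
    refine ⟨Xf ⊓ p ⁻¹ᵁ Y.basicOpen r, le_inf hle1 hle2, ⟨hx.1.1, hxr⟩, ?_⟩
    rw [res_res, res_res]
    have ea : ∀ (k : ℕ) {U' : Y.Opens} (hDU' : Y.basicOpen r ≤ U'),
        (𝒮.presheaf.map (homOfLE hDU').op).hom ((resTop 𝒮 f U') ^ k) =
          (resTop 𝒮 f (Y.basicOpen r)) ^ k := by
      intro k U' hDU'
      rw [map_pow, res_resTop]
    have h1 := ReadsFrac.of_eq_basicOpen 𝒮 p chart n L lam hL hP r (Y.basicOpen r)
      (U.2.basicOpen r) rfl hDU (ReadsFrac.res 𝒮 p chart n L lam hle1 (hτ U))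
    have h2 := ReadsFrac.of_eq_basicOpen 𝒮 p chart n L lam hL hP r' (Y.basicOpen r)
      (U.2.basicOpen r) hrr' hDV (ReadsFrac.res 𝒮 p chart n L lam hle2 (hτ V))
    rw [ea a hDU, ea b hDU] at h1
    rw [ea a hDV, ea b hDV] at h2
    exact ReadsFrac.unique 𝒮 p chart n L lam hL inf_le_right
      (fun x => pow_not_mem_of_le 𝒮 p chart f Xf hXf (Y.basicOpen r) (U.2.basicOpen r) _ le_rfl x b)
      h1 h2
  have hcover : Xf ≤ iSup (fun U : {U : Y.Opens // IsAffineOpen U} => Xf ⊓ p ⁻¹ᵁ U.1) := by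
    intro x hx
    obtain ⟨U, hU, hxU, -⟩ := Opens.isBasis_iff_nbhd.mp Y.isBasis_affineOpens
      (show p.base x ∈ (⊤ : Y.Opens) from trivial)
    exact Opens.mem_iSup.mpr ⟨⟨U, hU⟩, hx, hxU⟩
  obtain ⟨σ, hσ, -⟩ := TopCat.Sheaf.existsUnique_gluing' (F := ⟨L.presheaf, L.isSheaf⟩)
    (fun U : {U : Y.Opens // IsAffineOpen U} => Xf ⊓ p ⁻¹ᵁ U.1) Xf
    (fun U => homOfLE inf_le_left) hcover _ hcompat
  refine ⟨σ, fun U hU => ?_⟩
  have h1 : L.presheaf.map (homOfLE (inf_le_left : Xf ⊓ p ⁻¹ᵁ U ≤ Xf)).op σ = τ ⟨U, hU⟩ :=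
    hσ ⟨U, hU⟩
  rw [h1]
  exact hτ ⟨U, hU⟩

include hXf in
/-- `O(n)` is trivial over `X_f` whenever `n = (a - b) d`. -/
theorem nonempty_restrict_iso (hL : RelProj.IsRelTwist 𝒮 p chart n L lam)
    (hP : RelProj.IsRelProj 𝒮 p chart)
    (hf : ∀ (U : Y.Opens) (hU : IsAffineOpen U), resTop 𝒮 f U ∈ 𝒮.deg U hU d)
    {a b : ℕ} (hab : ((a • d : ℕ) : ℤ) = ((b • d : ℕ) : ℤ) + n) :
    Nonempty (L.restrict Xf.ι ≅ Coh.structureModule (Xf : Scheme.{u})) := by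
  obtain ⟨σ, hσ⟩ := exists_global_section 𝒮 p chart n L lam f Xf hXf hL hP hf hab
  have hpow : ∀ (k : ℕ) (U : Y.Opens) (hU : IsAffineOpen U),
      (resTop 𝒮 f U) ^ k ∈ 𝒮.deg U hU (k • d) := fun k U hU =>
    SetLike.pow_mem_graded k (hf U hU)
  refine nonempty_restrict_iso_unit_of_cover Xf L σ
    (fun A => ∃ (U : Y.Opens), IsAffineOpen U ∧ A = p ⁻¹ᵁ U) ?_ ?_
  · intro x _
    obtain ⟨U, hU, hxU, -⟩ := Opens.isBasis_iff_nbhd.mp Y.isBasis_affineOpens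
      (show p.base x ∈ (⊤ : Y.Opens) from trivial)
    exact ⟨p ⁻¹ᵁ U, ⟨U, hU, rfl⟩, hxU⟩
  · rintro W hW ⟨_, ⟨U, hU, rfl⟩, hWU⟩
    have hW' : W ≤ Xf ⊓ p ⁻¹ᵁ U := le_inf hW hWU
    have h1 := ReadsFrac.res 𝒮 p chart n L lam hW' (hσ U hU)
    rw [res_res] at h1
    exact ReadsFrac.bijective_smul 𝒮 p chart n L lam hL hWU
      (⟨_, hpow a U hU⟩ : 𝒮.deg U hU (a • d)) (⟨_, hpow b U hU⟩ : 𝒮.deg U hU (b • d)) hab
      (fun x => pow_not_mem_of_le 𝒮 p chart f Xf hXf U hU W hW' x a)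
      (fun x => pow_not_mem_of_le 𝒮 p chart f Xf hXf U hU W hW' x b) h1

end Xf

end Rel

section GenLocus

variable {Y P : Scheme.{u}} (𝒮 : RelProj.QCGrAlg Y) (p : P ⟶ Y)
  (chart : ∀ (U : Y.Opens) (hU : IsAffineOpen U),
    (((p ⁻¹ᵁ U : P.Opens) : Scheme.{u}) ≅ Proj (𝒮.deg U hU)))

/-- `X_f` is the locus where the section `α_d(f)` of `O(d)` generates. -/
theorem eq_genLocus (_hP : RelProj.IsRelProj 𝒮 p chart) (hgen : 𝒮.IsGenDegOne) {d : ℕ}
    (f : 𝒮.presheaf.obj (op ⊤))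
    (hf : ∀ (U : Y.Opens) (hU : IsAffineOpen U), resTop 𝒮 f U ∈ 𝒮.deg U hU d)
    (Xf : P.Opens)
    (hXf : ∀ (U : Y.Opens) (hU : IsAffineOpen U),
      Xf ⊓ p ⁻¹ᵁ U = (p ⁻¹ᵁ U).ι ''ᵁ ((chart U hU).hom ⁻¹ᵁ
        Proj.basicOpen (𝒮.deg U hU) ((𝒮.presheaf.map (homOfLE (le_top : U ≤ ⊤)).op).hom f)))
    (L : P.Modules)
    (lam : ∀ (U : Y.Opens) (hU : IsAffineOpen U),
      L ⟶ (Scheme.Modules.pushforward (RelProj.emb p chart U hU)).obj
        (GrTwist.twist (𝒮.deg U hU) (d : ℤ)))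
    (hL : RelProj.IsRelTwist 𝒮 p chart (d : ℤ) L lam) (s : Coh.structureModule P ⟶ L)
    (hs : ∀ (U : Y.Opens) (hU : IsAffineOpen U) (y : Proj (𝒮.deg U hU)),
      GrTwist.val (V := RelProj.emb p chart U hU ⁻¹ᵁ ⊤)
        ((lam U hU).app ⊤ (s.app ⊤ (show Γ(Coh.structureModule P, ⊤) from (1 : Γ(P, ⊤)))))
          ⟨y, Set.mem_univ _⟩ =
        Localization.mk ((𝒮.presheaf.map (homOfLE (le_top : U ≤ ⊤)).op).hom f) 1) :
    Xf = CohB1.genLocus L s := by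
  have hσ : ∀ (U : Y.Opens) (hU : IsAffineOpen U), ReadsFrac 𝒮 p chart (d : ℤ) L lam U hU ⊤
      (s.app ⊤ (show Γ(Coh.structureModule P, ⊤) from (1 : Γ(P, ⊤)))) (resTop 𝒮 f U) 1 :=
    fun U hU x hv => hs U hU x.1
  have hsapp : ∀ (V : P.Opens) (r : Γ(P, V)),
      s.app V (show Γ(Coh.structureModule P, V) from r) =
        r • L.presheaf.map (homOfLE (le_top : V ≤ ⊤)).op
          (s.app ⊤ (show Γ(Coh.structureModule P, ⊤) from (1 : Γ(P, ⊤)))) := by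
    intro V r
    have h1 : s.app V (show Γ(Coh.structureModule P, V) from (1 : Γ(P, V))) =
        L.presheaf.map (homOfLE (le_top : V ≤ ⊤)).op
          (s.app ⊤ (show Γ(Coh.structureModule P, ⊤) from (1 : Γ(P, ⊤)))) := by
      rw [← app_res s (le_top : V ≤ ⊤)]
      exact congrArg (s.app V)
        (map_one (P.presheaf.map (homOfLE (le_top : V ≤ ⊤)).op).hom).symm
    have h3 := Scheme.Modules.Hom.app_smul s r
      (show Γ(Coh.structureModule P, V) from (1 : Γ(P, V)))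
    have h4 : s.app V (show Γ(Coh.structureModule P, V) from r) =
        s.app V (r • (show Γ(Coh.structureModule P, V) from (1 : Γ(P, V)))) :=
      congrArg (s.app V) (mul_one r).symm
    rw [h4, h3, h1]
  have hone : ∀ (U : Y.Opens) (hU : IsAffineOpen U) (z : ProjectiveSpectrum (𝒮.deg U hU)),
      (1 : 𝒮.presheaf.obj (op U)) ∉ z.asHomogeneousIdeal := fun U hU z h =>
    z.isPrime.ne_top ((Ideal.eq_top_iff_one _).mpr h)
  have hab : ((d : ℕ) : ℤ) = ((0 : ℕ) : ℤ) + (d : ℤ) := by rw [Nat.cast_zero, zero_add]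
  apply le_antisymm
  · intro x hx
    obtain ⟨U, hU, hxU, -⟩ := Opens.isBasis_iff_nbhd.mp Y.isBasis_affineOpens
      (show p.base x ∈ (⊤ : Y.Opens) from trivial)
    refine (Groth.Agent.H22.GenLocus.mem_genLocus_iff L s x).mpr
      ⟨Xf ⊓ p ⁻¹ᵁ U, ⟨hx, hxU⟩, fun V hV => ?_⟩
    have h1 := ReadsFrac.res 𝒮 p chart (d : ℤ) L lam (le_top : V ≤ ⊤) (hσ U hU)
    have hb := ReadsFrac.bijective_smul 𝒮 p chart (d : ℤ) L lam hL (hV.trans inf_le_right)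
      (⟨resTop 𝒮 f U, hf U hU⟩ : 𝒮.deg U hU d)
      (⟨1, SetLike.GradedOne.one_mem⟩ : 𝒮.deg U hU 0) hab
      (fun z => not_mem_of_le 𝒮 p chart f Xf hXf U hU V hV z)
      (fun z => hone U hU z.1) h1
    refine ⟨fun r1 r2 h12 => ?_, fun t => ?_⟩
    · exact hb.1 ((hsapp V r1).symm.trans (h12.trans (hsapp V r2)))
    · obtain ⟨r, hr⟩ := hb.2 t
      exact ⟨r, (hsapp V r).trans hr⟩
  · intro x hx
    obtain ⟨U0, hxU0, hU0⟩ := (Groth.Agent.H22.GenLocus.mem_genLocus_iff L s x).mp hx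
    obtain ⟨U, hU, hxU, -⟩ := Opens.isBasis_iff_nbhd.mp Y.isBasis_affineOpens
      (show p.base x ∈ (⊤ : Y.Opens) from trivial)
    obtain ⟨y, hy⟩ : ∃ y, (RelProj.emb p chart U hU).base y = x := by
      have : x ∈ (RelProj.emb p chart U hU).opensRange := by
        rw [opensRange_emb]; exact hxU
      exact this
    by_contra hxf
    have hfy : resTop 𝒮 f U ∈ y.asHomogeneousIdeal := by
      by_contra hfy
      apply hxf
      have h1 : x ∈ Xf ⊓ p ⁻¹ᵁ U := by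
        rw [hXf U hU, emb_image_eq 𝒮 p chart U hU]
        exact ⟨y, (ProjectiveSpectrum.mem_basicOpen (𝒮.deg U hU) _ y).mpr hfy, hy⟩
      exact h1.1
    have hgenU := RelTildeTN2.irrelevant_eq_span_of_closure (𝒮.deg U hU) (hgen U hU)
    obtain ⟨g, hg1, hgy⟩ : ∃ g ∈ 𝒮.deg U hU 1, g ∉ y.asHomogeneousIdeal := by
      by_contra hcon
      push Not at hcon
      apply y.not_irrelevant_le
      intro a ha
      have h1 : a ∈ Ideal.span ((𝒮.deg U hU 1 : AddSubgroup _) :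
          Set (𝒮.presheaf.obj (op U))) := by
        rw [← hgenU]; exact ha
      exact (Ideal.span_le (I := y.asHomogeneousIdeal.toIdeal)).mpr (fun b hb => hcon b hb) h1
    have hpow : g ^ d ∈ 𝒮.deg U hU d := by
      have := SetLike.pow_mem_graded d hg1
      rwa [smul_eq_mul, mul_one] at this
    have hVU : U0 ⊓ RelProj.emb p chart U hU ''ᵁ Proj.basicOpen (𝒮.deg U hU) g ≤ p ⁻¹ᵁ U := by
      rintro _ ⟨-, z, -, rfl⟩
      have : (RelProj.emb p chart U hU).base z ∈ (RelProj.emb p chart U hU).opensRange :=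
        ⟨z, rfl⟩
      rwa [opensRange_emb] at this
    have hxV : x ∈ U0 ⊓ RelProj.emb p chart U hU ''ᵁ Proj.basicOpen (𝒮.deg U hU) g :=
      ⟨hxU0, y, (ProjectiveSpectrum.mem_basicOpen (𝒮.deg U hU) g y).mpr hgy, hy⟩
    have hyV : y ∈ RelProj.emb p chart U hU ⁻¹ᵁ
        (U0 ⊓ RelProj.emb p chart U hU ''ᵁ Proj.basicOpen (𝒮.deg U hU) g) := by
      have h := hxV
      rw [← hy] at h
      exact h
    obtain ⟨τ, hτ⟩ := exists_readsFrac 𝒮 p chart (d : ℤ) L lam hL U hU _ hVU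
      (⟨g ^ d, hpow⟩ : 𝒮.deg U hU d) (⟨1, SetLike.GradedOne.one_mem⟩ : 𝒮.deg U hU 0) hab
      (fun z => hone U hU z.1)
    obtain ⟨r, hr⟩ : ∃ r : Γ(P, U0 ⊓ RelProj.emb p chart U hU ''ᵁ
        Proj.basicOpen (𝒮.deg U hU) g), r • L.presheaf.map (homOfLE le_top).op
          (s.app ⊤ (show Γ(Coh.structureModule P, ⊤) from (1 : Γ(P, ⊤)))) = τ := by
      obtain ⟨r0, hr0⟩ := (hU0 _ inf_le_left).2 τ
      exact ⟨r0, (hsapp _ r0).symm.trans hr0⟩
    have hσV := ReadsFrac.res 𝒮 p chart (d : ℤ) L lam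
      (le_top : U0 ⊓ RelProj.emb p chart U hU ''ᵁ Proj.basicOpen (𝒮.deg U hU) g ≤ ⊤) (hσ U hU)
    have e2 := hτ ⟨y, hyV⟩ (hone U hU y)
    have e3 := hσV ⟨y, hyV⟩ (hone U hU y)
    have e4 := val_lam_smul 𝒮 p chart (d : ℤ) L lam U hU _ r
      (L.presheaf.map (homOfLE le_top).op
        (s.app ⊤ (show Γ(Coh.structureModule P, ⊤) from (1 : Γ(P, ⊤))))) ⟨y, hyV⟩
    rw [hr, e2, e3] at e4
    exact mul_mk_ne_mk y.asHomogeneousIdeal.toIdeal _ (resTop 𝒮 f U) (g ^ d) hfy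
      (fun h => hgy (y.isPrime.mem_of_pow_mem d h)) _ e4.symm

end GenLocus

end Groth.Agent.H41.RelTwistXf
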