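import Groth.Agent.S8343
import Groth.Agent.H41.RelTwistXf
import Groth.Agent.H41.RelTwistInv
import Groth.Agent.H41.RelComap
import Groth.Agent.H41.RelTildeTN2
import Groth.Agent.H18.IsoOfGen
import Groth.Agent.H22.PullGen

set_option autoImplicit false
universe u
open CategoryTheory CategoryTheory.Limits AlgebraicGeometry Opposite TopologicalSpace
open scoped HomogeneousIdeal
noncomputable section
open EGA2

namespace Groth.Agent.H41.PullTwist

open Groth.Agent.H8 Groth.Agent.H41.RelTildeMaps Groth.Agent.H41.RelTwistXf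

/-- Let φ : 𝒜 → ℬ be a graded homomorphism of quasi-coherent graded algebras with 𝒜 generated by
𝒜_1, satisfying Mathlib's hypothesis on irrelevant ideals, and h : Proj(ℬ) → Proj(𝒜) the induced
morphism. Then h^*(O_{Proj(𝒜)}(n)) ≅ O_{Proj(ℬ)}(n). (S8287 without the surjectivity hypothesis,
which its proof never uses.) -/
theorem pullback_twist_iso {Y PA PB : Scheme.{u}} {𝒜 ℬ : RelProj.QCGrAlg Y}
    (φ : 𝒜.toQCAlg ⟶ ℬ.toQCAlg) (hφ : RelProj.IsGradedHom φ) (hgen : 𝒜.IsGenDegOne)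
    (hirr : ∀ (U : Y.Opens) (hU : IsAffineOpen U),
      (ℬ.deg U hU)₊ ≤ ((𝒜.deg U hU)₊).map (RelProj.gradedHomAt φ hφ U hU))
    (pA : PA ⟶ Y) (pB : PB ⟶ Y)
    (chartA : ∀ (U : Y.Opens) (hU : IsAffineOpen U), (((pA ⁻¹ᵁ U : PA.Opens) : Scheme.{u}) ≅ Proj (𝒜.deg U hU)))
    (chartB : ∀ (U : Y.Opens) (hU : IsAffineOpen U), (((pB ⁻¹ᵁ U : PB.Opens) : Scheme.{u}) ≅ Proj (ℬ.deg U hU)))
    (hA : RelProj.IsRelProj 𝒜 pA chartA) (hB : RelProj.IsRelProj ℬ pB chartB)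
    (h : PB ⟶ PA) (hh : RelProj.IsRelProjMap φ hφ hirr chartA chartB h) (n : ℤ)
    (LA : PA.Modules)
    (lamA : ∀ (U : Y.Opens) (hU : IsAffineOpen U),
      LA ⟶ (Scheme.Modules.pushforward (RelProj.emb pA chartA U hU)).obj (GrTwist.twist (𝒜.deg U hU) n))
    (hLA : RelProj.IsRelTwist 𝒜 pA chartA n LA lamA)
    (LB : PB.Modules)
    (lamB : ∀ (U : Y.Opens) (hU : IsAffineOpen U),
      LB ⟶ (Scheme.Modules.pushforward (RelProj.emb pB chartB U hU)).obj (GrTwist.twist (ℬ.deg U hU) n))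
    (hLB : RelProj.IsRelTwist ℬ pB chartB n LB lamB) :
    Nonempty ((Scheme.Modules.pullback h).obj LA ≅ LB) := by
  classical
  obtain ⟨θ, hθ, -⟩ := Groth.Agent.S8343.result φ hφ hirr pA pB chartA chartB hA hB h hh n LA lamA hLA
    LB lamB hLB
  have hLAinv : PicF.IsInvertible LA :=
    Groth.Agent.H41.RelTwistInv.isInvertible_of_isGenDegOne 𝒜 pA chartA n LA lamA hLA hgen
  have hMinv := Groth.Agent.H22.PullGen.isInvertible_pullback h hLAinv
  obtain ⟨τ, hτdef⟩ : ∃ τ : (Scheme.Modules.pullback h).obj LA ⟶ LB,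
      τ = ((Scheme.Modules.pullbackPushforwardAdjunction h).homEquiv LA LB).symm θ := ⟨_, rfl⟩
  have hτ : θ = (Scheme.Modules.pullbackPushforwardAdjunction h).unit.app LA ≫
      (Scheme.Modules.pushforward h).map τ := by
    have e := (Scheme.Modules.pullbackPushforwardAdjunction h).homEquiv_unit (X := LA) (Y := LB)
      (f := τ)
    rw [← e, hτdef]
    exact (((Scheme.Modules.pullbackPushforwardAdjunction h).homEquiv LA LB).apply_symm_apply θ).symm
  have hτapp : ∀ (W : PA.Opens) (s : Γ(LA, W)),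
      τ.app (h ⁻¹ᵁ W) (((Scheme.Modules.pullbackPushforwardAdjunction h).unit.app LA).app W s) =
        θ.app W s := by
    intro W s
    have := congrArg (fun ψ : LA ⟶ (Scheme.Modules.pushforward h).obj LB => ψ.app W s) hτ
    exact this.symm
  suffices hiso : IsIso τ from ⟨asIso τ⟩
  refine Groth.Agent.H18.IsoOfGen.isIso_of_isGen_image hMinv τ fun x => ?_
  obtain ⟨U, hU, hxU, -⟩ := Opens.isBasis_iff_nbhd.mp Y.isBasis_affineOpens
    (show pB.base x ∈ (⊤ : Y.Opens) from trivial)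
  obtain ⟨y, hy⟩ : ∃ y, (RelProj.emb pB chartB U hU).base y = x := by
    have : x ∈ (RelProj.emb pB chartB U hU).opensRange := by
      rw [opensRange_emb]; exact hxU
    exact this
  have hgenU := Groth.Agent.H41.RelTildeTN2.irrelevant_eq_span_of_closure (𝒜.deg U hU) (hgen U hU)
  obtain ⟨f, hf1, hfy⟩ : ∃ f ∈ 𝒜.deg U hU 1,
      RelProj.gradedHomAt φ hφ U hU f ∉ y.asHomogeneousIdeal := by
    by_contra hcon
    push Not at hcon
    apply y.not_irrelevant_le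
    refine (hirr U hU).trans ?_
    intro b hb
    have hb' : b ∈ Ideal.map (RelProj.gradedHomAt φ hφ U hU)
        ((HomogeneousIdeal.irrelevant (𝒜.deg U hU)).toIdeal) := hb
    rw [hgenU, Ideal.map_span] at hb'
    refine (Ideal.span_le (I := y.asHomogeneousIdeal.toIdeal)).mpr ?_ hb'
    rintro _ ⟨a, ha, rfl⟩
    exact hcon a ha
  have hpowA : ∀ k : ℕ, f ^ k ∈ 𝒜.deg U hU k := fun k => by
    have := SetLike.pow_mem_graded k hf1
    rwa [smul_eq_mul, mul_one] at this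
  have hpowB : ∀ k : ℕ, RelProj.gradedHomAt φ hφ U hU f ^ k ∈ ℬ.deg U hU k := fun k => by
    have := SetLike.pow_mem_graded k ((RelProj.gradedHomAt φ hφ U hU).map_mem hf1)
    rwa [smul_eq_mul, mul_one] at this
  have hpq : ((n.toNat : ℕ) : ℤ) = ((-n).toNat : ℕ) + n := by
    have := Int.toNat_sub_toNat_neg n
    omega
  have hWA : RelProj.emb pA chartA U hU ''ᵁ Proj.basicOpen (𝒜.deg U hU) f ≤ pA ⁻¹ᵁ U := by
    rintro _ ⟨z, _, rfl⟩
    have : (RelProj.emb pA chartA U hU).base z ∈ (RelProj.emb pA chartA U hU).opensRange :=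
      ⟨z, rfl⟩
    rwa [opensRange_emb] at this
  have hpreA : RelProj.emb pA chartA U hU ⁻¹ᵁ
      (RelProj.emb pA chartA U hU ''ᵁ Proj.basicOpen (𝒜.deg U hU) f) ≤
      Proj.basicOpen (𝒜.deg U hU) f := by
    intro z hz
    rwa [(RelProj.emb pA chartA U hU).preimage_image_eq] at hz
  have hfxA : ∀ (k : ℕ) (z : (RelProj.emb pA chartA U hU ⁻¹ᵁ
      (RelProj.emb pA chartA U hU ''ᵁ Proj.basicOpen (𝒜.deg U hU) f) :
        (Proj (𝒜.deg U hU)).Opens)), f ^ k ∉ z.1.asHomogeneousIdeal := fun k z hmem =>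
    ((ProjectiveSpectrum.mem_basicOpen (𝒜.deg U hU) f z.1).mp (hpreA z.2))
      (z.1.isPrime.mem_of_pow_mem _ hmem)
  obtain ⟨σ, hσ⟩ := exists_readsFrac 𝒜 pA chartA n LA lamA hLA U hU
    (RelProj.emb pA chartA U hU ''ᵁ Proj.basicOpen (𝒜.deg U hU) f) hWA
    ⟨f ^ n.toNat, hpowA _⟩ ⟨f ^ (-n).toNat, hpowA _⟩ hpq (hfxA _)
  have hcomapD : ∀ z : ProjectiveSpectrum (ℬ.deg U hU),
      h.base ((RelProj.emb pB chartB U hU).base z) ∈
        RelProj.emb pA chartA U hU ''ᵁ Proj.basicOpen (𝒜.deg U hU) f →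
      RelProj.gradedHomAt φ hφ U hU f ∉ z.asHomogeneousIdeal := by
    intro z hz hmem
    rw [Groth.Agent.H41.RelComap.emb_comm_base φ hφ hirr pA pB chartA chartB h hh U hU z] at hz
    have hz' : ProjectiveSpectrum.comap (RelProj.gradedHomAt φ hφ U hU) (hirr U hU) z ∈
        Proj.basicOpen (𝒜.deg U hU) f := hpreA hz
    exact ((ProjectiveSpectrum.mem_basicOpen (𝒜.deg U hU) f _).mp hz') hmem
  have hxV : x ∈ h ⁻¹ᵁ (RelProj.emb pA chartA U hU ''ᵁ Proj.basicOpen (𝒜.deg U hU) f) ⊓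
      pB ⁻¹ᵁ U := by
    refine ⟨?_, hxU⟩
    show h.base x ∈ RelProj.emb pA chartA U hU ''ᵁ Proj.basicOpen (𝒜.deg U hU) f
    rw [← hy, Groth.Agent.H41.RelComap.emb_comm_base φ hφ hirr pA pB chartA chartB h hh U hU y]
    exact ⟨_, (ProjectiveSpectrum.mem_basicOpen (𝒜.deg U hU) f _).mpr hfy, rfl⟩
  refine ⟨h ⁻¹ᵁ (RelProj.emb pA chartA U hU ''ᵁ Proj.basicOpen (𝒜.deg U hU) f) ⊓ pB ⁻¹ᵁ U,
    ((Scheme.Modules.pullback h).obj LA).presheaf.map (homOfLE inf_le_left).op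
      (((Scheme.Modules.pullbackPushforwardAdjunction h).unit.app LA).app _ σ), hxV, ?_⟩
  rw [app_res τ, hτapp]
  intro V' hV'
  rw [res_res]
  have hV'U : V' ≤ pB ⁻¹ᵁ U := hV'.trans inf_le_right
  have hV'W : V' ≤ h ⁻¹ᵁ (RelProj.emb pA chartA U hU ''ᵁ Proj.basicOpen (𝒜.deg U hU) f) :=
    hV'.trans inf_le_left
  have hread0 : ReadsFrac ℬ pB chartB n LB lamB U hU
      (h ⁻¹ᵁ (RelProj.emb pA chartA U hU ''ᵁ Proj.basicOpen (𝒜.deg U hU) f))
      (θ.app _ σ) (RelProj.gradedHomAt φ hφ U hU f ^ n.toNat)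
      (RelProj.gradedHomAt φ hφ U hU f ^ (-n).toNat) := by
    intro z hv
    have hz' : (RelProj.emb pA chartA U hU).base
        (ProjectiveSpectrum.comap (RelProj.gradedHomAt φ hφ U hU) (hirr U hU) z.1) ∈
        RelProj.emb pA chartA U hU ''ᵁ Proj.basicOpen (𝒜.deg U hU) f := by
      rw [← Groth.Agent.H41.RelComap.emb_comm_base φ hφ hirr pA pB chartA chartB h hh U hU z.1]
      exact z.2
    refine (hθ U hU _ σ z.1 z.2 hz').trans ?_
    have hfz : f ^ (-n).toNat ∉ (ProjectiveSpectrum.comap (RelProj.gradedHomAt φ hφ U hU)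
        (hirr U hU) z.1).asHomogeneousIdeal := hfxA _ ⟨_, hz'⟩
    rw [hσ ⟨_, hz'⟩ hfz, GrTwist.locMap_mk]
    congr 1
    · exact map_pow (RelProj.gradedHomAt φ hφ U hU) f _
    · exact Subtype.ext (map_pow (RelProj.gradedHomAt φ hφ U hU) f _)
  have hread := ReadsFrac.res ℬ pB chartB n LB lamB hV'W hread0
  have hfxB : ∀ (k : ℕ) (z : (RelProj.emb pB chartB U hU ⁻¹ᵁ V' : (Proj (ℬ.deg U hU)).Opens)),
      RelProj.gradedHomAt φ hφ U hU f ^ k ∉ z.1.asHomogeneousIdeal := by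
    intro k z hmem
    exact hcomapD z.1 (hV'W z.2) (z.1.isPrime.mem_of_pow_mem _ hmem)
  exact ReadsFrac.bijective_smul ℬ pB chartB n LB lamB hLB hV'U
    ⟨RelProj.gradedHomAt φ hφ U hU f ^ n.toNat, hpowB _⟩
    ⟨RelProj.gradedHomAt φ hφ U hU f ^ (-n).toNat, hpowB _⟩ hpq (hfxB _) (hfxB _) hread

end Groth.Agent.H41.PullTwist
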