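import Groth.Agent.H8.QCohPushLocal
import Groth.Agent.H8.IsoCover
import Mathlib

/-!
# Quasi-coherence of a module identified locally with direct images of quasi-coherent modules

`isQuasicoherent_of_bijective_pushforward`: let `F` be a module on `P`, `e i : Q i ⟶ P` open
immersions covering `P`, `T i` quasi-coherent modules on the `Q i` and `lam i : F ⟶ (e i)_* (T i)`
morphisms which are bijective on sections over every open contained in the range of `e i`.  Then `F`
is quasi-coherent.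
-/

set_option autoImplicit false
set_option linter.style.haveILetI false
universe u

open CategoryTheory AlgebraicGeometry TopologicalSpace Opposite
open Groth.Agent.H8

namespace Groth.Agent.H41.QCohTransfer

theorem isQuasicoherent_of_bijective_pushforward {P : Scheme.{u}} (F : P.Modules) {ι : Type u}
    (Q : ι → Scheme.{u}) (e : ∀ i, Q i ⟶ P) [∀ i, IsOpenImmersion (e i)]
    (T : ∀ i, (Q i).Modules) [∀ i, (T i).IsQuasicoherent]
    (lam : ∀ i, F ⟶ (Scheme.Modules.pushforward (e i)).obj (T i))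
    (hbij : ∀ i (W : P.Opens), W ≤ (e i).opensRange → Function.Bijective ((lam i).app W))
    (hcov : ∀ x : P, ∃ i, x ∈ (e i).opensRange) : F.IsQuasicoherent := by
  have hpre : ∀ (i : ι) (V : (Q i).Opens), e i ⁻¹ᵁ (e i ''ᵁ V) = V := fun i V =>
    (e i).preimage_image_eq V
  refine isQuasicoherent_of_sections_cover F (ι := Σ i, (Q i).affineOpens)
    (fun q => e q.1 ''ᵁ q.2.1) ?_ (fun q => q.2.2.image_of_isOpenImmersion (e q.1)) ?_ ?_
  · show ⨆ q : Σ i, (Q i).affineOpens, e q.1 ''ᵁ q.2.1 = ⊤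
    refine eq_top_iff.mpr fun x _ => Opens.mem_iSup.mpr ?_
    obtain ⟨i, y, rfl⟩ := hcov x
    obtain ⟨V, hV, hyV, -⟩ := Opens.isBasis_iff_nbhd.mp (Q i).isBasis_affineOpens
      (show y ∈ (⊤ : (Q i).Opens) from trivial)
    exact ⟨⟨i, ⟨V, hV⟩⟩, y, hyV, rfl⟩
  · rintro ⟨i, V⟩ a y
    dsimp only at a y ⊢
    have hUle : e i ''ᵁ V.1 ≤ (e i).opensRange := (e i).image_le_opensRange V.1
    have hc : IsCompact ((e i ⁻¹ᵁ (e i ''ᵁ V.1) : (Q i).Opens) : Set (Q i)) := by
      rw [hpre]; exact V.2.isCompact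
    have hqs : IsQuasiSeparated ((e i ⁻¹ᵁ (e i ''ᵁ V.1) : (Q i).Opens) : Set (Q i)) := by
      rw [hpre]; exact V.2.isQuasiSeparated
    have hWle : P.basicOpen a ≤ (e i).opensRange := (P.basicOpen_le a).trans hUle
    obtain ⟨N, x', hx'⟩ := pushforward_hex (e i) (T i) (e i ''ᵁ V.1) hc hqs a
      ((lam i).app _ y)
    obtain ⟨x, rfl⟩ := (hbij i _ hUle).2 x'
    refine ⟨N, x, (hbij i _ hWle).1 ?_⟩
    rw [Scheme.Modules.Hom.app_smul, hx', app_res]
  · rintro ⟨i, V⟩ a x hx
    dsimp only at a x hx ⊢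
    have hUle : e i ''ᵁ V.1 ≤ (e i).opensRange := (e i).image_le_opensRange V.1
    have hc : IsCompact ((e i ⁻¹ᵁ (e i ''ᵁ V.1) : (Q i).Opens) : Set (Q i)) := by
      rw [hpre]; exact V.2.isCompact
    have h1 : ((Scheme.Modules.pushforward (e i)).obj (T i)).presheaf.map
        (homOfLE (P.basicOpen_le a)).op ((lam i).app _ x) = 0 := by
      rw [← app_res, hx, map_zero]
    obtain ⟨N, hN⟩ := pushforward_hzero (e i) (T i) (e i ''ᵁ V.1) hc a _ h1
    refine ⟨N, (hbij i _ hUle).1 ?_⟩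
    rw [Scheme.Modules.Hom.app_smul, hN, map_zero]

end Groth.Agent.H41.QCohTransfer
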