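import Mathlib
import Groth.Prelude.Def_RelProj4

/-!
# Extending a family of ring homomorphisms over the affine opens to a `QHom` (helper41)
-/

set_option autoImplicit false
set_option linter.style.haveILetI false
universe u
open CategoryTheory CategoryTheory.Limits AlgebraicGeometry TopologicalSpace Opposite

noncomputable section

namespace Groth.Agent.H41.QHomExt

variable {Y Y' : Scheme.{u}} (ψ : Y' ⟶ Y) (A : RelSpec.QCAlg Y) (B : RelSpec.QCAlg Y')

/-- The direct image of `B` as a sheaf of rings on `Y`. -/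
def pushB : TopCat.Sheaf CommRingCat.{u} Y.carrier :=
  ⟨ψ.base _* B.presheaf, TopCat.Sheaf.pushforward_sheaf_of_sheaf ψ.base B.isSheaf⟩

theorem exists_qhom
    (v : ∀ (U : Y.Opens), IsAffineOpen U → (A.presheaf.obj (op U) ⟶ B.presheaf.obj (op (ψ ⁻¹ᵁ U))))
    (hnat : ∀ (U V : Y.Opens) (hU : IsAffineOpen U) (hV : IsAffineOpen V) (i : V ≤ U),
      v U hU ≫ B.presheaf.map (homOfLE (ψ.preimage_mono i)).op =
        A.presheaf.map (homOfLE i).op ≫ v V hV)
    (hstr : ∀ (U : Y.Opens) (hU : IsAffineOpen U),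
      A.str.app (op U) ≫ v U hU = ψ.app U ≫ B.str.app (op (ψ ⁻¹ᵁ U))) :
    ∃ u : RelSpec.QHom ψ A B, ∀ (U : Y.Opens) (hU : IsAffineOpen U), u.app U = v U hU := by
  let Ψ : (Scheme.AffineZariskiSite.toOpensFunctor Y).op ⋙ A.presheaf ⟶
      (Scheme.AffineZariskiSite.toOpensFunctor Y).op ⋙ (pushB ψ B).obj :=
    { app := fun U => v U.unop.1 U.unop.2
      naturality := fun U V i => by
        have := hnat U.unop.1 V.unop.1 U.unop.2 V.unop.2
          (Scheme.AffineZariskiSite.toOpens_mono i.unop.le)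
        exact this.symm }
  let u₀ : A.presheaf ⟶ (pushB ψ B).obj :=
    Functor.IsCoverDense.restrictHomEquivHom (G := Scheme.AffineZariskiSite.toOpensFunctor Y)
      (K := Opens.grothendieckTopology Y) (ℱ := A.presheaf) (ℱ' := pushB ψ B) Ψ
  have hu₀ : (Scheme.AffineZariskiSite.toOpensFunctor Y).op.whiskerLeft u₀ = Ψ :=
    (Functor.IsCoverDense.restrictHomEquivHom (G := Scheme.AffineZariskiSite.toOpensFunctor Y)
      (K := Opens.grothendieckTopology Y) (ℱ := A.presheaf) (ℱ' := pushB ψ B)).symm_apply_apply _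
  have hu₀app : ∀ (U : Y.Opens) (hU : IsAffineOpen U), u₀.app (op U) = v U hU := fun U hU =>
    congrArg (fun χ : (Scheme.AffineZariskiSite.toOpensFunctor Y).op ⋙ A.presheaf ⟶
      (Scheme.AffineZariskiSite.toOpensFunctor Y).op ⋙ (pushB ψ B).obj =>
        χ.app (op (⟨U, hU⟩ : Y.AffineZariskiSite))) hu₀
  have hcomm : A.str ≫ u₀ =
      ψ.c ≫ (TopCat.Presheaf.pushforward CommRingCat.{u} ψ.base).map B.str := by
    apply (Functor.IsCoverDense.restrictHomEquivHom
      (G := Scheme.AffineZariskiSite.toOpensFunctor Y)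
      (K := Opens.grothendieckTopology Y) (ℱ := Y.presheaf) (ℱ' := pushB ψ B)).symm.injective
    ext U : 2
    have h1 : A.str.app (op U.unop.1) ≫ u₀.app (op U.unop.1) =
        ψ.app U.unop.1 ≫ B.str.app (op (ψ ⁻¹ᵁ U.unop.1)) := by
      rw [hu₀app U.unop.1 U.unop.2]
      exact hstr U.unop.1 U.unop.2
    exact h1
  refine ⟨{ app := fun U => u₀.app (op U), naturality := ?_, str_app := ?_ }, fun U hU => hu₀app U hU⟩
  · intro U V i
    exact (u₀.naturality (homOfLE i).op).symm
  · intro U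
    exact congrArg (fun χ : Y.presheaf ⟶ (pushB ψ B).obj => χ.app (op U)) hcomm

end Groth.Agent.H41.QHomExt
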