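import Groth.Prelude.Def_RelSpec2
import Mathlib.AlgebraicGeometry.Morphisms.IsIso
import Mathlib.AlgebraicGeometry.Morphisms.Separated
import Mathlib.RingTheory.GradedAlgebra.Radical

set_option autoImplicit false
universe u

open CategoryTheory CategoryTheory.Limits AlgebraicGeometry TopologicalSpace Opposite
open scoped HomogeneousIdeal

noncomputable section

namespace Groth.Agent.H41.RelConeLib

/-! ### graded ring lemmas -/

section ring

variable {A : Type u} [CommRing A] (𝒜 : ℕ → AddSubgroup A) [GradedRing 𝒜]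
variable {B : Type u} [CommRing B] (ℬ : ℕ → AddSubgroup B) [GradedRing ℬ]

theorem decompose_zero_of_mem_irrelevant {a : A}
    (ha : a ∈ (HomogeneousIdeal.irrelevant 𝒜).toIdeal) :
    (DirectSum.decompose 𝒜 a 0 : A) = 0 := by
  have h := (HomogeneousIdeal.mem_irrelevant_iff 𝒜 a).1 ha
  rwa [GradedRing.proj_apply] at h

theorem sub_decompose_zero_mem (a : A) :
    a - (DirectSum.decompose 𝒜 a 0 : A) ∈ (HomogeneousIdeal.irrelevant 𝒜).toIdeal := by
  refine (HomogeneousIdeal.mem_irrelevant_iff 𝒜 _).2 ?_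
  rw [map_sub, GradedRing.proj_apply, GradedRing.proj_apply,
    DirectSum.decompose_of_mem_same 𝒜 (SetLike.coe_mem _), sub_self]

theorem map_eq_zero_of_mem_irrelevant {C : Type*} [CommRing C] (φ : A →+* C)
    (hφ : ∀ (d : ℕ) (x : A), x ∈ 𝒜 (d + 1) → φ x = 0) {a : A}
    (ha : a ∈ (HomogeneousIdeal.irrelevant 𝒜).toIdeal) : φ a = 0 := by
  classical
  have h := DirectSum.sum_support_decompose 𝒜 a
  rw [← h, map_sum]
  refine Finset.sum_eq_zero fun i _ => ?_
  by_cases hi : i = 0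
  · subst hi
    rw [decompose_zero_of_mem_irrelevant 𝒜 ha, map_zero]
  · obtain ⟨d, rfl⟩ := Nat.exists_eq_succ_of_ne_zero hi
    exact hφ d _ (SetLike.coe_mem _)

theorem exists_pos_decompose_not_mem (I : Ideal A) {b : A}
    (hb : b ∈ (HomogeneousIdeal.irrelevant 𝒜).toIdeal) (hbI : b ∉ I) :
    ∃ i, 0 < i ∧ (DirectSum.decompose 𝒜 b i : A) ∉ I := by
  classical
  by_contra hcon
  push Not at hcon
  apply hbI
  have h := DirectSum.sum_support_decompose 𝒜 b
  rw [← h]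
  refine Ideal.sum_mem _ fun i _ => ?_
  by_cases hi : i = 0
  · subst hi
    rw [decompose_zero_of_mem_irrelevant 𝒜 hb]
    exact zero_mem _
  · exact hcon i (Nat.pos_of_ne_zero hi)

variable {𝒜 ℬ} in
theorem map_mem_irrelevant (ψ : 𝒜 →+*ᵍ ℬ) {a : A}
    (ha : a ∈ (HomogeneousIdeal.irrelevant 𝒜).toIdeal) :
    ψ a ∈ (HomogeneousIdeal.irrelevant ℬ).toIdeal := by
  refine (HomogeneousIdeal.mem_irrelevant_iff ℬ _).2 ?_
  have h := GradedRingHom.map_directSumDecompose 𝒜 ℬ ψ (x := a) (i := 0)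
  rw [GradedRing.proj_apply, ← h, decompose_zero_of_mem_irrelevant 𝒜 ha, map_zero]

end ring

/-! ### points of the vertex complement -/

section points

variable {R R' : CommRingCat.{u}} (𝒜 : ℕ → AddSubgroup R) [GradedRing 𝒜]
  (ℬ : ℕ → AddSubgroup R') [GradedRing ℬ]

theorem mem_vertexCompl_iff (w : Spec R) :
    w ∈ RelCone.vertexCompl 𝒜 ↔
      ∃ a ∈ (HomogeneousIdeal.irrelevant 𝒜).toIdeal, a ∉ w.asIdeal := by
  have e : w ∈ RelCone.vertexCompl 𝒜 ↔
      ¬ (((HomogeneousIdeal.irrelevant 𝒜).toIdeal : Set R) ⊆ (w.asIdeal : Set R)) := Iff.rfl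
  rw [e, Set.not_subset]
  rfl

variable {𝒜 ℬ}

/-- a graded homomorphism pulls the vertex complement back into the vertex complement -/
theorem mem_vertexCompl_of_map (ψ : 𝒜 →+*ᵍ ℬ) (f : R ⟶ R') (hf : ∀ a, f.hom a = ψ a)
    (w : Spec R') (h : (Spec.map f).base w ∈ RelCone.vertexCompl 𝒜) :
    w ∈ RelCone.vertexCompl ℬ := by
  rw [mem_vertexCompl_iff] at h ⊢
  obtain ⟨a, ha, hna⟩ := h
  refine ⟨ψ a, map_mem_irrelevant ψ ha, fun hmem => hna ?_⟩
  show f.hom a ∈ w.asIdeal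
  rw [hf]
  exact hmem

theorem map_mem_vertexCompl_of_le (ψ : 𝒜 →+*ᵍ ℬ)
    (hirr : (HomogeneousIdeal.irrelevant ℬ).toIdeal ≤
      Ideal.map ψ (HomogeneousIdeal.irrelevant 𝒜).toIdeal)
    (f : R ⟶ R') (hf : ∀ a, f.hom a = ψ a) (w : Spec R')
    (h : w ∈ RelCone.vertexCompl ℬ) : (Spec.map f).base w ∈ RelCone.vertexCompl 𝒜 := by
  rw [mem_vertexCompl_iff] at h ⊢
  obtain ⟨b, hb, hnb⟩ := h
  by_contra hcon
  push Not at hcon
  apply hnb
  have hle : Ideal.map ψ (HomogeneousIdeal.irrelevant 𝒜).toIdeal ≤ w.asIdeal := by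
    rw [Ideal.map_le_iff_le_comap]
    intro a ha
    have h1 : f.hom a ∈ w.asIdeal := hcon a ha
    rw [hf] at h1
    exact h1
  exact hle (hirr hb)

/-- if `Proj ψ` is everywhere defined, the vertex complement is pulled back onto the vertex
complement -/
theorem map_mem_vertexCompl_of_domOpen (ψ : 𝒜 →+*ᵍ ℬ) (hdom : RelCone.domOpen ψ = ⊤)
    (f : R ⟶ R') (hf : ∀ a, f.hom a = ψ a) (w : Spec R')
    (hw : w ∈ RelCone.vertexCompl ℬ) : (Spec.map f).base w ∈ RelCone.vertexCompl 𝒜 := by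
  classical
  rw [mem_vertexCompl_iff] at hw ⊢
  obtain ⟨b, hb, hbw⟩ := hw
  obtain ⟨i, hi, hbi⟩ := exists_pos_decompose_not_mem ℬ w.asIdeal hb hbw
  have hrel : ¬ HomogeneousIdeal.irrelevant ℬ ≤ w.asIdeal.homogeneousCore ℬ := by
    intro hle
    apply hbi
    exact Ideal.toIdeal_homogeneousCore_le ℬ _
      (hle (HomogeneousIdeal.mem_irrelevant_of_mem ℬ hi (SetLike.coe_mem _)))
  obtain ⟨P, hPeq⟩ : ∃ P : ProjectiveSpectrum ℬ,
      P.asHomogeneousIdeal = w.asIdeal.homogeneousCore ℬ :=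
    ⟨⟨_, Ideal.IsPrime.homogeneousCore w.isPrime, hrel⟩, rfl⟩
  have hP : (P : Proj ℬ) ∈ RelCone.domOpen ψ := by
    rw [hdom]; trivial
  obtain ⟨a, ha, hψa⟩ := (RelCone.mem_domOpen ψ P).1 hP
  rw [hPeq] at hψa
  by_contra hcon
  push Not at hcon
  apply hψa
  show ψ a ∈ (w.asIdeal.homogeneousCore ℬ).toIdeal
  have hsum := DirectSum.sum_support_decompose 𝒜 a
  rw [← hsum, map_sum]
  refine Ideal.sum_mem _ fun j _ => ?_
  by_cases hj : j = 0
  · subst hj
    rw [decompose_zero_of_mem_irrelevant 𝒜 ha, map_zero]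
    exact zero_mem _
  · refine Ideal.mem_homogeneousCore_of_homogeneous_of_mem
      ⟨j, ψ.map_mem (SetLike.coe_mem _)⟩ ?_
    have h1 := hcon _ (HomogeneousIdeal.mem_irrelevant_of_mem 𝒜 (Nat.pos_of_ne_zero hj)
      (SetLike.coe_mem (DirectSum.decompose 𝒜 a j)))
    have h2 : f.hom (DirectSum.decompose 𝒜 a j : R) ∈ w.asIdeal := h1
    rw [hf] at h2
    exact h2

/-- converse: if the vertex complement is pulled back into the vertex complement then `Proj ψ` is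
everywhere defined -/
theorem mem_domOpen_of_map_mem_vertexCompl (ψ : 𝒜 →+*ᵍ ℬ)
    (f : R ⟶ R') (hf : ∀ a, f.hom a = ψ a) (P : Proj ℬ)
    (h : ∀ w : Spec R', w ∈ RelCone.vertexCompl ℬ →
      (Spec.map f).base w ∈ RelCone.vertexCompl 𝒜) : P ∈ RelCone.domOpen ψ := by
  rw [RelCone.mem_domOpen]
  obtain ⟨w, hweq⟩ : ∃ w : Spec R', w.asIdeal = P.asHomogeneousIdeal.toIdeal :=
    ⟨(⟨_, P.isPrime⟩ : PrimeSpectrum R'), rfl⟩
  have hw : w ∈ RelCone.vertexCompl ℬ := by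
    rw [mem_vertexCompl_iff]
    by_contra hcon
    push Not at hcon
    rw [hweq] at hcon
    exact P.not_irrelevant_le (fun x hx => hcon x hx)
  have h3 := h w hw
  rw [mem_vertexCompl_iff] at h3
  obtain ⟨a, ha, hna⟩ := h3
  refine ⟨a, ha, fun hmem => hna ?_⟩
  show f.hom a ∈ w.asIdeal
  rw [hf, hweq]
  exact hmem

end points

/-! ### charts of the relative spectrum -/

section qcalg

variable {Y : Scheme.{u}}

/-- constructor with the right type -/
abbrev mkA {X : Scheme.{u}} (U : X.Opens) (hU : IsAffineOpen U) : X.AffineZariskiSite := ⟨U, hU⟩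

theorem mem_opensRange_ι_iff (A : RelSpec.QCAlg Y) (U : Y.Opens) (hU : IsAffineOpen U)
    (x : A.spec) : x ∈ (A.ι U hU).opensRange ↔ A.π.base x ∈ U := by
  rw [← A.π_preimage U hU]
  rfl

theorem exists_ι_eq (A : RelSpec.QCAlg Y) (U : Y.Opens) (hU : IsAffineOpen U) (x : A.spec)
    (hx : A.π.base x ∈ U) : ∃ y, (A.ι U hU).base y = x :=
  (mem_opensRange_ι_iff A U hU x).2 hx

theorem π_ι_mem (A : RelSpec.QCAlg Y) (U : Y.Opens) (hU : IsAffineOpen U)
    (y : Spec (A.presheaf.obj (op U))) : A.π.base ((A.ι U hU).base y) ∈ U :=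
  (mem_opensRange_ι_iff A U hU _).1 ⟨y, rfl⟩

theorem ι_res_apply (A : RelSpec.QCAlg Y) {U V : Y.Opens} (hU : IsAffineOpen U)
    (hV : IsAffineOpen V) (h : mkA V hV ≤ mkA U hU) (hle : V ≤ U)
    (w : Spec (A.presheaf.obj (op V))) :
    (A.ι U hU).base ((Spec.map (A.presheaf.map (homOfLE hle).op)).base w) =
      (A.ι V hV).base w :=
  congrArg (fun k => k.base w) (A.ι_res (homOfLE h))

theorem exists_chart_pair {Y' : Scheme.{u}} (q : Y' ⟶ Y) (B' : RelSpec.QCAlg Y')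
    (x' : B'.spec) :
    ∃ (U : Y.Opens) (_ : IsAffineOpen U) (U' : Y'.Opens) (hU' : IsAffineOpen U')
      (_ : U' ≤ q ⁻¹ᵁ U) (y' : Spec (B'.presheaf.obj (op U'))),
        (B'.ι U' hU').base y' = x' := by
  obtain ⟨U, hU, hxU, -⟩ := Opens.isBasis_iff_nbhd.1 Y.isBasis_affineOpens
    (show q.base (B'.π.base x') ∈ (⊤ : Y.Opens) from trivial)
  obtain ⟨U', hU', hxU', hle⟩ := Opens.isBasis_iff_nbhd.1 Y'.isBasis_affineOpens
    (show B'.π.base x' ∈ q ⁻¹ᵁ U from hxU)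
  obtain ⟨y', hy'⟩ := exists_ι_eq B' U' hU' x' hxU'
  exact ⟨U, hU, U', hU', hle, y', hy'⟩

/-- the local ring maps of a `q`-morphism -/
def uloc {Y' : Scheme.{u}} (q : Y' ⟶ Y) (B : RelSpec.QCAlg Y) (B' : RelSpec.QCAlg Y')
    (u : B.presheaf ⟶ q.base _* B'.presheaf) (U : Y.Opens) (U' : Y'.Opens)
    (hle : U' ≤ q ⁻¹ᵁ U) : B.presheaf.obj (op U) ⟶ B'.presheaf.obj (op U') :=
  (u.app (op U) : B.presheaf.obj (op U) ⟶ B'.presheaf.obj (op (q ⁻¹ᵁ U))) ≫
    B'.presheaf.map (homOfLE hle).op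

end qcalg

/-! ### local description of the pointed cone -/

section cone

variable {Y : Scheme.{u}} (𝒮 : RelProj.QCGrAlg Y)

theorem vertexCompl_res_iff {U W : Y.Opens} (hU : IsAffineOpen U) (hW : IsAffineOpen W)
    (r : Γ(Y, U)) (e : W = Y.basicOpen r) (hle : W ≤ U)
    (w : Spec (𝒮.presheaf.obj (op W))) :
    (Spec.map (𝒮.presheaf.map (homOfLE hle).op)).base w ∈ RelCone.vertexCompl (𝒮.deg U hU) ↔
      w ∈ RelCone.vertexCompl (𝒮.deg W hW) := by
  subst e
  constructor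
  · exact mem_vertexCompl_of_map (𝒮.res hU hW hle) _ (fun a => rfl) w
  · exact map_mem_vertexCompl_of_le (𝒮.res hU hW hle)
      (fun x hx => 𝒮.irrelevant_le_map U hU r hx) _ (fun a => rfl) w

theorem mem_pointedCone_iff (V : Y.Opens) (hV : IsAffineOpen V)
    (y : Spec (𝒮.presheaf.obj (op V))) :
    (𝒮.toQCAlg.ι V hV).base y ∈ RelCone.pointedCone 𝒮 ↔
      y ∈ RelCone.vertexCompl (𝒮.deg V hV) := by
  constructor
  · intro hx
    rw [RelCone.pointedCone, Opens.mem_iSup] at hx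
    obtain ⟨⟨U, hU0⟩, z, hz, hzx⟩ := hx
    have hU : IsAffineOpen U := hU0
    have hz' : z ∈ RelCone.vertexCompl (𝒮.deg U hU) := hz
    have hzx' : (𝒮.toQCAlg.ι U hU).base z = (𝒮.toQCAlg.ι V hV).base y := hzx
    have hxV : 𝒮.toQCAlg.π.base ((𝒮.toQCAlg.ι V hV).base y) ∈ V := π_ι_mem _ V hV y
    have hxU : 𝒮.toQCAlg.π.base ((𝒮.toQCAlg.ι V hV).base y) ∈ U := by
      rw [← hzx']; exact π_ι_mem _ U hU z
    obtain ⟨f, g, hfg, hxf⟩ := exists_basicOpen_le_affine_inter hU hV _ ⟨hxU, hxV⟩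
    have hW : IsAffineOpen (Y.basicOpen f) := hU.basicOpen f
    obtain ⟨w, hw⟩ := exists_ι_eq 𝒮.toQCAlg (Y.basicOpen f) hW _ hxf
    have hWU : mkA (Y.basicOpen f) hW ≤ mkA U hU := ⟨f, rfl⟩
    have hWV : mkA (Y.basicOpen f) hW ≤ mkA V hV := ⟨g, hfg.symm⟩
    have hleU : Y.basicOpen f ≤ U := Y.basicOpen_le f
    have hleV : Y.basicOpen f ≤ V := by rw [hfg]; exact Y.basicOpen_le g
    have h1 := ι_res_apply 𝒮.toQCAlg hU hW hWU hleU w
    have h2 := ι_res_apply 𝒮.toQCAlg hV hW hWV hleV w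
    have hz_eq : (Spec.map (𝒮.presheaf.map (homOfLE hleU).op)).base w = z :=
      (𝒮.toQCAlg.ι U hU).isOpenEmbedding.injective (h1.trans (hw.trans hzx'.symm))
    have hy_eq : (Spec.map (𝒮.presheaf.map (homOfLE hleV).op)).base w = y :=
      (𝒮.toQCAlg.ι V hV).isOpenEmbedding.injective (h2.trans hw)
    have hw' : w ∈ RelCone.vertexCompl (𝒮.deg (Y.basicOpen f) hW) := by
      rw [← hz_eq] at hz'
      exact (vertexCompl_res_iff 𝒮 hU hW f rfl hleU w).1 hz'
    rw [← hy_eq]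
    exact (vertexCompl_res_iff 𝒮 hV hW g hfg hleV w).2 hw'
  · intro hy
    rw [RelCone.pointedCone, Opens.mem_iSup]
    exact ⟨⟨V, hV⟩, y, hy, rfl⟩

end cone

/-! ### the unit algebra -/

section unit

variable {Y : Scheme.{u}}

theorem morphismRestrict_π (A : RelSpec.QCAlg Y) (U : Y.Opens) (hU : IsAffineOpen U) :
    A.π ∣_ U =
      (A.spec.isoOfEq (A.π_preimage U hU)).hom ≫
        (A.ι U hU).isoOpensRange.inv ≫ Spec.map (A.str.app (op U)) ≫ hU.isoSpec.inv := by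
  rw [← cancel_mono U.ι, morphismRestrict_ι]
  simp only [Category.assoc]
  rw [IsAffineOpen.isoSpec_inv_ι, ← A.ι_π U hU, Scheme.Hom.isoOpensRange_inv_comp_assoc,
    Scheme.isoOfEq_hom_ι_assoc]

/-- if the structure map is an isomorphism over every affine open, the relative spectrum is the
base -/
theorem isIso_π_of_isIso_str (A : RelSpec.QCAlg Y)
    (h : ∀ (U : Y.Opens) (_ : IsAffineOpen U), IsIso (A.str.app (op U))) : IsIso A.π := by
  refine IsZariskiLocalAtTarget.of_iSup_eq_top (P := MorphismProperty.isomorphisms Scheme.{u})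
    (fun U : Y.affineOpens => U.1) (iSup_affineOpens_eq_top Y) fun U => ?_
  obtain ⟨U, hU0⟩ := U
  have hU : IsAffineOpen U := hU0
  show IsIso (A.π ∣_ U)
  rw [morphismRestrict_π A U hU]
  have := h U hU
  infer_instance

variable (Y) in
theorem isIso_unit_π : IsIso (RelSpec.QCAlg.unit Y).π :=
  isIso_π_of_isIso_str _ fun U _ => by
    show IsIso (𝟙 (Y.presheaf.obj (op U)))
    infer_instance

theorem unit_ι_π (U : Y.Opens) (hU : IsAffineOpen U) :
    (RelSpec.QCAlg.unit Y).ι U hU ≫ (RelSpec.QCAlg.unit Y).π = hU.fromSpec := by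
  rw [(RelSpec.QCAlg.unit Y).ι_π U hU]
  show Spec.map (𝟙 _) ≫ hU.fromSpec = hU.fromSpec
  rw [Spec.map_id, Category.id_comp]

end unit

/-! ### the vertex section -/

section vertex

variable {Y : Scheme.{u}} (𝒮 : RelProj.QCGrAlg Y) (aug : 𝒮.toQCAlg ⟶ RelSpec.QCAlg.unit Y)

/-- the vertex section -/
def vertexMap : Y ⟶ 𝒮.toQCAlg.spec :=
  haveI := isIso_unit_π Y
  inv (RelSpec.QCAlg.unit Y).π ≫ RelSpec.QCAlg.specMap aug

theorem isVertex_vertexMap : RelCone.IsVertex 𝒮 aug (vertexMap 𝒮 aug) := by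
  have := isIso_unit_π Y
  refine ⟨?_, fun U hU => ?_⟩
  · unfold vertexMap
    rw [Category.assoc, RelSpec.QCAlg.specMap_π, IsIso.inv_hom_id]
  · have h : hU.fromSpec ≫ inv (RelSpec.QCAlg.unit Y).π = (RelSpec.QCAlg.unit Y).ι U hU := by
      exact (IsIso.comp_inv_eq (RelSpec.QCAlg.unit Y).π).2 (unit_ι_π U hU).symm
    have h2 : hU.fromSpec ≫ vertexMap 𝒮 aug =
        (hU.fromSpec ≫ inv (RelSpec.QCAlg.unit Y).π) ≫ RelSpec.QCAlg.specMap aug := by
      unfold vertexMap; rw [Category.assoc]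
    exact h2.trans ((congrArg (fun k => k ≫ RelSpec.QCAlg.specMap aug) h).trans
      (RelSpec.QCAlg.ι_specMap U hU aug))

theorem vertex_ext (ε ε' : Y ⟶ 𝒮.toQCAlg.spec) (h : RelCone.IsVertex 𝒮 aug ε)
    (h' : RelCone.IsVertex 𝒮 aug ε') : ε = ε' := by
  refine (Y.openCoverOfIsOpenCover (fun U : Y.affineOpens => U.1)
    (iSup_affineOpens_eq_top Y)).hom_ext _ _ fun U => ?_
  obtain ⟨U, hU0⟩ := U
  have hU : IsAffineOpen U := hU0
  show U.ι ≫ ε = U.ι ≫ ε'
  rw [← cancel_epi hU.isoSpec.inv, ← Category.assoc, ← Category.assoc,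
    IsAffineOpen.isoSpec_inv_ι, h.chart U hU, h'.chart U hU]

theorem isClosedImmersion_of_isVertex (ε : Y ⟶ 𝒮.toQCAlg.spec)
    (hε : RelCone.IsVertex 𝒮 aug ε) : IsClosedImmersion ε := by
  have : IsClosedImmersion (ε ≫ 𝒮.toQCAlg.π) := by
    rw [hε.comp_π]; infer_instance
  exact IsClosedImmersion.of_comp ε 𝒮.toQCAlg.π

theorem aug_str_apply (V : Y.Opens) (r : Γ(Y, V)) :
    (aug.hom.app (op V)).hom ((𝒮.str.app (op V)).hom r) = r := by
  have hc := NatTrans.congr_app aug.comm (op V)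
  exact congrArg (fun k => k.hom r) hc

theorem str_aug_eq_decompose (h0 : RelCone.StrZeroBij 𝒮) (haug : RelCone.IsAugmentation 𝒮 aug)
    (V : Y.Opens) (hV : IsAffineOpen V) (a : 𝒮.presheaf.obj (op V)) :
    (𝒮.str.app (op V)).hom ((aug.hom.app (op V)).hom a) =
      (DirectSum.decompose (𝒮.deg V hV) a 0 : 𝒮.presheaf.obj (op V)) := by
  obtain ⟨r, hr⟩ := (h0 V hV).2 (DirectSum.decompose (𝒮.deg V hV) a 0)
  have hr' : (𝒮.str.app (op V)).hom r =
      (DirectSum.decompose (𝒮.deg V hV) a 0 : 𝒮.presheaf.obj (op V)) :=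
    congrArg Subtype.val hr
  have h1 : (aug.hom.app (op V)).hom
      (a - (DirectSum.decompose (𝒮.deg V hV) a 0 : 𝒮.presheaf.obj (op V))) = 0 :=
    map_eq_zero_of_mem_irrelevant (𝒮.deg V hV) (aug.hom.app (op V)).hom
      (fun d x hx => haug V hV d x hx) (sub_decompose_zero_mem (𝒮.deg V hV) a)
  have h2 : (aug.hom.app (op V)).hom
      (DirectSum.decompose (𝒮.deg V hV) a 0 : 𝒮.presheaf.obj (op V)) = r := by
    rw [← hr']; exact aug_str_apply 𝒮 aug V r
  have h3 : (aug.hom.app (op V)).hom a = r := by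
    have e := congrArg (aug.hom.app (op V)).hom (sub_add_cancel a
      (DirectSum.decompose (𝒮.deg V hV) a 0 : 𝒮.presheaf.obj (op V)))
    rw [map_add, h1, zero_add] at e
    exact e.symm.trans h2
  exact (congrArg (𝒮.str.app (op V)).hom h3).trans hr'

theorem mem_range_aug_iff (h0 : RelCone.StrZeroBij 𝒮) (haug : RelCone.IsAugmentation 𝒮 aug)
    (V : Y.Opens) (hV : IsAffineOpen V) (y : Spec (𝒮.presheaf.obj (op V))) :
    y ∈ Set.range (Spec.map (aug.hom.app (op V))).base ↔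
      y ∉ RelCone.vertexCompl (𝒮.deg V hV) := by
  rw [mem_vertexCompl_iff]
  constructor
  · rintro ⟨s, rfl⟩ ⟨a, ha, hna⟩
    apply hna
    show (aug.hom.app (op V)).hom a ∈ s.asIdeal
    rw [map_eq_zero_of_mem_irrelevant (𝒮.deg V hV) (aug.hom.app (op V)).hom
      (fun d x hx => haug V hV d x hx) ha]
    exact zero_mem _
  · intro hy
    push Not at hy
    refine ⟨(Spec.map (𝒮.str.app (op V))).base y, ?_⟩
    refine PrimeSpectrum.ext (Ideal.ext fun a => ?_)
    show (𝒮.str.app (op V)).hom ((aug.hom.app (op V)).hom a) ∈ y.asIdeal ↔ a ∈ y.asIdeal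
    rw [str_aug_eq_decompose 𝒮 aug h0 haug V hV a]
    have hd := hy _ (sub_decompose_zero_mem (𝒮.deg V hV) a)
    constructor
    · intro h
      have h4 := y.asIdeal.add_mem hd h
      rwa [sub_add_cancel] at h4
    · intro h
      have h4 := y.asIdeal.sub_mem h hd
      rwa [sub_sub_cancel] at h4

theorem vertex_range_iff (ε : Y ⟶ 𝒮.toQCAlg.spec) (hε : RelCone.IsVertex 𝒮 aug ε)
    (V : Y.Opens) (hV : IsAffineOpen V) (y : Spec (𝒮.presheaf.obj (op V))) :
    (𝒮.toQCAlg.ι V hV).base y ∈ Set.range ε.base ↔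
      y ∈ Set.range (Spec.map (aug.hom.app (op V))).base := by
  constructor
  · rintro ⟨t, ht⟩
    have h1 : 𝒮.toQCAlg.π.base (ε.base t) = t := congrArg (fun k => k.base t) hε.comp_π
    have htV : t ∈ V := by
      rw [← h1, ht]; exact π_ι_mem _ V hV y
    have hr : t ∈ Set.range hV.fromSpec.base := by
      rw [hV.range_fromSpec]; exact htV
    obtain ⟨s, rfl⟩ := hr
    have h2 : ε.base (hV.fromSpec.base s) =
        (𝒮.toQCAlg.ι V hV).base ((Spec.map (aug.hom.app (op V))).base s) :=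
      congrArg (fun k => k.base s) (hε.chart V hV)
    exact ⟨s, (𝒮.toQCAlg.ι V hV).isOpenEmbedding.injective (h2.symm.trans ht)⟩
  · rintro ⟨s, rfl⟩
    exact ⟨hV.fromSpec.base s, congrArg (fun k => k.base s) (hε.chart V hV)⟩

end vertex

end Groth.Agent.H41.RelConeLib
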