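import Groth.Agent.H41.RelMul
import Mathlib

/-!
# The multiplication `O(m) ⊗ O(n) → O(m+n)` on a relative `Proj`
-/

set_option autoImplicit false
set_option linter.style.haveILetI false
set_option linter.unusedSectionVars false
universe u

open CategoryTheory CategoryTheory.Limits AlgebraicGeometry HomogeneousIdeal TopologicalSpace Opposite
open Groth.Agent.H8 Groth.Agent.H41.GrModQCoh Groth.Agent.H41.GrModMaps
  Groth.Agent.H41.RelTildeMaps Groth.Agent.H41.RelMul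

noncomputable section

namespace Groth.Agent.H41.RelMulTw

section Ring

variable {A σ : Type u} [CommRing A] [SetLike σ A] [AddSubgroupClass σ A] (𝒜 : ℕ → σ) [GradedRing 𝒜]

theorem tw_sect_ext {n : ℤ} {W : (Proj 𝒜).Opens} (s t : Γ(GrTwist.twist 𝒜 n, W))
    (h : ∀ x : W, GrTwist.val s x = GrTwist.val t x) : s = t :=
  sect_ext 𝒜 𝒜 n (W := W) s t h

theorem tw_exists_mul {m n c : ℤ} (hc : m + n = c) {V : (Proj 𝒜).Opens}
    (s : Γ(GrTwist.twist 𝒜 m, V)) (t : Γ(GrTwist.twist 𝒜 n, V)) :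
    ∃ w : Γ(GrTwist.twist 𝒜 c, V), ∀ x : V,
      GrTwist.val w x = GrTwist.val s x * GrTwist.val t x := by
  obtain ⟨w, hw⟩ := TildeMul.exists_mul 𝒜 𝒜 hc (V := V) s t
  exact ⟨w, fun x => (hw x).trans (mul_comm _ _)⟩

theorem tw_bijective_mul_unitFrac {m n c : ℤ} (hc : m + n = c) {V : (Proj 𝒜).Opens}
    {p q : ℕ} (u : 𝒜 p) (v : 𝒜 q) (hpq : (p : ℤ) = q + n)
    (hux : ∀ x : V, (u : A) ∉ x.1.asHomogeneousIdeal)
    (hvx : ∀ x : V, (v : A) ∉ x.1.asHomogeneousIdeal)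
    (β : Γ(GrTwist.twist 𝒜 m, V) → Γ(GrTwist.twist 𝒜 c, V))
    (hβ : ∀ s x, GrTwist.val (β s) x =
      GrTwist.val s x * (Localization.mk (u : A) ⟨v, hvx x⟩ : GrTwist.Loc 𝒜 x.1)) :
    Function.Bijective β :=
  TildeMul.bijective_mul_unitFrac 𝒜 𝒜 hc (V := V) u v hpq hux hvx β
    (fun s x => (hβ s x).trans (mul_comm _ _))

end Ring

section Rel

variable {Y P : Scheme.{u}} (𝒮 : RelProj.QCGrAlg Y) (p : P ⟶ Y)
  (chart : ∀ (U : Y.Opens) (hU : IsAffineOpen U),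
    (((p ⁻¹ᵁ U : P.Opens) : Scheme.{u}) ≅ Proj (𝒮.deg U hU)))
  (hP : RelProj.IsRelProj 𝒮 p chart)
  (m n c : ℤ) (hc : m + n = c)
  (F : P.Modules)
  (lam : ∀ (U : Y.Opens) (hU : IsAffineOpen U),
    F ⟶ (Scheme.Modules.pushforward (RelProj.emb p chart U hU)).obj
      (GrTwist.twist (𝒮.deg U hU) m))
  (hF : RelProj.IsRelTwist 𝒮 p chart m F lam)
  (L : P.Modules)
  (lamL : ∀ (U : Y.Opens) (hU : IsAffineOpen U),
    L ⟶ (Scheme.Modules.pushforward (RelProj.emb p chart U hU)).obj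
      (GrTwist.twist (𝒮.deg U hU) n))
  (hL : RelProj.IsRelTwist 𝒮 p chart n L lamL)
  (F' : P.Modules)
  (lam' : ∀ (U : Y.Opens) (hU : IsAffineOpen U),
    F' ⟶ (Scheme.Modules.pushforward (RelProj.emb p chart U hU)).obj
      (GrTwist.twist (𝒮.deg U hU) c))
  (hF' : RelProj.IsRelTwist 𝒮 p chart c F' lam')

/-- On the chart over `U`, the section `w` reads as the product of `s` and `t`. -/
def RelAt (U : Y.Opens) (hU : IsAffineOpen U) (W : P.Opens) (s : Γ(F, W)) (t : Γ(L, W))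
    (w : Γ(F', W)) : Prop :=
  ∀ x : (RelProj.emb p chart U hU ⁻¹ᵁ W : (Proj (𝒮.deg U hU)).Opens),
    GrTwist.val (V := RelProj.emb p chart U hU ⁻¹ᵁ W) ((lam' U hU).app W w) x =
      GrTwist.val (V := RelProj.emb p chart U hU ⁻¹ᵁ W) ((lam U hU).app W s) x *
        GrTwist.val (V := RelProj.emb p chart U hU ⁻¹ᵁ W) ((lamL U hU).app W t) x

local notation "RA" => RelAt 𝒮 p chart m n c F lam L lamL F' lam'

theorem RelAt.res {U : Y.Opens} {hU : IsAffineOpen U} {W V : P.Opens} (h : V ≤ W)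
    {s : Γ(F, W)} {t : Γ(L, W)} {w : Γ(F', W)} (H : RA U hU W s t w) :
    RA U hU V (F.presheaf.map (homOfLE h).op s) (L.presheaf.map (homOfLE h).op t)
      (F'.presheaf.map (homOfLE h).op w) := by
  intro x
  have e1 := tw_val_app_res (𝒮.deg U hU) (RelProj.emb p chart U hU) (lam' U hU) h w x
  have e2 := tw_val_app_res (𝒮.deg U hU) (RelProj.emb p chart U hU) (lam U hU) h s x
  have e3 := tw_val_app_res (𝒮.deg U hU) (RelProj.emb p chart U hU) (lamL U hU) h t x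
  rw [e1, e2, e3]
  exact H ⟨x.1, h x.2⟩

include hF' in
theorem RelAt.unique {U : Y.Opens} {hU : IsAffineOpen U} {W : P.Opens} (hW : W ≤ p ⁻¹ᵁ U)
    {s : Γ(F, W)} {t : Γ(L, W)} {w w' : Γ(F', W)} (H : RA U hU W s t w)
    (H' : RA U hU W s t w') : w = w' := by
  apply (hF'.bijective U hU W hW).1
  exact tw_sect_ext (𝒮.deg U hU) (W := RelProj.emb p chart U hU ⁻¹ᵁ W) _ _
    fun x => (H x).trans (H' x).symm

include hc hF' in
theorem RelAt.exists {U : Y.Opens} {hU : IsAffineOpen U} {W : P.Opens} (hW : W ≤ p ⁻¹ᵁ U)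
    (s : Γ(F, W)) (t : Γ(L, W)) : ∃ w : Γ(F', W), RA U hU W s t w := by
  obtain ⟨z, hz⟩ := tw_exists_mul (𝒮.deg U hU) hc
    (V := RelProj.emb p chart U hU ⁻¹ᵁ W) ((lam U hU).app W s) ((lamL U hU).app W t)
  obtain ⟨w, hw⟩ := (hF'.bijective U hU W hW).2 z
  refine ⟨w, fun x => ?_⟩
  have h1 := congrArg (fun τ : Γ(GrTwist.twist (𝒮.deg U hU) c,
    RelProj.emb p chart U hU ⁻¹ᵁ W) => GrTwist.val τ x) hw
  exact h1.trans (hz x)

include hP hF hL hF' in
theorem RelAt.basicOpen {U : Y.Opens} {hU : IsAffineOpen U} (r : Γ(Y, U)) {W : P.Opens}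
    {s : Γ(F, W)} {t : Γ(L, W)} {w : Γ(F', W)} (H : RA U hU W s t w) :
    RA (Y.basicOpen r) (hU.basicOpen r) W s t w := by
  rintro ⟨y, hy⟩
  have hy' : (RelProj.emb p chart U hU).base (ProjectiveSpectrum.comap
      (𝒮.res hU (hU.basicOpen r) (Y.basicOpen_le r)) (𝒮.irrelevant_le_map U hU r) y) ∈ W := by
    have e := congrArg (fun φ : Proj (𝒮.deg (Y.basicOpen r) (hU.basicOpen r)) ⟶ P => φ.base y)
      (RelProj.map_res_emb hP U hU r)
    have e' : (RelProj.emb p chart U hU).base (ProjectiveSpectrum.comap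
        (𝒮.res hU (hU.basicOpen r) (Y.basicOpen_le r)) (𝒮.irrelevant_le_map U hU r) y) =
        (RelProj.emb p chart (Y.basicOpen r) (hU.basicOpen r)).base y := e
    rw [e']; exact hy
  have e1 := hF'.compat U hU r W w y hy hy'
  have e2 := hF.compat U hU r W s y hy hy'
  have e3 := hL.compat U hU r W t y hy hy'
  have e4 := H ⟨_, hy'⟩
  rw [e1, e4, map_mul, ← e2, ← e3]

include hc hP hF hL hF' in
theorem RelAt.of_basicOpen {U : Y.Opens} {hU : IsAffineOpen U} (r : Γ(Y, U)) (D : Y.Opens)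
    (hD : IsAffineOpen D) (e : D = Y.basicOpen r) {W : P.Opens} (hW : W ≤ p ⁻¹ᵁ D)
    {s : Γ(F, W)} {t : Γ(L, W)} {w : Γ(F', W)} (H : RA D hD W s t w) : RA U hU W s t w := by
  subst e
  have hWU : W ≤ p ⁻¹ᵁ U := hW.trans (fun z hz => Y.basicOpen_le r hz)
  obtain ⟨w', hw'⟩ := RelAt.exists 𝒮 p chart m n c hc F lam L lamL F' lam' hF' (hU := hU) hWU s t
  have h2 := RelAt.basicOpen 𝒮 p chart hP m n c F lam hF L lamL hL F' lam' hF' r hw'
  have h3 : w = w' := RelAt.unique 𝒮 p chart m n c F lam L lamL F' lam' hF' hW H h2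
  rw [h3]; exact hw'

theorem RelAt.of_local {U : Y.Opens} {hU : IsAffineOpen U} {W : P.Opens}
    {s : Γ(F, W)} {t : Γ(L, W)} {w : Γ(F', W)}
    (H : ∀ y : (RelProj.emb p chart U hU ⁻¹ᵁ W : (Proj (𝒮.deg U hU)).Opens),
      ∃ (V : P.Opens) (h : V ≤ W), (RelProj.emb p chart U hU).base y.1 ∈ V ∧
        RA U hU V (F.presheaf.map (homOfLE h).op s) (L.presheaf.map (homOfLE h).op t)
          (F'.presheaf.map (homOfLE h).op w)) : RA U hU W s t w := by
  intro x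
  obtain ⟨V, h, hxV, HV⟩ := H x
  have e := HV ⟨x.1, hxV⟩
  have e1 := tw_val_app_res (𝒮.deg U hU) (RelProj.emb p chart U hU) (lam' U hU) h w ⟨x.1, hxV⟩
  have e2 := tw_val_app_res (𝒮.deg U hU) (RelProj.emb p chart U hU) (lam U hU) h s ⟨x.1, hxV⟩
  have e3 := tw_val_app_res (𝒮.deg U hU) (RelProj.emb p chart U hU) (lamL U hU) h t ⟨x.1, hxV⟩
  rw [e1, e2, e3] at e
  exact e

include hc hP hF hL hF' in
theorem RelAt.transfer {U : Y.Opens} {hU : IsAffineOpen U} {U' : Y.Opens} {hU' : IsAffineOpen U'}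
    {W : P.Opens} (hW : W ≤ p ⁻¹ᵁ U) {s : Γ(F, W)} {t : Γ(L, W)} {w : Γ(F', W)}
    (H : RA U hU W s t w) : RA U' hU' W s t w := by
  refine RelAt.of_local 𝒮 p chart m n c F lam L lamL F' lam' fun y => ?_
  have hyW : (RelProj.emb p chart U' hU').base y.1 ∈ W := y.2
  have hyU' : (RelProj.emb p chart U' hU').base y.1 ∈ p ⁻¹ᵁ U' := by
    have : (RelProj.emb p chart U' hU').base y.1 ∈ (RelProj.emb p chart U' hU').opensRange :=
      ⟨y.1, rfl⟩
    rwa [opensRange_emb] at this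
  obtain ⟨r, r', hrr', hxr⟩ := exists_basicOpen_le_affine_inter hU hU'
    (p.base ((RelProj.emb p chart U' hU').base y.1)) ⟨hW hyW, hyU'⟩
  refine ⟨W ⊓ p ⁻¹ᵁ Y.basicOpen r, inf_le_left, ⟨hyW, hxr⟩, ?_⟩
  have h1 := RelAt.basicOpen 𝒮 p chart hP m n c F lam hF L lamL hL F' lam' hF' r
    (RelAt.res 𝒮 p chart m n c F lam L lamL F' lam'
      (inf_le_left : W ⊓ p ⁻¹ᵁ Y.basicOpen r ≤ W) H)
  exact RelAt.of_basicOpen 𝒮 p chart hP m n c hc F lam hF L lamL hL F' lam' hF' r'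
    (Y.basicOpen r) (hU.basicOpen r) hrr' inf_le_right h1

/-- The global product relation. -/
def Rel (W : P.Opens) (s : Γ(F, W)) (t : Γ(L, W)) (w : Γ(F', W)) : Prop :=
  ∀ (U : Y.Opens) (hU : IsAffineOpen U), RA U hU W s t w

include hc hP hF hL hF' in
theorem glueRel : BilinGlue.GlueRel F L F' (Rel 𝒮 p chart m n c F lam L lamL F' lam') where
  unique W s t w w' H H' := by
    refine section_eq_of_cover F' _ _ fun z hz => ?_
    obtain ⟨U, hU, hzU, -⟩ := Opens.isBasis_iff_nbhd.mp Y.isBasis_affineOpens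
      (show p.base z ∈ (⊤ : Y.Opens) from trivial)
    refine ⟨W ⊓ p ⁻¹ᵁ U, inf_le_left, ⟨hz, hzU⟩, ?_⟩
    exact RelAt.unique 𝒮 p chart m n c F lam L lamL F' lam' hF' (hU := hU) inf_le_right
      (RelAt.res 𝒮 p chart m n c F lam L lamL F' lam' inf_le_left (H U hU))
      (RelAt.res 𝒮 p chart m n c F lam L lamL F' lam' inf_le_left (H' U hU))
  res h s t w H := fun U hU => RelAt.res 𝒮 p chart m n c F lam L lamL F' lam' h (H U hU)
  of_local W s t w H := fun U hU =>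
    RelAt.of_local 𝒮 p chart m n c F lam L lamL F' lam' fun y => by
      obtain ⟨V, h, hxV, HV⟩ := H _ y.2
      exact ⟨V, h, hxV, HV U hU⟩
  exists_local W s t x hx := by
    obtain ⟨U, hU, hxU, -⟩ := Opens.isBasis_iff_nbhd.mp Y.isBasis_affineOpens
      (show p.base x ∈ (⊤ : Y.Opens) from trivial)
    obtain ⟨w, hw⟩ := RelAt.exists 𝒮 p chart m n c hc F lam L lamL F' lam' hF' (hU := hU)
      (inf_le_right : W ⊓ p ⁻¹ᵁ U ≤ p ⁻¹ᵁ U)
      (F.presheaf.map (homOfLE (inf_le_left : W ⊓ p ⁻¹ᵁ U ≤ W)).op s)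
      (L.presheaf.map (homOfLE (inf_le_left : W ⊓ p ⁻¹ᵁ U ≤ W)).op t)
    exact ⟨W ⊓ p ⁻¹ᵁ U, inf_le_left, ⟨hx, hxU⟩, w, fun U' hU' =>
      RelAt.transfer 𝒮 p chart hP m n c hc F lam hF L lamL hL F' lam' hF' inf_le_right hw⟩
  add_left W s s' t w w' H H' := fun U hU x => by
    have e1 := tw_val_app_add (𝒮.deg U hU) (RelProj.emb p chart U hU) (lam' U hU) W w w' x
    have e2 := tw_val_app_add (𝒮.deg U hU) (RelProj.emb p chart U hU) (lam U hU) W s s' x
    rw [e1, e2, add_mul, H U hU x, H' U hU x]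
  add_right W s t t' w w' H H' := fun U hU x => by
    have e1 := tw_val_app_add (𝒮.deg U hU) (RelProj.emb p chart U hU) (lam' U hU) W w w' x
    have e2 := tw_val_app_add (𝒮.deg U hU) (RelProj.emb p chart U hU) (lamL U hU) W t t' x
    rw [e1, e2, mul_add, H U hU x, H' U hU x]
  smul_left W r s t w H := fun U hU x => by
    have e1 := tw_val_app_smul (𝒮.deg U hU) (RelProj.emb p chart U hU) (lam' U hU) W r w x
    have e2 := tw_val_app_smul (𝒮.deg U hU) (RelProj.emb p chart U hU) (lam U hU) W r s x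
    rw [e1, e2, H U hU x, mul_assoc]
  smul_right W r s t w H := fun U hU x => by
    have e1 := tw_val_app_smul (𝒮.deg U hU) (RelProj.emb p chart U hU) (lam' U hU) W r w x
    have e2 := tw_val_app_smul (𝒮.deg U hU) (RelProj.emb p chart U hU) (lamL U hU) W r t x
    rw [e1, e2, H U hU x, mul_left_comm]

include hc hP hF hL hF' in
/-- `O(m) ⊗ O(n) ≅ O(m+n)` on a relative `Proj` generated in degree one. -/
theorem nonempty_iso (hgen : 𝒮.IsGenDegOne) : Nonempty (CohB1.tensorMod F L ≅ F') := by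
  have hG := glueRel 𝒮 p chart hP m n c hc F lam hF L lamL hL F' lam' hF'
  refine hG.nonempty_iso ?_
  intro W₀ x hx
  obtain ⟨U, hU, hxU, -⟩ := Opens.isBasis_iff_nbhd.mp Y.isBasis_affineOpens
    (show p.base x ∈ (⊤ : Y.Opens) from trivial)
  obtain ⟨y', hy'⟩ : ∃ y', (RelProj.emb p chart U hU).base y' = x := by
    have : x ∈ (RelProj.emb p chart U hU).opensRange := by
      rw [opensRange_emb]; exact hxU
    exact this
  have hgenU := RelTildeTN2.irrelevant_eq_span_of_closure (𝒮.deg U hU) (hgen U hU)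
  obtain ⟨f, hf1, hfy⟩ : ∃ f ∈ 𝒮.deg U hU 1, f ∉ y'.asHomogeneousIdeal := by
    by_contra hcon
    push Not at hcon
    apply y'.not_irrelevant_le
    intro b hb
    have h1 : b ∈ Ideal.span ((𝒮.deg U hU 1 : AddSubgroup _) : Set (𝒮.presheaf.obj (op U))) := by
      rw [← hgenU]; exact hb
    exact (Ideal.span_le (I := y'.asHomogeneousIdeal.toIdeal)).mpr (fun b hb => hcon b hb) h1
  have hpow : ∀ k : ℕ, f ^ k ∈ 𝒮.deg U hU k := fun k => by
    have := SetLike.pow_mem_graded k hf1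
    rwa [smul_eq_mul, mul_one] at this
  have hpq : ((n.toNat : ℕ) : ℤ) = ((-n).toNat : ℕ) + n := by
    have := Int.toNat_sub_toNat_neg n
    omega
  have hDle : RelProj.emb p chart U hU ''ᵁ Proj.basicOpen (𝒮.deg U hU) f ≤ p ⁻¹ᵁ U := by
    rintro _ ⟨z, _, rfl⟩
    have : (RelProj.emb p chart U hU).base z ∈ (RelProj.emb p chart U hU).opensRange := ⟨z, rfl⟩
    rwa [opensRange_emb] at this
  have hVU : W₀ ⊓ (RelProj.emb p chart U hU ''ᵁ Proj.basicOpen (𝒮.deg U hU) f) ≤ p ⁻¹ᵁ U :=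
    inf_le_right.trans hDle
  have hfx : ∀ (k : ℕ) (z : (RelProj.emb p chart U hU ⁻¹ᵁ
      (W₀ ⊓ (RelProj.emb p chart U hU ''ᵁ Proj.basicOpen (𝒮.deg U hU) f)) :
      (Proj (𝒮.deg U hU)).Opens)), f ^ k ∉ z.1.asHomogeneousIdeal := by
    intro k z h
    have h1 : z.1 ∈ RelProj.emb p chart U hU ⁻¹ᵁ
        (RelProj.emb p chart U hU ''ᵁ Proj.basicOpen (𝒮.deg U hU) f) := z.2.2
    rw [(RelProj.emb p chart U hU).preimage_image_eq] at h1
    exact ((ProjectiveSpectrum.mem_basicOpen (𝒮.deg U hU) f z.1).mp h1)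
      (z.1.isPrime.mem_of_pow_mem _ h)
  obtain ⟨σ, hσ⟩ := RelTwistXf.exists_readsFrac 𝒮 p chart n L lamL hL U hU _ hVU
    (⟨f ^ n.toNat, hpow _⟩ : 𝒮.deg U hU n.toNat) (⟨f ^ (-n).toNat, hpow _⟩ : 𝒮.deg U hU (-n).toNat)
    hpq (hfx _)
  refine ⟨W₀ ⊓ (RelProj.emb p chart U hU ''ᵁ Proj.basicOpen (𝒮.deg U hU) f), inf_le_left,
    ⟨hx, y', (ProjectiveSpectrum.mem_basicOpen (𝒮.deg U hU) f y').mpr hfy, hy'⟩, σ, ?_, ?_⟩
  · exact (RelTwistXf.ReadsFrac.bijective_smul 𝒮 p chart n L lamL hL hVU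
      (⟨f ^ n.toNat, hpow _⟩ : 𝒮.deg U hU n.toNat)
      (⟨f ^ (-n).toNat, hpow _⟩ : 𝒮.deg U hU (-n).toNat) hpq (hfx _) (hfx _) hσ).2
  · have hlam := hF.bijective U hU _ hVU
    have hlam' := hF'.bijective U hU _ hVU
    let e := Equiv.ofBijective _ hlam
    let g := fun s : Γ(F, W₀ ⊓ (RelProj.emb p chart U hU ''ᵁ Proj.basicOpen (𝒮.deg U hU) f)) =>
      hG.mul _ s σ
    let β : Γ(GrTwist.twist (𝒮.deg U hU) m, RelProj.emb p chart U hU ⁻¹ᵁ
        (W₀ ⊓ (RelProj.emb p chart U hU ''ᵁ Proj.basicOpen (𝒮.deg U hU) f))) →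
        Γ(GrTwist.twist (𝒮.deg U hU) c, RelProj.emb p chart U hU ⁻¹ᵁ
        (W₀ ⊓ (RelProj.emb p chart U hU ''ᵁ Proj.basicOpen (𝒮.deg U hU) f))) :=
      fun z => (lam' U hU).app _ (g (e.symm z))
    have hβ : ∀ z x, GrTwist.val (β z) x = GrTwist.val z x *
        (Localization.mk (f ^ n.toNat) ⟨f ^ (-n).toNat, hfx _ x⟩ :
          GrTwist.Loc (𝒮.deg U hU) x.1) := by
      intro z x
      have h1 := hG.mul_spec _ (e.symm z) σ U hU x
      have h2 : (lam U hU).app _ (e.symm z) = z := e.apply_symm_apply z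
      have h3 := hσ x (hfx _ x)
      rw [h2, h3] at h1
      exact h1
    have hb := tw_bijective_mul_unitFrac (𝒮.deg U hU) hc
      (⟨f ^ n.toNat, hpow _⟩ : 𝒮.deg U hU n.toNat)
      (⟨f ^ (-n).toNat, hpow _⟩ : 𝒮.deg U hU (-n).toNat) hpq (hfx _) (hfx _) β hβ
    have hcomp : (lam' U hU).app _ ∘ g = β ∘ (lam U hU).app _ := by
      funext s
      show (lam' U hU).app _ (g s) = (lam' U hU).app _ (g (e.symm ((lam U hU).app _ s)))
      rw [show e.symm ((lam U hU).app _ s) = s from e.symm_apply_apply s]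
    have hbij : Function.Bijective ((lam' U hU).app _ ∘ g) := by
      rw [hcomp]; exact hb.comp hlam
    exact (Function.Bijective.of_comp_iff' hlam' g).mp hbij

end Rel

end Groth.Agent.H41.RelMulTw
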