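import Groth.Agent.H41.RelMulUnit
import Mathlib

/-!
# `O(m) ⊗ O(n) ≅ O_P` for `m + n = 0` on a relative `Proj` generated in degree one (helper41)
-/

set_option autoImplicit false
set_option linter.style.haveILetI false
set_option linter.unusedSectionVars false
universe u

open CategoryTheory CategoryTheory.Limits AlgebraicGeometry HomogeneousIdeal TopologicalSpace Opposite
open Groth.Agent.H8 Groth.Agent.H41.GrModQCoh Groth.Agent.H41.GrModMaps
  Groth.Agent.H41.RelTildeMaps Groth.Agent.H41.RelMul Groth.Agent.H41.RelMulTw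
  Groth.Agent.H41.RelMulUnit

noncomputable section

namespace Groth.Agent.H41.RelMulUnit2

variable {Y P : Scheme.{u}} (𝒮 : RelProj.QCGrAlg Y) (p : P ⟶ Y)
  (chart : ∀ (U : Y.Opens) (hU : IsAffineOpen U),
    (((p ⁻¹ᵁ U : P.Opens) : Scheme.{u}) ≅ Proj (𝒮.deg U hU)))
  (hP : RelProj.IsRelProj 𝒮 p chart)
  (m n : ℤ) (hc : m + n = 0)
  (F : P.Modules)
  (lam : ∀ (U : Y.Opens) (hU : IsAffineOpen U),
    F ⟶ (Scheme.Modules.pushforward (RelProj.emb p chart U hU)).obj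
      (GrTwist.twist (𝒮.deg U hU) m))
  (hF : RelProj.IsRelTwist 𝒮 p chart m F lam)
  (L : P.Modules)
  (lamL : ∀ (U : Y.Opens) (hU : IsAffineOpen U),
    L ⟶ (Scheme.Modules.pushforward (RelProj.emb p chart U hU)).obj
      (GrTwist.twist (𝒮.deg U hU) n))
  (hL : RelProj.IsRelTwist 𝒮 p chart n L lamL)

include hc hP hF hL in
/-- `O(m) ⊗ O(n) ≅ O_P` (`m + n = 0`) on a relative `Proj` generated in degree one. -/
theorem nonempty_iso_unit (hgen : 𝒮.IsGenDegOne) :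
    Nonempty (CohB1.tensorMod F L ≅ Coh.structureModule P) := by
  have hG := RelMulUnit.glueRel 𝒮 p chart hP m n hc F lam hF L lamL hL
  refine hG.nonempty_iso ?_
  intro W₀ x hx
  obtain ⟨U, hU, hxU, -⟩ := Opens.isBasis_iff_nbhd.mp Y.isBasis_affineOpens
    (show p.base x ∈ (⊤ : Y.Opens) from trivial)
  obtain ⟨y', hy'⟩ : ∃ y', (RelProj.emb p chart U hU).base y' = x := by
    have : x ∈ (RelProj.emb p chart U hU).opensRange := by
      rw [opensRange_emb]; exact hxU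
    exact this
  have hgenU := RelTildeTN2.irrelevant_eq_span_of_closure (𝒮.deg U hU) (hgen U hU)
  obtain ⟨f, hf1, hfy⟩ : ∃ f ∈ 𝒮.deg U hU 1, f ∉ y'.asHomogeneousIdeal := by
    by_contra hcon
    push Not at hcon
    apply y'.not_irrelevant_le
    intro b hb
    have h1 : b ∈ Ideal.span ((𝒮.deg U hU 1 : AddSubgroup _) : Set (𝒮.presheaf.obj (op U))) := by
      rw [← hgenU]; exact hb
    exact (Ideal.span_le (I := y'.asHomogeneousIdeal.toIdeal)).mpr (fun b hb => hcon b hb) h1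
  have hpow : ∀ k : ℕ, f ^ k ∈ 𝒮.deg U hU k := fun k => by
    have := SetLike.pow_mem_graded k hf1
    rwa [smul_eq_mul, mul_one] at this
  have hpq : ((n.toNat : ℕ) : ℤ) = ((-n).toNat : ℕ) + n := by
    have := Int.toNat_sub_toNat_neg n
    omega
  have hDle : RelProj.emb p chart U hU ''ᵁ Proj.basicOpen (𝒮.deg U hU) f ≤ p ⁻¹ᵁ U := by
    rintro _ ⟨z, _, rfl⟩
    have : (RelProj.emb p chart U hU).base z ∈ (RelProj.emb p chart U hU).opensRange := ⟨z, rfl⟩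
    rwa [opensRange_emb] at this
  have hVU : W₀ ⊓ (RelProj.emb p chart U hU ''ᵁ Proj.basicOpen (𝒮.deg U hU) f) ≤ p ⁻¹ᵁ U :=
    inf_le_right.trans hDle
  have hfx : ∀ (k : ℕ) (z : (RelProj.emb p chart U hU ⁻¹ᵁ
      (W₀ ⊓ (RelProj.emb p chart U hU ''ᵁ Proj.basicOpen (𝒮.deg U hU) f)) :
      (Proj (𝒮.deg U hU)).Opens)), f ^ k ∉ z.1.asHomogeneousIdeal := by
    intro k z h
    have h1 : z.1 ∈ RelProj.emb p chart U hU ⁻¹ᵁ
        (RelProj.emb p chart U hU ''ᵁ Proj.basicOpen (𝒮.deg U hU) f) := z.2.2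
    rw [(RelProj.emb p chart U hU).preimage_image_eq] at h1
    exact ((ProjectiveSpectrum.mem_basicOpen (𝒮.deg U hU) f z.1).mp h1)
      (z.1.isPrime.mem_of_pow_mem _ h)
  obtain ⟨σ, hσ⟩ := RelTwistXf.exists_readsFrac 𝒮 p chart n L lamL hL U hU _ hVU
    (⟨f ^ n.toNat, hpow _⟩ : 𝒮.deg U hU n.toNat) (⟨f ^ (-n).toNat, hpow _⟩ : 𝒮.deg U hU (-n).toNat)
    hpq (hfx _)
  refine ⟨W₀ ⊓ (RelProj.emb p chart U hU ''ᵁ Proj.basicOpen (𝒮.deg U hU) f), inf_le_left,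
    ⟨hx, y', (ProjectiveSpectrum.mem_basicOpen (𝒮.deg U hU) f y').mpr hfy, hy'⟩, σ, ?_, ?_⟩
  · exact (RelTwistXf.ReadsFrac.bijective_smul 𝒮 p chart n L lamL hL hVU
      (⟨f ^ n.toNat, hpow _⟩ : 𝒮.deg U hU n.toNat)
      (⟨f ^ (-n).toNat, hpow _⟩ : 𝒮.deg U hU (-n).toNat) hpq (hfx _) (hfx _) hσ).2
  · exact RelMulUnit.bijective_mul_of_readsFrac 𝒮 p chart hP m n hc F lam hF L lamL hL hG hVU
      (⟨f ^ n.toNat, hpow _⟩ : 𝒮.deg U hU n.toNat)
      (⟨f ^ (-n).toNat, hpow _⟩ : 𝒮.deg U hU (-n).toNat) hpq (hfx _) (hfx _) hσ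

end Groth.Agent.H41.RelMulUnit2
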