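import Groth.Agent.H41.ProjBC2

/-!
# Existence of the relative homogeneous spectrum

The schemes `Proj 𝒮(U)`, `U` affine open in `Y`, are glued along the affine Zariski site of `Y`
(Mathlib's relative gluing), the pullback condition being base change for `Proj` along the
localisations `O(U) ⟶ O(D(r))`.
-/

set_option autoImplicit false
universe u

open CategoryTheory CategoryTheory.Limits AlgebraicGeometry TopologicalSpace Opposite
open HomogeneousLocalization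
open scoped HomogeneousIdeal

noncomputable section

namespace Groth.Agent.H41.RelProjExists

open Groth.Agent.H41.ProjBC

theorem proj_map_congr {A B : Type u} [CommRing A] [CommRing B] {𝒜 : ℕ → AddSubgroup A}
    [GradedRing 𝒜] {ℬ : ℕ → AddSubgroup B} [GradedRing ℬ] {f g : 𝒜 →+*ᵍ ℬ} (h : f = g)
    (hf : ℬ₊ ≤ 𝒜₊.map f) (hg : ℬ₊ ≤ 𝒜₊.map g) : Proj.map f hf = Proj.map g hg := by
  subst h; rfl

variable {Y : Scheme.{u}} (𝒮 : RelProj.QCGrAlg Y)

theorem irr_of_le {U V : Y.AffineZariskiSite} (h : V ≤ U) :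
    (𝒮.deg V.1 V.2)₊ ≤ ((𝒮.deg U.1 U.2)₊).map
      (𝒮.res U.2 V.2 (Scheme.AffineZariskiSite.toOpens_mono h)) := by
  obtain ⟨U, hU⟩ := U
  obtain ⟨V, hV⟩ := V
  obtain ⟨r, hr⟩ := h
  have hr' : Y.basicOpen r = V := hr
  subst hr'
  exact 𝒮.irrelevant_le_map U hU r

theorem res_id (U : Y.Opens) (hU : IsAffineOpen U) (i : U ≤ U) :
    𝒮.res hU hU i = GradedRingHom.id (𝒮.deg U hU) := by
  refine GradedRingHom.ext fun x => ?_
  have h : 𝒮.presheaf.map (homOfLE i).op = 𝟙 _ := 𝒮.presheaf.map_id (op U)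
  exact congrArg (fun m => m.hom x) h

theorem res_comp {U V W : Y.Opens} (hU : IsAffineOpen U) (hV : IsAffineOpen V)
    (hW : IsAffineOpen W) (i : V ≤ U) (j : W ≤ V) (k : W ≤ U) :
    (𝒮.res hV hW j).comp (𝒮.res hU hV i) = 𝒮.res hU hW k := by
  refine GradedRingHom.ext fun x => ?_
  have h : 𝒮.presheaf.map (homOfLE k).op =
      𝒮.presheaf.map (homOfLE i).op ≫ 𝒮.presheaf.map (homOfLE j).op := by
    rw [← Functor.map_comp]; rfl
  exact (congrArg (fun m => m.hom x) h).symm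

/-- the diagram of the `Proj 𝒮(U)` on the affine Zariski site -/
def projFunctor : Y.AffineZariskiSite ⥤ Scheme.{u} where
  obj U := Proj (𝒮.deg U.1 U.2)
  map {V U} f := Proj.map (𝒮.res U.2 V.2 (Scheme.AffineZariskiSite.toOpens_mono f.le))
    (irr_of_le 𝒮 f.le)
  map_id U := (proj_map_congr (res_id 𝒮 U.1 U.2 _) _ _).trans Proj.map_id
  map_comp {W V U} _ _ :=
    (proj_map_congr (res_comp 𝒮 U.2 V.2 W.2 _ _ _).symm _ _).trans (Proj.map_comp _ _ _ _)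

theorem hpo_site {U V : Y.AffineZariskiSite} (f : V ⟶ U) :
    IsPushout
      (CommRingCat.ofHom
        (Y.presheaf.map (homOfLE (Scheme.AffineZariskiSite.toOpens_mono f.le)).op).hom)
      (CommRingCat.ofHom ((zeroVal (𝒮.deg U.1 U.2)).comp (𝒮.strZero U.1 U.2).hom))
      (CommRingCat.ofHom ((zeroVal (𝒮.deg V.1 V.2)).comp (𝒮.strZero V.1 V.2).hom))
      (CommRingCat.ofHom
        (𝒮.res U.2 V.2 (Scheme.AffineZariskiSite.toOpens_mono f.le)).toRingHom) := by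
  have e0 : CommRingCat.ofHom ((zeroVal (𝒮.deg U.1 U.2)).comp (𝒮.strZero U.1 U.2).hom) =
      𝒮.str.app (op U.1) := CommRingCat.hom_ext (RingHom.ext fun r => rfl)
  have e1 : CommRingCat.ofHom ((zeroVal (𝒮.deg V.1 V.2)).comp (𝒮.strZero V.1 V.2).hom) =
      𝒮.str.app (op V.1) := CommRingCat.hom_ext (RingHom.ext fun r => rfl)
  rw [e0, e1]
  exact 𝒮.toQCAlg.coequifibered f.op

theorem isPullback_top {U V : Y.AffineZariskiSite} (f : V ⟶ U) :
    IsPullback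
      (Proj.map (𝒮.res U.2 V.2 (Scheme.AffineZariskiSite.toOpens_mono f.le)) (irr_of_le 𝒮 f.le))
      (Proj.toSpecZero (𝒮.deg V.1 V.2) ≫ Spec.map (𝒮.strZero V.1 V.2))
      (Proj.toSpecZero (𝒮.deg U.1 U.2) ≫ Spec.map (𝒮.strZero U.1 U.2))
      (Spec.map (Y.presheaf.map (homOfLE (Scheme.AffineZariskiSite.toOpens_mono f.le)).op)) :=
  proj_baseChange_isPullback' (𝒮.deg U.1 U.2) (𝒮.deg V.1 V.2)
    (Y.presheaf.map (homOfLE (Scheme.AffineZariskiSite.toOpens_mono f.le)).op).hom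
    (𝒮.strZero U.1 U.2).hom (𝒮.strZero V.1 V.2).hom
    (𝒮.res U.2 V.2 (Scheme.AffineZariskiSite.toOpens_mono f.le))
    (fun r => (congrArg (fun m => m.hom r)
      (𝒮.str.naturality (homOfLE (Scheme.AffineZariskiSite.toOpens_mono f.le)).op)).symm)
    (hpo_site 𝒮 f) (irr_of_le 𝒮 f.le)

theorem bot_w {U V : Y.Opens} (hU : IsAffineOpen U) (hV : IsAffineOpen V) (i : V ≤ U) :
    Spec.map (Y.presheaf.map (homOfLE i).op) ≫ hU.isoSpec.inv =
      hV.isoSpec.inv ≫ Y.homOfLE i := by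
  rw [← cancel_mono U.ι, Category.assoc, Category.assoc, IsAffineOpen.isoSpec_inv_ι,
    Scheme.homOfLE_ι, IsAffineOpen.isoSpec_inv_ι]
  exact hU.map_fromSpec hV (homOfLE i).op

theorem isPullback_site {U V : Y.AffineZariskiSite} (f : V ⟶ U) :
    IsPullback
      (Proj.map (𝒮.res U.2 V.2 (Scheme.AffineZariskiSite.toOpens_mono f.le)) (irr_of_le 𝒮 f.le))
      ((Proj.toSpecZero (𝒮.deg V.1 V.2) ≫ Spec.map (𝒮.strZero V.1 V.2)) ≫ V.2.isoSpec.inv)
      ((Proj.toSpecZero (𝒮.deg U.1 U.2) ≫ Spec.map (𝒮.strZero U.1 U.2)) ≫ U.2.isoSpec.inv)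
      (Y.homOfLE (Scheme.AffineZariskiSite.toOpens_mono f.le)) :=
  (isPullback_top 𝒮 f).paste_vert (IsPullback.of_vert_isIso ⟨bot_w U.2 V.2 _⟩)

/-- the structure morphisms `Proj 𝒮(U) ⟶ U` -/
def projNat :
    projFunctor 𝒮 ⟶ (Scheme.AffineZariskiSite.directedCover Y).functorOfLocallyDirected where
  app U := (Proj.toSpecZero (𝒮.deg U.1 U.2) ≫ Spec.map (𝒮.strZero U.1 U.2)) ≫ U.2.isoSpec.inv
  naturality _ _ f := (isPullback_site 𝒮 f).w

/-- the relative gluing datum of the `Proj 𝒮(U)` -/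
def projGlue : (Scheme.AffineZariskiSite.directedCover Y).RelativeGluingData where
  functor := projFunctor 𝒮
  natTrans := projNat 𝒮
  equifibered := fun _ _ f => isPullback_site 𝒮 f

instance : ((projGlue 𝒮).functor ⋙ Scheme.forget).IsLocallyDirected :=
  Scheme.Cover.RelativeGluingData.instIsLocallyDirectedI₀CompFunctorForgetOfIsThin ..

/-- the relative homogeneous spectrum -/
def P : Scheme.{u} := (projGlue 𝒮).glued

/-- its structure morphism -/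
def p : P 𝒮 ⟶ Y := (projGlue 𝒮).toBase

/-- the chart immersions -/
def ι (U : Y.Opens) (hU : IsAffineOpen U) : Proj (𝒮.deg U hU) ⟶ P 𝒮 :=
  (projGlue 𝒮).cover.f ⟨U, hU⟩

instance (U : Y.Opens) (hU : IsAffineOpen U) : IsOpenImmersion (ι 𝒮 U hU) :=
  (projGlue 𝒮).cover.map_prop _

theorem ι_p (U : Y.Opens) (hU : IsAffineOpen U) :
    ι 𝒮 U hU ≫ p 𝒮 =
      (Proj.toSpecZero (𝒮.deg U hU) ≫ Spec.map (𝒮.strZero U hU)) ≫ hU.fromSpec :=
  ((projGlue 𝒮).ι_toBase ⟨U, hU⟩).trans (Category.assoc _ _ _)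

theorem p_preimage (U : Y.Opens) (hU : IsAffineOpen U) :
    p 𝒮 ⁻¹ᵁ U = (ι 𝒮 U hU).opensRange := by
  have h := (projGlue 𝒮).toBase_preimage_eq_opensRange_ι ⟨U, hU⟩
  have h2 : ((Scheme.AffineZariskiSite.directedCover Y).f ⟨U, hU⟩).opensRange = U :=
    Scheme.Opens.opensRange_ι U
  rw [h2] at h
  exact h

theorem ι_res (U : Y.Opens) (hU : IsAffineOpen U) (r : Γ(Y, U)) :
    Proj.map (𝒮.res hU (hU.basicOpen r) (Y.basicOpen_le r)) (𝒮.irrelevant_le_map U hU r) ≫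
      ι 𝒮 U hU = ι 𝒮 (Y.basicOpen r) (hU.basicOpen r) :=
  colimit.w (projGlue 𝒮).functor
    (homOfLE (Scheme.AffineZariskiSite.basicOpen_le (⟨U, hU⟩ : Y.AffineZariskiSite) r))

/-- the charts -/
def chart (U : Y.Opens) (hU : IsAffineOpen U) :
    (((p 𝒮 ⁻¹ᵁ U : (P 𝒮).Opens) : Scheme.{u}) ≅ Proj (𝒮.deg U hU)) :=
  (P 𝒮).isoOfEq (p_preimage 𝒮 U hU) ≪≫ (ι 𝒮 U hU).isoOpensRange.symm

theorem chart_inv_ι (U : Y.Opens) (hU : IsAffineOpen U) :
    (chart 𝒮 U hU).inv ≫ (p 𝒮 ⁻¹ᵁ U).ι = ι 𝒮 U hU := by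
  unfold chart
  rw [Iso.trans_inv, Iso.symm_inv, Category.assoc, Scheme.isoOfEq_inv_ι,
    Scheme.Hom.isoOpensRange_hom_ι]

theorem isRelProj : RelProj.IsRelProj 𝒮 (p 𝒮) (chart 𝒮) where
  chart_over U hU := by
    rw [← cancel_epi (chart 𝒮 U hU).inv, Iso.inv_hom_id_assoc,
      ← Category.assoc (chart 𝒮 U hU).inv, chart_inv_ι, ι_p, Category.assoc]
  chart_res U hU r := by
    rw [← cancel_mono (chart 𝒮 U hU).inv, ← cancel_mono (p 𝒮 ⁻¹ᵁ U).ι]
    simp only [Category.assoc]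
    rw [Iso.hom_inv_id_assoc, Scheme.homOfLE_ι, chart_inv_ι, ι_res,
      ← chart_inv_ι 𝒮 (Y.basicOpen r) (hU.basicOpen r), Iso.hom_inv_id_assoc]

theorem exists_isRelProj :
    ∃ (P : Scheme.{u}) (p : P ⟶ Y)
      (chart : ∀ (U : Y.Opens) (hU : IsAffineOpen U),
        (((p ⁻¹ᵁ U : P.Opens) : Scheme.{u}) ≅ Proj (𝒮.deg U hU))),
      RelProj.IsRelProj 𝒮 p chart :=
  ⟨P 𝒮, p 𝒮, chart 𝒮, isRelProj 𝒮⟩

end Groth.Agent.H41.RelProjExists
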