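import Groth.Agent.H41.RelProjLib3
import Groth.Agent.H41.GlueOpens

set_option autoImplicit false
universe u

open CategoryTheory CategoryTheory.Limits AlgebraicGeometry TopologicalSpace Opposite
open HomogeneousLocalization
open scoped HomogeneousIdeal

namespace Groth.Agent.H41.RelProjLib

section
variable {A B σ τ : Type u} [CommRing A] [SetLike σ A] [AddSubgroupClass σ A]
  [CommRing B] [SetLike τ B] [AddSubgroupClass τ B]
  {𝒜 : ℕ → σ} {ℬ : ℕ → τ} [GradedRing 𝒜] [GradedRing ℬ]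

theorem projMap_congr {f g : 𝒜 →+*ᵍ ℬ} (h : f = g) (hf : ℬ₊ ≤ 𝒜₊.map f) (hg : ℬ₊ ≤ 𝒜₊.map g) :
    Proj.map f hf = Proj.map g hg := by
  subst h; rfl

end

section
variable {Y : Scheme.{u}} {𝒜 ℬ : RelProj.QCGrAlg Y} (φ : 𝒜.toQCAlg ⟶ ℬ.toQCAlg)
    (hφ : RelProj.IsGradedHom φ)
    (hirr : ∀ (U : Y.Opens) (hU : IsAffineOpen U),
      (ℬ.deg U hU)₊ ≤ ((𝒜.deg U hU)₊).map (RelProj.gradedHomAt φ hφ U hU))
    {PA PB : Scheme.{u}} {pA : PA ⟶ Y} {pB : PB ⟶ Y}
    (chartA : ∀ (U : Y.Opens) (hU : IsAffineOpen U),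
      (((pA ⁻¹ᵁ U : PA.Opens) : Scheme.{u}) ≅ Proj (𝒜.deg U hU)))
    (chartB : ∀ (U : Y.Opens) (hU : IsAffineOpen U),
      (((pB ⁻¹ᵁ U : PB.Opens) : Scheme.{u}) ≅ Proj (ℬ.deg U hU)))

/-- the local pieces of the morphism of relative Proj's -/
noncomputable def hloc (U : Y.Opens) (hU : IsAffineOpen U) :
    ((pB ⁻¹ᵁ U : PB.Opens) : Scheme.{u}) ⟶ PA :=
  (chartB U hU).hom ≫ Proj.map (RelProj.gradedHomAt φ hφ U hU) (hirr U hU) ≫
    (chartA U hU).inv ≫ (pA ⁻¹ᵁ U).ι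

variable (hA : RelProj.IsRelProj 𝒜 pA chartA) (hB : RelProj.IsRelProj ℬ pB chartB)

include hA hB in
theorem hloc_res (U : Y.Opens) (hU : IsAffineOpen U) (r : Γ(Y, U)) :
    PB.homOfLE (pB.preimage_mono (Y.basicOpen_le r)) ≫ hloc φ hφ hirr chartA chartB U hU =
      hloc φ hφ hirr chartA chartB (Y.basicOpen r) (hU.basicOpen r) := by
  have hBres := hB.chart_res U hU r
  have hAres := hA.chart_res U hU r
  have hfun : Proj.map (ℬ.res hU (hU.basicOpen r) (Y.basicOpen_le r)) (ℬ.irrelevant_le_map U hU r) ≫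
      Proj.map (RelProj.gradedHomAt φ hφ U hU) (hirr U hU) =
      Proj.map (RelProj.gradedHomAt φ hφ _ (hU.basicOpen r)) (hirr _ (hU.basicOpen r)) ≫
        Proj.map (𝒜.res hU (hU.basicOpen r) (Y.basicOpen_le r)) (𝒜.irrelevant_le_map U hU r) := by
    rw [← Proj.map_comp, ← Proj.map_comp]
    apply projMap_congr
    apply GradedRingHom.ext
    intro x
    have hn := φ.hom.naturality (homOfLE (Y.basicOpen_le r)).op
    exact (congrArg (fun k => k.hom x) hn).symm
  have hA' : Proj.map (𝒜.res hU (hU.basicOpen r) (Y.basicOpen_le r)) (𝒜.irrelevant_le_map U hU r) ≫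
      (chartA U hU).inv = (chartA _ (hU.basicOpen r)).inv ≫
        PA.homOfLE (pA.preimage_mono (Y.basicOpen_le r)) := by
    rw [Iso.eq_inv_comp, ← Category.assoc, Iso.comp_inv_eq]
    exact hAres.symm
  unfold hloc
  rw [reassoc_of% hBres, reassoc_of% hfun, reassoc_of% hA', Scheme.homOfLE_ι]

include hA hB in
theorem hloc_res' (U : Y.Opens) (hU : IsAffineOpen U) (r : Γ(Y, U)) (V : Y.Opens)
    (hV : V = Y.basicOpen r) (hVaff : IsAffineOpen V) (hle : V ≤ U) :
    PB.homOfLE (pB.preimage_mono hle) ≫ hloc φ hφ hirr chartA chartB U hU =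
      hloc φ hφ hirr chartA chartB V hVaff := by
  subst hV
  exact hloc_res φ hφ hirr chartA chartB hA hB U hU r

include hA hB in
/-- Existence and uniqueness of the morphism of relative Proj's induced by a graded homomorphism. -/
theorem existsUnique_relProjMap :
    ∃! h : PB ⟶ PA, RelProj.IsRelProjMap φ hφ hirr chartA chartB h := by
  obtain ⟨h, hh, huniq⟩ := GlueOpens.existsUnique_glue (X := PB) (Z := PA)
    (fun U : Y.affineOpens => pB ⁻¹ᵁ U.1) (iSup_preimage_affineOpens pB)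
    (fun U => hloc φ hφ hirr chartA chartB U.1 U.2) (by
      rintro ⟨U, hU0⟩ ⟨U', hU0'⟩ x hx
      have hU : IsAffineOpen U := hU0
      have hU' : IsAffineOpen U' := hU0'
      obtain ⟨f, g, hfg, hxf⟩ := exists_basicOpen_le_affine_inter hU hU' (pB.base x) ⟨hx.1, hx.2⟩
      have hle' : Y.basicOpen f ≤ U' := hfg ▸ Y.basicOpen_le g
      refine ⟨pB ⁻¹ᵁ (Y.basicOpen f), pB.preimage_mono (Y.basicOpen_le f),
        pB.preimage_mono hle', hxf, ?_⟩
      show PB.homOfLE _ ≫ hloc φ hφ hirr chartA chartB U hU =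
        PB.homOfLE _ ≫ hloc φ hφ hirr chartA chartB U' hU'
      rw [hloc_res φ hφ hirr chartA chartB hA hB U hU f]
      exact (hloc_res' φ hφ hirr chartA chartB hA hB U' hU' g (Y.basicOpen f) hfg
        (hU.basicOpen f) hle').symm)
  exact ⟨h, fun U hU => hh ⟨U, hU⟩, fun h' hh' => huniq h' (fun i => hh' i.1 i.2)⟩

end

end Groth.Agent.H41.RelProjLib
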