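import Groth.Agent.H41.RelProjLib2
import Groth.Agent.H18.ProjIrred

set_option autoImplicit false
universe u

open CategoryTheory CategoryTheory.Limits AlgebraicGeometry TopologicalSpace Opposite
open HomogeneousLocalization
open scoped HomogeneousIdeal

namespace Groth.Agent.H41.RelProjLib

section
variable {A σ : Type u} [CommRing A] [SetLike σ A] [AddSubgroupClass σ A]

/-- `Proj` of a graded domain with nonzero irrelevant ideal is integral. -/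
theorem proj_isIntegral_of_isDomain (𝒜 : ℕ → σ) [GradedRing 𝒜] [IsDomain A]
    (hne : (HomogeneousIdeal.irrelevant 𝒜).toIdeal ≠ ⊥) : IsIntegral (Proj 𝒜) := by
  have hred : ∀ f ∈ (HomogeneousIdeal.irrelevant 𝒜).toIdeal, IsNilpotent f → f = 0 :=
    fun f _ h => h.eq_zero
  have hR : IsReduced (Proj 𝒜) := Groth.Agent.H18.proj_isReduced 𝒜 hred
  have hJ : ∀ f ∈ (HomogeneousIdeal.irrelevant 𝒜).toIdeal,
      (f ∈ (ProjectiveSpectrum.vanishingIdeal (Set.univ : Set (ProjectiveSpectrum 𝒜))).toIdeal ↔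
        f = 0) := by
    intro f hf
    constructor
    · intro h
      exact hred f hf (Groth.Agent.H18.isNilpotent_of_mem_vanishingIdeal_univ 𝒜 hf h)
    · rintro rfl
      exact Ideal.zero_mem _
  have hirr : IrreducibleSpace (Proj 𝒜) ↔
      IsIrreducible (Set.univ : Set (ProjectiveSpectrum 𝒜)) :=
    irreducibleSpace_def (ProjectiveSpectrum 𝒜)
  rw [isIntegral_iff_irreducibleSpace_and_isReduced, and_iff_left hR, hirr,
    Groth.Agent.H18.isIrreducible_iff_vanishingIdeal]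
  obtain ⟨f, hf, hf0⟩ := Submodule.exists_mem_ne_zero_of_ne_bot hne
  refine ⟨fun hle => hf0 ((hJ f hf).mp (hle hf)), ?_⟩
  intro f hf g hg hfg
  rw [hJ f hf, hJ g hg]
  exact mul_eq_zero.1 ((hJ _ (Ideal.mul_mem_left _ _ hg)).mp hfg)

end

theorem isIntegral_relProj {Y P : Scheme.{u}} [IsIntegral Y] (𝒮 : RelProj.QCGrAlg Y)
    (hint : ∀ (U : Y.Opens) (hU : IsAffineOpen U), (U : Set Y).Nonempty →
      IsDomain (𝒮.presheaf.obj (op U)) ∧ ((𝒮.deg U hU)₊).toIdeal ≠ ⊥)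
    (p : P ⟶ Y)
    (chart : ∀ (U : Y.Opens) (hU : IsAffineOpen U),
      (((p ⁻¹ᵁ U : P.Opens) : Scheme.{u}) ≅ Proj (𝒮.deg U hU))) :
    IsIntegral P ∧ DenseRange p.base := by
  have hpiece : ∀ (U : Y.Opens) (hU : IsAffineOpen U), (U : Set Y).Nonempty →
      IsIntegral ((p ⁻¹ᵁ U : P.Opens) : Scheme.{u}) := by
    intro U hU hne
    obtain ⟨hdom, hirr⟩ := hint U hU hne
    have := hdom
    have : IsIntegral (Proj (𝒮.deg U hU)) := proj_isIntegral_of_isDomain (𝒮.deg U hU) hirr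
    exact IsIntegral.of_isIso (chart U hU).inv
  have hirrset : ∀ (U : Y.Opens) (hU : IsAffineOpen U), (U : Set Y).Nonempty →
      IsIrreducible ((p ⁻¹ᵁ U : P.Opens) : Set P) := by
    intro U hU hne
    have := hpiece U hU hne
    have h1 : IsIrreducible (Set.univ : Set ((p ⁻¹ᵁ U : P.Opens) : Scheme.{u})) :=
      IrreducibleSpace.isIrreducible_univ _
    have h2 := h1.image (p ⁻¹ᵁ U).ι.base (p ⁻¹ᵁ U).ι.continuous.continuousOn
    rw [Set.image_univ] at h2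
    have h3 : Set.range (p ⁻¹ᵁ U).ι.base = ((p ⁻¹ᵁ U : P.Opens) : Set P) :=
      Scheme.Opens.range_ι _
    rwa [h3] at h2
  have hbasis := fun (W : Y.Opens) (y : Y) (hy : y ∈ W) =>
    Opens.isBasis_iff_nbhd.1 Y.isBasis_affineOpens (U := W) (x := y) hy
  have hne : Nonempty P := by
    obtain ⟨y⟩ := (inferInstance : Nonempty Y)
    obtain ⟨U, hU, hyU, -⟩ := hbasis ⊤ y trivial
    obtain ⟨x, -⟩ := (hirrset U hU ⟨y, hyU⟩).nonempty
    exact ⟨x⟩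
  have hpre : IsPreirreducible (Set.univ : Set P) := by
    rintro V1 V2 hV1 hV2 ⟨x1, -, hx1⟩ ⟨x2, -, hx2⟩
    obtain ⟨U1, hU1, hy1, -⟩ := hbasis ⊤ (p.base x1) trivial
    obtain ⟨U2, hU2, hy2, -⟩ := hbasis ⊤ (p.base x2) trivial
    have hs1 := hirrset U1 hU1 ⟨_, hy1⟩
    have hs2 := hirrset U2 hU2 ⟨_, hy2⟩
    obtain ⟨y, hy⟩ : ((U1 : Set Y) ∩ (U2 : Set Y)).Nonempty :=
      nonempty_preirreducible_inter U1.2 U2.2 ⟨_, hy1⟩ ⟨_, hy2⟩
    obtain ⟨U3, hU3, hy3, hle⟩ := hbasis (U1 ⊓ U2) y hy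
    have hs3 := hirrset U3 hU3 ⟨_, hy3⟩
    obtain ⟨x3, hx3⟩ := hs3.nonempty
    have h31 : ∀ z, z ∈ ((p ⁻¹ᵁ U3 : P.Opens) : Set P) → z ∈ ((p ⁻¹ᵁ U1 : P.Opens) : Set P) :=
      fun z hz => (hle hz).1
    have h32 : ∀ z, z ∈ ((p ⁻¹ᵁ U3 : P.Opens) : Set P) → z ∈ ((p ⁻¹ᵁ U2 : P.Opens) : Set P) :=
      fun z hz => (hle hz).2
    obtain ⟨z1, -, hz1V, hz1s⟩ := hs1.2 V1 ((p ⁻¹ᵁ U3 : P.Opens) : Set P) hV1 (p ⁻¹ᵁ U3).2
      ⟨x1, hy1, hx1⟩ ⟨x3, h31 _ hx3, hx3⟩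
    obtain ⟨z2, -, hz2V, hz2s⟩ := hs2.2 V2 ((p ⁻¹ᵁ U3 : P.Opens) : Set P) hV2 (p ⁻¹ᵁ U3).2
      ⟨x2, hy2, hx2⟩ ⟨x3, h32 _ hx3, hx3⟩
    obtain ⟨z, -, hzV1, hzV2⟩ := hs3.2 V1 V2 hV1 hV2 ⟨z1, hz1s, hz1V⟩ ⟨z2, hz2s, hz2V⟩
    exact ⟨z, trivial, hzV1, hzV2⟩
  have hirrP : IrreducibleSpace P :=
    { toPreirreducibleSpace := ⟨hpre⟩, toNonempty := hne }
  have hcov : ⨆ U : {U : Y.affineOpens // ((U.1 : Y.Opens) : Set Y).Nonempty},
      p ⁻¹ᵁ (U.1.1 : Y.Opens) = ⊤ := by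
    rw [eq_top_iff]
    intro x _
    obtain ⟨U, hU, hxU, -⟩ := hbasis ⊤ (p.base x) trivial
    exact Opens.mem_iSup.2 ⟨⟨⟨U, hU⟩, ⟨_, hxU⟩⟩, hxU⟩
  have hredP : IsReduced P := by
    have : ∀ i, IsReduced ((P.openCoverOfIsOpenCover
        (fun U : {U : Y.affineOpens // ((U.1 : Y.Opens) : Set Y).Nonempty} =>
          p ⁻¹ᵁ (U.1.1 : Y.Opens)) hcov).X i) := by
      intro i
      obtain ⟨⟨U, hU0⟩, hne⟩ := i
      have hU : IsAffineOpen U := hU0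
      have := hpiece U hU hne
      show IsReduced ((p ⁻¹ᵁ U : P.Opens) : Scheme.{u})
      infer_instance
    exact IsReduced.of_openCover P (P.openCoverOfIsOpenCover
        (fun U : {U : Y.affineOpens // ((U.1 : Y.Opens) : Set Y).Nonempty} =>
          p ⁻¹ᵁ (U.1.1 : Y.Opens)) hcov)
  refine ⟨isIntegral_of_irreducibleSpace_of_isReduced P, ?_⟩
  rw [DenseRange, dense_iff_inter_open]
  rintro W hW ⟨y, hy⟩
  obtain ⟨U, hU, hyU, hle⟩ := hbasis ⟨W, hW⟩ y hy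
  obtain ⟨x, hx⟩ := (hirrset U hU ⟨y, hyU⟩).nonempty
  exact ⟨p.base x, hle hx, x, rfl⟩

end Groth.Agent.H41.RelProjLib
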