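import Groth.Agent.H41.RelProjInt

set_option autoImplicit false
universe u

open CategoryTheory CategoryTheory.Limits AlgebraicGeometry TopologicalSpace Opposite
open HomogeneousLocalization
open scoped HomogeneousIdeal

namespace Groth.Agent.H41.RelProjLib

section
variable {A σ : Type u} [CommRing A] [SetLike σ A] [AddSubgroupClass σ A]

/-- A graded ring is a domain as soon as the product of two nonzero homogeneous elements is nonzero. -/
theorem isDomain_of_homogeneous (𝒜 : ℕ → σ) [GradedRing 𝒜] [Nontrivial A]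
    (h : ∀ (i j : ℕ) (a b : A), a ∈ 𝒜 i → b ∈ 𝒜 j → a * b = 0 → a = 0 ∨ b = 0) : IsDomain A := by
  classical
  have : NoZeroDivisors A := by
    refine ⟨fun {a b} hab => ?_⟩
    by_contra hcon
    push Not at hcon
    obtain ⟨ha0, hb0⟩ := hcon
    have hsa : (DirectSum.decompose 𝒜 a).support.Nonempty := by
      rw [Finset.nonempty_iff_ne_empty, Ne, DFinsupp.support_eq_empty]
      intro h0
      exact ha0 ((DirectSum.decompose 𝒜).injective (h0.trans (DirectSum.decompose_zero 𝒜).symm))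
    have hsb : (DirectSum.decompose 𝒜 b).support.Nonempty := by
      rw [Finset.nonempty_iff_ne_empty, Ne, DFinsupp.support_eq_empty]
      intro h0
      exact hb0 ((DirectSum.decompose 𝒜).injective (h0.trans (DirectSum.decompose_zero 𝒜).symm))
    set i := (DirectSum.decompose 𝒜 a).support.min' hsa with hi
    set j := (DirectSum.decompose 𝒜 b).support.min' hsb with hj
    have hai : (DirectSum.decompose 𝒜 a i : A) ≠ 0 := by
      have := DFinsupp.mem_support_iff.1 (Finset.min'_mem _ hsa)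
      intro h0
      exact this (Subtype.ext h0)
    have hbj : (DirectSum.decompose 𝒜 b j : A) ≠ 0 := by
      have := DFinsupp.mem_support_iff.1 (Finset.min'_mem _ hsb)
      intro h0
      exact this (Subtype.ext h0)
    have halt : ∀ k, k < i → (DirectSum.decompose 𝒜 a k : A) = 0 := by
      intro k hk
      by_contra h0
      have hmem : k ∈ (DirectSum.decompose 𝒜 a).support :=
        DFinsupp.mem_support_iff.2 fun h1 => h0 (by rw [h1]; rfl)
      exact absurd (Finset.min'_le _ k hmem) (not_le.2 hk)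
    have hblt : ∀ k, k < j → (DirectSum.decompose 𝒜 b k : A) = 0 := by
      intro k hk
      by_contra h0
      have hmem : k ∈ (DirectSum.decompose 𝒜 b).support :=
        DFinsupp.mem_support_iff.2 fun h1 => h0 (by rw [h1]; rfl)
      exact absurd (Finset.min'_le _ k hmem) (not_le.2 hk)
    have hprod : ((DirectSum.decompose 𝒜 (a * b) (i + j) : 𝒜 (i + j)) : A) =
        (DirectSum.decompose 𝒜 a i : A) * (DirectSum.decompose 𝒜 b j : A) := by
      rw [DirectSum.decompose_mul, DirectSum.coe_mul_apply_eq_sum_antidiagonal]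
      rw [Finset.sum_eq_single (i, j)]
      · rintro ⟨k, l⟩ hkl hne
        have hsum : k + l = i + j := Finset.HasAntidiagonal.mem_antidiagonal.1 hkl
        rcases lt_trichotomy k i with hlt | heq | hgt
        · simp only; rw [halt k hlt, zero_mul]
        · exfalso; apply hne; subst heq; congr 1; omega
        · simp only; rw [hblt l (by omega), mul_zero]
      · intro hnot
        exact (hnot (Finset.HasAntidiagonal.mem_antidiagonal.2 (rfl : (i, j).1 + (i, j).2 = i + j))).elim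
    have hz : ((DirectSum.decompose 𝒜 (a * b) (i + j) : 𝒜 (i + j)) : A) = 0 := by
      rw [hab, DirectSum.decompose_zero]; rfl
    rw [hprod] at hz
    rcases h i j _ _ (SetLike.coe_mem _) (SetLike.coe_mem _) hz with h1 | h1
    · exact hai h1
    · exact hbj h1
  exact NoZeroDivisors.to_isDomain A

/-- If `Proj` of an essentially reduced graded ring is integral, the ring is essentially integral. -/
theorem essInt_of_isIntegral (𝒜 : ℕ → σ) [GradedRing 𝒜]
    (hred : ∀ f ∈ (HomogeneousIdeal.irrelevant 𝒜).toIdeal, IsNilpotent f → f = 0)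
    [IsIntegral (Proj 𝒜)] :
    (∃ f ∈ (HomogeneousIdeal.irrelevant 𝒜).toIdeal, f ≠ 0) ∧
      ∀ f ∈ (HomogeneousIdeal.irrelevant 𝒜).toIdeal, ∀ g ∈ (HomogeneousIdeal.irrelevant 𝒜).toIdeal,
        f * g = 0 → f = 0 ∨ g = 0 := by
  have hJ : ∀ f ∈ (HomogeneousIdeal.irrelevant 𝒜).toIdeal,
      (f ∈ (ProjectiveSpectrum.vanishingIdeal (Set.univ : Set (ProjectiveSpectrum 𝒜))).toIdeal ↔
        f = 0) := by
    intro f hf
    constructor
    · intro h
      exact hred f hf (Groth.Agent.H18.isNilpotent_of_mem_vanishingIdeal_univ 𝒜 hf h)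
    · rintro rfl
      exact Ideal.zero_mem _
  have hirr : IsIrreducible (Set.univ : Set (ProjectiveSpectrum 𝒜)) :=
    (irreducibleSpace_def (ProjectiveSpectrum 𝒜)).1 (inferInstance : IrreducibleSpace (Proj 𝒜))
  rw [Groth.Agent.H18.isIrreducible_iff_vanishingIdeal] at hirr
  obtain ⟨h1, h2⟩ := hirr
  refine ⟨?_, ?_⟩
  · by_contra hcon
    push Not at hcon
    apply h1
    intro f hf
    rw [hJ f hf]
    exact hcon f hf
  · intro f hf g hg hfg
    have := h2 f hf g hg (by rw [hfg]; exact Ideal.zero_mem _)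
    rwa [hJ f hf, hJ g hg] at this

end

section
variable {Y P : Scheme.{u}} [IsIntegral Y] (𝒮 : RelProj.QCGrAlg Y)
  (hred : ∀ (U : Y.Opens) (hU : IsAffineOpen U) (x : 𝒮.presheaf.obj (op U)),
      x ∈ (𝒮.deg U hU)₊ → IsNilpotent x → x = 0)
  (p : P ⟶ Y)
  (chart : ∀ (U : Y.Opens) (hU : IsAffineOpen U),
    (((p ⁻¹ᵁ U : P.Opens) : Scheme.{u}) ≅ Proj (𝒮.deg U hU)))
  (hP : RelProj.IsRelProj 𝒮 p chart) [IsIntegral P] (hdom : DenseRange p.base)
  (U : Y.Opens) (hU : IsAffineOpen U)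

include hred hP hdom in
theorem mixed_false (a' : Γ(Y, U)) (ha' : a' ≠ 0) (b : 𝒮.presheaf.obj (op U)) (j : ℕ) (hj : 0 < j)
    (hb : b ∈ 𝒮.deg U hU j) (hb0 : b ≠ 0)
    (hab : (((𝒮.strZero U hU).hom a' : 𝒮.deg U hU 0) : 𝒮.presheaf.obj (op U)) * b = 0) : False := by
  have hbirr : b ∈ (𝒮.deg U hU)₊ := HomogeneousIdeal.mem_irrelevant_of_mem _ hj hb
  have hbn : ¬ IsNilpotent (1 * b) := by
    rw [one_mul]; exact fun h => hb0 (hred U hU b hbirr h)
  obtain ⟨q, -, hq⟩ :=
    Groth.Agent.H18.exists_point_not_mem_of_not_isNilpotent (𝒮.deg U hU) 1 b hj hb hbn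
  have hq' : q ∈ (Proj.awayι (𝒮.deg U hU) b hb hj).opensRange := by
    rw [Proj.opensRange_awayι]; exact (Proj.mem_basicOpen _ _ _).2 hq
  obtain ⟨z', -⟩ := hq'
  obtain ⟨j', hj'def⟩ : ∃ j' : Spec (.of (Away (𝒮.deg U hU) b)) ⟶ P,
      j' = Proj.awayι (𝒮.deg U hU) b hb hj ≫ (chart U hU).inv ≫ (p ⁻¹ᵁ U).ι := ⟨_, rfl⟩
  have : IsOpenImmersion j' := by rw [hj'def]; infer_instance
  have hj'p : j' ≫ p = Spec.map (𝒮.strZero U hU ≫
      CommRingCat.ofHom (fromZeroRingHom (𝒮.deg U hU) (Submonoid.powers b))) ≫ hU.fromSpec := by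
    rw [hj'def]
    simp only [Category.assoc]
    rw [← hP.chart_over U hU, Iso.inv_hom_id_assoc, Proj.awayι_toSpecZero_assoc,
      ← Spec.map_comp_assoc]
  have hψ : (fromZeroRingHom (𝒮.deg U hU) (Submonoid.powers b)) ((𝒮.strZero U hU).hom a') = 0 := by
    apply HomogeneousLocalization.val_injective
    rw [HomogeneousLocalization.val_zero]
    show Localization.mk (((𝒮.strZero U hU).hom a' : 𝒮.deg U hU 0) : 𝒮.presheaf.obj (op U))
      ⟨((1 : 𝒮.deg U hU 0) : 𝒮.presheaf.obj (op U)), _⟩ = 0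
    rw [Localization.mk_eq_mk', IsLocalization.mk'_eq_zero_iff]
    exact ⟨⟨b, 1, pow_one b⟩, by rw [mul_comm]; exact hab⟩
  have hclaim : ∀ z : Spec (.of (Away (𝒮.deg U hU) b)),
      (j' ≫ p).base z ∉ Y.basicOpen a' := by
    intro z hz
    rw [hj'p] at hz
    have hz2 : (Spec.map (𝒮.strZero U hU ≫
        CommRingCat.ofHom (fromZeroRingHom (𝒮.deg U hU) (Submonoid.powers b)))).base z ∈
        hU.fromSpec ⁻¹ᵁ Y.basicOpen a' := hz
    rw [hU.fromSpec_preimage_basicOpen] at hz2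
    apply (PrimeSpectrum.mem_basicOpen _ _).1 hz2
    show (𝒮.strZero U hU ≫
        CommRingCat.ofHom (fromZeroRingHom (𝒮.deg U hU) (Submonoid.powers b))).hom a' ∈ z.asIdeal
    rw [CommRingCat.hom_comp, RingHom.comp_apply, CommRingCat.hom_ofHom, hψ]
    exact zero_mem _
  have hW : ∃ x : P, p.base x ∈ Y.basicOpen a' := by
    have hne' : ((Y.basicOpen a' : Y.Opens) : Set Y).Nonempty := by
      by_contra hemp
      rw [Set.not_nonempty_iff_eq_empty] at hemp
      have : Y.basicOpen a' = ⊥ := Opens.ext hemp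
      exact ha' ((basicOpen_eq_bot_iff a').1 this)
    obtain ⟨y, hy, x, rfl⟩ := hdom.inter_open_nonempty _ (Y.basicOpen a').2 hne'
    exact ⟨x, hy⟩
  obtain ⟨x, hx⟩ := hW
  obtain ⟨z, ⟨z'', rfl⟩, hzW⟩ := nonempty_preirreducible_inter j'.opensRange.2
    (p ⁻¹ᵁ Y.basicOpen a').2 ⟨j'.base z', ⟨z', rfl⟩⟩ ⟨x, hx⟩
  exact hclaim z'' hzW

include hred hP hdom in
theorem integral_algebra_of_isIntegral_relProj
    (h0 : ∀ (U : Y.Opens) (hU : IsAffineOpen U), Function.Bijective (𝒮.strZero U hU).hom)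
    (hne : (U : Set Y).Nonempty) :
    IsDomain (𝒮.presheaf.obj (op U)) ∧ ((𝒮.deg U hU)₊).toIdeal ≠ ⊥ := by
  have : Nonempty U := ⟨⟨hne.some, hne.some_mem⟩⟩
  have : IsDomain Γ(Y, U) := inferInstance
  obtain ⟨y, hy, x, rfl⟩ := hdom.inter_open_nonempty _ U.2 hne
  have : Nonempty ((p ⁻¹ᵁ U : P.Opens) : Scheme.{u}) := ⟨⟨x, hy⟩⟩
  have : IsIntegral ((p ⁻¹ᵁ U : P.Opens) : Scheme.{u}) :=
    isIntegral_of_isOpenImmersion (p ⁻¹ᵁ U).ι
  have : IsIntegral (Proj (𝒮.deg U hU)) := IsIntegral.of_isIso (chart U hU).hom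
  obtain ⟨⟨f, hf, hf0⟩, hmul⟩ :=
    essInt_of_isIntegral (𝒮.deg U hU) (fun g hg => hred U hU g hg)
  refine ⟨?_, fun hbot => hf0 ?_⟩
  swap
  · rw [hbot] at hf; exact (Submodule.mem_bot _).1 hf
  have : Nontrivial (𝒮.presheaf.obj (op U)) := nontrivial_of_ne f 0 hf0
  apply isDomain_of_homogeneous (𝒮.deg U hU)
  intro i j a b ha hb hab
  by_contra hcon
  push Not at hcon
  obtain ⟨ha0, hb0⟩ := hcon
  rcases Nat.eq_zero_or_pos i with hi | hi <;> rcases Nat.eq_zero_or_pos j with hj | hj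
  · subst hi; subst hj
    obtain ⟨a', ha'⟩ := (h0 U hU).2 ⟨a, ha⟩
    obtain ⟨b', hb'⟩ := (h0 U hU).2 ⟨b, hb⟩
    have hab' : a' * b' = 0 := by
      apply (h0 U hU).1
      rw [map_mul, ha', hb', map_zero]
      exact Subtype.ext hab
    rcases mul_eq_zero.1 hab' with h | h
    · apply ha0
      have := congrArg Subtype.val ha'
      rw [h, map_zero] at this
      exact this.symm
    · apply hb0
      have := congrArg Subtype.val hb'
      rw [h, map_zero] at this
      exact this.symm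
  · subst hi
    obtain ⟨a', ha'⟩ := (h0 U hU).2 ⟨a, ha⟩
    have ea : (((𝒮.strZero U hU).hom a' : 𝒮.deg U hU 0) : 𝒮.presheaf.obj (op U)) = a :=
      congrArg Subtype.val ha'
    have ha'0 : a' ≠ 0 := by
      rintro rfl
      apply ha0
      rw [← ea, map_zero]; rfl
    exact mixed_false 𝒮 hred p chart hP hdom U hU a' ha'0 b j hj hb hb0 (by rw [ea]; exact hab)
  · subst hj
    obtain ⟨b', hb'⟩ := (h0 U hU).2 ⟨b, hb⟩
    have eb : (((𝒮.strZero U hU).hom b' : 𝒮.deg U hU 0) : 𝒮.presheaf.obj (op U)) = b :=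
      congrArg Subtype.val hb'
    have hb'0 : b' ≠ 0 := by
      rintro rfl
      apply hb0
      rw [← eb, map_zero]; rfl
    exact mixed_false 𝒮 hred p chart hP hdom U hU b' hb'0 a i hi ha ha0
      (by rw [eb, mul_comm]; exact hab)
  · exact (hmul a (HomogeneousIdeal.mem_irrelevant_of_mem _ hi ha) b
      (HomogeneousIdeal.mem_irrelevant_of_mem _ hj hb) hab).elim ha0 hb0

end

end Groth.Agent.H41.RelProjLib
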