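import Groth.Agent.H41.RelProjLib
import Groth.Agent.H18.ProjReduced
import Mathlib.AlgebraicGeometry.ProjectiveSpectrum.Proper

set_option autoImplicit false
universe u

open CategoryTheory CategoryTheory.Limits AlgebraicGeometry TopologicalSpace Opposite
open HomogeneousLocalization
open scoped HomogeneousIdeal

namespace Groth.Agent.H41.RelProjLib

variable {Y : Scheme.{u}}

/-- The restriction of the structure morphism of a relative Proj over an affine open, through the
chart. -/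
theorem morphismRestrict_eq (𝒮 : RelProj.QCGrAlg Y) {P : Scheme.{u}} (p : P ⟶ Y)
    (chart : ∀ (U : Y.Opens) (hU : IsAffineOpen U),
      (((p ⁻¹ᵁ U : P.Opens) : Scheme.{u}) ≅ Proj (𝒮.deg U hU)))
    (hP : RelProj.IsRelProj 𝒮 p chart) (U : Y.Opens) (hU : IsAffineOpen U) :
    p ∣_ U = (chart U hU).hom ≫
      (Proj.toSpecZero (𝒮.deg U hU) ≫ Spec.map (𝒮.strZero U hU)) ≫ hU.isoSpec.inv := by
  rw [← cancel_mono U.ι, morphismRestrict_ι]
  simp only [Category.assoc]
  rw [IsAffineOpen.isoSpec_inv_ι]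
  exact (hP.chart_over U hU).symm

/-- A property of morphisms that is local on the target holds for the structure morphism of a
relative Proj as soon as it holds for `Proj 𝒮(U) ⟶ Spec O(U)` for all affine opens `U`. -/
theorem of_affine_charts (Q : MorphismProperty Scheme.{u}) [IsZariskiLocalAtTarget Q]
    (𝒮 : RelProj.QCGrAlg Y) {P : Scheme.{u}} (p : P ⟶ Y)
    (chart : ∀ (U : Y.Opens) (hU : IsAffineOpen U),
      (((p ⁻¹ᵁ U : P.Opens) : Scheme.{u}) ≅ Proj (𝒮.deg U hU)))
    (hP : RelProj.IsRelProj 𝒮 p chart)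
    (H : ∀ (U : Y.Opens) (hU : IsAffineOpen U),
      Q (Proj.toSpecZero (𝒮.deg U hU) ≫ Spec.map (𝒮.strZero U hU))) : Q p := by
  refine IsZariskiLocalAtTarget.of_iSup_eq_top (P := Q) (fun U : Y.affineOpens => U.1)
    (iSup_affineOpens_eq_top Y) fun U => ?_
  obtain ⟨U, hU0⟩ := U
  have hU : IsAffineOpen U := hU0
  show Q (p ∣_ U)
  rw [morphismRestrict_eq 𝒮 p chart hP U hU, Q.cancel_left_of_respectsIso,
    Q.cancel_right_of_respectsIso]
  exact H U hU

theorem isSeparated_of_isRelProj (𝒮 : RelProj.QCGrAlg Y) {P : Scheme.{u}} (p : P ⟶ Y)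
    (chart : ∀ (U : Y.Opens) (hU : IsAffineOpen U),
      (((p ⁻¹ᵁ U : P.Opens) : Scheme.{u}) ≅ Proj (𝒮.deg U hU)))
    (hP : RelProj.IsRelProj 𝒮 p chart) : IsSeparated p :=
  of_affine_charts @IsSeparated 𝒮 p chart hP fun U hU => inferInstance

theorem strZero_eq (𝒮 : RelProj.QCGrAlg Y) (U : Y.Opens) (hU : IsAffineOpen U) :
    (𝒮.strZero U hU).hom =
      (GradedRing.projZeroRingHom' (𝒮.deg U hU)).comp (𝒮.str.app (op U)).hom := by
  ext r
  have h := GradedRing.projZeroRingHom'_apply_coe (𝒜 := 𝒮.deg U hU) ((𝒮.strZero U hU).hom r)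
  rw [← h]
  rfl

theorem finiteType_strZero (𝒮 : RelProj.QCGrAlg Y) (U : Y.Opens) (hU : IsAffineOpen U)
    (hft : (𝒮.str.app (op U)).hom.FiniteType) : (𝒮.strZero U hU).hom.FiniteType := by
  rw [strZero_eq]
  exact (RingHom.FiniteType.of_surjective _
    (GradedRing.projZeroRingHom'_surjective (𝒮.deg U hU))).comp hft

theorem finiteType_over_zero (𝒮 : RelProj.QCGrAlg Y) (U : Y.Opens) (hU : IsAffineOpen U)
    (hft : (𝒮.str.app (op U)).hom.FiniteType) :
    Algebra.FiniteType (𝒮.deg U hU 0) (𝒮.presheaf.obj (op U)) := by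
  rw [← RingHom.finiteType_algebraMap]
  have e : (𝒮.str.app (op U)).hom =
      (algebraMap (𝒮.deg U hU 0) (𝒮.presheaf.obj (op U))).comp (𝒮.strZero U hU).hom := by
    ext r; rfl
  rw [e] at hft
  exact RingHom.FiniteType.of_comp_finiteType hft

set_option backward.isDefEq.respectTransparency.types false in
theorem finiteType_of_isRelProj (𝒮 : RelProj.QCGrAlg Y)
    (hft : ∀ (U : Y.Opens) (hU : IsAffineOpen U), (𝒮.str.app (op U)).hom.FiniteType)
    {P : Scheme.{u}} (p : P ⟶ Y)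
    (chart : ∀ (U : Y.Opens) (hU : IsAffineOpen U),
      (((p ⁻¹ᵁ U : P.Opens) : Scheme.{u}) ≅ Proj (𝒮.deg U hU)))
    (hP : RelProj.IsRelProj 𝒮 p chart) : LocallyOfFiniteType p ∧ QuasiCompact p := by
  constructor
  · refine of_affine_charts @LocallyOfFiniteType 𝒮 p chart hP fun U hU => ?_
    have := finiteType_over_zero 𝒮 U hU (hft U hU)
    have : LocallyOfFiniteType (Spec.map (𝒮.strZero U hU)) :=
      (HasRingHomProperty.Spec_iff (P := @LocallyOfFiniteType)).2
        (finiteType_strZero 𝒮 U hU (hft U hU))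
    infer_instance
  · refine of_affine_charts @QuasiCompact 𝒮 p chart hP fun U hU => ?_
    have := finiteType_over_zero 𝒮 U hU (hft U hU)
    infer_instance

theorem isReduced_of_isRelProj (𝒮 : RelProj.QCGrAlg Y)
    (hred : ∀ (U : Y.Opens) (hU : IsAffineOpen U) (x : 𝒮.presheaf.obj (op U)),
      x ∈ (𝒮.deg U hU)₊ → IsNilpotent x → x = 0)
    {P : Scheme.{u}} (p : P ⟶ Y)
    (chart : ∀ (U : Y.Opens) (hU : IsAffineOpen U),
      (((p ⁻¹ᵁ U : P.Opens) : Scheme.{u}) ≅ Proj (𝒮.deg U hU)))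
    (_hP : RelProj.IsRelProj 𝒮 p chart) : IsReduced P := by
  have : ∀ i, IsReduced ((P.openCoverOfIsOpenCover (fun U : Y.affineOpens => p ⁻¹ᵁ U.1)
      (iSup_preimage_affineOpens p)).X i) := by
    intro i
    obtain ⟨U, hU0⟩ := i
    have hU : IsAffineOpen U := hU0
    show IsReduced ((p ⁻¹ᵁ U : P.Opens) : Scheme.{u})
    have : IsReduced (Proj (𝒮.deg U hU)) :=
      Groth.Agent.H18.proj_isReduced (𝒮.deg U hU) fun g hg => hred U hU g hg
    exact isReduced_of_isOpenImmersion (chart U hU).hom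
  exact IsReduced.of_openCover P (P.openCoverOfIsOpenCover (fun U : Y.affineOpens => p ⁻¹ᵁ U.1)
      (iSup_preimage_affineOpens p))

end Groth.Agent.H41.RelProjLib
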