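import Groth.Agent.H41.RelProjLib
import Groth.Agent.H41.ProjIso2

set_option autoImplicit false
universe u

open CategoryTheory CategoryTheory.Limits AlgebraicGeometry TopologicalSpace Opposite
open HomogeneousLocalization
open scoped HomogeneousIdeal

namespace Groth.Agent.H41.RelProjLib

section
variable {Y : Scheme.{u}}

/-- A target-local property holds for the morphism of relative Proj's induced by a graded homomorphism
as soon as it holds for `Proj.map` of the graded homomorphism over each affine open. -/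
theorem relProjMap_of_local (P : MorphismProperty Scheme.{u}) [IsZariskiLocalAtTarget P]
    {𝒜 ℬ : RelProj.QCGrAlg Y} (φ : 𝒜.toQCAlg ⟶ ℬ.toQCAlg)
    (hφ : RelProj.IsGradedHom φ)
    (hirr : ∀ (U : Y.Opens) (hU : IsAffineOpen U),
      (ℬ.deg U hU)₊ ≤ ((𝒜.deg U hU)₊).map (RelProj.gradedHomAt φ hφ U hU))
    {PA PB : Scheme.{u}} (pA : PA ⟶ Y) (pB : PB ⟶ Y)
    (chartA : ∀ (U : Y.Opens) (hU : IsAffineOpen U),
      (((pA ⁻¹ᵁ U : PA.Opens) : Scheme.{u}) ≅ Proj (𝒜.deg U hU)))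
    (chartB : ∀ (U : Y.Opens) (hU : IsAffineOpen U),
      (((pB ⁻¹ᵁ U : PB.Opens) : Scheme.{u}) ≅ Proj (ℬ.deg U hU)))
    (hA : RelProj.IsRelProj 𝒜 pA chartA) (hB : RelProj.IsRelProj ℬ pB chartB)
    (h : PB ⟶ PA) (hh : RelProj.IsRelProjMap φ hφ hirr chartA chartB h)
    (hP : ∀ (U : Y.Opens) (hU : IsAffineOpen U),
      P (Proj.map (RelProj.gradedHomAt φ hφ U hU) (hirr U hU))) :
    P h := by
  have hcomp : h ≫ pA = pB := relProjMap_comp φ hφ hirr pA pB chartA chartB hA hB h hh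
  refine IsZariskiLocalAtTarget.of_iSup_eq_top (P := P)
    (fun U : Y.affineOpens => pA ⁻¹ᵁ U.1) (iSup_preimage_affineOpens pA) fun U => ?_
  obtain ⟨U, hU0⟩ := U
  have hU : IsAffineOpen U := hU0
  show P (h ∣_ (pA ⁻¹ᵁ U))
  have e : h ⁻¹ᵁ (pA ⁻¹ᵁ U) = pB ⁻¹ᵁ U := by
    rw [← Scheme.Hom.comp_preimage, hcomp]
  have key : h ∣_ (pA ⁻¹ᵁ U) = ((PB.isoOfEq e) ≪≫ (chartB U hU)).hom ≫
      Proj.map (RelProj.gradedHomAt φ hφ U hU) (hirr U hU) ≫ (chartA U hU).inv := by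
    rw [← cancel_mono (pA ⁻¹ᵁ U).ι, morphismRestrict_ι]
    simp only [Category.assoc, Iso.trans_hom]
    rw [← hh U hU, Scheme.isoOfEq_hom_ι_assoc]
  rw [key, MorphismProperty.cancel_left_of_respectsIso P,
    MorphismProperty.cancel_right_of_respectsIso P]
  exact hP U hU

end

end Groth.Agent.H41.RelProjLib
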