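import Groth.Agent.H41.RelTildeMaps
import Groth.Agent.H8.SectionsExact
import Mathlib

/-!
# Exactness of `ℳ ↦ (ℳ(n))~` on `Proj` and on a relative `Proj`
-/

set_option autoImplicit false
set_option linter.style.haveILetI false
universe u

open CategoryTheory CategoryTheory.Limits AlgebraicGeometry HomogeneousIdeal TopologicalSpace Opposite
open Groth.Agent.H8 Groth.Agent.H41.GrModQCoh Groth.Agent.H41.GrModMaps
  Groth.Agent.H41.RelTildeMaps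

namespace Groth.Agent.H41.RelTildeExact

section Ring

variable {A σ : Type u} [CommRing A] [SetLike σ A] [AddSubgroupClass σ A] (𝒜 : ℕ → σ) [GradedRing 𝒜]
  {M₁ τ₁ : Type u} [AddCommGroup M₁] [Module A M₁] [SetLike τ₁ M₁] [AddSubgroupClass τ₁ M₁]
  (ℳ₁ : ℕ → τ₁) [SetLike.GradedSMul 𝒜 ℳ₁] [DirectSum.Decomposition ℳ₁]
  {M₂ τ₂ : Type u} [AddCommGroup M₂] [Module A M₂] [SetLike τ₂ M₂] [AddSubgroupClass τ₂ M₂]
  (ℳ₂ : ℕ → τ₂) [SetLike.GradedSMul 𝒜 ℳ₂] [DirectSum.Decomposition ℳ₂]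
  {M₃ τ₃ : Type u} [AddCommGroup M₃] [Module A M₃] [SetLike τ₃ M₃] [AddSubgroupClass τ₃ M₃]
  (ℳ₃ : ℕ → τ₃) [SetLike.GradedSMul 𝒜 ℳ₃] [DirectSum.Decomposition ℳ₃]
  (u : M₁ →ₗ[A] M₂) (hu : ∀ (i : ℕ) (m : M₁), m ∈ ℳ₁ i → u m ∈ ℳ₂ i)
  (v : M₂ →ₗ[A] M₃) (hv : ∀ (i : ℕ) (m : M₂), m ∈ ℳ₂ i → v m ∈ ℳ₃ i)
  (hex : Function.Exact u v) (n : ℤ)

include hex in
/-- Local exactness of the sequence of attached modules. -/
theorem map_app_locally_exact (V : (Proj 𝒜).Opens) (t : Γ(GrMod.tilde 𝒜 ℳ₂ n, V))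
    (ht : (GrMod.map 𝒜 v hv n).app V t = 0) (x : V) :
    ∃ (V' : (Proj 𝒜).Opens) (hV' : V' ≤ V), x.1 ∈ V' ∧ ∃ s : Γ(GrMod.tilde 𝒜 ℳ₁ n, V'),
      (GrMod.map 𝒜 u hu n).app V' s = (GrMod.tilde 𝒜 ℳ₂ n).presheaf.map (homOfLE hV').op t := by
  obtain ⟨V', hxV', iV, i, j, m₂, g, gnin, hcase, hw⟩ := (t : GrMod.sect 𝒜 ℳ₂ n (op V)).2 x
  have hV'le : V' ≤ V := leOfHom iV
  rcases hcase with hij | hm0
  · have hval : GrMod.val t x = LocalizedModule.mk (m₂ : M₂) ⟨(g : A), gnin ⟨x.1, hxV'⟩⟩ :=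
      hw ⟨x.1, hxV'⟩
    have h1 : GrMod.val ((GrMod.map 𝒜 v hv n).app V t) x = 0 :=
      congrArg (fun τ : Γ(GrMod.tilde 𝒜 ℳ₃ n, V) => GrMod.val τ x) ht
    rw [GrMod.map_app_val, hval, GrMod.locMap_mk] at h1
    obtain ⟨c, hcx, hc⟩ := exists_smul_eq_zero_of_mk_eq_zero 𝒜 x.1 _ _ h1
    obtain ⟨j', hj'⟩ : ∃ j', (DirectSum.decompose 𝒜 c j' : A) ∉ x.1.asHomogeneousIdeal := by
      by_contra hcon
      push Not at hcon
      exact hcx ((x.1.asHomogeneousIdeal.isHomogeneous.mem_iff).mpr hcon)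
    have hcj : (DirectSum.decompose 𝒜 c j' : A) • v (m₂ : M₂) = 0 :=
      GrModSections.component_smul_eq_zero 𝒜 ℳ₃ (hv i _ m₂.2) hc j'
    obtain ⟨c', hc'mem, hc'x, hc'v⟩ : ∃ c' : A, c' ∈ 𝒜 j' ∧ c' ∉ x.1.asHomogeneousIdeal ∧
        c' • v (m₂ : M₂) = 0 := ⟨_, SetLike.coe_mem _, hj', hcj⟩
    have h2 : v (c' • (m₂ : M₂)) = 0 := by rw [map_smul]; exact hc'v
    obtain ⟨m₁, hm₁⟩ := (hex _).mp h2
    have hmem : c' • (m₂ : M₂) ∈ ℳ₂ (j' + i) := SetLike.GradedSMul.smul_mem hc'mem m₂.2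
    have hm₁' : u (DirectSum.decompose ℳ₁ m₁ (j' + i) : M₁) = c' • (m₂ : M₂) := by
      have h3 : (DirectSum.decompose ℳ₂ (u m₁) (j' + i) : M₂) =
          u (DirectSum.decompose ℳ₁ m₁ (j' + i) : M₁) :=
        decompose_map ℳ₁ ℳ₂ u.toAddMonoidHom hu m₁ (j' + i)
      rw [← h3, hm₁, DirectSum.decompose_of_mem_same ℳ₂ hmem]
    have hdeg : ((j' + i : ℕ) : ℤ) = ((j' + j : ℕ) : ℤ) + n := by
      push_cast; rw [hij]; ring
    have hV''le : V' ⊓ Proj.basicOpen 𝒜 c' ≤ V := inf_le_left.trans hV'le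
    have hnin : ∀ y : (V' ⊓ Proj.basicOpen 𝒜 c' : (Proj 𝒜).Opens),
        c' * (g : A) ∉ y.1.asHomogeneousIdeal := fun y h =>
      (y.1.isPrime.mem_or_mem h).elim y.2.2 (gnin ⟨y.1, y.2.1⟩)
    refine ⟨V' ⊓ Proj.basicOpen 𝒜 c', hV''le, ⟨hxV', hc'x⟩,
      fracSect 𝒜 ℳ₁ n (V' ⊓ Proj.basicOpen 𝒜 c') hdeg (DirectSum.decompose ℳ₁ m₁ (j' + i))
        ⟨c' * (g : A), SetLike.mul_mem_graded hc'mem g.2⟩ hnin, ?_⟩
    refine sect_ext 𝒜 ℳ₂ n _ _ fun y => ?_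
    have hty : GrMod.val t ⟨y.1, hV''le y.2⟩ =
        LocalizedModule.mk (m₂ : M₂) ⟨(g : A), gnin ⟨y.1, y.2.1⟩⟩ := hw ⟨y.1, y.2.1⟩
    rw [GrMod.map_app_val, val_fracSect, GrMod.locMap_mk, val_res, hty, hm₁', LocalizedModule.mk_eq]
    refine ⟨1, ?_⟩
    have key : (g : A) • (c' • (m₂ : M₂)) = (c' * (g : A)) • (m₂ : M₂) := by
      rw [smul_smul, mul_comm]
    rw [one_smul, one_smul]
    exact key
  · refine ⟨V', hV'le, hxV', 0, ?_⟩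
    refine sect_ext 𝒜 ℳ₂ n _ _ fun y => ?_
    have hty : GrMod.val t ⟨y.1, hV'le y.2⟩ = LocalizedModule.mk (m₂ : M₂) ⟨(g : A), gnin y⟩ :=
      hw y
    rw [val_res, hty, hm0, LocalizedModule.zero_mk, map_zero]
    rfl

end Ring

section Rel

variable {Y P : Scheme.{u}} (𝒮 : RelProj.QCGrAlg Y) (p : P ⟶ Y)
  (chart : ∀ (U : Y.Opens) (hU : IsAffineOpen U),
    (((p ⁻¹ᵁ U : P.Opens) : Scheme.{u}) ≅ Proj (𝒮.deg U hU)))
  (ℳ 𝒩 : RelProj.GrModule 𝒮) (u : ℳ.mod ⟶ 𝒩.mod) (hu : RelProj.IsGrModHom u) (n : ℤ)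
  (F : P.Modules)
  (lam : ∀ (U : Y.Opens) (hU : IsAffineOpen U),
    F ⟶ (Scheme.Modules.pushforward (RelProj.emb p chart U hU)).obj
      (GrMod.tilde (𝒮.deg U hU) (ℳ.deg U hU) n))
  (hF : RelProj.IsRelTilde 𝒮 p chart ℳ n F lam) (G : P.Modules)
  (lam' : ∀ (U : Y.Opens) (hU : IsAffineOpen U),
    G ⟶ (Scheme.Modules.pushforward (RelProj.emb p chart U hU)).obj
      (GrMod.tilde (𝒮.deg U hU) (𝒩.deg U hU) n))
  (hG : RelProj.IsRelTilde 𝒮 p chart 𝒩 n G lam') (ut : F ⟶ G)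
  (hut : ∀ (U : Y.Opens) (hU : IsAffineOpen U),
    ut ≫ lam' U hU =
      lam U hU ≫ (Scheme.Modules.pushforward (RelProj.emb p chart U hU)).map
        (GrMod.map (𝒮.deg U hU)
          (show ℳ.mod.val.obj (op U) →ₗ[𝒮.presheaf.obj (op U)] 𝒩.mod.val.obj (op U) from
            (u.val.app (op U)).hom)
          (hu U hU) n))

include hF hG hut in
/-- Transfer of a local lifting property from the charts to the relative `Proj`. -/
theorem exists_local_lift (U : Y.Opens) (hU : IsAffineOpen U) (W : P.Opens) (t : Γ(G, W)) (x : P)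
    (hx : x ∈ W) (hxU : x ∈ p ⁻¹ᵁ U)
    (hloc : ∀ y : (RelProj.emb p chart U hU ⁻¹ᵁ (W ⊓ p ⁻¹ᵁ U) : (Proj (𝒮.deg U hU)).Opens),
      ∃ (V' : (Proj (𝒮.deg U hU)).Opens)
        (hV' : V' ≤ RelProj.emb p chart U hU ⁻¹ᵁ (W ⊓ p ⁻¹ᵁ U)), y.1 ∈ V' ∧
        ∃ σ : Γ(GrMod.tilde (𝒮.deg U hU) (ℳ.deg U hU) n, V'),
          (GrMod.map (𝒮.deg U hU)
            (show ℳ.mod.val.obj (op U) →ₗ[𝒮.presheaf.obj (op U)] 𝒩.mod.val.obj (op U) from
              (u.val.app (op U)).hom) (hu U hU) n).app V' σ =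
            (GrMod.tilde (𝒮.deg U hU) (𝒩.deg U hU) n).presheaf.map (homOfLE hV').op
              ((lam' U hU).app (W ⊓ p ⁻¹ᵁ U) (G.presheaf.map (homOfLE inf_le_left).op t))) :
    ∃ (W' : P.Opens) (hW' : W' ≤ W), x ∈ W' ∧ ∃ s : Γ(F, W'),
      ut.app W' s = G.presheaf.map (homOfLE hW').op t := by
  have hW₁ : W ⊓ p ⁻¹ᵁ U ≤ p ⁻¹ᵁ U := inf_le_right
  obtain ⟨y, hy⟩ : ∃ y, (RelProj.emb p chart U hU).base y = x := by
    have : x ∈ (RelProj.emb p chart U hU).opensRange := by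
      rw [opensRange_emb]; exact hxU
    exact this
  have hyW₁ : y ∈ RelProj.emb p chart U hU ⁻¹ᵁ (W ⊓ p ⁻¹ᵁ U) := by
    show (RelProj.emb p chart U hU).base y ∈ W ⊓ p ⁻¹ᵁ U
    rw [hy]; exact ⟨hx, hxU⟩
  obtain ⟨V', hV', hyV', σ, hσ⟩ := hloc ⟨y, hyW₁⟩
  have hW'le : RelProj.emb p chart U hU ''ᵁ V' ≤ W ⊓ p ⁻¹ᵁ U := by
    rintro _ ⟨v, hv, rfl⟩
    exact hV' hv
  have hpre : RelProj.emb p chart U hU ⁻¹ᵁ (RelProj.emb p chart U hU ''ᵁ V') ≤ V' :=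
    ((RelProj.emb p chart U hU).preimage_image_eq V').le
  obtain ⟨s, hs⟩ := (hF.bijective U hU _ (hW'le.trans hW₁)).2
    ((GrMod.tilde (𝒮.deg U hU) (ℳ.deg U hU) n).presheaf.map (homOfLE hpre).op σ)
  refine ⟨RelProj.emb p chart U hU ''ᵁ V', hW'le.trans inf_le_left, ⟨y, hyV', hy⟩, s, ?_⟩
  apply (hG.bijective U hU _ (hW'le.trans hW₁)).1
  have eR : (lam' U hU).app (RelProj.emb p chart U hU ''ᵁ V')
      (G.presheaf.map (homOfLE (hW'le.trans inf_le_left)).op t) =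
      (GrMod.tilde (𝒮.deg U hU) (𝒩.deg U hU) n).presheaf.map (homOfLE (hpre.trans hV')).op
        ((lam' U hU).app (W ⊓ p ⁻¹ᵁ U) (G.presheaf.map (homOfLE inf_le_left).op t)) := by
    rw [← res_res G hW'le inf_le_left t]
    exact app_res (lam' U hU) hW'le _
  rw [hut_app 𝒮 p chart ℳ 𝒩 u hu n F lam G lam' ut hut U hU _ s, hs, app_res, hσ, eR]
  exact res_res (GrMod.tilde (𝒮.deg U hU) (𝒩.deg U hU) n) hpre hV' _

end Rel

/-- A morphism of modules is an epimorphism as soon as it is locally surjective. -/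
theorem epi_of_locally_surjective {P : Scheme.{u}} {F G : P.Modules} (φ : F ⟶ G)
    (h : ∀ (W : P.Opens) (t : Γ(G, W)) (x : P), x ∈ W → ∃ (W' : P.Opens) (hW' : W' ≤ W),
      x ∈ W' ∧ ∃ s : Γ(F, W'), φ.app W' s = G.presheaf.map (homOfLE hW').op t) : Epi φ := by
  have h1 : Epi ((SheafOfModules.toSheaf P.ringCatSheaf).map φ) := by
    refine (TopCat.Sheaf.isLocallySurjective_iff_epi (X := P.toTopCat) (C := AddCommGrpCat.{u})
      _).mp ?_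
    rw [TopCat.Presheaf.isLocallySurjective_iff]
    intro W t x hx
    obtain ⟨W', hW', hxW', s, hs⟩ := h W t x hx
    exact ⟨W', hW', ⟨s, hs⟩, hxW'⟩
  exact (SheafOfModules.toSheaf _).epi_of_epi_map h1

/-- A complex of modules which is locally exact on sections is exact. -/
theorem exact_of_locally_exact {P : Scheme.{u}} (S : ShortComplex P.Modules)
    (h : ∀ (W : P.Opens) (t : Γ(S.X₂, W)), S.g.app W t = 0 → ∀ x : P, x ∈ W →
      ∃ (W' : P.Opens) (hW' : W' ≤ W), x ∈ W' ∧ ∃ s : Γ(S.X₁, W'),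
        S.f.app W' s = S.X₂.presheaf.map (homOfLE hW').op t) : S.Exact := by
  rw [ShortComplex.exact_iff_epi_kernel_lift]
  refine epi_of_locally_surjective _ fun W k x hx => ?_
  have hk : S.g.app W ((kernel.ι S.g).app W k) = 0 :=
    congrArg (fun φ : kernel S.g ⟶ S.X₃ => φ.app W k) (kernel.condition S.g)
  obtain ⟨W', hW', hxW', s, hs⟩ := h W _ hk x hx
  refine ⟨W', hW', hxW', s, ?_⟩
  apply app_injective_of_mono (kernel.ι S.g) W'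
  have e : (kernel.ι S.g).app W' ((kernel.lift S.g S.f S.zero).app W' s) = S.f.app W' s :=
    congrArg (fun φ : S.X₁ ⟶ S.X₂ => φ.app W' s) (kernel.lift_ι S.g S.f S.zero)
  rw [e, hs, app_res]

end Groth.Agent.H41.RelTildeExact
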