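import Groth.Agent.H41.GrModMaps
import Groth.Agent.H8.IsoCover
import Mathlib

/-!
# Maps between the modules `M(n)~`: injectivity and local surjectivity under (TN) conditions,
on `Proj` of a graded ring and on a relative `Proj`
-/

set_option autoImplicit false
set_option linter.style.haveILetI false
universe u

open CategoryTheory AlgebraicGeometry HomogeneousIdeal TopologicalSpace Opposite
open Groth.Agent.H8 Groth.Agent.H41.GrModQCoh Groth.Agent.H41.GrModMaps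

namespace Groth.Agent.H41.RelTildeMaps

section Ring

variable {A σ : Type u} [CommRing A] [SetLike σ A] [AddSubgroupClass σ A] (𝒜 : ℕ → σ) [GradedRing 𝒜]

theorem exists_pos_not_mem (x : ProjectiveSpectrum 𝒜) :
    ∃ (e : ℕ) (_ : 0 < e) (t : A), t ∈ 𝒜 e ∧ t ∉ x.asHomogeneousIdeal := by
  by_contra hcon
  push Not at hcon
  apply x.not_irrelevant_le
  rw [HomogeneousIdeal.irrelevant_le]
  intro i hi s hs
  exact hcon i hi s hs

variable {M τ : Type u} [AddCommGroup M] [Module A M] [SetLike τ M] [AddSubgroupClass τ M]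
  (ℳ : ℕ → τ) [SetLike.GradedSMul 𝒜 ℳ]
  {N τ' : Type u} [AddCommGroup N] [Module A N] [SetLike τ' N] [AddSubgroupClass τ' N]
  (𝒩 : ℕ → τ') [SetLike.GradedSMul 𝒜 𝒩]
  (u : M →ₗ[A] N) (hu : ∀ (i : ℕ) (m : M), m ∈ ℳ i → u m ∈ 𝒩 i) (n : ℤ)

/-- A degree-preserving map which is injective in large degrees induces an injective map on the
sections of the attached modules over every open. -/
theorem map_app_injective_of_tnInjective [DirectSum.Decomposition 𝒩]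
    (hinj : ∃ n₀ : ℕ, ∀ k, n₀ ≤ k → ∀ m ∈ ℳ k, u m = 0 → m = 0) (V : (Proj 𝒜).Opens) :
    Function.Injective ((GrMod.map 𝒜 u hu n).app V) := by
  obtain ⟨n₀, hn₀⟩ := hinj
  refine (injective_iff_map_eq_zero ((GrMod.map 𝒜 u hu n).app V).hom).mpr fun s hs => ?_
  refine sect_ext 𝒜 ℳ n _ _ fun x => ?_
  obtain ⟨V', hxV', iV, i, j, m, g, gnin, hcase, hw⟩ := (s : GrMod.sect 𝒜 ℳ n (op V)).2 x
  have hval : GrMod.val s x = LocalizedModule.mk (m : M) ⟨(g : A), gnin ⟨x.1, hxV'⟩⟩ :=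
    hw ⟨x.1, hxV'⟩
  have h1 : GrMod.val ((GrMod.map 𝒜 u hu n).app V s) x = 0 :=
    congrArg (fun t : Γ(GrMod.tilde 𝒜 𝒩 n, V) => GrMod.val t x) hs
  rw [GrMod.map_app_val, hval, GrMod.locMap_mk] at h1
  obtain ⟨c, hcx, hc⟩ := exists_smul_eq_zero_of_mk_eq_zero 𝒜 x.1 _ _ h1
  obtain ⟨j', hj'⟩ : ∃ j', (DirectSum.decompose 𝒜 c j' : A) ∉ x.1.asHomogeneousIdeal := by
    by_contra hcon
    push Not at hcon
    exact hcx ((x.1.asHomogeneousIdeal.isHomogeneous.mem_iff).mpr hcon)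
  have hcj : (DirectSum.decompose 𝒜 c j' : A) • u (m : M) = 0 :=
    GrModSections.component_smul_eq_zero 𝒜 𝒩 (hu i _ m.2) hc j'
  obtain ⟨e, he, t, ht, htx⟩ := exists_pos_not_mem 𝒜 x.1
  have hc'mem : (t ^ n₀ * (DirectSum.decompose 𝒜 c j' : A)) • (m : M) ∈ ℳ (n₀ • e + j' + i) :=
    SetLike.GradedSMul.smul_mem
      (SetLike.mul_mem_graded (SetLike.pow_mem_graded n₀ ht) (SetLike.coe_mem _)) m.2
  have hc'u : u ((t ^ n₀ * (DirectSum.decompose 𝒜 c j' : A)) • (m : M)) = 0 := by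
    rw [map_smul, mul_smul, hcj, smul_zero]
  have hge : n₀ ≤ n₀ • e + j' + i := by
    have h := Nat.le_mul_of_pos_right n₀ he
    rw [smul_eq_mul]
    omega
  have hc'0 : (t ^ n₀ * (DirectSum.decompose 𝒜 c j' : A)) • (m : M) = 0 :=
    hn₀ _ hge _ hc'mem hc'u
  rw [hval]
  exact mk_eq_zero_of_smul_eq_zero 𝒜 x.1 _ _ (t ^ n₀ * (DirectSum.decompose 𝒜 c j' : A))
    (fun h => (x.1.isPrime.mem_or_mem h).elim
      (fun h' => htx (x.1.isPrime.mem_of_pow_mem _ h')) hj') hc'0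

/-- A degree-preserving map which is surjective in large degrees induces a locally surjective map
between the attached modules. -/
theorem map_app_locally_surjective
    (hsurj : ∃ n₀ : ℕ, ∀ k, n₀ ≤ k → ∀ m' ∈ 𝒩 k, ∃ m ∈ ℳ k, u m = m')
    (V : (Proj 𝒜).Opens) (t : Γ(GrMod.tilde 𝒜 𝒩 n, V)) (x : V) :
    ∃ (V' : (Proj 𝒜).Opens) (hV' : V' ≤ V), x.1 ∈ V' ∧ ∃ s : Γ(GrMod.tilde 𝒜 ℳ n, V'),
      (GrMod.map 𝒜 u hu n).app V' s = (GrMod.tilde 𝒜 𝒩 n).presheaf.map (homOfLE hV').op t := by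
  obtain ⟨n₀, hn₀⟩ := hsurj
  obtain ⟨V', hxV', iV, i, j, m', g, gnin, hcase, hw⟩ := (t : GrMod.sect 𝒜 𝒩 n (op V)).2 x
  have hV'le : V' ≤ V := leOfHom iV
  rcases hcase with hij | hm0
  · obtain ⟨e, he, t₀, ht₀, ht₀x⟩ := exists_pos_not_mem 𝒜 x.1
    have hmem : t₀ ^ n₀ • (m' : N) ∈ 𝒩 (n₀ • e + i) :=
      SetLike.GradedSMul.smul_mem (SetLike.pow_mem_graded n₀ ht₀) m'.2
    have hge : n₀ ≤ n₀ • e + i := by
      have h := Nat.le_mul_of_pos_right n₀ he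
      rw [smul_eq_mul]
      omega
    obtain ⟨m, hm, hum⟩ := hn₀ (n₀ • e + i) hge _ hmem
    have hV''le : V' ⊓ Proj.basicOpen 𝒜 t₀ ≤ V := inf_le_left.trans hV'le
    have hdeg : ((n₀ • e + i : ℕ) : ℤ) = ((n₀ • e + j : ℕ) : ℤ) + n := by
      simp only [smul_eq_mul]; push_cast; rw [hij]; ring
    have hnin : ∀ y : (V' ⊓ Proj.basicOpen 𝒜 t₀ : (Proj 𝒜).Opens),
        t₀ ^ n₀ * (g : A) ∉ y.1.asHomogeneousIdeal := fun y h =>
      (y.1.isPrime.mem_or_mem h).elim (fun h' => y.2.2 (y.1.isPrime.mem_of_pow_mem _ h'))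
        (gnin ⟨y.1, y.2.1⟩)
    refine ⟨V' ⊓ Proj.basicOpen 𝒜 t₀, hV''le, ⟨hxV', ht₀x⟩,
      fracSect 𝒜 ℳ n (V' ⊓ Proj.basicOpen 𝒜 t₀) hdeg ⟨m, hm⟩
        ⟨t₀ ^ n₀ * (g : A), SetLike.mul_mem_graded (SetLike.pow_mem_graded n₀ ht₀) g.2⟩ hnin, ?_⟩
    refine sect_ext 𝒜 𝒩 n _ _ fun y => ?_
    have hty : GrMod.val t ⟨y.1, hV''le y.2⟩ =
        LocalizedModule.mk (m' : N) ⟨(g : A), gnin ⟨y.1, y.2.1⟩⟩ := hw ⟨y.1, y.2.1⟩
    rw [GrMod.map_app_val, val_fracSect, GrMod.locMap_mk, val_res, hty, hum, LocalizedModule.mk_eq]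
    refine ⟨1, ?_⟩
    have key : (g : A) • (t₀ ^ n₀ • (m' : N)) = (t₀ ^ n₀ * (g : A)) • (m' : N) := by
      rw [smul_smul, mul_comm]
    rw [one_smul, one_smul]
    exact key
  · refine ⟨V', hV'le, hxV', 0, ?_⟩
    refine sect_ext 𝒜 𝒩 n _ _ fun y => ?_
    have hty : GrMod.val t ⟨y.1, hV'le y.2⟩ = LocalizedModule.mk (m' : N) ⟨(g : A), gnin y⟩ :=
      hw y
    rw [val_res, hty, hm0, LocalizedModule.zero_mk, map_zero]
    rfl

end Ring

section Rel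

variable {Y P : Scheme.{u}} (𝒮 : RelProj.QCGrAlg Y) (p : P ⟶ Y)
  (chart : ∀ (U : Y.Opens) (hU : IsAffineOpen U),
    (((p ⁻¹ᵁ U : P.Opens) : Scheme.{u}) ≅ Proj (𝒮.deg U hU)))
  (ℳ 𝒩 : RelProj.GrModule 𝒮) (u : ℳ.mod ⟶ 𝒩.mod) (hu : RelProj.IsGrModHom u) (n : ℤ)
  (F : P.Modules)
  (lam : ∀ (U : Y.Opens) (hU : IsAffineOpen U),
    F ⟶ (Scheme.Modules.pushforward (RelProj.emb p chart U hU)).obj
      (GrMod.tilde (𝒮.deg U hU) (ℳ.deg U hU) n))
  (hF : RelProj.IsRelTilde 𝒮 p chart ℳ n F lam) (G : P.Modules)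
  (lam' : ∀ (U : Y.Opens) (hU : IsAffineOpen U),
    G ⟶ (Scheme.Modules.pushforward (RelProj.emb p chart U hU)).obj
      (GrMod.tilde (𝒮.deg U hU) (𝒩.deg U hU) n))
  (hG : RelProj.IsRelTilde 𝒮 p chart 𝒩 n G lam') (ut : F ⟶ G)
  (hut : ∀ (U : Y.Opens) (hU : IsAffineOpen U),
    ut ≫ lam' U hU =
      lam U hU ≫ (Scheme.Modules.pushforward (RelProj.emb p chart U hU)).map
        (GrMod.map (𝒮.deg U hU)
          (show ℳ.mod.val.obj (op U) →ₗ[𝒮.presheaf.obj (op U)] 𝒩.mod.val.obj (op U) from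
            (u.val.app (op U)).hom)
          (hu U hU) n))

include hut in
theorem hut_app (U : Y.Opens) (hU : IsAffineOpen U) (W : P.Opens) (s : Γ(F, W)) :
    (lam' U hU).app W (ut.app W s) =
      (GrMod.map (𝒮.deg U hU)
          (show ℳ.mod.val.obj (op U) →ₗ[𝒮.presheaf.obj (op U)] 𝒩.mod.val.obj (op U) from
            (u.val.app (op U)).hom)
          (hu U hU) n).app (RelProj.emb p chart U hU ⁻¹ᵁ W) ((lam U hU).app W s) := by
  have := congrArg (fun φ => φ.app W s) (hut U hU)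
  exact this

theorem opensRange_emb (U : Y.Opens) (hU : IsAffineOpen U) :
    (RelProj.emb p chart U hU).opensRange = p ⁻¹ᵁ U := by
  unfold RelProj.emb
  rw [Scheme.Hom.opensRange_comp_of_isIso, Scheme.Opens.opensRange_ι]

theorem injective_of_small {F G : P.Modules} (ut : F ⟶ G)
    (h : ∀ (U : Y.Opens) (_ : IsAffineOpen U) (W : P.Opens), W ≤ p ⁻¹ᵁ U →
      Function.Injective (ut.app W)) : Mono ut := by
  have hall : ∀ W : P.Opens, Function.Injective (ut.app W) := by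
    intro W
    refine (injective_iff_map_eq_zero (ut.app W).hom).mpr fun s hs => ?_
    have hs' : ut.app W s = 0 := hs
    refine section_eq_of_cover F _ _ fun x hx => ?_
    obtain ⟨U, hU, hxU, -⟩ := Opens.isBasis_iff_nbhd.mp Y.isBasis_affineOpens
      (show p.base x ∈ (⊤ : Y.Opens) from trivial)
    refine ⟨W ⊓ p ⁻¹ᵁ U, inf_le_left, ⟨hx, hxU⟩, ?_⟩
    apply h U hU (W ⊓ p ⁻¹ᵁ U) inf_le_right
    rw [app_res, app_res, hs']
    simp only [map_zero]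
  haveI : ∀ W, Mono (((Scheme.Modules.toPresheaf P).map ut).app W) := fun W =>
    (AddCommGrpCat.mono_iff_injective _).mpr (hall W.unop)
  haveI : Mono ((Scheme.Modules.toPresheaf P).map ut) := NatTrans.mono_of_mono_app _
  exact (Scheme.Modules.toPresheaf P).mono_of_mono_map this

include hF hut in
theorem mono_of_tnInjective
    (hinj : ∃ n₀ : ℕ, ∀ (U : Y.Opens) (hU : IsAffineOpen U) (k : ℕ), n₀ ≤ k →
      ∀ m ∈ ℳ.deg U hU k, (u.val.app (op U)).hom m = 0 → m = 0) : Mono ut := by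
  obtain ⟨n₀, hn₀⟩ := hinj
  refine injective_of_small p ut fun U hU W hW => ?_
  refine (injective_iff_map_eq_zero (ut.app W).hom).mpr fun s hs => ?_
  have hs' : ut.app W s = 0 := hs
  apply (hF.bijective U hU W hW).1
  apply map_app_injective_of_tnInjective (𝒮.deg U hU) (ℳ.deg U hU) (𝒩.deg U hU)
    (show ℳ.mod.val.obj (op U) →ₗ[𝒮.presheaf.obj (op U)] 𝒩.mod.val.obj (op U) from
      (u.val.app (op U)).hom) (hu U hU) n
    ⟨n₀, fun k hk m hm h0 => hn₀ U hU k hk m hm h0⟩ (RelProj.emb p chart U hU ⁻¹ᵁ W)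
  rw [← hut_app 𝒮 p chart ℳ 𝒩 u hu n F lam G lam' ut hut U hU W s, hs']
  have e1 : (lam' U hU).app W 0 = 0 := map_zero _
  have e2 : (lam U hU).app W 0 = 0 := map_zero _
  rw [e1, e2]
  exact (map_zero _).symm

include hF hG hut in
theorem epi_of_tnSurjective
    (hsurj : ∃ n₀ : ℕ, ∀ (U : Y.Opens) (hU : IsAffineOpen U) (k : ℕ), n₀ ≤ k →
      ∀ m' ∈ 𝒩.deg U hU k, ∃ m ∈ ℳ.deg U hU k, (u.val.app (op U)).hom m = m') : Epi ut := by
  obtain ⟨n₀, hn₀⟩ := hsurj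
  have h1 : Epi ((SheafOfModules.toSheaf P.ringCatSheaf).map ut) := by
    refine (TopCat.Sheaf.isLocallySurjective_iff_epi (X := P.toTopCat) (C := AddCommGrpCat.{u})
      _).mp ?_
    rw [TopCat.Presheaf.isLocallySurjective_iff]
    intro W t x hx
    obtain ⟨U, hU, hxU, -⟩ := Opens.isBasis_iff_nbhd.mp Y.isBasis_affineOpens
      (show p.base x ∈ (⊤ : Y.Opens) from trivial)
    have hW₁ : W ⊓ p ⁻¹ᵁ U ≤ p ⁻¹ᵁ U := inf_le_right
    obtain ⟨y, hy⟩ : ∃ y, (RelProj.emb p chart U hU).base y = x := by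
      have : x ∈ (RelProj.emb p chart U hU).opensRange := by
        rw [opensRange_emb]; exact hxU
      exact this
    have hyW₁ : y ∈ RelProj.emb p chart U hU ⁻¹ᵁ (W ⊓ p ⁻¹ᵁ U) := by
      show (RelProj.emb p chart U hU).base y ∈ W ⊓ p ⁻¹ᵁ U
      rw [hy]; exact ⟨hx, hxU⟩
    obtain ⟨V', hV', hyV', σ, hσ⟩ := map_app_locally_surjective (𝒮.deg U hU) (ℳ.deg U hU)
      (𝒩.deg U hU)
      (show ℳ.mod.val.obj (op U) →ₗ[𝒮.presheaf.obj (op U)] 𝒩.mod.val.obj (op U) from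
        (u.val.app (op U)).hom) (hu U hU) n
      ⟨n₀, fun k hk m' hm' => hn₀ U hU k hk m' hm'⟩
      (RelProj.emb p chart U hU ⁻¹ᵁ (W ⊓ p ⁻¹ᵁ U))
      ((lam' U hU).app (W ⊓ p ⁻¹ᵁ U) (G.presheaf.map (homOfLE inf_le_left).op t)) ⟨y, hyW₁⟩
    have hW'le : RelProj.emb p chart U hU ''ᵁ V' ≤ W ⊓ p ⁻¹ᵁ U := by
      rintro _ ⟨v, hv, rfl⟩
      exact hV' hv
    have hpre : RelProj.emb p chart U hU ⁻¹ᵁ (RelProj.emb p chart U hU ''ᵁ V') ≤ V' :=
      ((RelProj.emb p chart U hU).preimage_image_eq V').le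
    obtain ⟨s, hs⟩ := (hF.bijective U hU _ (hW'le.trans hW₁)).2
      ((GrMod.tilde (𝒮.deg U hU) (ℳ.deg U hU) n).presheaf.map (homOfLE hpre).op σ)
    have key : ut.app (RelProj.emb p chart U hU ''ᵁ V') s =
        G.presheaf.map (homOfLE (hW'le.trans inf_le_left)).op t := by
      apply (hG.bijective U hU _ (hW'le.trans hW₁)).1
      have eR : (lam' U hU).app (RelProj.emb p chart U hU ''ᵁ V')
          (G.presheaf.map (homOfLE (hW'le.trans inf_le_left)).op t) =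
          (GrMod.tilde (𝒮.deg U hU) (𝒩.deg U hU) n).presheaf.map (homOfLE (hpre.trans hV')).op
            ((lam' U hU).app (W ⊓ p ⁻¹ᵁ U) (G.presheaf.map (homOfLE inf_le_left).op t)) := by
        rw [← res_res G hW'le inf_le_left t]
        exact app_res (lam' U hU) hW'le _
      rw [hut_app 𝒮 p chart ℳ 𝒩 u hu n F lam G lam' ut hut U hU _ s, hs, app_res, hσ, eR]
      exact res_res (GrMod.tilde (𝒮.deg U hU) (𝒩.deg U hU) n) hpre hV' _
    exact ⟨RelProj.emb p chart U hU ''ᵁ V', hW'le.trans inf_le_left, ⟨s, key⟩, ⟨y, hyV', hy⟩⟩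
  exact (SheafOfModules.toSheaf _).epi_of_epi_map h1

end Rel

end Groth.Agent.H41.RelTildeMaps
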