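import Groth.Agent.H41.SheafGlueLim
import Groth.Agent.H41.CompLoc
import Groth.Agent.H41.RelTildeMaps
import Mathlib

/-!
# Existence of `(ℳ(n))~` on a relative `Proj` by gluing

The module is the limit, over the preorder of affine opens of the base ordered by "is a basic open
of", of the direct images of the chartwise modules `(ℳ(U)(n))~`.
-/

set_option autoImplicit false
set_option linter.style.haveILetI false
set_option linter.unusedSectionVars false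
set_option linter.unusedVariables false
universe u

open CategoryTheory CategoryTheory.Limits AlgebraicGeometry HomogeneousIdeal TopologicalSpace Opposite
open Groth.Agent.H8 Groth.Agent.H41.GrModQCoh Groth.Agent.H41.GrModMaps
  Groth.Agent.H41.RelTildeMaps

noncomputable section

namespace Groth.Agent.H41.RelTildeExists

/-! ### Ring level: composition and identity of the maps of localized modules -/

section Ring

variable {A σA : Type u} [CommRing A] [SetLike σA A] [AddSubgroupClass σA A] {𝒜 : ℕ → σA}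
  [GradedRing 𝒜]
  {B σB : Type u} [CommRing B] [SetLike σB B] [AddSubgroupClass σB B] {ℬ : ℕ → σB} [GradedRing ℬ]
  {C σC : Type u} [CommRing C] [SetLike σC C] [AddSubgroupClass σC C] {𝒞 : ℕ → σC} [GradedRing 𝒞]
  {M τM : Type u} [AddCommGroup M] [Module A M] [SetLike τM M] [AddSubgroupClass τM M]
  {ℳ : ℕ → τM} [SetLike.GradedSMul 𝒜 ℳ]
  {N τN : Type u} [AddCommGroup N] [Module B N] [SetLike τN N] [AddSubgroupClass τN N]
  {𝒩 : ℕ → τN} [SetLike.GradedSMul ℬ 𝒩]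
  {L τL : Type u} [AddCommGroup L] [Module C L] [SetLike τL L] [AddSubgroupClass τL L]
  {ℒ : ℕ → τL} [SetLike.GradedSMul 𝒞 ℒ]
  (ψ₁ : 𝒜 →+*ᵍ ℬ) (h₁ : ℬ₊ ≤ (𝒜₊).map ψ₁) (ψ₂ : ℬ →+*ᵍ 𝒞) (h₂ : 𝒞₊ ≤ (ℬ₊).map ψ₂)
  (ψ₃ : 𝒜 →+*ᵍ 𝒞) (h₃ : 𝒞₊ ≤ (𝒜₊).map ψ₃)
  (v₁ : M →ₛₗ[ψ₁.toRingHom] N) (v₂ : N →ₛₗ[ψ₂.toRingHom] L) (v₃ : M →ₛₗ[ψ₃.toRingHom] L)
  (hψ : ∀ a, ψ₂ (ψ₁ a) = ψ₃ a) (hv : ∀ m, v₂ (v₁ m) = v₃ m)

include hψ in
theorem comap_tri (y : ProjectiveSpectrum 𝒞) :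
    ProjectiveSpectrum.comap ψ₁ h₁ (ProjectiveSpectrum.comap ψ₂ h₂ y) =
      ProjectiveSpectrum.comap ψ₃ h₃ y := by
  apply ProjectiveSpectrum.ext
  apply HomogeneousIdeal.toIdeal_injective
  ext a
  show ψ₂ (ψ₁ a) ∈ y.asHomogeneousIdeal ↔ ψ₃ a ∈ y.asHomogeneousIdeal
  rw [hψ a]

include hψ hv in
theorem locModMap_tri (n : ℤ) (y : ProjectiveSpectrum 𝒞) {V : (Proj 𝒜).Opens}
    (z : Γ(GrMod.tilde 𝒜 ℳ n, V))
    (hx₁ : ProjectiveSpectrum.comap ψ₁ h₁ (ProjectiveSpectrum.comap ψ₂ h₂ y) ∈ V)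
    (hx₃ : ProjectiveSpectrum.comap ψ₃ h₃ y ∈ V) :
    GrMod.locModMap ψ₂ h₂ v₂ y (GrMod.locModMap ψ₁ h₁ v₁ (ProjectiveSpectrum.comap ψ₂ h₂ y)
        (GrMod.val z ⟨_, hx₁⟩)) =
      GrMod.locModMap ψ₃ h₃ v₃ y (GrMod.val z ⟨_, hx₃⟩) := by
  have hx := comap_tri ψ₁ h₁ ψ₂ h₂ ψ₃ h₃ hψ y
  obtain ⟨V', hx₁V', iV, i, j, a, s, nin, -, hw⟩ :=
    (z : GrMod.sect 𝒜 ℳ n (op V)).2 ⟨_, hx₁⟩
  have hx₁V'' : ProjectiveSpectrum.comap ψ₁ h₁ (ProjectiveSpectrum.comap ψ₂ h₂ y) ∈ V' := hx₁V'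
  have hx₃V' : ProjectiveSpectrum.comap ψ₃ h₃ y ∈ V' := by
    rw [hx] at hx₁V''; exact hx₁V''
  have e1 : GrMod.val z ⟨_, hx₁⟩ = LocalizedModule.mk (a : M) ⟨(s : A), nin ⟨_, hx₁V''⟩⟩ :=
    hw ⟨_, hx₁V''⟩
  have e3 : GrMod.val z ⟨_, hx₃⟩ = LocalizedModule.mk (a : M) ⟨(s : A), nin ⟨_, hx₃V'⟩⟩ :=
    hw ⟨_, hx₃V'⟩
  rw [e1, e3]
  simp only [GrMod.locModMap_mk]
  congr 1
  · exact hv a
  · exact Subtype.ext (hψ s)

variable (ψ : 𝒜 →+*ᵍ 𝒜) (hψ' : 𝒜₊ ≤ (𝒜₊).map ψ) (v : M →ₛₗ[ψ.toRingHom] M)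
  (hψi : ∀ a, ψ a = a) (hvi : ∀ m, v m = m)

include hψi in
theorem comap_self (y : ProjectiveSpectrum 𝒜) : ProjectiveSpectrum.comap ψ hψ' y = y := by
  apply ProjectiveSpectrum.ext
  apply HomogeneousIdeal.toIdeal_injective
  ext a
  show ψ a ∈ y.asHomogeneousIdeal ↔ a ∈ y.asHomogeneousIdeal
  rw [hψi a]

include hψi hvi in
theorem locModMap_self (n : ℤ) (y : ProjectiveSpectrum 𝒜) {V : (Proj 𝒜).Opens}
    (z : Γ(GrMod.tilde 𝒜 ℳ n, V)) (hx : ProjectiveSpectrum.comap ψ hψ' y ∈ V) (hy : y ∈ V) :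
    GrMod.locModMap ψ hψ' v y (GrMod.val z ⟨_, hx⟩) = GrMod.val z ⟨y, hy⟩ := by
  have hxy := comap_self ψ hψ' hψi y
  obtain ⟨V', hxV', iV, i, j, a, s, nin, -, hw⟩ :=
    (z : GrMod.sect 𝒜 ℳ n (op V)).2 ⟨_, hx⟩
  have hxV'' : ProjectiveSpectrum.comap ψ hψ' y ∈ V' := hxV'
  have hyV' : y ∈ V' := by
    have h0 := hxV''
    rw [hxy] at h0; exact h0
  have e1 : GrMod.val z ⟨_, hx⟩ = LocalizedModule.mk (a : M) ⟨(s : A), nin ⟨_, hxV''⟩⟩ :=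
    hw ⟨_, hxV''⟩
  have e2 : GrMod.val z ⟨y, hy⟩ = LocalizedModule.mk (a : M) ⟨(s : A), nin ⟨y, hyV'⟩⟩ :=
    hw ⟨y, hyV'⟩
  rw [e1, e2, GrMod.locModMap_mk]
  congr 1
  · exact hvi a
  · exact Subtype.ext (hψi s)

end Ring

/-! ### Restriction along an inclusion `A ≤ B ≤ A` is bijective -/

theorem rs_bijective_of_le {X : Scheme.{u}} (M : X.Modules) {A B : X.Opens} (h : A ≤ B)
    (h' : B ≤ A) :
    Function.Bijective (fun x : Γ(M, B) => M.presheaf.map (homOfLE h).op x) := by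
  have hself : ∀ (C : X.Opens) (hC : C ≤ C) (x : Γ(M, C)),
      M.presheaf.map (homOfLE hC).op x = x := by
    intro C hC x
    rw [show (homOfLE hC).op = 𝟙 (op C) from rfl, M.presheaf.map_id]
    rfl
  refine Function.bijective_iff_has_inverse.mpr
    ⟨fun x => M.presheaf.map (homOfLE h').op x, fun x => ?_, fun x => ?_⟩
  · show M.presheaf.map (homOfLE h').op (M.presheaf.map (homOfLE h).op x) = x
    rw [res_res M h' h x]
    exact hself _ _ x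
  · show M.presheaf.map (homOfLE h).op (M.presheaf.map (homOfLE h').op x) = x
    rw [res_res M h h' x]
    exact hself _ _ x

/-! ### The chartwise modules and the comparison maps -/

section Rel

variable {Y P : Scheme.{u}} (𝒮 : RelProj.QCGrAlg Y) (p : P ⟶ Y)
  (chart : ∀ (U : Y.Opens) (hU : IsAffineOpen U),
    (((p ⁻¹ᵁ U : P.Opens) : Scheme.{u}) ≅ Proj (𝒮.deg U hU)))
  (hP : RelProj.IsRelProj 𝒮 p chart) (ℳ : RelProj.GrModule 𝒮) (n : ℤ)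

/-- The direct image on `P` of the chartwise module over `U`. -/
abbrev T (U : Y.Opens) (hU : IsAffineOpen U) : P.Modules :=
  (Scheme.Modules.pushforward (RelProj.emb p chart U hU)).obj
    (GrMod.tilde (𝒮.deg U hU) (ℳ.deg U hU) n)

section Restr

variable {U V : Y.Opens} (hU : IsAffineOpen U) (hV : IsAffineOpen V) (hle : V ≤ U)

theorem sres_self (hle' : U ≤ U) (a : 𝒮.presheaf.obj (op U)) : 𝒮.res hU hU hle' a = a := by
  have h : 𝒮.presheaf.map (homOfLE hle').op = 𝟙 _ := by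
    rw [show (homOfLE hle').op = 𝟙 (op U) from rfl, 𝒮.presheaf.map_id]
  exact congrArg (fun φ => φ.hom a) h

theorem sres_sres {V₂ : Y.Opens} (hV₂ : IsAffineOpen V₂) (hle₂ : V₂ ≤ V) (hle₃ : V₂ ≤ U)
    (a : 𝒮.presheaf.obj (op U)) :
    𝒮.res hV hV₂ hle₂ (𝒮.res hU hV hle a) = 𝒮.res hU hV₂ hle₃ a := by
  have h : 𝒮.presheaf.map (homOfLE hle).op ≫ 𝒮.presheaf.map (homOfLE hle₂).op =
      𝒮.presheaf.map (homOfLE hle₃).op := by
    rw [← Functor.map_comp]; rfl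
  exact congrArg (fun φ => φ.hom a) h

theorem mres_self (hle' : U ≤ U) (m : ℳ.mod.val.obj (op U)) : ℳ.res hU hU hle' m = m := by
  have h := PresheafOfModules.congr_map_apply ℳ.mod.val
    (show (homOfLE hle').op = 𝟙 (op U) from rfl) m
  have h2 : ℳ.mod.val.map (𝟙 (op U)) m = m := by
    rw [ℳ.mod.val.map_id]; rfl
  exact h.trans h2

theorem mres_mres {V₂ : Y.Opens} (hV₂ : IsAffineOpen V₂) (hle₂ : V₂ ≤ V) (hle₃ : V₂ ≤ U)
    (m : ℳ.mod.val.obj (op U)) :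
    ℳ.res hV hV₂ hle₂ (ℳ.res hU hV hle m) = ℳ.res hU hV₂ hle₃ m := by
  have h := PresheafOfModules.map_comp_apply ℳ.mod.val (homOfLE hle).op (homOfLE hle₂).op m
  have h' := PresheafOfModules.congr_map_apply ℳ.mod.val
    (show (homOfLE hle).op ≫ (homOfLE hle₂).op = (homOfLE hle₃).op from rfl) m
  exact h.symm.trans h'

end Restr

section Maps

variable {U V : Y.Opens} (hU : IsAffineOpen U) (hV : IsAffineOpen V) (hle : V ≤ U)
  (hirr : (𝒮.deg V hV)₊ ≤ ((𝒮.deg U hU)₊).map (𝒮.res hU hV hle))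
  (hemb : Proj.map (𝒮.res hU hV hle) hirr ≫ RelProj.emb p chart U hU = RelProj.emb p chart V hV)

/-- The comparison map on `Proj 𝒮(U)`. -/
def cmp : GrMod.tilde (𝒮.deg U hU) (ℳ.deg U hU) n ⟶
    (Scheme.Modules.pushforward (Proj.map (𝒮.res hU hV hle) hirr)).obj
      (GrMod.tilde (𝒮.deg V hV) (ℳ.deg V hV) n) :=
  GrMod.comap (𝒮.res hU hV hle) hirr (ℳ.res hU hV hle)
    (fun d m hm => ℳ.res_mem hU hV hle d m hm) n

/-- The identification of the iterated direct image. -/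
def ιρ : (Scheme.Modules.pushforward (RelProj.emb p chart U hU)).obj
      ((Scheme.Modules.pushforward (Proj.map (𝒮.res hU hV hle) hirr)).obj
        (GrMod.tilde (𝒮.deg V hV) (ℳ.deg V hV) n)) ⟶ T 𝒮 p chart ℳ n V hV :=
  (Scheme.Modules.pushforwardComp (Proj.map (𝒮.res hU hV hle) hirr)
      (RelProj.emb p chart U hU)).hom.app _ ≫
    (Scheme.Modules.pushforwardCongr hemb).hom.app _

instance : IsIso (ιρ 𝒮 p chart ℳ n hU hV hle hirr hemb) := by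
  unfold ιρ; infer_instance

/-- The transition map of the system. -/
def ρ : T 𝒮 p chart ℳ n U hU ⟶ T 𝒮 p chart ℳ n V hV :=
  (Scheme.Modules.pushforward (RelProj.emb p chart U hU)).map (cmp 𝒮 ℳ n hU hV hle hirr) ≫
    ιρ 𝒮 p chart ℳ n hU hV hle hirr hemb

theorem val_ρ (W : P.Opens) (s : Γ(T 𝒮 p chart ℳ n U hU, W))
    (y : ProjectiveSpectrum (𝒮.deg V hV)) (hy : (RelProj.emb p chart V hV).base y ∈ W)
    (hy' : (RelProj.emb p chart U hU).base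
      (ProjectiveSpectrum.comap (𝒮.res hU hV hle) hirr y) ∈ W) :
    GrMod.val (V := RelProj.emb p chart V hV ⁻¹ᵁ W)
        ((ρ 𝒮 p chart ℳ n hU hV hle hirr hemb).app W s) ⟨y, hy⟩ =
      GrMod.locModMap (𝒮.res hU hV hle) hirr (ℳ.res hU hV hle) y
        (GrMod.val (V := RelProj.emb p chart U hU ⁻¹ᵁ W) s ⟨_, hy'⟩) := rfl

include hemb in
theorem emb_comap (y : ProjectiveSpectrum (𝒮.deg V hV)) :
    (RelProj.emb p chart U hU).base (ProjectiveSpectrum.comap (𝒮.res hU hV hle) hirr y) =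
      (RelProj.emb p chart V hV).base y :=
  congrArg (fun φ : Proj (𝒮.deg V hV) ⟶ P => φ.base y) hemb

end Maps


/-! ### Functoriality of the transition maps -/

section Functoriality

theorem ρ_self {U : Y.Opens} (hU : IsAffineOpen U) (hle : U ≤ U)
    (hirr : (𝒮.deg U hU)₊ ≤ ((𝒮.deg U hU)₊).map (𝒮.res hU hU hle))
    (hemb : Proj.map (𝒮.res hU hU hle) hirr ≫ RelProj.emb p chart U hU =
      RelProj.emb p chart U hU) :
    ρ 𝒮 p chart ℳ n hU hU hle hirr hemb = 𝟙 _ := by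
  refine Scheme.Modules.hom_ext _ _ fun W => ?_
  refine ConcreteCategory.hom_ext _ _ fun s => ?_
  refine sect_ext (𝒮.deg U hU) (ℳ.deg U hU) n (W := RelProj.emb p chart U hU ⁻¹ᵁ W) _ _
    fun y => ?_
  obtain ⟨y, hy⟩ := y
  have hy' : (RelProj.emb p chart U hU).base
      (ProjectiveSpectrum.comap (𝒮.res hU hU hle) hirr y) ∈ W := by
    rw [emb_comap 𝒮 p chart hU hU hle hirr hemb y]; exact hy
  refine (val_ρ 𝒮 p chart ℳ n hU hU hle hirr hemb W s y hy hy').trans ?_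
  exact locModMap_self (𝒮.res hU hU hle) hirr (ℳ.res hU hU hle)
    (fun a => sres_self 𝒮 hU hle a) (fun m => mres_self 𝒮 ℳ hU hle m) n y s hy' hy

theorem ρ_comp {U V V₂ : Y.Opens} (hU : IsAffineOpen U) (hV : IsAffineOpen V)
    (hV₂ : IsAffineOpen V₂) (hle₁ : V ≤ U) (hle₂ : V₂ ≤ V) (hle₃ : V₂ ≤ U)
    (hirr₁ : (𝒮.deg V hV)₊ ≤ ((𝒮.deg U hU)₊).map (𝒮.res hU hV hle₁))
    (hirr₂ : (𝒮.deg V₂ hV₂)₊ ≤ ((𝒮.deg V hV)₊).map (𝒮.res hV hV₂ hle₂))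
    (hirr₃ : (𝒮.deg V₂ hV₂)₊ ≤ ((𝒮.deg U hU)₊).map (𝒮.res hU hV₂ hle₃))
    (hemb₁ : Proj.map (𝒮.res hU hV hle₁) hirr₁ ≫ RelProj.emb p chart U hU =
      RelProj.emb p chart V hV)
    (hemb₂ : Proj.map (𝒮.res hV hV₂ hle₂) hirr₂ ≫ RelProj.emb p chart V hV =
      RelProj.emb p chart V₂ hV₂)
    (hemb₃ : Proj.map (𝒮.res hU hV₂ hle₃) hirr₃ ≫ RelProj.emb p chart U hU =
      RelProj.emb p chart V₂ hV₂) :
    ρ 𝒮 p chart ℳ n hU hV hle₁ hirr₁ hemb₁ ≫ ρ 𝒮 p chart ℳ n hV hV₂ hle₂ hirr₂ hemb₂ =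
      ρ 𝒮 p chart ℳ n hU hV₂ hle₃ hirr₃ hemb₃ := by
  refine Scheme.Modules.hom_ext _ _ fun W => ?_
  refine ConcreteCategory.hom_ext _ _ fun s => ?_
  refine sect_ext (𝒮.deg V₂ hV₂) (ℳ.deg V₂ hV₂) n (W := RelProj.emb p chart V₂ hV₂ ⁻¹ᵁ W) _ _
    fun y => ?_
  obtain ⟨y, hy⟩ := y
  have hy₂ : (RelProj.emb p chart V hV).base
      (ProjectiveSpectrum.comap (𝒮.res hV hV₂ hle₂) hirr₂ y) ∈ W := by
    rw [emb_comap 𝒮 p chart hV hV₂ hle₂ hirr₂ hemb₂ y]; exact hy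
  have hy₁ : (RelProj.emb p chart U hU).base
      (ProjectiveSpectrum.comap (𝒮.res hU hV hle₁) hirr₁
        (ProjectiveSpectrum.comap (𝒮.res hV hV₂ hle₂) hirr₂ y)) ∈ W := by
    rw [emb_comap 𝒮 p chart hU hV hle₁ hirr₁ hemb₁]; exact hy₂
  have hy₃ : (RelProj.emb p chart U hU).base
      (ProjectiveSpectrum.comap (𝒮.res hU hV₂ hle₃) hirr₃ y) ∈ W := by
    rw [emb_comap 𝒮 p chart hU hV₂ hle₃ hirr₃ hemb₃ y]; exact hy
  have e3 := val_ρ 𝒮 p chart ℳ n hU hV₂ hle₃ hirr₃ hemb₃ W s y hy hy₃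
  have e2 := val_ρ 𝒮 p chart ℳ n hV hV₂ hle₂ hirr₂ hemb₂ W
    ((ρ 𝒮 p chart ℳ n hU hV hle₁ hirr₁ hemb₁).app W s) y hy hy₂
  have e1 := val_ρ 𝒮 p chart ℳ n hU hV hle₁ hirr₁ hemb₁ W s
    (ProjectiveSpectrum.comap (𝒮.res hV hV₂ hle₂) hirr₂ y) hy₂ hy₁
  refine Eq.trans ?_ e3.symm
  refine e2.trans ?_
  rw [e1]
  exact locModMap_tri (𝒮.res hU hV hle₁) hirr₁ (𝒮.res hV hV₂ hle₂) hirr₂ (𝒮.res hU hV₂ hle₃) hirr₃
    (ℳ.res hU hV hle₁) (ℳ.res hV hV₂ hle₂) (ℳ.res hU hV₂ hle₃)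
    (fun a => sres_sres 𝒮 hU hV hle₁ hV₂ hle₂ hle₃ a)
    (fun m => mres_mres 𝒮 ℳ hU hV hle₁ hV₂ hle₂ hle₃ m) n y s hy₁ hy₃

end Functoriality

/-! ### The index preorder -/

/-- Affine opens of the base. -/
structure Idx (Y : Scheme.{u}) : Type u where
  /-- the open -/
  U : Y.Opens
  /-- it is affine -/
  hU : IsAffineOpen U

theorem le_trans_aux {U V W : Y.Opens} (hU : IsAffineOpen U) (r : Γ(Y, U))
    (hr : V = Y.basicOpen r) (r' : Γ(Y, V)) (hr' : W = Y.basicOpen r') :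
    ∃ r'' : Γ(Y, U), W = Y.basicOpen r'' := by
  subst hr
  obtain ⟨f', hf'⟩ := hU.basicOpen_basicOpen_is_basicOpen r r'
  exact ⟨f', hr'.trans hf'.symm⟩

instance : Preorder (Idx Y) where
  le i j := ∃ r : Γ(Y, i.U), j.U = Y.basicOpen r
  le_refl i := ⟨1, (Y.basicOpen_of_isUnit isUnit_one).symm⟩
  le_trans i j k hij hjk := by
    obtain ⟨r, hr⟩ := hij
    obtain ⟨r', hr'⟩ := hjk
    exact le_trans_aux i.hU r hr r' hr'

theorem Idx.le_of_le {i j : Idx Y} (h : i ≤ j) : j.U ≤ i.U := by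
  obtain ⟨r, hr⟩ := h
  rw [hr]; exact Y.basicOpen_le r

theorem irr_aux {U V : Y.Opens} (hU : IsAffineOpen U) (hV : IsAffineOpen V) (r : Γ(Y, U))
    (hr : V = Y.basicOpen r) (hle : V ≤ U) :
    (𝒮.deg V hV)₊ ≤ ((𝒮.deg U hU)₊).map (𝒮.res hU hV hle) := by
  subst hr
  exact 𝒮.irrelevant_le_map U hU r

include hP in
theorem emb_aux {U V : Y.Opens} (hU : IsAffineOpen U) (hV : IsAffineOpen V) (r : Γ(Y, U))
    (hr : V = Y.basicOpen r) (hle : V ≤ U)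
    (hirr : (𝒮.deg V hV)₊ ≤ ((𝒮.deg U hU)₊).map (𝒮.res hU hV hle)) :
    Proj.map (𝒮.res hU hV hle) hirr ≫ RelProj.emb p chart U hU = RelProj.emb p chart V hV := by
  subst hr
  exact RelProj.map_res_emb hP U hU r

theorem irr_of_le {i j : Idx Y} (h : i ≤ j) :
    (𝒮.deg j.U j.hU)₊ ≤ ((𝒮.deg i.U i.hU)₊).map (𝒮.res i.hU j.hU (Idx.le_of_le h)) := by
  have h' := h
  obtain ⟨r, hr⟩ := h'
  exact irr_aux 𝒮 i.hU j.hU r hr _

include hP in
theorem emb_of_le {i j : Idx Y} (h : i ≤ j) :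
    Proj.map (𝒮.res i.hU j.hU (Idx.le_of_le h)) (irr_of_le 𝒮 h) ≫ RelProj.emb p chart i.U i.hU =
      RelProj.emb p chart j.U j.hU := by
  have h' := h
  obtain ⟨r, hr⟩ := h'
  exact emb_aux 𝒮 p chart hP i.hU j.hU r hr _ _

/-- The transition map attached to `i ≤ j`. -/
def ρI {i j : Idx Y} (h : i ≤ j) : T 𝒮 p chart ℳ n i.U i.hU ⟶ T 𝒮 p chart ℳ n j.U j.hU :=
  ρ 𝒮 p chart ℳ n i.hU j.hU (Idx.le_of_le h) (irr_of_le 𝒮 h) (emb_of_le 𝒮 p chart hP h)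

/-- The system of chartwise modules. -/
def Fun : Idx Y ⥤ P.Modules where
  obj i := T 𝒮 p chart ℳ n i.U i.hU
  map {i j} f := ρI 𝒮 p chart hP ℳ n (leOfHom f)
  map_id i := ρ_self 𝒮 p chart ℳ n i.hU _ _ _
  map_comp {i j k} f g := (ρ_comp 𝒮 p chart ℳ n i.hU j.hU k.hU _ _ _ _ _ _ _ _ _).symm

/-! ### Bijectivity of the transition maps on small opens -/

section Bij

variable
  (hMs : ∀ (U : Y.Opens) (hU : IsAffineOpen U) (r : Γ(Y, U))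
    (x : ℳ.mod.val.obj (op (Y.basicOpen r))),
    ∃ (k : ℕ) (m : ℳ.mod.val.obj (op U)),
      (𝒮.res hU (hU.basicOpen r) (Y.basicOpen_le r) ((𝒮.str.app (op U)).hom r)) ^ k • x =
        ℳ.res hU (hU.basicOpen r) (Y.basicOpen_le r) m)
  (hMi : ∀ (U : Y.Opens) (hU : IsAffineOpen U) (r : Γ(Y, U)) (m : ℳ.mod.val.obj (op U)),
    ℳ.res hU (hU.basicOpen r) (Y.basicOpen_le r) m = 0 →
      ∃ k : ℕ, ((𝒮.str.app (op U)).hom r) ^ k • m = 0)

include hMs hMi in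
theorem ρ_app_bijective_aux {U V : Y.Opens} (hU : IsAffineOpen U) (hV : IsAffineOpen V)
    (r : Γ(Y, U)) (hr : V = Y.basicOpen r) (hle : V ≤ U)
    (hirr : (𝒮.deg V hV)₊ ≤ ((𝒮.deg U hU)₊).map (𝒮.res hU hV hle))
    (hemb : Proj.map (𝒮.res hU hV hle) hirr ≫ RelProj.emb p chart U hU =
      RelProj.emb p chart V hV)
    (W : P.Opens) (hW : W ≤ p ⁻¹ᵁ V) :
    Function.Bijective ((ρ 𝒮 p chart ℳ n hU hV hle hirr hemb).app W) := by
  subst hr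
  classical
  letI := (𝒮.presheaf.map (homOfLE (Y.basicOpen_le r)).op).hom.toAlgebra
  have hloc : IsLocalization.Away ((𝒮.str.app (op U)).hom r)
      (𝒮.presheaf.obj (op (Y.basicOpen r))) := 𝒮.isQC U hU r
  have hcu : IsUnit (𝒮.res hU hV hle ((𝒮.str.app (op U)).hom r)) :=
    IsLocalization.map_units (M := Submonoid.powers ((𝒮.str.app (op U)).hom r))
      (𝒮.presheaf.obj (op (Y.basicOpen r)))
      ⟨(𝒮.str.app (op U)).hom r, Submonoid.mem_powers _⟩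
  have hBs : ∀ b : 𝒮.presheaf.obj (op (Y.basicOpen r)),
      ∃ (k : ℕ) (a : 𝒮.presheaf.obj (op U)),
        𝒮.res hU hV hle ((𝒮.str.app (op U)).hom r) ^ k * b = 𝒮.res hU hV hle a := by
    intro b
    obtain ⟨⟨x, s, hs⟩, hxs⟩ :=
      IsLocalization.surj (Submonoid.powers ((𝒮.str.app (op U)).hom r)) b
    obtain ⟨k, rfl⟩ := (Submonoid.mem_powers_iff _ _).mp hs
    change b * 𝒮.res hU hV hle (((𝒮.str.app (op U)).hom r) ^ k) = 𝒮.res hU hV hle x at hxs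
    exact ⟨k, x, by rw [← map_pow, mul_comm]; exact hxs⟩
  have hNs : ∀ x : ℳ.mod.val.obj (op (Y.basicOpen r)),
      ∃ (k : ℕ) (m : ℳ.mod.val.obj (op U)),
        𝒮.res hU hV hle ((𝒮.str.app (op U)).hom r) ^ k • x = ℳ.res hU hV hle m :=
    fun x => hMs U hU r x
  have hNi : ∀ m : ℳ.mod.val.obj (op U), ℳ.res hU hV hle m = 0 →
      ∃ k : ℕ, ((𝒮.str.app (op U)).hom r) ^ k • m = 0 := fun m hm => hMi U hU r m hm
  haveI : IsOpenImmersion (Proj.map (𝒮.res hU hV hle) hirr ≫ RelProj.emb p chart U hU) := by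
    rw [hemb]; infer_instance
  haveI : IsOpenImmersion (Proj.map (𝒮.res hU hV hle) hirr) :=
    IsOpenImmersion.of_comp _ (RelProj.emb p chart U hU)
  have hoe := (Proj.map (𝒮.res hU hV hle) hirr).isOpenEmbedding
  have hinj : Function.Injective (ProjectiveSpectrum.comap (𝒮.res hU hV hle) hirr) :=
    hoe.injective
  have hopen : IsOpenMap (ProjectiveSpectrum.comap (𝒮.res hU hV hle) hirr) := hoe.isOpenMap
  have hsurj : ∀ x ∈ (RelProj.emb p chart U hU ⁻¹ᵁ W),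
      ∃ y, ProjectiveSpectrum.comap (𝒮.res hU hV hle) hirr y = x := by
    intro x hx
    have hxW : (RelProj.emb p chart U hU).base x ∈ p ⁻¹ᵁ (Y.basicOpen r) := hW hx
    rw [← opensRange_emb 𝒮 p chart (Y.basicOpen r) hV] at hxW
    obtain ⟨y, hy⟩ := hxW
    refine ⟨y, (RelProj.emb p chart U hU).isOpenEmbedding.injective ?_⟩
    exact (emb_comap 𝒮 p chart hU hV hle hirr hemb y).trans hy
  have hA : Function.Bijective ((cmp 𝒮 ℳ n hU hV hle hirr).app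
      (RelProj.emb p chart U hU ⁻¹ᵁ W)) :=
    Groth.Agent.H41.CompLoc.comap_app_bijective (𝒮.res hU hV hle) hirr (ℳ.res hU hV hle)
      (fun d m hm => ℳ.res_mem hU hV hle d m hm) ((𝒮.str.app (op U)).hom r)
      (𝒮.str_mem U hU r) hcu hBs hNs hNi n (RelProj.emb p chart U hU ⁻¹ᵁ W) hsurj hinj hopen
  have hBC : Function.Bijective ((ιρ 𝒮 p chart ℳ n hU hV hle hirr hemb).app W) :=
    ConcreteCategory.bijective_of_isIso _
  constructor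
  · intro s s' hss'
    apply hA.1
    apply hBC.1
    exact hss'
  · intro t
    obtain ⟨t', ht'⟩ := hBC.2 t
    obtain ⟨s, hs⟩ := hA.2 t'
    refine ⟨s, ?_⟩
    rw [← ht', ← hs]
    rfl

include hMs hMi in
theorem ρI_app_bijective {i j : Idx Y} (h : i ≤ j) (W : P.Opens) (hW : W ≤ p ⁻¹ᵁ j.U) :
    Function.Bijective ((ρI 𝒮 p chart hP ℳ n h).app W) := by
  have h' := h
  obtain ⟨r, hr⟩ := h'
  exact ρ_app_bijective_aux 𝒮 p chart ℳ n hMs hMi i.hU j.hU r hr _ _ _ W hW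

theorem rs_bijective (U : Y.Opens) (hU : IsAffineOpen U) (W : P.Opens) :
    Function.Bijective (fun x : Γ(T 𝒮 p chart ℳ n U hU, W) =>
      SheafGlueLim.rs (T 𝒮 p chart ℳ n U hU) (inf_le_left : W ⊓ p ⁻¹ᵁ U ≤ W) x) := by
  have hle : RelProj.emb p chart U hU ⁻¹ᵁ W ≤ RelProj.emb p chart U hU ⁻¹ᵁ (W ⊓ p ⁻¹ᵁ U) := by
    intro y hy
    have h1 : (RelProj.emb p chart U hU).base y ∈ (RelProj.emb p chart U hU).opensRange :=
      ⟨y, rfl⟩
    rw [opensRange_emb 𝒮 p chart U hU] at h1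
    show (RelProj.emb p chart U hU).base y ∈ W ⊓ p ⁻¹ᵁ U
    exact ⟨hy, h1⟩
  exact rs_bijective_of_le (GrMod.tilde (𝒮.deg U hU) (ℳ.deg U hU) n)
    ((RelProj.emb p chart U hU).preimage_mono inf_le_left) hle

include hP hMs hMi in
/-- Existence of `(ℳ(n))~` from the two localization properties of `ℳ`. -/
theorem exists_isRelTilde :
    ∃ (F : P.Modules) (lam : ∀ (U : Y.Opens) (hU : IsAffineOpen U),
      F ⟶ (Scheme.Modules.pushforward (RelProj.emb p chart U hU)).obj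
        (GrMod.tilde (𝒮.deg U hU) (ℳ.deg U hU) n)),
      RelProj.IsRelTilde 𝒮 p chart ℳ n F lam := by
  refine ⟨limit (Fun 𝒮 p chart hP ℳ n),
    fun U hU => limit.π (Fun 𝒮 p chart hP ℳ n) ⟨U, hU⟩, ?_, ?_⟩
  · intro U hU W hW
    exact SheafGlueLim.bijective_limit_π (Fun 𝒮 p chart hP ℳ n) (fun i : Idx Y => p ⁻¹ᵁ i.U)
      (fun {j k} h => p.preimage_mono (Idx.le_of_le h))
      (fun {j k} hjk W hW => ρI_app_bijective 𝒮 p chart hP ℳ n hMs hMi hjk W hW)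
      (fun j W => rs_bijective 𝒮 p chart ℳ n j.U j.hU W)
      (fun j k x hxj hxk => by
        obtain ⟨f, g, e, hx⟩ := exists_basicOpen_le_affine_inter j.hU k.hU (p.base x) ⟨hxj, hxk⟩
        exact ⟨⟨Y.basicOpen f, j.hU.basicOpen f⟩, ⟨f, rfl⟩, ⟨g, e⟩, hx⟩)
      ⟨U, hU⟩ W hW
  · intro U hU r W s y hy hy'
    have hle : (⟨U, hU⟩ : Idx Y) ≤ ⟨Y.basicOpen r, hU.basicOpen r⟩ := ⟨r, rfl⟩
    have e := SheafGlueLim.limit_w_app (Fun 𝒮 p chart hP ℳ n) (homOfLE hle) W s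
    have e' : GrMod.val (V := RelProj.emb p chart (Y.basicOpen r) (hU.basicOpen r) ⁻¹ᵁ W)
        ((limit.π (Fun 𝒮 p chart hP ℳ n) ⟨Y.basicOpen r, hU.basicOpen r⟩).app W s) ⟨y, hy⟩ =
        GrMod.val (V := RelProj.emb p chart (Y.basicOpen r) (hU.basicOpen r) ⁻¹ᵁ W)
          ((ρ 𝒮 p chart ℳ n hU (hU.basicOpen r) (Y.basicOpen_le r) (𝒮.irrelevant_le_map U hU r)
            (RelProj.map_res_emb hP U hU r)).app W
            ((limit.π (Fun 𝒮 p chart hP ℳ n) ⟨U, hU⟩).app W s)) ⟨y, hy⟩ :=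
      congrArg (fun t : Γ(GrMod.tilde (𝒮.deg (Y.basicOpen r) (hU.basicOpen r))
        (ℳ.deg (Y.basicOpen r) (hU.basicOpen r)) n,
        RelProj.emb p chart (Y.basicOpen r) (hU.basicOpen r) ⁻¹ᵁ W) => GrMod.val t ⟨y, hy⟩) e.symm
    exact e'.trans (val_ρ 𝒮 p chart ℳ n hU (hU.basicOpen r) (Y.basicOpen_le r)
      (𝒮.irrelevant_le_map U hU r) (RelProj.map_res_emb hP U hU r) W _ y hy hy')

end Bij


/-! ### The quasi-coherent case -/

section QCoh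

variable (hℳ : ((AMod.toOS 𝒮.toQCAlg).obj ℳ.mod).IsQuasicoherent)

include hℳ in
theorem hMs_of_qcoh (U : Y.Opens) (hU : IsAffineOpen U) (r : Γ(Y, U))
    (x : ℳ.mod.val.obj (op (Y.basicOpen r))) :
    ∃ (k : ℕ) (m : ℳ.mod.val.obj (op U)),
      (𝒮.res hU (hU.basicOpen r) (Y.basicOpen_le r) ((𝒮.str.app (op U)).hom r)) ^ k • x =
        ℳ.res hU (hU.basicOpen r) (Y.basicOpen_le r) m := by
  haveI := hℳ
  obtain ⟨l, m, hm⟩ := exists_smul_eq_res hU ((AMod.toOS 𝒮.toQCAlg).obj ℳ.mod) r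
    (show Γ((AMod.toOS 𝒮.toQCAlg).obj ℳ.mod, Y.basicOpen r) from x)
  refine ⟨l, m, ?_⟩
  have hm' : (𝒮.str.app (op (Y.basicOpen r))).hom
      ((Y.presheaf.map (homOfLE (Y.basicOpen_le r)).op r) ^ l) • x =
      ℳ.res hU (hU.basicOpen r) (Y.basicOpen_le r) m := hm
  have hnat : (𝒮.str.app (op (Y.basicOpen r))).hom
      (Y.presheaf.map (homOfLE (Y.basicOpen_le r)).op r) =
      𝒮.res hU (hU.basicOpen r) (Y.basicOpen_le r) ((𝒮.str.app (op U)).hom r) :=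
    congrArg (fun ψ => ψ.hom r) (𝒮.str.naturality (homOfLE (Y.basicOpen_le r)).op)
  rw [← hnat, ← map_pow]
  exact hm'

include hℳ in
theorem hMi_of_qcoh (U : Y.Opens) (hU : IsAffineOpen U) (r : Γ(Y, U))
    (m : ℳ.mod.val.obj (op U))
    (hm : ℳ.res hU (hU.basicOpen r) (Y.basicOpen_le r) m = 0) :
    ∃ k : ℕ, ((𝒮.str.app (op U)).hom r) ^ k • m = 0 := by
  haveI := hℳ
  obtain ⟨k, hk⟩ := exists_smul_eq_zero hU ((AMod.toOS 𝒮.toQCAlg).obj ℳ.mod) r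
    (show Γ((AMod.toOS 𝒮.toQCAlg).obj ℳ.mod, U) from m) hm
  refine ⟨k, ?_⟩
  have hk' : (𝒮.str.app (op U)).hom (r ^ k) • m = 0 := hk
  rw [← map_pow]
  exact hk'

include hP hℳ in
/-- Existence of `(ℳ(n))~` for a quasi-coherent graded module. -/
theorem exists_isRelTilde_of_qcoh :
    ∃ (F : P.Modules) (lam : ∀ (U : Y.Opens) (hU : IsAffineOpen U),
      F ⟶ (Scheme.Modules.pushforward (RelProj.emb p chart U hU)).obj
        (GrMod.tilde (𝒮.deg U hU) (ℳ.deg U hU) n)),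
      RelProj.IsRelTilde 𝒮 p chart ℳ n F lam :=
  exists_isRelTilde 𝒮 p chart hP ℳ n (hMs_of_qcoh 𝒮 ℳ hℳ) (hMi_of_qcoh 𝒮 ℳ hℳ)

end QCoh

end Rel

end Groth.Agent.H41.RelTildeExists
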