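import Groth.Agent.H41.RelTildeMaps
import Groth.Agent.H41.ModGlue
import Groth.Agent.H41.QCohTransfer
import Groth.Agent.H8.SectionsExact
import Mathlib

/-!
# Gluing morphisms between modules `(ℳ(n))~` on a relative `Proj`
-/

set_option autoImplicit false
set_option linter.style.haveILetI false
universe u

open CategoryTheory CategoryTheory.Limits AlgebraicGeometry HomogeneousIdeal TopologicalSpace Opposite
open Groth.Agent.H8 Groth.Agent.H41.GrModQCoh Groth.Agent.H41.GrModMaps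
  Groth.Agent.H41.RelTildeMaps

noncomputable section

namespace Groth.Agent.H41.RelTildeGlue

section Ring

variable {A σ : Type u} [CommRing A] [SetLike σ A] [AddSubgroupClass σ A] {𝒜 : ℕ → σ} [GradedRing 𝒜]
  {B σ' : Type u} [CommRing B] [SetLike σ' B] [AddSubgroupClass σ' B] {ℬ : ℕ → σ'} [GradedRing ℬ]
  {M M' : Type u} [AddCommGroup M] [Module A M] [AddCommGroup M'] [Module A M']
  {N N' : Type u} [AddCommGroup N] [Module B N] [AddCommGroup N'] [Module B N']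
  (ψ : 𝒜 →+*ᵍ ℬ) (hψ : ℬ₊ ≤ (𝒜₊).map ψ) (v : M →ₛₗ[ψ.toRingHom] N)
  (v' : M' →ₛₗ[ψ.toRingHom] N') (f : M →ₗ[A] M') (g : N →ₗ[B] N')

theorem locModMap_locMap (h : ∀ m, v' (f m) = g (v m)) (y : ProjectiveSpectrum ℬ)
    (q : GrMod.LocMod 𝒜 (M := M) (ProjectiveSpectrum.comap ψ hψ y)) :
    GrMod.locModMap ψ hψ v' y (GrMod.locMap f (ProjectiveSpectrum.comap ψ hψ y) q) =
      GrMod.locMap g y (GrMod.locModMap ψ hψ v y q) := by
  induction q using LocalizedModule.induction_on with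
  | h m s =>
    rw [GrMod.locMap_mk, GrMod.locModMap_mk, GrMod.locModMap_mk, GrMod.locMap_mk, h]

theorem locMap_eq_self (f : M →ₗ[A] M) (hf : ∀ m, f m = m) (x : ProjectiveSpectrum 𝒜)
    (q : GrMod.LocMod 𝒜 (M := M) x) : GrMod.locMap f x q = q := by
  induction q using LocalizedModule.induction_on with
  | h m s => rw [GrMod.locMap_mk, hf]

end Ring

section Rel

variable {Y P : Scheme.{u}} (𝒮 : RelProj.QCGrAlg Y) (p : P ⟶ Y)
  (chart : ∀ (U : Y.Opens) (hU : IsAffineOpen U),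
    (((p ⁻¹ᵁ U : P.Opens) : Scheme.{u}) ≅ Proj (𝒮.deg U hU)))
  (hP : RelProj.IsRelProj 𝒮 p chart)
  (ℳ 𝒩 : RelProj.GrModule 𝒮) (u : ℳ.mod ⟶ 𝒩.mod) (hu : RelProj.IsGrModHom u) (n : ℤ)
  (F : P.Modules)
  (lam : ∀ (U : Y.Opens) (hU : IsAffineOpen U),
    F ⟶ (Scheme.Modules.pushforward (RelProj.emb p chart U hU)).obj
      (GrMod.tilde (𝒮.deg U hU) (ℳ.deg U hU) n))
  (hF : RelProj.IsRelTilde 𝒮 p chart ℳ n F lam) (G : P.Modules)
  (lam' : ∀ (U : Y.Opens) (hU : IsAffineOpen U),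
    G ⟶ (Scheme.Modules.pushforward (RelProj.emb p chart U hU)).obj
      (GrMod.tilde (𝒮.deg U hU) (𝒩.deg U hU) n))
  (hG : RelProj.IsRelTilde 𝒮 p chart 𝒩 n G lam')

include hF in
/-- The module `(ℳ(n))~` on a relative `Proj` is quasi-coherent. -/
theorem isQuasicoherent : F.IsQuasicoherent := by
  haveI : ∀ U : Y.affineOpens,
      (GrMod.tilde (𝒮.deg U.1 U.2) (ℳ.deg U.1 U.2) n).IsQuasicoherent :=
    fun U => isQuasicoherent_tilde (𝒮.deg U.1 U.2) (ℳ.deg U.1 U.2) n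
  refine QCohTransfer.isQuasicoherent_of_bijective_pushforward F
    (ι := Y.affineOpens) (fun U => Proj (𝒮.deg U.1 U.2)) (fun U => RelProj.emb p chart U.1 U.2)
    (fun U => GrMod.tilde (𝒮.deg U.1 U.2) (ℳ.deg U.1 U.2) n) (fun U => lam U.1 U.2)
    (fun U W hW => hF.bijective U.1 U.2 W (hW.trans (le_of_eq (opensRange_emb 𝒮 p chart U.1 U.2))))
    (fun x => ?_)
  obtain ⟨U, hU, hxU, -⟩ := Opens.isBasis_iff_nbhd.mp Y.isBasis_affineOpens
    (show p.base x ∈ (⊤ : Y.Opens) from trivial)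
  exact ⟨⟨U, hU⟩, by rw [opensRange_emb]; exact hxU⟩

/-- The composite of the chart identification of `F` with the chartwise induced map. -/
def Lam (U : Y.Opens) (hU : IsAffineOpen U) :
    F ⟶ (Scheme.Modules.pushforward (RelProj.emb p chart U hU)).obj
      (GrMod.tilde (𝒮.deg U hU) (𝒩.deg U hU) n) :=
  lam U hU ≫ (Scheme.Modules.pushforward (RelProj.emb p chart U hU)).map
    (GrMod.map (𝒮.deg U hU)
      (show ℳ.mod.val.obj (op U) →ₗ[𝒮.presheaf.obj (op U)] 𝒩.mod.val.obj (op U) from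
        (u.val.app (op U)).hom) (hu U hU) n)

include hP hF hG in
/-- Passing from the chart over `U` to the chart over a basic open `D(r) ⊆ U`. -/
theorem chart_transfer (U : Y.Opens) (hU : IsAffineOpen U) (r : Γ(Y, U)) (W : P.Opens)
    (s : Γ(F, W)) (t : Γ(G, W))
    (h : (lam' U hU).app W t = (Lam 𝒮 p chart ℳ 𝒩 u hu n F lam U hU).app W s) :
    (lam' (Y.basicOpen r) (hU.basicOpen r)).app W t =
      (Lam 𝒮 p chart ℳ 𝒩 u hu n F lam (Y.basicOpen r) (hU.basicOpen r)).app W s := by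
  refine sect_ext (𝒮.deg (Y.basicOpen r) (hU.basicOpen r))
    (𝒩.deg (Y.basicOpen r) (hU.basicOpen r)) n
    (W := RelProj.emb p chart (Y.basicOpen r) (hU.basicOpen r) ⁻¹ᵁ W) _ _ fun y => ?_
  obtain ⟨y, hy⟩ := y
  have hy' : (RelProj.emb p chart U hU).base (ProjectiveSpectrum.comap
      (𝒮.res hU (hU.basicOpen r) (Y.basicOpen_le r)) (𝒮.irrelevant_le_map U hU r) y) ∈ W := by
    have e := congrArg (fun φ : Proj (𝒮.deg (Y.basicOpen r) (hU.basicOpen r)) ⟶ P => φ.base y)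
      (RelProj.map_res_emb hP U hU r)
    have e' : (RelProj.emb p chart U hU).base (ProjectiveSpectrum.comap
        (𝒮.res hU (hU.basicOpen r) (Y.basicOpen_le r)) (𝒮.irrelevant_le_map U hU r) y) =
        (RelProj.emb p chart (Y.basicOpen r) (hU.basicOpen r)).base y := e
    rw [e']; exact hy
  have e1 := hG.compat U hU r W t y hy hy'
  have e2 := hF.compat U hU r W s y hy hy'
  have e3 : GrMod.val (V := RelProj.emb p chart U hU ⁻¹ᵁ W) ((lam' U hU).app W t) ⟨_, hy'⟩ =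
      GrMod.locMap (show ℳ.mod.val.obj (op U) →ₗ[𝒮.presheaf.obj (op U)] 𝒩.mod.val.obj (op U) from
        (u.val.app (op U)).hom) _
        (GrMod.val (V := RelProj.emb p chart U hU ⁻¹ᵁ W) ((lam U hU).app W s) ⟨_, hy'⟩) :=
    congrArg (fun τ : Γ(GrMod.tilde (𝒮.deg U hU) (𝒩.deg U hU) n,
      RelProj.emb p chart U hU ⁻¹ᵁ W) => GrMod.val τ ⟨_, hy'⟩) h
  have e4 : GrMod.val (V := RelProj.emb p chart (Y.basicOpen r) (hU.basicOpen r) ⁻¹ᵁ W)
      ((Lam 𝒮 p chart ℳ 𝒩 u hu n F lam (Y.basicOpen r) (hU.basicOpen r)).app W s) ⟨y, hy⟩ =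
      GrMod.locMap (show ℳ.mod.val.obj (op (Y.basicOpen r)) →ₗ[𝒮.presheaf.obj (op (Y.basicOpen r))]
          𝒩.mod.val.obj (op (Y.basicOpen r)) from (u.val.app (op (Y.basicOpen r))).hom) y
        (GrMod.val (V := RelProj.emb p chart (Y.basicOpen r) (hU.basicOpen r) ⁻¹ᵁ W)
          ((lam (Y.basicOpen r) (hU.basicOpen r)).app W s) ⟨y, hy⟩) := rfl
  refine e1.trans (Eq.trans ?_ e4.symm)
  rw [e3, e2]
  exact locModMap_locMap (𝒮.res hU (hU.basicOpen r) (Y.basicOpen_le r))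
    (𝒮.irrelevant_le_map U hU r) (ℳ.res hU (hU.basicOpen r) (Y.basicOpen_le r))
    (𝒩.res hU (hU.basicOpen r) (Y.basicOpen_le r)) _ _
    (fun m => (PresheafOfModules.naturality_apply u.val (homOfLE (Y.basicOpen_le r)).op m).symm)
    y _

/-- The chartwise definition of the induced map on the sections over a small open. -/
def famMap (U : Y.Opens) (hU : IsAffineOpen U) (W : P.Opens) (hW : W ≤ p ⁻¹ᵁ U) :
    Γ(F, W) →ₗ[Γ(P, W)] Γ(G, W) :=
  (LinearEquiv.ofBijective (appₗ (lam' U hU) W) (hG.bijective U hU W hW)).symm.toLinearMap ∘ₗ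
    appₗ (Lam 𝒮 p chart ℳ 𝒩 u hu n F lam U hU) W

theorem famMap_spec (U : Y.Opens) (hU : IsAffineOpen U) (W : P.Opens) (hW : W ≤ p ⁻¹ᵁ U)
    (x : Γ(F, W)) :
    (lam' U hU).app W (famMap 𝒮 p chart ℳ 𝒩 u hu n F lam G lam' hG U hU W hW x) =
      (Lam 𝒮 p chart ℳ 𝒩 u hu n F lam U hU).app W x := by
  have h := (LinearEquiv.ofBijective (appₗ (lam' U hU) W)
    (hG.bijective U hU W hW)).apply_symm_apply (appₗ (Lam 𝒮 p chart ℳ 𝒩 u hu n F lam U hU) W x)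
  exact h

include hP hF in
theorem fam_compat (U : Y.Opens) (hU : IsAffineOpen U) (r : Γ(Y, U)) (D : Y.Opens)
    (hD : IsAffineOpen D) (e : D = Y.basicOpen r) (W : P.Opens) (hW : W ≤ p ⁻¹ᵁ U)
    (W' : P.Opens) (hW'W : W' ≤ W) (hW'D : W' ≤ p ⁻¹ᵁ D) (x : Γ(F, W)) :
    famMap 𝒮 p chart ℳ 𝒩 u hu n F lam G lam' hG D hD W' hW'D
        (F.presheaf.map (homOfLE hW'W).op x) =
      G.presheaf.map (homOfLE hW'W).op
        (famMap 𝒮 p chart ℳ 𝒩 u hu n F lam G lam' hG U hU W hW x) := by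
  subst e
  apply (hG.bijective _ (hU.basicOpen r) W' hW'D).1
  rw [famMap_spec]
  symm
  apply chart_transfer 𝒮 p chart hP ℳ 𝒩 u hu n F lam hF G lam' hG U hU r W'
  rw [app_res (lam' U hU) hW'W, famMap_spec, app_res (Lam 𝒮 p chart ℳ 𝒩 u hu n F lam U hU) hW'W]

/-- Index set: an affine open of the base together with an affine open of `P` over it. -/
def Idx : Type u :=
  {q : Y.Opens × P.Opens // IsAffineOpen q.1 ∧ IsAffineOpen q.2 ∧ q.2 ≤ p ⁻¹ᵁ q.1}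

theorem fam_cover : IsOpenCover (fun i : Idx p => i.1.2) := by
  show ⨆ i : Idx p, i.1.2 = ⊤
  refine eq_top_iff.mpr fun y _ => Opens.mem_iSup.mpr ?_
  obtain ⟨U, hU, hyU, -⟩ := Opens.isBasis_iff_nbhd.mp Y.isBasis_affineOpens
    (show p.base y ∈ (⊤ : Y.Opens) from trivial)
  obtain ⟨W, hW, hyW, hWle⟩ := Opens.isBasis_iff_nbhd.mp P.isBasis_affineOpens
    (show y ∈ p ⁻¹ᵁ U from hyU)
  exact ⟨⟨⟨U, W⟩, hU, hW, hWle⟩, hyW⟩

include hP hF in
theorem famDirected :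
    ModGlue.FamDirected (fun i : Idx p => i.1.2)
      (fun i => famMap 𝒮 p chart ℳ 𝒩 u hu n F lam G lam' hG i.1.1 i.2.1 i.1.2 i.2.2.2) := by
  rintro ⟨⟨U₁, W₁⟩, hU₁, hW₁, hle₁⟩ ⟨⟨U₂, W₂⟩, hU₂, hW₂, hle₂⟩ y hy₁ hy₂
  obtain ⟨f, g, hfg, hyf⟩ := exists_basicOpen_le_affine_inter hU₁ hU₂ (p.base y)
    ⟨hle₁ hy₁, hle₂ hy₂⟩
  obtain ⟨W₃, hW₃, hyW₃, hW₃le⟩ := Opens.isBasis_iff_nbhd.mp P.isBasis_affineOpens
    (show y ∈ W₁ ⊓ W₂ ⊓ p ⁻¹ᵁ Y.basicOpen f from ⟨⟨hy₁, hy₂⟩, hyf⟩)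
  have h31 : W₃ ≤ W₁ := hW₃le.trans (inf_le_left.trans inf_le_left)
  have h32 : W₃ ≤ W₂ := hW₃le.trans (inf_le_left.trans inf_le_right)
  have h3D : W₃ ≤ p ⁻¹ᵁ Y.basicOpen f := hW₃le.trans inf_le_right
  refine ⟨⟨⟨Y.basicOpen f, W₃⟩, hU₁.basicOpen f, hW₃, h3D⟩, hyW₃, h31, h32, fun x => ?_,
    fun x => ?_⟩
  · exact fam_compat 𝒮 p chart hP ℳ 𝒩 u hu n F lam hF G lam' hG U₁ hU₁ f (Y.basicOpen f)
      (hU₁.basicOpen f) rfl W₁ hle₁ W₃ h31 h3D x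
  · exact fam_compat 𝒮 p chart hP ℳ 𝒩 u hu n F lam hF G lam' hG U₂ hU₂ g (Y.basicOpen f)
      (hU₁.basicOpen f) hfg W₂ hle₂ W₃ h32 h3D x

include hG in
/-- Morphisms into `(𝒩(n))~` are determined by their composites with the chart identifications. -/
theorem hom_ext_lam {F : P.Modules} (φ₁ φ₂ : F ⟶ G)
    (h : ∀ (U : Y.Opens) (hU : IsAffineOpen U), φ₁ ≫ lam' U hU = φ₂ ≫ lam' U hU) : φ₁ = φ₂ := by
  refine Scheme.Modules.hom_ext _ _ fun W => ?_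
  refine ConcreteCategory.hom_ext _ _ fun x => ?_
  refine section_eq_of_cover G _ _ fun z hz => ?_
  obtain ⟨U, hU, hzU, -⟩ := Opens.isBasis_iff_nbhd.mp Y.isBasis_affineOpens
    (show p.base z ∈ (⊤ : Y.Opens) from trivial)
  refine ⟨W ⊓ p ⁻¹ᵁ U, inf_le_left, ⟨hz, hzU⟩, ?_⟩
  apply (hG.bijective U hU _ inf_le_right).1
  rw [← app_res φ₁ inf_le_left x, ← app_res φ₂ inf_le_left x]
  exact congrArg (fun ψ : F ⟶ (Scheme.Modules.pushforward (RelProj.emb p chart U hU)).obj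
    (GrMod.tilde (𝒮.deg U hU) (𝒩.deg U hU) n) =>
      ψ.app (W ⊓ p ⁻¹ᵁ U) (F.presheaf.map (homOfLE inf_le_left).op x)) (h U hU)

include hP hF hG in
theorem exists_map : ∃ ut : F ⟶ G, ∀ (U : Y.Opens) (hU : IsAffineOpen U),
    ut ≫ lam' U hU = Lam 𝒮 p chart ℳ 𝒩 u hu n F lam U hU := by
  haveI : F.IsQuasicoherent := isQuasicoherent 𝒮 p chart ℳ n F lam hF
  haveI : G.IsQuasicoherent := isQuasicoherent 𝒮 p chart 𝒩 n G lam' hG
  obtain ⟨φ, hφ⟩ := ModGlue.exists_hom_of_affine_family (fun i : Idx p => i.1.2)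
    (fun i => i.2.2.1)
    (fun i => famMap 𝒮 p chart ℳ 𝒩 u hu n F lam G lam' hG i.1.1 i.2.1 i.1.2 i.2.2.2)
    (famDirected 𝒮 p chart hP ℳ 𝒩 u hu n F lam hF G lam' hG) (fam_cover p)
  refine ⟨φ, fun U hU => ?_⟩
  refine Scheme.Modules.hom_ext _ _ fun W => ?_
  refine ConcreteCategory.hom_ext _ _ fun x => ?_
  refine section_eq_of_cover (GrMod.tilde (𝒮.deg U hU) (𝒩.deg U hU) n)
    (W := RelProj.emb p chart U hU ⁻¹ᵁ W) _ _ fun y hy => ?_
  have hyU : (RelProj.emb p chart U hU).base y ∈ p ⁻¹ᵁ U := by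
    have : (RelProj.emb p chart U hU).base y ∈ (RelProj.emb p chart U hU).opensRange := ⟨y, rfl⟩
    rwa [opensRange_emb] at this
  obtain ⟨W', hW', hyW', hW'le⟩ := Opens.isBasis_iff_nbhd.mp P.isBasis_affineOpens
    (show (RelProj.emb p chart U hU).base y ∈ W ⊓ p ⁻¹ᵁ U from ⟨hy, hyU⟩)
  have h1 : W' ≤ W := hW'le.trans inf_le_left
  have h2 : W' ≤ p ⁻¹ᵁ U := hW'le.trans inf_le_right
  refine ⟨RelProj.emb p chart U hU ⁻¹ᵁ W', fun z hz => h1 hz, hyW', ?_⟩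
  have hL := app_res (φ ≫ lam' U hU) h1 x
  have hR := app_res (Lam 𝒮 p chart ℳ 𝒩 u hu n F lam U hU) h1 x
  refine hL.symm.trans (Eq.trans ?_ hR)
  have hφ' := hφ ⟨⟨U, W'⟩, hU, hW', h2⟩ (F.presheaf.map (homOfLE h1).op x)
  show (lam' U hU).app W' (φ.app W' (F.presheaf.map (homOfLE h1).op x)) = _
  rw [hφ']
  exact famMap_spec 𝒮 p chart ℳ 𝒩 u hu n F lam G lam' hG U hU W' h2 _

include hP hF hG in
/-- Existence and uniqueness of the morphism `(ℳ(n))~ ⟶ (𝒩(n))~` induced by a homomorphism of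
graded modules. -/
theorem existsUnique_map : ∃! ut : F ⟶ G, ∀ (U : Y.Opens) (hU : IsAffineOpen U),
    ut ≫ lam' U hU =
      lam U hU ≫ (Scheme.Modules.pushforward (RelProj.emb p chart U hU)).map
        (GrMod.map (𝒮.deg U hU)
          (show ℳ.mod.val.obj (op U) →ₗ[𝒮.presheaf.obj (op U)] 𝒩.mod.val.obj (op U) from
            (u.val.app (op U)).hom)
          (hu U hU) n) := by
  obtain ⟨ut, hut⟩ := exists_map 𝒮 p chart hP ℳ 𝒩 u hu n F lam hF G lam' hG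
  refine ⟨ut, hut, fun ut' hut' => ?_⟩
  refine hom_ext_lam 𝒮 p chart 𝒩 n G lam' hG ut' ut fun U hU => ?_
  exact (hut' U hU).trans (hut U hU).symm

end Rel

section Iso

variable {Y P : Scheme.{u}} (𝒮 : RelProj.QCGrAlg Y) (p : P ⟶ Y)
  (chart : ∀ (U : Y.Opens) (hU : IsAffineOpen U),
    (((p ⁻¹ᵁ U : P.Opens) : Scheme.{u}) ≅ Proj (𝒮.deg U hU)))
  (hP : RelProj.IsRelProj 𝒮 p chart)
  (ℳ : RelProj.GrModule 𝒮) (n : ℤ)
  (F : P.Modules)
  (lam : ∀ (U : Y.Opens) (hU : IsAffineOpen U),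
    F ⟶ (Scheme.Modules.pushforward (RelProj.emb p chart U hU)).obj
      (GrMod.tilde (𝒮.deg U hU) (ℳ.deg U hU) n))
  (hF : RelProj.IsRelTilde 𝒮 p chart ℳ n F lam) (F' : P.Modules)
  (lam' : ∀ (U : Y.Opens) (hU : IsAffineOpen U),
    F' ⟶ (Scheme.Modules.pushforward (RelProj.emb p chart U hU)).obj
      (GrMod.tilde (𝒮.deg U hU) (ℳ.deg U hU) n))
  (hF' : RelProj.IsRelTilde 𝒮 p chart ℳ n F' lam')

theorem isGrModHom_id : RelProj.IsGrModHom (𝟙 ℳ.mod) := fun _ _ _ _ hm => hm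

theorem Lam_id (U : Y.Opens) (hU : IsAffineOpen U) :
    Lam 𝒮 p chart ℳ ℳ (𝟙 ℳ.mod) (isGrModHom_id 𝒮 ℳ) n F lam U hU = lam U hU := by
  refine Scheme.Modules.hom_ext _ _ fun W => ?_
  refine ConcreteCategory.hom_ext _ _ fun x => ?_
  refine sect_ext (𝒮.deg U hU) (ℳ.deg U hU) n (W := RelProj.emb p chart U hU ⁻¹ᵁ W) _ _
    fun y => ?_
  exact locMap_eq_self _ (fun _ => rfl) y.1 _

include hF hF' in
theorem isIso_of_comp_eq (φ : F ⟶ F')
    (hφ : ∀ (U : Y.Opens) (hU : IsAffineOpen U), φ ≫ lam' U hU = lam U hU) : IsIso φ := by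
  refine isIso_of_bijective_basis φ
    (ι := {W : P.Opens // ∃ U : Y.Opens, IsAffineOpen U ∧ W ≤ p ⁻¹ᵁ U}) (fun i => i.1) ?_ ?_
  · rw [Opens.isBasis_iff_nbhd]
    intro O x hx
    obtain ⟨U, hU, hxU, -⟩ := Opens.isBasis_iff_nbhd.mp Y.isBasis_affineOpens
      (show p.base x ∈ (⊤ : Y.Opens) from trivial)
    exact ⟨O ⊓ p ⁻¹ᵁ U, ⟨⟨O ⊓ p ⁻¹ᵁ U, U, hU, inf_le_right⟩, rfl⟩, ⟨hx, hxU⟩, inf_le_left⟩
  · rintro ⟨W, U, hU, hW⟩
    have hb : Function.Bijective (fun x => (lam' U hU).app W (φ.app W x)) := by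
      have hcomp : (fun x => (lam' U hU).app W (φ.app W x)) = fun x => (lam U hU).app W x := by
        funext x
        exact congrArg (fun ψ : F ⟶ (Scheme.Modules.pushforward (RelProj.emb p chart U hU)).obj
          (GrMod.tilde (𝒮.deg U hU) (ℳ.deg U hU) n) => ψ.app W x) (hφ U hU)
      rw [hcomp]; exact hF.bijective U hU W hW
    exact (Function.Bijective.of_comp_iff' (hF'.bijective U hU W hW) _).mp hb

include hP hF hF' in
/-- Uniqueness of `(ℳ(n))~` up to unique isomorphism. -/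
theorem unique_iso :
    (∃! φ : F ⟶ F', ∀ (U : Y.Opens) (hU : IsAffineOpen U), φ ≫ lam' U hU = lam U hU) ∧
      ∀ φ : F ⟶ F', (∀ (U : Y.Opens) (hU : IsAffineOpen U), φ ≫ lam' U hU = lam U hU) →
        IsIso φ := by
  refine ⟨?_, fun φ hφ => isIso_of_comp_eq 𝒮 p chart ℳ n F lam hF F' lam' hF' φ hφ⟩
  obtain ⟨φ, hφ⟩ := exists_map 𝒮 p chart hP ℳ ℳ (𝟙 ℳ.mod) (isGrModHom_id 𝒮 ℳ) n F lam hF F'
    lam' hF'
  have hφ' : ∀ (U : Y.Opens) (hU : IsAffineOpen U), φ ≫ lam' U hU = lam U hU := fun U hU =>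
    (hφ U hU).trans (Lam_id 𝒮 p chart ℳ n F lam U hU)
  refine ⟨φ, hφ', fun ψ hψ => ?_⟩
  exact hom_ext_lam 𝒮 p chart ℳ n F' lam' hF' ψ φ fun U hU => (hψ U hU).trans (hφ' U hU).symm

end Iso

end Groth.Agent.H41.RelTildeGlue
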