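import Groth.Agent.H41.RelTildeTN2
import Groth.Agent.H41.RelTildeGlue
import Groth.Agent.H8.FinType
import Mathlib

/-!
# Finite type of `ℳ~` on a relative `Proj` generated in degree one, under (TF)
-/

set_option autoImplicit false
set_option linter.style.haveILetI false
universe u

open CategoryTheory CategoryTheory.Limits AlgebraicGeometry HomogeneousIdeal TopologicalSpace Opposite
open Groth.Agent.H8 Groth.Agent.H41.GrModQCoh Groth.Agent.H41.GrModMaps
  Groth.Agent.H41.RelTildeMaps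

namespace Groth.Agent.H41.RelTildeFT

/-- Transfer of finite generation along a bijection semilinear over a surjective ring map. -/
theorem finite_of_bijective_semilinear {R S M N : Type*} [CommRing R] [CommRing S]
    [AddCommGroup M] [Module R M] [AddCommGroup N] [Module S N] (ε : R →+* S)
    (hε : Function.Surjective ε) (l : M →+ N) (hl : Function.Bijective l)
    (hsl : ∀ (r : R) (m : M), l (r • m) = ε r • l m) [hN : Module.Finite S N] :
    Module.Finite R M := by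
  classical
  obtain ⟨T, hT⟩ := hN.fg_top
  refine ⟨⟨T.image (Function.surjInv hl.2), ?_⟩⟩
  rw [_root_.eq_top_iff]
  rintro m -
  have key : ∀ n ∈ Submodule.span S (T : Set N),
      ∃ m' ∈ Submodule.span R ((T.image (Function.surjInv hl.2) : Finset M) : Set M), l m' = n := by
    intro n hn
    induction hn using Submodule.span_induction with
    | mem t ht =>
      exact ⟨Function.surjInv hl.2 t,
        Submodule.subset_span (Finset.mem_coe.mpr (Finset.mem_image_of_mem _ ht)),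
        Function.surjInv_eq hl.2 t⟩
    | zero => exact ⟨0, Submodule.zero_mem _, map_zero l⟩
    | add a b _ _ ha hb =>
      obtain ⟨a', ha', rfl⟩ := ha
      obtain ⟨b', hb', rfl⟩ := hb
      exact ⟨a' + b', Submodule.add_mem _ ha' hb', map_add l a' b'⟩
    | smul s a _ ha =>
      obtain ⟨a', ha', rfl⟩ := ha
      obtain ⟨r, rfl⟩ := hε s
      exact ⟨r • a', Submodule.smul_mem _ r ha', hsl r a'⟩
  obtain ⟨m', hm', hm'eq⟩ := key (l m) (by rw [hT]; exact Submodule.mem_top)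
  rw [← hl.1 hm'eq]
  exact hm'

section Ring

variable {A σ : Type u} [CommRing A] [SetLike σ A] [AddSubgroupClass σ A] (𝒜 : ℕ → σ) [GradedRing 𝒜]
  {M τ : Type u} [AddCommGroup M] [Module A M] [SetLike τ M] [AddSubgroupClass τ M]
  (ℳ : ℕ → τ) [DirectSum.Decomposition ℳ] [SetLike.GradedSMul 𝒜 ℳ]

/-- Evaluation of sections at a point, as an additive map. -/
def valHom (n : ℤ) {V : (Proj 𝒜).Opens} (x : V) :
    Γ(GrMod.tilde 𝒜 ℳ n, V) →+ GrMod.LocMod 𝒜 (M := M) x.1 where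
  toFun s := GrMod.val s x
  map_zero' := rfl
  map_add' _ _ := rfl

/-- Under (TF), the sections of `M~` over `D₊(f)`, `f` of degree one, form a finite module. -/
theorem finite_sections_basicOpen_of_TF {f : A} (hf : f ∈ 𝒜 1)
    (hTF : ∃ n : ℕ, (Submodule.span A (⋃ k ∈ Set.Ici n, ((ℳ k : τ) : Set M))).FG)
    (V : (Proj 𝒜).Opens) (hV : V = Proj.basicOpen 𝒜 f) :
    Module.Finite Γ(Proj 𝒜, V) Γ(GrMod.tilde 𝒜 ℳ 0, V) := by
  classical
  subst hV
  obtain ⟨n₁, hN⟩ := hTF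
  obtain ⟨G, hG1, hGspan⟩ := (Submodule.fg_span_iff_fg_span_finset_subset _).mp hN
  have hGdeg : ∀ g ∈ G, ∃ d, n₁ ≤ d ∧ g ∈ ℳ d := by
    intro g hg
    obtain ⟨d, hd, hgd⟩ := Set.mem_iUnion₂.mp (hG1 hg)
    exact ⟨d, hd, hgd⟩
  choose! deg hdeg using hGdeg
  have hfpow : ∀ k : ℕ, f ^ k ∈ 𝒜 k := fun k => by
    have := SetLike.pow_mem_graded k hf
    rwa [smul_eq_mul, mul_one] at this
  have hfpow' : ∀ k : ℕ, f ^ k ∈ 𝒜 (k • 1) := fun k => SetLike.pow_mem_graded k hf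
  have hnin : ∀ (k : ℕ) (y : (Proj.basicOpen 𝒜 f : (Proj 𝒜).Opens)),
      f ^ k ∉ y.1.asHomogeneousIdeal := fun k y h =>
    ((ProjectiveSpectrum.mem_basicOpen 𝒜 f y.1).mp y.2) (y.1.isPrime.mem_of_pow_mem _ h)
  -- the generators
  let t : M → Γ(GrMod.tilde 𝒜 ℳ 0, Proj.basicOpen 𝒜 f) := fun g =>
    if hg : g ∈ G then fracSect 𝒜 ℳ 0 (Proj.basicOpen 𝒜 f)
      (show ((deg g : ℕ) : ℤ) = (deg g : ℕ) + 0 by simp) ⟨g, (hdeg g hg).2⟩
      ⟨f ^ deg g, hfpow _⟩ (hnin _) else 0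
  have ht : ∀ (g : M) (hg : g ∈ G) (x : (Proj.basicOpen 𝒜 f : (Proj 𝒜).Opens)),
      GrMod.val (t g) x = LocalizedModule.mk g ⟨f ^ deg g, hnin _ x⟩ := by
    intro g hg x
    simp only [t, dif_pos hg]
    rfl
  -- structure sheaf sections `a / f ^ e`
  let r : ∀ (e : ℕ) (a : A), a ∈ 𝒜 e → Γ(Proj 𝒜, Proj.basicOpen 𝒜 f) := fun e a ha =>
    (Proj.basicOpenIsoAway 𝒜 f hf Nat.one_pos).hom
      (HomogeneousLocalization.Away.mk 𝒜 hf e a (by rwa [smul_eq_mul, mul_one]))
  have hr : ∀ (e : ℕ) (a : A) (ha : a ∈ 𝒜 e) (x : (Proj.basicOpen 𝒜 f : (Proj 𝒜).Opens)),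
      (rval 𝒜 (r e a ha) x).val = Localization.mk a ⟨f ^ e, hnin e x⟩ := fun e a ha x => rfl
  refine ⟨⟨G.image t, ?_⟩⟩
  rw [_root_.eq_top_iff]
  rintro s -
  obtain ⟨k, i, m, hik, hval⟩ := GrModSections.sections_eq_fraction 𝒜 ℳ 0 Nat.one_pos hf s
  have hik' : i = k := by omega
  subst hik'
  -- enlarge the denominator
  set j : ℕ := n₁ + G.sup deg with hj
  have hm' : f ^ j • (m : M) ∈ ℳ (j + i) := SetLike.GradedSMul.smul_mem (hfpow j) m.2
  have hmN : f ^ j • (m : M) ∈ Submodule.span A (G : Set M) := by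
    rw [← hGspan]
    exact Submodule.subset_span (Set.mem_iUnion₂.mpr ⟨j + i, Set.mem_Ici.mpr (by omega), hm'⟩)
  obtain ⟨c, -, hc⟩ := Submodule.mem_span_finset.mp hmN
  have hle : ∀ g ∈ G, deg g ≤ j + i := fun g hg => by
    have : deg g ≤ G.sup deg := Finset.le_sup hg
    omega
  have hm_eq : f ^ j • (m : M) =
      ∑ g ∈ G, (DirectSum.decompose 𝒜 (c g) (j + i - deg g) : A) • g := by
    calc f ^ j • (m : M) = (DirectSum.decompose ℳ (f ^ j • (m : M)) (j + i) : M) :=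
          (DirectSum.decompose_of_mem_same ℳ hm').symm
      _ = (DirectSum.decompose ℳ (∑ g ∈ G, c g • g) (j + i) : M) := by rw [hc]
      _ = ∑ g ∈ G, (DirectSum.decompose ℳ (c g • g) (j + i) : M) := by
          rw [DirectSum.decompose_sum, DFinsupp.finsetSum_apply, AddSubmonoidClass.coe_finsetSum]
      _ = _ := Finset.sum_congr rfl fun g hg => by
          have e1 : j + i = (j + i - deg g) + deg g := (Nat.sub_add_cancel (hle g hg)).symm
          conv_lhs => rw [e1]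
          exact GrModTN.coe_decompose_smul_of_mem_right 𝒜 ℳ (hdeg g hg).2 (c g) _
  -- the section as a combination of the generators
  have hs : s = ∑ g ∈ G, r (j + i - deg g) (DirectSum.decompose 𝒜 (c g) (j + i - deg g) : A)
      (SetLike.coe_mem _) • t g := by
    refine sect_ext 𝒜 ℳ 0 _ _ fun x => ?_
    have hL : GrMod.val s x = LocalizedModule.mk (f ^ j • (m : M)) ⟨f ^ (j + i), hnin _ x⟩ := by
      refine (hval x).trans ?_
      rw [LocalizedModule.mk_eq]
      refine ⟨1, ?_⟩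
      have key : f ^ (j + i) • (m : M) = f ^ i • (f ^ j • (m : M)) := by
        rw [smul_smul, ← pow_add, add_comm]
      rw [one_smul, one_smul]
      exact key
    have hR : GrMod.val (∑ g ∈ G, r (j + i - deg g)
        (DirectSum.decompose 𝒜 (c g) (j + i - deg g) : A) (SetLike.coe_mem _) • t g) x =
        ∑ g ∈ G, LocalizedModule.mk ((DirectSum.decompose 𝒜 (c g) (j + i - deg g) : A) • g)
          ⟨f ^ (j + i), hnin _ x⟩ := by
      refine (map_sum (valHom 𝒜 ℳ 0 x) _ G).trans ?_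
      refine Finset.sum_congr rfl fun g hg => ?_
      show GrMod.val (r (j + i - deg g) (DirectSum.decompose 𝒜 (c g) (j + i - deg g) : A)
        (SetLike.coe_mem _) • t g) x = _
      rw [val_smul, ht g hg x, hr _ _ (SetLike.coe_mem _) x, LocalizedModule.mk_smul_mk]
      congr 1
      apply Subtype.ext
      show f ^ (j + i - deg g) * f ^ deg g = f ^ (j + i)
      rw [← pow_add, Nat.sub_add_cancel (hle g hg)]
    rw [hL, hR, hm_eq]
    -- sum of fractions with a common denominator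
    have hsum : ∀ (z : M), (LocalizedModule.mk z ⟨f ^ (j + i), hnin _ x⟩ :
        GrMod.LocMod 𝒜 (M := M) x.1) =
        (Localization.mk (1 : A) ⟨f ^ (j + i), hnin _ x⟩ : GrTwist.Loc 𝒜 x.1) •
          LocalizedModule.mkLinearMap x.1.asHomogeneousIdeal.toIdeal.primeCompl M z := by
      intro z
      rw [LocalizedModule.mkLinearMap_apply, LocalizedModule.mk_smul_mk, one_smul, mul_one]
    rw [hsum, map_sum, Finset.smul_sum]
    exact Finset.sum_congr rfl fun g _ => (hsum _).symm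
  rw [hs]
  refine Submodule.sum_mem _ fun g hg => Submodule.smul_mem _ _ (Submodule.subset_span ?_)
  exact Finset.mem_coe.mpr (Finset.mem_image_of_mem t hg)

end Ring

section Rel

variable {Y P : Scheme.{u}} (𝒮 : RelProj.QCGrAlg Y) (p : P ⟶ Y)
  (chart : ∀ (U : Y.Opens) (hU : IsAffineOpen U),
    (((p ⁻¹ᵁ U : P.Opens) : Scheme.{u}) ≅ Proj (𝒮.deg U hU)))
  (ℳ : RelProj.GrModule 𝒮) (F : P.Modules)
  (lam : ∀ (U : Y.Opens) (hU : IsAffineOpen U),
    F ⟶ (Scheme.Modules.pushforward (RelProj.emb p chart U hU)).obj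
      (GrMod.tilde (𝒮.deg U hU) (ℳ.deg U hU) 0))
  (hF : RelProj.IsRelTilde 𝒮 p chart ℳ 0 F lam)

include hF in
/-- Finite generation of sections passes from a chart to the relative `Proj`. -/
theorem finite_sections_of_chart (U : Y.Opens) (hU : IsAffineOpen U) (W : P.Opens)
    (hW : W ≤ p ⁻¹ᵁ U)
    [Module.Finite Γ(Proj (𝒮.deg U hU), RelProj.emb p chart U hU ⁻¹ᵁ W)
      Γ(GrMod.tilde (𝒮.deg U hU) (ℳ.deg U hU) 0, RelProj.emb p chart U hU ⁻¹ᵁ W)] :
    Module.Finite Γ(P, W) Γ(F, W) := by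
  haveI : IsIso ((RelProj.emb p chart U hU).app W) :=
    (RelProj.emb p chart U hU).isIso_app _ (by rw [opensRange_emb]; exact hW)
  have heps : Function.Bijective ((RelProj.emb p chart U hU).app W) :=
    ConcreteCategory.bijective_of_isIso _
  have hsl : ∀ (r : Γ(P, W)) (m : Γ(F, W)),
      (show Γ(GrMod.tilde (𝒮.deg U hU) (ℳ.deg U hU) 0, RelProj.emb p chart U hU ⁻¹ᵁ W) from
        (lam U hU).app W (r • m)) =
      ((RelProj.emb p chart U hU).app W).hom r •
        (show Γ(GrMod.tilde (𝒮.deg U hU) (ℳ.deg U hU) 0, RelProj.emb p chart U hU ⁻¹ᵁ W) from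
          (lam U hU).app W m) := by
    intro r m
    have h1 := Scheme.Modules.Hom.app_smul (lam U hU) r m
    refine (congrArg (fun z => (show Γ(GrMod.tilde (𝒮.deg U hU) (ℳ.deg U hU) 0,
      RelProj.emb p chart U hU ⁻¹ᵁ W) from z)) h1).trans ?_
    rfl
  exact finite_of_bijective_semilinear
    (N := Γ(GrMod.tilde (𝒮.deg U hU) (ℳ.deg U hU) 0, RelProj.emb p chart U hU ⁻¹ᵁ W))
    ((RelProj.emb p chart U hU).app W).hom heps.2
    (show Γ(F, W) →+ Γ(GrMod.tilde (𝒮.deg U hU) (ℳ.deg U hU) 0,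
      RelProj.emb p chart U hU ⁻¹ᵁ W) from ((lam U hU).app W).hom)
    (hF.bijective U hU W hW) hsl

include hF in
theorem isFT_of_isTF (hgen : 𝒮.IsGenDegOne) (hTF : ℳ.IsTF) : CohB1.IsFT F := by
  haveI : F.IsQuasicoherent := RelTildeGlue.isQuasicoherent 𝒮 p chart ℳ 0 F lam hF
  obtain ⟨n₁, hTF⟩ := hTF
  refine isFiniteType_of_finite_sections F
    (ι := Σ U : Y.affineOpens, {f : 𝒮.presheaf.obj (op U.1) // f ∈ 𝒮.deg U.1 U.2 1})
    (fun i => RelProj.emb p chart i.1.1 i.1.2 ''ᵁ Proj.basicOpen (𝒮.deg i.1.1 i.1.2) i.2.1)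
    ?_ ?_ ?_
  · -- cover
    show ⨆ i : Σ U : Y.affineOpens, {f : 𝒮.presheaf.obj (op U.1) // f ∈ 𝒮.deg U.1 U.2 1},
      RelProj.emb p chart i.1.1 i.1.2 ''ᵁ Proj.basicOpen (𝒮.deg i.1.1 i.1.2) i.2.1 = ⊤
    refine eq_top_iff.mpr fun y _ => Opens.mem_iSup.mpr ?_
    obtain ⟨U, hU, hyU, -⟩ := Opens.isBasis_iff_nbhd.mp Y.isBasis_affineOpens
      (show p.base y ∈ (⊤ : Y.Opens) from trivial)
    obtain ⟨y', hy'⟩ : ∃ y', (RelProj.emb p chart U hU).base y' = y := by
      have : y ∈ (RelProj.emb p chart U hU).opensRange := by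
        rw [opensRange_emb]; exact hyU
      exact this
    have hgenU := RelTildeTN2.irrelevant_eq_span_of_closure (𝒮.deg U hU) (hgen U hU)
    obtain ⟨f, hf1, hfy⟩ : ∃ f ∈ 𝒮.deg U hU 1, f ∉ y'.asHomogeneousIdeal := by
      by_contra hcon
      push Not at hcon
      apply y'.not_irrelevant_le
      intro a ha
      have h1 : a ∈ Ideal.span ((𝒮.deg U hU 1 : AddSubgroup _) : Set (𝒮.presheaf.obj (op U))) := by
        rw [← hgenU]; exact ha
      exact (Ideal.span_le (I := y'.asHomogeneousIdeal.toIdeal)).mpr (fun b hb => hcon b hb) h1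
    exact ⟨⟨⟨U, hU⟩, ⟨f, hf1⟩⟩, y',
      (ProjectiveSpectrum.mem_basicOpen (𝒮.deg U hU) f y').mpr hfy, hy'⟩
  · -- affine
    rintro ⟨⟨U, hU⟩, ⟨f, hf1⟩⟩
    exact (Proj.isAffineOpen_basicOpen (𝒮.deg U hU) f hf1 Nat.one_pos).image_of_isOpenImmersion
      (RelProj.emb p chart U hU)
  · -- finiteness
    rintro ⟨⟨U, hU0⟩, ⟨f, hf1⟩⟩
    have hU : IsAffineOpen U := hU0
    have hWle : RelProj.emb p chart U hU ''ᵁ Proj.basicOpen (𝒮.deg U hU) f ≤ p ⁻¹ᵁ U := by
      rintro _ ⟨z, _, rfl⟩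
      have : (RelProj.emb p chart U hU).base z ∈ (RelProj.emb p chart U hU).opensRange :=
        ⟨z, rfl⟩
      rwa [opensRange_emb] at this
    haveI : Module.Finite
        Γ(Proj (𝒮.deg U hU), RelProj.emb p chart U hU ⁻¹ᵁ
          (RelProj.emb p chart U hU ''ᵁ Proj.basicOpen (𝒮.deg U hU) f))
        Γ(GrMod.tilde (𝒮.deg U hU) (ℳ.deg U hU) 0, RelProj.emb p chart U hU ⁻¹ᵁ
          (RelProj.emb p chart U hU ''ᵁ Proj.basicOpen (𝒮.deg U hU) f)) :=
      finite_sections_basicOpen_of_TF (𝒮.deg U hU) (ℳ.deg U hU) hf1 ⟨n₁, hTF U hU⟩ _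
        ((RelProj.emb p chart U hU).preimage_image_eq _)
    exact finite_sections_of_chart 𝒮 p chart ℳ F lam hF U hU _ hWle

end Rel

end Groth.Agent.H41.RelTildeFT
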