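import Groth.Agent.H41.RelTildeMaps
import Mathlib

/-!
# Condition (TN) kills the attached module
-/

set_option autoImplicit false
set_option linter.style.haveILetI false
universe u

open CategoryTheory CategoryTheory.Limits AlgebraicGeometry HomogeneousIdeal TopologicalSpace Opposite
open Groth.Agent.H8 Groth.Agent.H41.GrModQCoh Groth.Agent.H41.GrModMaps
  Groth.Agent.H41.RelTildeMaps

namespace Groth.Agent.H41.RelTildeTN

section Ring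

variable {A σ : Type u} [CommRing A] [SetLike σ A] [AddSubgroupClass σ A] (𝒜 : ℕ → σ) [GradedRing 𝒜]
  {M τ : Type u} [AddCommGroup M] [Module A M] [SetLike τ M] [AddSubgroupClass τ M]
  (ℳ : ℕ → τ) [SetLike.GradedSMul 𝒜 ℳ] [DirectSum.Decomposition ℳ]

include ℳ in
theorem locMod_eq_zero_of_TN (hTN : ∃ n₀ : ℕ, ∀ k, n₀ ≤ k → ∀ m ∈ ℳ k, m = 0)
    (x : ProjectiveSpectrum 𝒜) (z : GrMod.LocMod 𝒜 (M := M) x) : z = 0 := by
  classical
  obtain ⟨n₀, hn₀⟩ := hTN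
  induction z using LocalizedModule.induction_on with
  | h m s =>
    obtain ⟨e, he, f, hf, hfx⟩ := exists_pos_not_mem 𝒜 x
    refine mk_eq_zero_of_smul_eq_zero 𝒜 x m s (f ^ n₀)
      (fun h => hfx (x.isPrime.mem_of_pow_mem _ h)) ?_
    have hm := DirectSum.sum_support_decompose ℳ m
    rw [← hm, Finset.smul_sum]
    refine Finset.sum_eq_zero fun k _ => ?_
    have hmem : f ^ n₀ • (DirectSum.decompose ℳ m k : M) ∈ ℳ (n₀ • e + k) :=
      SetLike.GradedSMul.smul_mem (A := 𝒜) (B := ℳ) (i := n₀ • e) (j := k)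
        (SetLike.pow_mem_graded n₀ hf) (SetLike.coe_mem (DirectSum.decompose ℳ m k))
    have hle : n₀ ≤ n₀ • e + k := by
      rw [smul_eq_mul]
      exact Nat.le_add_right_of_le (Nat.le_mul_of_pos_right n₀ he)
    exact hn₀ _ hle _ hmem

theorem sect_eq_of_TN (hTN : ∃ n₀ : ℕ, ∀ k, n₀ ≤ k → ∀ m ∈ ℳ k, m = 0) (n : ℤ)
    (V : (Proj 𝒜).Opens) (s t : Γ(GrMod.tilde 𝒜 ℳ n, V)) : s = t :=
  sect_ext 𝒜 ℳ n s t fun y =>
    (locMod_eq_zero_of_TN 𝒜 ℳ hTN y.1 _).trans (locMod_eq_zero_of_TN 𝒜 ℳ hTN y.1 _).symm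

end Ring

section Rel

variable {Y P : Scheme.{u}} (𝒮 : RelProj.QCGrAlg Y) (p : P ⟶ Y)
  (chart : ∀ (U : Y.Opens) (hU : IsAffineOpen U),
    (((p ⁻¹ᵁ U : P.Opens) : Scheme.{u}) ≅ Proj (𝒮.deg U hU)))
  (ℳ : RelProj.GrModule 𝒮) (n : ℤ)
  (F : P.Modules)
  (lam : ∀ (U : Y.Opens) (hU : IsAffineOpen U),
    F ⟶ (Scheme.Modules.pushforward (RelProj.emb p chart U hU)).obj
      (GrMod.tilde (𝒮.deg U hU) (ℳ.deg U hU) n))
  (hF : RelProj.IsRelTilde 𝒮 p chart ℳ n F lam)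

include hF in
theorem isZero_of_isTN (hTN : ℳ.IsTN) : IsZero F := by
  obtain ⟨n₀, hn₀⟩ := hTN
  rw [IsZero.iff_id_eq_zero]
  refine Scheme.Modules.hom_ext _ _ fun W => ?_
  refine ConcreteCategory.hom_ext _ _ fun s => ?_
  refine section_eq_of_cover F _ _ fun x hx => ?_
  obtain ⟨U, hU, hxU, -⟩ := Opens.isBasis_iff_nbhd.mp Y.isBasis_affineOpens
    (show p.base x ∈ (⊤ : Y.Opens) from trivial)
  refine ⟨W ⊓ p ⁻¹ᵁ U, inf_le_left, ⟨hx, hxU⟩, ?_⟩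
  apply (hF.bijective U hU (W ⊓ p ⁻¹ᵁ U) inf_le_right).1
  exact sect_eq_of_TN (𝒮.deg U hU) (ℳ.deg U hU) ⟨n₀, fun k hk m hm => hn₀ U hU k hk m hm⟩ n _ _ _

end Rel

end Groth.Agent.H41.RelTildeTN
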