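import Groth.Agent.H41.RelTildeExists
import Mathlib

/-!
# Existence of `O_P(n)` on a relative `Proj`

The case `ℳ = 𝒮` of `RelTildeExists`: the graded algebra as a graded module over itself.
-/

set_option autoImplicit false
set_option linter.style.haveILetI false
set_option linter.unusedSectionVars false
set_option linter.unusedVariables false
universe u

open CategoryTheory CategoryTheory.Limits AlgebraicGeometry HomogeneousIdeal TopologicalSpace Opposite

noncomputable section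

namespace Groth.Agent.H41.RelTwistExists

section Ring

variable {A σA : Type u} [CommRing A] [SetLike σA A] [AddSubgroupClass σA A] {𝒜 : ℕ → σA}
  [GradedRing 𝒜]
  {B σB : Type u} [CommRing B] [SetLike σB B] [AddSubgroupClass σB B] {ℬ : ℕ → σB} [GradedRing ℬ]
  (ψ : 𝒜 →+*ᵍ ℬ) (hψ : ℬ₊ ≤ (𝒜₊).map ψ) (v : A →ₛₗ[ψ.toRingHom] B) (hv : ∀ a, v a = ψ a)

include hv in
theorem locModMap_eq_locMap (y : ProjectiveSpectrum ℬ)
    (q : GrTwist.Loc 𝒜 (ProjectiveSpectrum.comap ψ hψ y)) :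
    GrMod.locModMap ψ hψ v y q = GrTwist.locMap ψ hψ y q := by
  induction q using Localization.induction_on with
  | H pr =>
    obtain ⟨a, s⟩ := pr
    rw [GrTwist.locMap_mk]
    refine (GrMod.locModMap_mk ψ hψ v y a s).trans ?_
    rw [hv a]
    rfl

end Ring

variable {Y P : Scheme.{u}} (𝒮 : RelProj.QCGrAlg Y) (p : P ⟶ Y)
  (chart : ∀ (U : Y.Opens) (hU : IsAffineOpen U),
    (((p ⁻¹ᵁ U : P.Opens) : Scheme.{u}) ≅ Proj (𝒮.deg U hU)))
  (hP : RelProj.IsRelProj 𝒮 p chart) (n : ℤ)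

/-- The graded algebra as a graded module over itself. -/
def unitGr : RelProj.GrModule 𝒮 where
  mod := SheafOfModules.unit (AMod.ringSheaf 𝒮.toQCAlg)
  deg U hU := 𝒮.deg U hU
  decomp U hU := inferInstanceAs (DirectSum.Decomposition (𝒮.deg U hU))
  gradedSMul U hU := inferInstanceAs (SetLike.GradedSMul (𝒮.deg U hU) (𝒮.deg U hU))
  map_mem := fun hU hV i => fun hx => 𝒮.map_mem hU hV i hx

theorem unitGr_res {U V : Y.Opens} (hU : IsAffineOpen U) (hV : IsAffineOpen V) (hle : V ≤ U)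
    (a : 𝒮.presheaf.obj (op U)) :
    (unitGr 𝒮).res hU hV hle a = 𝒮.res hU hV hle a := rfl

theorem unitGr_smul {U : Y.Opens} (a b : 𝒮.presheaf.obj (op U)) :
    (a • (show (unitGr 𝒮).mod.val.obj (op U) from b) : (unitGr 𝒮).mod.val.obj (op U)) =
      (show (unitGr 𝒮).mod.val.obj (op U) from a * b) := rfl

example {U : Y.Opens} (hU : IsAffineOpen U) :
    GrMod.tilde (𝒮.deg U hU) ((unitGr 𝒮).deg U hU) n = GrTwist.twist (𝒮.deg U hU) n := rfl


theorem hMs_unit (U : Y.Opens) (hU : IsAffineOpen U) (r : Γ(Y, U))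
    (x : (unitGr 𝒮).mod.val.obj (op (Y.basicOpen r))) :
    ∃ (k : ℕ) (m : (unitGr 𝒮).mod.val.obj (op U)),
      (𝒮.res hU (hU.basicOpen r) (Y.basicOpen_le r) ((𝒮.str.app (op U)).hom r)) ^ k • x =
        (unitGr 𝒮).res hU (hU.basicOpen r) (Y.basicOpen_le r) m := by
  letI := (𝒮.presheaf.map (homOfLE (Y.basicOpen_le r)).op).hom.toAlgebra
  have hloc : IsLocalization.Away ((𝒮.str.app (op U)).hom r)
      (𝒮.presheaf.obj (op (Y.basicOpen r))) := 𝒮.isQC U hU r
  obtain ⟨⟨a, s, hs⟩, hxs⟩ :=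
    IsLocalization.surj (Submonoid.powers ((𝒮.str.app (op U)).hom r))
      (show 𝒮.presheaf.obj (op (Y.basicOpen r)) from x)
  obtain ⟨k, rfl⟩ := (Submonoid.mem_powers_iff _ _).mp hs
  refine ⟨k, a, ?_⟩
  change (show 𝒮.presheaf.obj (op (Y.basicOpen r)) from x) *
    𝒮.res hU (hU.basicOpen r) (Y.basicOpen_le r) (((𝒮.str.app (op U)).hom r) ^ k) =
      𝒮.res hU (hU.basicOpen r) (Y.basicOpen_le r) a at hxs
  show (𝒮.res hU (hU.basicOpen r) (Y.basicOpen_le r) ((𝒮.str.app (op U)).hom r)) ^ k *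
    (show 𝒮.presheaf.obj (op (Y.basicOpen r)) from x) =
      𝒮.res hU (hU.basicOpen r) (Y.basicOpen_le r) a
  rw [← map_pow, mul_comm]
  exact hxs

theorem hMi_unit (U : Y.Opens) (hU : IsAffineOpen U) (r : Γ(Y, U))
    (m : (unitGr 𝒮).mod.val.obj (op U))
    (hm : (unitGr 𝒮).res hU (hU.basicOpen r) (Y.basicOpen_le r) m = 0) :
    ∃ k : ℕ, ((𝒮.str.app (op U)).hom r) ^ k • m = 0 := by
  letI := (𝒮.presheaf.map (homOfLE (Y.basicOpen_le r)).op).hom.toAlgebra
  have hloc : IsLocalization.Away ((𝒮.str.app (op U)).hom r)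
      (𝒮.presheaf.obj (op (Y.basicOpen r))) := 𝒮.isQC U hU r
  have hm' : algebraMap (𝒮.presheaf.obj (op U)) (𝒮.presheaf.obj (op (Y.basicOpen r)))
      (show 𝒮.presheaf.obj (op U) from m) = 0 := hm
  obtain ⟨⟨_, k, rfl⟩, hk⟩ := (IsLocalization.map_eq_zero_iff
    (Submonoid.powers ((𝒮.str.app (op U)).hom r)) (𝒮.presheaf.obj (op (Y.basicOpen r)))
    (show 𝒮.presheaf.obj (op U) from m)).mp hm'
  exact ⟨k, hk⟩

include hP in
/-- Existence of the twisting sheaf `O_P(n)` of a relative `Proj`. -/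
theorem exists_isRelTwist :
    ∃ (L : P.Modules) (lam : ∀ (U : Y.Opens) (hU : IsAffineOpen U),
      L ⟶ (Scheme.Modules.pushforward (RelProj.emb p chart U hU)).obj
        (GrTwist.twist (𝒮.deg U hU) n)),
      RelProj.IsRelTwist 𝒮 p chart n L lam := by
  obtain ⟨F, lam, hF⟩ := Groth.Agent.H41.RelTildeExists.exists_isRelTilde 𝒮 p chart hP
    (unitGr 𝒮) n (hMs_unit 𝒮) (hMi_unit 𝒮)
  refine ⟨F, fun U hU => lam U hU, ⟨fun U hU W hW => hF.bijective U hU W hW, ?_⟩⟩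
  intro U hU r W s y hy hy'
  refine (hF.compat U hU r W s y hy hy').trans ?_
  exact locModMap_eq_locMap (𝒮.res hU (hU.basicOpen r) (Y.basicOpen_le r))
    (𝒮.irrelevant_le_map U hU r) ((unitGr 𝒮).res hU (hU.basicOpen r) (Y.basicOpen_le r))
    (fun a => rfl) y _

end Groth.Agent.H41.RelTwistExists
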