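import Mathlib
import Groth.Agent.H22.RelTwistGG
import Groth.Agent.H22.VeryAmpleIso
import Groth.Agent.H41.RelMulTw
import Groth.Agent.H41.RelTwistExists
import Groth.Agent.H41.RelTwistInv

/-!
# Relative global generation of twists on a relative `Proj` (helper41)

* `exists_epi_counit_of_isRelAmple'`: `H22.RelTwistGG.exists_epi_counit_of_isRelAmple` without the
  (unused) quasi-separatedness of the source.
* `nonempty_iso_of_isRelTwist`: two data of `O_P(n)` on a relative `Proj` are isomorphic.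
* `nonempty_tensorPow_iso`: `O_P(1)^{⊗(k+1)} ≅ O_P(k+1)`.
* `epi_counit_of_iso`: the counit being an epimorphism is invariant under isomorphism.
-/

set_option autoImplicit false
set_option linter.style.haveILetI false
universe u
open CategoryTheory CategoryTheory.Limits AlgebraicGeometry TopologicalSpace Opposite

namespace Groth.Agent.H41.RelTwistGG2

open Groth.Agent.H8 (res_res res_smul ringRes_res section_eq_of_cover)
open Groth.Agent.H18.TensorGen Groth.Agent.H22.GenSection Groth.Agent.H22.AmpleLocal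
open Groth.Agent.H22.QCohLimits (app_res)
open Groth.Agent.H18.SecTw Groth.Agent.H18.TensorSec Groth.Agent.H41.BilinGlue
open Groth.Agent.H18.RestrictTensor Groth.Agent.H18.TensorPowIso
open Groth.Agent.H22.RelTwistGG
open AlgebraicGeometry.Scheme.Modules
open scoped TensorProduct

/-- EGA II 4.6.8 (⇒), without quasi-separatedness of the source. -/
theorem exists_epi_counit_of_isRelAmple' {X Y : Scheme.{u}} (f : X ⟶ Y) [CompactSpace X]
    [QuasiSeparated f] {L : X.Modules} (hL : PicF.IsInvertible L)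
    (h : RelAmple.IsRelAmple f L) (F : X.Modules) (hq : Coh.IsQCoh F) (hft : CohB1.IsFT F) :
    ∃ n₀ : ℕ, 0 < n₀ ∧ ∀ n : ℕ, n₀ ≤ n →
      Epi ((pullbackPushforwardAdjunction f).counit.app
        (CohB1.tensorMod F (CohB1.tensorPow L n))) := by
  haveI := h.1
  have haff : ∀ x : X, ∃ V : Y.Opens, IsAffineOpen V ∧ f x ∈ V := fun x => by
    obtain ⟨V, hV, hxV, -⟩ := (Opens.isBasis_iff_nbhd.mp Y.isBasis_affineOpens)
      (show f x ∈ (⊤ : Y.Opens) from trivial)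
    exact ⟨V, hV, hxV⟩
  choose V hV hxV using haff
  obtain ⟨T, hT⟩ := CompactSpace.elim_nhds_subcover
    (fun x => ((f ⁻¹ᵁ V x : X.Opens) : Set X)) (fun x => (f ⁻¹ᵁ V x).2.mem_nhds (hxV x))
  have hn : ∀ x : X, ∃ n₀ : ℕ, ∀ n, n₀ ≤ n → Curv2.IsGloballyGenerated
      ((CohB1.tensorMod F (CohB1.tensorPow L n)).restrict (f ⁻¹ᵁ V x).ι) := by
    intro x
    haveI : CompactSpace ((f ⁻¹ᵁ V x : X.Opens) : Scheme.{u}) :=
      isCompact_iff_compactSpace.mp
        (QuasiCompact.isCompact_preimage (f := f) _ (V x).2 (hV x).isCompact)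
    haveI : QuasiSeparatedSpace ((f ⁻¹ᵁ V x : X.Opens) : Scheme.{u}) :=
      (isQuasiSeparated_iff_quasiSeparatedSpace _ (f ⁻¹ᵁ V x).2).mp
        (f.isQuasiSeparated_preimage (hV x).isQuasiSeparated)
    have hLZ := h.2 ⟨V x, hV x⟩
    have hFZ : Coh.IsCoh (F.restrict (f ⁻¹ᵁ V x).ι) := isCoh_restrict _ ⟨hq, hft⟩
    obtain ⟨n₀, hn₀⟩ := Groth.Agent.H18.AmpleGG.exists_iso_ggAt hLZ _ hFZ
    refine ⟨n₀, fun n hn => ?_⟩
    obtain ⟨G, ⟨e⟩, hG⟩ := hn₀ n hn
    have hgg := Groth.Agent.H18.GlobGen.isGloballyGenerated_of_ggAt G hG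
    obtain ⟨ρ⟩ := nonempty_restrict_tensorPow (f ⁻¹ᵁ V x).ι hLZ.1 n
    have hLnZ : PicF.IsInvertible ((CohB1.tensorPow L n).restrict (f ⁻¹ᵁ V x).ι) :=
      Groth.Agent.H8.isInvertible_restrict _ (isInvertible_tensorPow hL n)
    obtain ⟨e1⟩ := nonempty_restrict_tensorMod_right (f ⁻¹ᵁ V x).ι F hLnZ
    obtain ⟨e2⟩ := Groth.Agent.H18.TensorModIso.nonempty_tensorMod_congr
      (Iso.refl (F.restrict (f ⁻¹ᵁ V x).ι)) ρ
    exact isGloballyGenerated_of_iso (e.symm ≪≫ e2.symm ≪≫ e1) hgg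
  choose n₀ hn₀ using hn
  refine ⟨T.sup n₀ + 1, Nat.succ_pos _, fun n hn => ?_⟩
  apply epi_counit_of_cover
  intro x
  have hx : x ∈ ⋃ t ∈ T, ((f ⁻¹ᵁ V t : X.Opens) : Set X) := hT ▸ Set.mem_univ x
  simp only [Set.mem_iUnion] at hx
  obtain ⟨t, htT, hxt⟩ := hx
  exact ⟨V t, hxt, hn₀ t n ((Finset.le_sup htT).trans ((Nat.le_succ _).trans hn))⟩

/-- The counit `f^* f_* M ⟶ M` being an epimorphism is invariant under isomorphism of `M`. -/
theorem epi_counit_of_iso {X Y : Scheme.{u}} (f : X ⟶ Y) {A B : X.Modules} (e : A ≅ B)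
    (h : Epi ((pullbackPushforwardAdjunction f).counit.app A)) :
    Epi ((pullbackPushforwardAdjunction f).counit.app B) := by
  have hnat := (pullbackPushforwardAdjunction f).counit.naturality e.hom
  have h2 : Epi ((pullbackPushforwardAdjunction f).counit.app A ≫ (𝟭 _).map e.hom) := by
    haveI := h
    show Epi ((pullbackPushforwardAdjunction f).counit.app A ≫ e.hom)
    exact epi_comp _ _
  rw [← hnat] at h2
  exact @epi_of_epi _ _ _ _ _ _ _ h2

section Twist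

variable {Y P : Scheme.{u}} (𝒮 : RelProj.QCGrAlg Y) (p : P ⟶ Y)
  (chart : ∀ (U : Y.Opens) (hU : IsAffineOpen U),
    (((p ⁻¹ᵁ U : P.Opens) : Scheme.{u}) ≅ Proj (𝒮.deg U hU)))
  (hP : RelProj.IsRelProj 𝒮 p chart) (hgen : 𝒮.IsGenDegOne)

include hP hgen in
/-- Two data of `O_P(n)` on a relative `Proj` generated in degree one are isomorphic. -/
theorem nonempty_iso_of_isRelTwist (n : ℤ) (L L' : P.Modules)
    (lam : ∀ (U : Y.Opens) (hU : IsAffineOpen U),
      L ⟶ (Scheme.Modules.pushforward (RelProj.emb p chart U hU)).obj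
        (GrTwist.twist (𝒮.deg U hU) n))
    (lam' : ∀ (U : Y.Opens) (hU : IsAffineOpen U),
      L' ⟶ (Scheme.Modules.pushforward (RelProj.emb p chart U hU)).obj
        (GrTwist.twist (𝒮.deg U hU) n))
    (hL : RelProj.IsRelTwist 𝒮 p chart n L lam) (hL' : RelProj.IsRelTwist 𝒮 p chart n L' lam') :
    Nonempty (L ≅ L') := by
  obtain ⟨L0, lam0, hL0⟩ := Groth.Agent.H41.RelTwistExists.exists_isRelTwist 𝒮 p chart hP 0
  obtain ⟨e1⟩ := Groth.Agent.H41.RelMulTw.nonempty_iso 𝒮 p chart hP 0 n n (zero_add n)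
    L0 lam0 hL0 L lam hL L lam hL hgen
  obtain ⟨e2⟩ := Groth.Agent.H41.RelMulTw.nonempty_iso 𝒮 p chart hP 0 n n (zero_add n)
    L0 lam0 hL0 L lam hL L' lam' hL' hgen
  exact ⟨e1.symm ≪≫ e2⟩

include hP hgen in
/-- `O_P(1)^{⊗(k+1)} ≅ O_P(k+1)` on a relative `Proj` generated in degree one. -/
theorem nonempty_tensorPow_iso (O1 : P.Modules)
    (lam1 : ∀ (U : Y.Opens) (hU : IsAffineOpen U),
      O1 ⟶ (Scheme.Modules.pushforward (RelProj.emb p chart U hU)).obj
        (GrTwist.twist (𝒮.deg U hU) 1))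
    (hO1 : RelProj.IsRelTwist 𝒮 p chart 1 O1 lam1) :
    ∀ (k : ℕ) (n : ℤ) (_ : n = (k : ℤ) + 1) (L : P.Modules)
      (lam : ∀ (U : Y.Opens) (hU : IsAffineOpen U),
        L ⟶ (Scheme.Modules.pushforward (RelProj.emb p chart U hU)).obj
          (GrTwist.twist (𝒮.deg U hU) n))
      (_ : RelProj.IsRelTwist 𝒮 p chart n L lam), Nonempty (CohB1.tensorPow O1 (k + 1) ≅ L) := by
  have hinv : PicF.IsInvertible O1 :=
    Groth.Agent.H41.RelTwistInv.isInvertible_of_isGenDegOne 𝒮 p chart 1 O1 lam1 hO1 hgen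
  intro k
  induction k with
  | zero =>
    intro n hn L lam hL
    obtain rfl : n = 1 := by rw [hn]; norm_num
    obtain ⟨e0⟩ := Groth.Agent.H22.VeryAmpleIso.nonempty_tensorPow_unit_tensor hinv 0
    obtain ⟨e1⟩ := nonempty_iso_of_isRelTwist 𝒮 p chart hP hgen 1 O1 L lam1 lam hO1 hL
    exact ⟨(show CohB1.tensorPow O1 (0 + 1) ≅ O1 from e0) ≪≫ e1⟩
  | succ k ih =>
    intro n hn L lam hL
    obtain ⟨Lk, lamk, hLk⟩ :=
      Groth.Agent.H41.RelTwistExists.exists_isRelTwist 𝒮 p chart hP ((k : ℤ) + 1)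
    obtain ⟨e0⟩ := ih ((k : ℤ) + 1) rfl Lk lamk hLk
    obtain ⟨e1⟩ := Groth.Agent.H18.TensorModIso.nonempty_tensorMod_congr e0 (Iso.refl O1)
    obtain ⟨e2⟩ := Groth.Agent.H41.RelMulTw.nonempty_iso 𝒮 p chart hP ((k : ℤ) + 1) 1 n
      (by rw [hn]; push_cast; ring) Lk lamk hLk O1 lam1 hO1 L lam hL hgen
    exact ⟨(show CohB1.tensorPow O1 (k + 1 + 1) ≅ CohB1.tensorMod Lk O1 from e1) ≪≫ e2⟩

end Twist

end Groth.Agent.H41.RelTwistGG2
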