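import Groth.Agent.H41.RelTwistInv
import Mathlib

/-!
# Periodicity: on a quasi-compact open of a relative `Proj`, the twisting sheaves `O(n)` are
invertible for `n` divisible by a suitable `d > 0`
-/

set_option autoImplicit false
set_option linter.style.haveILetI false
universe u

open CategoryTheory CategoryTheory.Limits AlgebraicGeometry HomogeneousIdeal TopologicalSpace Opposite
open Groth.Agent.H8 Groth.Agent.H41.GrModQCoh Groth.Agent.H41.GrModMaps
  Groth.Agent.H41.RelTildeMaps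

namespace Groth.Agent.H41.RelTwistInv2

set_option backward.isDefEq.respectTransparency false in
/-- A section over (the image of) an open `V` of an open subscheme `U₀`, multiplication by which is
bijective on all smaller opens, trivialises the double restriction. -/
theorem nonempty_restrict_restrict_iso_of_section {X : Scheme.{u}} (N : X.Modules) (U₀ : X.Opens)
    (V : (↑U₀ : Scheme.{u}).Opens) (σ : Γ(N, U₀.ι ''ᵁ V))
    (h : ∀ (W : X.Opens) (hW : W ≤ U₀.ι ''ᵁ V), Function.Bijective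
      (fun r : Γ(X, W) => r • N.presheaf.map (homOfLE hW).op σ)) :
    Nonempty ((N.restrict U₀.ι).restrict V.ι ≅ Coh.structureModule ↑V) := by
  refine Groth.Agent.H18.RestrictUnit.nonempty_restrict_iso_unit (X := ↑U₀) V (N.restrict U₀.ι) σ ?_
  intro W hW
  have hle : U₀.ι ''ᵁ W ≤ U₀.ι ''ᵁ V := U₀.ι.image_mono hW
  have hb := h (U₀.ι ''ᵁ W) hle
  have he : Function.Bijective (⇑(ConcreteCategory.hom (U₀.ι.appIso W).inv)) :=
    ConcreteCategory.bijective_of_isIso _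
  exact hb.comp he

section Rel

variable {Y P : Scheme.{u}} (𝒮 : RelProj.QCGrAlg Y) (p : P ⟶ Y)
  (chart : ∀ (U : Y.Opens) (hU : IsAffineOpen U),
    (((p ⁻¹ᵁ U : P.Opens) : Scheme.{u}) ≅ Proj (𝒮.deg U hU)))
  (n : ℤ) (L : P.Modules)
  (lam : ∀ (U : Y.Opens) (hU : IsAffineOpen U),
    L ⟶ (Scheme.Modules.pushforward (RelProj.emb p chart U hU)).obj
      (GrTwist.twist (𝒮.deg U hU) n))
  (hL : RelProj.IsRelTwist 𝒮 p chart n L lam)

include hL in
/-- A unit fraction of degree `n` on a chart gives a section of the twisting sheaf multiplication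
by which is bijective on all smaller opens. -/
theorem exists_section_bijective (U : Y.Opens) (hU : IsAffineOpen U)
    (V : (Proj (𝒮.deg U hU)).Opens) {a b : ℕ} (u : 𝒮.deg U hU a) (v : 𝒮.deg U hU b)
    (hab : (a : ℤ) = b + n)
    (hux : ∀ x : V, (u : 𝒮.presheaf.obj (op U)) ∉ x.1.asHomogeneousIdeal)
    (hvx : ∀ x : V, (v : 𝒮.presheaf.obj (op U)) ∉ x.1.asHomogeneousIdeal) :
    ∃ σ : Γ(L, RelProj.emb p chart U hU ''ᵁ V),
      ∀ (W : P.Opens) (hW : W ≤ RelProj.emb p chart U hU ''ᵁ V), Function.Bijective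
        (fun r : Γ(P, W) => r • L.presheaf.map (homOfLE hW).op σ) := by
  have hW₀le : RelProj.emb p chart U hU ''ᵁ V ≤ p ⁻¹ᵁ U := by
    rintro _ ⟨z, _, rfl⟩
    have : (RelProj.emb p chart U hU).base z ∈ (RelProj.emb p chart U hU).opensRange := ⟨z, rfl⟩
    rwa [opensRange_emb] at this
  have hpre : ∀ W : P.Opens, W ≤ RelProj.emb p chart U hU ''ᵁ V →
      RelProj.emb p chart U hU ⁻¹ᵁ W ≤ V := fun W hW z hz => by
    have h1 : z ∈ RelProj.emb p chart U hU ⁻¹ᵁ (RelProj.emb p chart U hU ''ᵁ V) := hW hz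
    rwa [(RelProj.emb p chart U hU).preimage_image_eq] at h1
  let τ : ∀ (W : P.Opens) (hW : W ≤ RelProj.emb p chart U hU ''ᵁ V),
      Γ(GrMod.tilde (𝒮.deg U hU) (𝒮.deg U hU) n, RelProj.emb p chart U hU ⁻¹ᵁ W) := fun W hW =>
    fracSect (𝒮.deg U hU) (𝒮.deg U hU) n (RelProj.emb p chart U hU ⁻¹ᵁ W) hab u v
      (fun z => hvx ⟨z.1, hpre W hW z.2⟩)
  obtain ⟨σ, hsig⟩ := (hL.bijective U hU _ hW₀le).2 (τ _ le_rfl)
  refine ⟨σ, fun W hW => ?_⟩
  have hlamb := hL.bijective U hU W (hW.trans hW₀le)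
  haveI : IsIso ((RelProj.emb p chart U hU).app W) :=
    (RelProj.emb p chart U hU).isIso_app W (by rw [opensRange_emb]; exact hW.trans hW₀le)
  have heps : Function.Bijective ((RelProj.emb p chart U hU).app W) :=
    ConcreteCategory.bijective_of_isIso _
  have htau := RelTwistInv.bijective_smul_fracSect (𝒮.deg U hU)
    (W := RelProj.emb p chart U hU ⁻¹ᵁ W) u v hab
    (fun z => hux ⟨z.1, hpre W hW z.2⟩) (fun z => hvx ⟨z.1, hpre W hW z.2⟩)
  have hcomp : ∀ r : Γ(P, W), (lam U hU).app W (r • L.presheaf.map (homOfLE hW).op σ) =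
      ((RelProj.emb p chart U hU).app W r) • τ W hW := by
    intro r
    rw [Scheme.Modules.Hom.app_smul, app_res (lam U hU) hW σ, hsig]
    rfl
  have hb : Function.Bijective
      (fun r : Γ(P, W) => (lam U hU).app W (r • L.presheaf.map (homOfLE hW).op σ)) := by
    have e : (fun r : Γ(P, W) => (lam U hU).app W (r • L.presheaf.map (homOfLE hW).op σ)) =
        (fun a : Γ(Proj (𝒮.deg U hU), RelProj.emb p chart U hU ⁻¹ᵁ W) => a • τ W hW) ∘
          ((RelProj.emb p chart U hU).app W) := funext hcomp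
    rw [e]
    exact htau.comp heps
  exact (Function.Bijective.of_comp_iff' hlamb _).mp hb

include hL in
/-- The twisting sheaf, restricted to any open `U₀` and then to the part of the domain of a unit
fraction of degree `n` inside `U₀`, is trivial. -/
theorem nonempty_restrict_restrict_iso (U₀ : P.Opens) (U : Y.Opens) (hU : IsAffineOpen U)
    (V : (Proj (𝒮.deg U hU)).Opens) {a b : ℕ} (u : 𝒮.deg U hU a) (v : 𝒮.deg U hU b)
    (hab : (a : ℤ) = b + n)
    (hux : ∀ x : V, (u : 𝒮.presheaf.obj (op U)) ∉ x.1.asHomogeneousIdeal)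
    (hvx : ∀ x : V, (v : 𝒮.presheaf.obj (op U)) ∉ x.1.asHomogeneousIdeal) :
    Nonempty ((L.restrict U₀.ι).restrict (U₀.ι ⁻¹ᵁ (RelProj.emb p chart U hU ''ᵁ V)).ι ≅
      Coh.structureModule ↑(U₀.ι ⁻¹ᵁ (RelProj.emb p chart U hU ''ᵁ V))) := by
  obtain ⟨σ, hσb⟩ := exists_section_bijective 𝒮 p chart n L lam hL U hU V u v hab hux hvx
  have hle : U₀.ι ''ᵁ (U₀.ι ⁻¹ᵁ (RelProj.emb p chart U hU ''ᵁ V)) ≤
      RelProj.emb p chart U hU ''ᵁ V := U₀.ι.image_preimage_le _
  refine nonempty_restrict_restrict_iso_of_section L U₀ _ (L.presheaf.map (homOfLE hle).op σ)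
    fun W hW => ?_
  have e : (fun r : Γ(P, W) => r • L.presheaf.map (homOfLE hW).op
      (L.presheaf.map (homOfLE hle).op σ)) =
      fun r : Γ(P, W) => r • L.presheaf.map (homOfLE (hW.trans hle)).op σ :=
    funext fun r => by rw [res_res L hW hle σ]
  rw [e]
  exact hσb W (hW.trans hle)

end Rel

section Main

variable {Y X : Scheme.{u}} (𝒮 : RelProj.QCGrAlg Y) (q : X ⟶ Y)
  (chart : ∀ (U : Y.Opens) (hU : IsAffineOpen U),
    (((q ⁻¹ᵁ U : X.Opens) : Scheme.{u}) ≅ Proj (𝒮.deg U hU)))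

theorem exists_period (U : X.Opens) (hU : IsCompact (U : Set X)) :
    ∃ d : ℕ, 0 < d ∧ ∀ (n : ℤ), (d : ℤ) ∣ n →
      ∀ (L : X.Modules)
        (lam : ∀ (V : Y.Opens) (hV : IsAffineOpen V),
          L ⟶ (Scheme.Modules.pushforward (RelProj.emb q chart V hV)).obj
            (GrTwist.twist (𝒮.deg V hV) n)),
        RelProj.IsRelTwist 𝒮 q chart n L lam → PicF.IsInvertible (L.restrict U.ι) := by
  classical
  have hloc : ∀ y : X, ∃ (V : Y.Opens) (hV : IsAffineOpen V) (e : ℕ) (_ : 0 < e)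
      (f : 𝒮.presheaf.obj (op V)) (_ : f ∈ 𝒮.deg V hV e),
      y ∈ RelProj.emb q chart V hV ''ᵁ Proj.basicOpen (𝒮.deg V hV) f := by
    intro y
    obtain ⟨V, hV, hyV, -⟩ := Opens.isBasis_iff_nbhd.mp Y.isBasis_affineOpens
      (show q.base y ∈ (⊤ : Y.Opens) from trivial)
    obtain ⟨y', hy'⟩ : ∃ y', (RelProj.emb q chart V hV).base y' = y := by
      have : y ∈ (RelProj.emb q chart V hV).opensRange := by
        rw [opensRange_emb]; exact hyV
      exact this
    obtain ⟨e, he, f, hf, hfy⟩ := exists_pos_not_mem (𝒮.deg V hV) y'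
    exact ⟨V, hV, e, he, f, hf, y', (ProjectiveSpectrum.mem_basicOpen (𝒮.deg V hV) f y').mpr hfy,
      hy'⟩
  choose V hV e he f hf hy using hloc
  obtain ⟨t, ht⟩ := hU.elim_finite_subcover
    (fun y : X => ((RelProj.emb q chart (V y) (hV y) ''ᵁ
      Proj.basicOpen (𝒮.deg (V y) (hV y)) (f y) : X.Opens) : Set X))
    (fun y => (RelProj.emb q chart (V y) (hV y) ''ᵁ
      Proj.basicOpen (𝒮.deg (V y) (hV y)) (f y)).2)
    (fun y _ => Set.mem_iUnion.mpr ⟨y, hy y⟩)
  refine ⟨∏ y ∈ t, e y, Finset.prod_pos fun y _ => he y, fun n hn L lam hL z => ?_⟩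
  obtain ⟨y, hyt, hzy⟩ := Set.mem_iUnion₂.mp (ht z.2)
  have hdvd : ((e y : ℕ) : ℤ) ∣ n :=
    (Int.natCast_dvd_natCast.mpr (Finset.dvd_prod_of_mem e hyt)).trans hn
  obtain ⟨m, hm⟩ := hdvd
  have hpowu : (f y) ^ m.toNat ∈ 𝒮.deg (V y) (hV y) (m.toNat • e y) :=
    SetLike.pow_mem_graded _ (hf y)
  have hpowv : (f y) ^ (-m).toNat ∈ 𝒮.deg (V y) (hV y) ((-m).toNat • e y) :=
    SetLike.pow_mem_graded _ (hf y)
  have hpq : ((m.toNat • e y : ℕ) : ℤ) = ((-m).toNat • e y : ℕ) + n := by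
    have h := Int.toNat_sub_toNat_neg m
    simp only [smul_eq_mul]
    push_cast
    rw [hm]
    linear_combination (e y : ℤ) * h
  have hfx : ∀ (k : ℕ) (x : (Proj.basicOpen (𝒮.deg (V y) (hV y)) (f y) :
      (Proj (𝒮.deg (V y) (hV y))).Opens)), (f y) ^ k ∉ x.1.asHomogeneousIdeal := fun k x h =>
    ((ProjectiveSpectrum.mem_basicOpen (𝒮.deg (V y) (hV y)) (f y) x.1).mp x.2)
      (x.1.isPrime.mem_of_pow_mem _ h)
  refine ⟨U.ι ⁻¹ᵁ (RelProj.emb q chart (V y) (hV y) ''ᵁ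
    Proj.basicOpen (𝒮.deg (V y) (hV y)) (f y)), hzy, ?_⟩
  exact nonempty_restrict_restrict_iso 𝒮 q chart n L lam hL U (V y) (hV y)
    (Proj.basicOpen (𝒮.deg (V y) (hV y)) (f y)) ⟨(f y) ^ m.toNat, hpowu⟩
    ⟨(f y) ^ (-m).toNat, hpowv⟩ hpq (hfx _) (hfx _)

end Main

end Groth.Agent.H41.RelTwistInv2
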