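import Groth.Agent.H8.QCohQcqs
import Groth.Agent.H8.IsoCover
import Mathlib

/-!
# Sections of a limit of sheaves of modules indexed by a locally directed preorder

`bijective_limit_π`: for a diagram `F : J ⥤ X.Modules` over a preorder `J` with opens `B j` such
that the transition maps are bijective on sections over small opens, each `F j` is supported on
`B j`, and `J` is locally directed, the projection `lim F ⟶ F j` is bijective on sections over the
opens contained in `B j`.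
-/

set_option autoImplicit false
universe u

open CategoryTheory CategoryTheory.Limits AlgebraicGeometry TopologicalSpace Opposite

noncomputable section

namespace Groth.Agent.H41.SheafGlueLim

variable {X : Scheme.{u}}

/-- The sections functor. -/
def secF (W : X.Opens) : X.Modules ⥤ Type u :=
  Scheme.Modules.toPresheaf X ⋙ (evaluation _ _).obj (op W) ⋙ forget AddCommGrpCat.{u}

instance (W : X.Opens) : PreservesLimitsOfSize.{u, u} (secF (X := X) W) := by
  unfold secF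
  have h2 : PreservesLimitsOfSize.{u, u} ((evaluation (Opens ↥X)ᵒᵖ AddCommGrpCat.{u}).obj (op W) ⋙
      forget AddCommGrpCat.{u}) := inferInstance
  exact comp_preservesLimits (Scheme.Modules.toPresheaf X) _

section General

variable {J : Type u} [SmallCategory J] (F : J ⥤ X.Modules)

theorem limit_sec_ext (W : X.Opens) (x x' : Γ(limit F, W))
    (h : ∀ j, (limit.π F j).app W x = (limit.π F j).app W x') : x = x' := by
  have hl := isLimitOfPreserves (secF W) (limit.isLimit F)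
  apply (Types.isLimitEquivSections hl).injective
  apply Subtype.ext
  funext j
  exact h j

theorem limit_sec_exists (W : X.Opens) (s : ∀ j, Γ(F.obj j, W))
    (hs : ∀ {j k : J} (f : j ⟶ k), (F.map f).app W (s j) = s k) :
    ∃ x : Γ(limit F, W), ∀ j, (limit.π F j).app W x = s j := by
  have hl := isLimitOfPreserves (secF W) (limit.isLimit F)
  let σ : (F ⋙ secF W).sections := ⟨fun j => s j, fun {j k} f => hs f⟩
  exact ⟨(Types.isLimitEquivSections hl).symm σ, fun j =>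
    Types.isLimitEquivSections_symm_apply hl σ j⟩

theorem limit_w_app {j k : J} (f : j ⟶ k) (W : X.Opens) (x : Γ(limit F, W)) :
    (F.map f).app W ((limit.π F j).app W x) = (limit.π F k).app W x :=
  congrArg (fun φ : limit F ⟶ F.obj k => φ.app W x) (limit.w F f)

end General

/-- Restriction of sections. -/
abbrev rs (M : X.Modules) {V W : X.Opens} (h : V ≤ W) (x : Γ(M, W)) : Γ(M, V) :=
  M.presheaf.map (homOfLE h).op x

theorem rs_rs (M : X.Modules) {A B' C : X.Opens} (h₁ : A ≤ B') (h₂ : B' ≤ C) (s : Γ(M, C)) :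
    rs M h₁ (rs M h₂ s) = rs M (h₁.trans h₂) s := Groth.Agent.H8.res_res M h₁ h₂ s

theorem app_rs {M N : X.Modules} (φ : M ⟶ N) {V W : X.Opens} (h : V ≤ W) (x : Γ(M, W)) :
    φ.app V (rs M h x) = rs N h (φ.app W x) := Groth.Agent.H8.app_res φ h x

section Main

variable {J : Type u} [Preorder J] (F : J ⥤ X.Modules) (B : J → X.Opens)

theorem map_map_app {j k l : J} (hjk : j ≤ k) (hkl : k ≤ l) (V : X.Opens) (x : Γ(F.obj j, V)) :
    (F.map (homOfLE hkl)).app V ((F.map (homOfLE hjk)).app V x) =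
      (F.map (homOfLE (hjk.trans hkl))).app V x := by
  have e : F.map (homOfLE hjk) ≫ F.map (homOfLE hkl) = F.map (homOfLE (hjk.trans hkl)) := by
    rw [← F.map_comp]
    exact congrArg F.map (Subsingleton.elim _ _)
  exact congrArg (fun φ : F.obj j ⟶ F.obj l => φ.app V x) e

/-- The transported section. -/
def tau {j : J} {W : X.Opens} (t : Γ(F.obj j, W)) (l : J) (hjl : j ≤ l) (V : X.Opens)
    (hV : V ≤ W) : Γ(F.obj l, V) :=
  (F.map (homOfLE hjl)).app V (rs (F.obj j) hV t)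

theorem rs_tau {j : J} {W : X.Opens} (t : Γ(F.obj j, W)) (l : J) (hjl : j ≤ l) {V V' : X.Opens}
    (h : V' ≤ V) (hV : V ≤ W) :
    rs (F.obj l) h (tau F t l hjl V hV) = tau F t l hjl V' (h.trans hV) := by
  unfold tau
  rw [← app_rs, rs_rs]

theorem map_tau {j : J} {W : X.Opens} (t : Γ(F.obj j, W)) {l m : J} (hjl : j ≤ l) (hlm : l ≤ m)
    (V : X.Opens) (hV : V ≤ W) :
    (F.map (homOfLE hlm)).app V (tau F t l hjl V hV) = tau F t m (hjl.trans hlm) V hV := by
  unfold tau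
  exact map_map_app F hjl hlm V _

variable (hB : ∀ {j k : J}, j ≤ k → B k ≤ B j)
  (h1 : ∀ {j k : J} (hjk : j ≤ k) (W : X.Opens), W ≤ B k →
    Function.Bijective ((F.map (homOfLE hjk)).app W))
  (h2 : ∀ (j : J) (W : X.Opens), Function.Bijective
    (fun x : Γ(F.obj j, W) => rs (F.obj j) (inf_le_left : W ⊓ B j ≤ W) x))
  (h3 : ∀ (j k : J) (x : X), x ∈ B j → x ∈ B k → ∃ l : J, j ≤ l ∧ k ≤ l ∧ x ∈ B l)

include h1 h3 in
theorem core {j : J} {W : X.Opens} (t : Γ(F.obj j, W)) {k l : J} (hjl : j ≤ l) (hkl : k ≤ l)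
    {V : X.Opens} (hV : V ≤ W) (σ : Γ(F.obj k, V))
    (hσ : (F.map (homOfLE hkl)).app V σ = tau F t l hjl V hV)
    {m : J} (hjm : j ≤ m) (hkm : k ≤ m) {V' : X.Opens} (h : V' ≤ V) (hV'l : V' ≤ B l)
    (hV'm : V' ≤ B m) :
    (F.map (homOfLE hkm)).app V' (rs (F.obj k) h σ) = tau F t m hjm V' (h.trans hV) := by
  refine Groth.Agent.H8.section_eq_of_cover (F.obj m) _ _ fun z hz => ?_
  obtain ⟨n, hln, hmn, hzn⟩ := h3 l m z (hV'l hz) (hV'm hz)
  refine ⟨V' ⊓ B n, inf_le_left, ⟨hz, hzn⟩, ?_⟩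
  apply (h1 hmn (V' ⊓ B n) inf_le_right).1
  have hV'' : V' ⊓ B n ≤ V := inf_le_left.trans h
  have e1 : (F.map (homOfLE hmn)).app (V' ⊓ B n) (rs (F.obj m) inf_le_left
      ((F.map (homOfLE hkm)).app V' (rs (F.obj k) h σ))) =
      tau F t n (hjl.trans hln) (V' ⊓ B n) (hV''.trans hV) := by
    rw [← app_rs, rs_rs, map_map_app]
    have e2 := map_map_app F hkl hln (V' ⊓ B n) (rs (F.obj k) hV'' σ)
    refine e2.symm.trans ?_
    rw [app_rs, hσ, rs_tau, map_tau]
  have e3 : (F.map (homOfLE hmn)).app (V' ⊓ B n) (rs (F.obj m) inf_le_left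
      (tau F t m hjm V' (h.trans hV))) =
      tau F t n (hjl.trans hln) (V' ⊓ B n) (hV''.trans hV) := by
    rw [rs_tau, map_tau]
  exact e1.trans e3.symm

/-- `σ` is the transport of `t` to the index `k` over `V`. -/
def Good {j : J} {W : X.Opens} (t : Γ(F.obj j, W)) (k : J) (V : X.Opens) (hV : V ≤ W)
    (σ : Γ(F.obj k, V)) : Prop :=
  ∀ (l : J) (hjl : j ≤ l) (hkl : k ≤ l) (V' : X.Opens) (h : V' ≤ V), V' ≤ B l →
    (F.map (homOfLE hkl)).app V' (rs (F.obj k) h σ) = tau F t l hjl V' (h.trans hV)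

theorem Good.res {j : J} {W : X.Opens} {t : Γ(F.obj j, W)} {k : J} {V : X.Opens} {hV : V ≤ W}
    {σ : Γ(F.obj k, V)} (hσ : Good F B t k V hV σ) {V₁ : X.Opens} (h₁ : V₁ ≤ V) :
    Good F B t k V₁ (h₁.trans hV) (rs (F.obj k) h₁ σ) := by
  intro l hjl hkl V' h hV'l
  rw [rs_rs]
  exact hσ l hjl hkl V' (h.trans h₁) hV'l

include h1 h3 in
theorem Good.unique {j : J} {W : X.Opens} {t : Γ(F.obj j, W)} {k : J} {V : X.Opens}
    {hV : V ≤ W} {σ σ' : Γ(F.obj k, V)} (hVk : V ≤ B k) (hVj : V ≤ B j)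
    (hσ : Good F B t k V hV σ) (hσ' : Good F B t k V hV σ') : σ = σ' := by
  refine Groth.Agent.H8.section_eq_of_cover (F.obj k) _ _ fun z hz => ?_
  obtain ⟨l, hjl, hkl, hzl⟩ := h3 j k z (hVj hz) (hVk hz)
  refine ⟨V ⊓ B l, inf_le_left, ⟨hz, hzl⟩, ?_⟩
  apply (h1 hkl (V ⊓ B l) inf_le_right).1
  exact (hσ l hjl hkl _ inf_le_left inf_le_right).trans
    (hσ' l hjl hkl _ inf_le_left inf_le_right).symm

include hB h1 h3 in
theorem exists_good_local {j : J} {W : X.Opens} (hW : W ≤ B j) (t : Γ(F.obj j, W)) (k : J)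
    (z : X) (hzW : z ∈ W) (hzk : z ∈ B k) :
    ∃ (V : X.Opens) (hV : V ≤ W), z ∈ V ∧ V ≤ B k ∧ ∃ σ : Γ(F.obj k, V), Good F B t k V hV σ := by
  obtain ⟨l, hjl, hkl, hzl⟩ := h3 j k z (hW hzW) hzk
  refine ⟨W ⊓ B l, inf_le_left, ⟨hzW, hzl⟩, inf_le_right.trans (hB hkl), ?_⟩
  obtain ⟨σ, hσ⟩ := (h1 hkl (W ⊓ B l) inf_le_right).2 (tau F t l hjl (W ⊓ B l) inf_le_left)
  refine ⟨σ, fun m hjm hkm V' h hV'm => ?_⟩
  exact core F B h1 h3 t hjl hkl inf_le_left σ hσ hjm hkm h (h.trans inf_le_right) hV'm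

include hB h1 h3 in
theorem exists_good {j : J} {W : X.Opens} (hW : W ≤ B j) (t : Γ(F.obj j, W)) (k : J) :
    ∃ σ : Γ(F.obj k, W ⊓ B k), Good F B t k (W ⊓ B k) inf_le_left σ := by
  classical
  choose V hV hzV hVk σ hσ using fun z : (W ⊓ B k : X.Opens) =>
    exists_good_local F B hB h1 h3 hW t k z.1 z.2.1 z.2.2
  have hVle : ∀ z, V z ≤ W ⊓ B k := fun z => le_inf (hV z) (hVk z)
  have hcompat : TopCat.Presheaf.IsCompatible (F.obj k).presheaf V σ := by
    intro z z'
    change rs (F.obj k) (inf_le_left : V z ⊓ V z' ≤ V z) (σ z) =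
      rs (F.obj k) (inf_le_right : V z ⊓ V z' ≤ V z') (σ z')
    exact Good.unique F B h1 h3 (inf_le_left.trans (hVk z))
      ((inf_le_left.trans (hV z)).trans hW)
      ((hσ z).res F B inf_le_left) ((hσ z').res F B inf_le_right)
  have hcover : W ⊓ B k ≤ iSup V := fun z hz => Opens.mem_iSup.mpr ⟨⟨z, hz⟩, hzV ⟨z, hz⟩⟩
  obtain ⟨s, hs, -⟩ := TopCat.Sheaf.existsUnique_gluing'
    (F := ⟨(F.obj k).presheaf, (F.obj k).isSheaf⟩)
    V (W ⊓ B k) (fun z => homOfLE (hVle z)) hcover σ hcompat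
  refine ⟨s, fun l hjl hkl V' h hV'l => ?_⟩
  refine Groth.Agent.H8.section_eq_of_cover (F.obj l) _ _ fun z hz => ?_
  have hzWk : z ∈ W ⊓ B k := h hz
  refine ⟨V' ⊓ V ⟨z, hzWk⟩, inf_le_left, ⟨hz, hzV ⟨z, hzWk⟩⟩, ?_⟩
  have h1' : rs (F.obj k) (hVle ⟨z, hzWk⟩) s = σ ⟨z, hzWk⟩ := hs ⟨z, hzWk⟩
  have e := hσ ⟨z, hzWk⟩ l hjl hkl (V' ⊓ V ⟨z, hzWk⟩) inf_le_right (inf_le_left.trans hV'l)
  rw [← h1', rs_rs] at e
  show rs (F.obj l) inf_le_left ((F.map (homOfLE hkl)).app V' (rs (F.obj k) h s)) =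
    rs (F.obj l) inf_le_left (tau F t l hjl V' (h.trans inf_le_left))
  rw [← app_rs, rs_rs, rs_tau]
  exact e

include hB h1 h2 h3 in
theorem bijective_limit_π (j : J) (W : X.Opens) (hW : W ≤ B j) :
    Function.Bijective ((limit.π F j).app W) := by
  constructor
  · intro x x' hxx'
    refine limit_sec_ext F W x x' fun k => ?_
    apply (h2 k W).1
    show rs (F.obj k) inf_le_left ((limit.π F k).app W x) =
      rs (F.obj k) inf_le_left ((limit.π F k).app W x')
    refine Groth.Agent.H8.section_eq_of_cover (F.obj k) _ _ fun z hz => ?_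
    obtain ⟨l, hjl, hkl, hzl⟩ := h3 j k z (hW hz.1) hz.2
    refine ⟨(W ⊓ B k) ⊓ B l, inf_le_left, ⟨hz, hzl⟩, ?_⟩
    apply (h1 hkl _ inf_le_right).1
    show (F.map (homOfLE hkl)).app _ (rs (F.obj k) inf_le_left
        (rs (F.obj k) inf_le_left ((limit.π F k).app W x))) =
      (F.map (homOfLE hkl)).app _ (rs (F.obj k) inf_le_left
        (rs (F.obj k) inf_le_left ((limit.π F k).app W x')))
    rw [rs_rs, rs_rs, app_rs, app_rs, limit_w_app, limit_w_app,
      ← limit_w_app F (homOfLE hjl) W x, ← limit_w_app F (homOfLE hjl) W x', hxx']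
  · intro t
    choose s' hs' using exists_good F B hB h1 h3 hW t
    choose s hs using fun k => (h2 k W).2 (s' k)
    have hs'' : ∀ k, rs (F.obj k) (inf_le_left : W ⊓ B k ≤ W) (s k) = s' k := hs
    have hfam0 : ∀ {k k' : J} (hkk' : k ≤ k'), (F.map (homOfLE hkk')).app W (s k) = s k' := by
      intro k k' hkk'
      apply (h2 k' W).1
      show rs (F.obj k') inf_le_left ((F.map (homOfLE hkk')).app W (s k)) =
        rs (F.obj k') inf_le_left (s k')
      rw [hs'' k']
      refine Good.unique F B h1 h3 inf_le_right (inf_le_left.trans hW) ?_ (hs' k')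
      intro l hjl hk'l V' h hV'l
      rw [rs_rs, ← app_rs, map_map_app]
      have e := hs' k l hjl (hkk'.trans hk'l) V'
        (le_inf (h.trans inf_le_left) ((h.trans inf_le_right).trans (hB hkk'))) hV'l
      rw [← hs'' k, rs_rs] at e
      exact e
    have hfam : ∀ {k k' : J} (f : k ⟶ k'), (F.map f).app W (s k) = s k' := by
      intro k k' f
      have e := hfam0 (leOfHom f)
      rwa [show homOfLE (leOfHom f) = f from Subsingleton.elim _ _] at e
    obtain ⟨x, hx⟩ := limit_sec_exists F W s hfam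
    refine ⟨x, ?_⟩
    rw [hx j]
    apply (h2 j W).1
    show rs (F.obj j) inf_le_left (s j) = rs (F.obj j) inf_le_left t
    rw [hs'' j]
    refine Good.unique F B h1 h3 inf_le_right (inf_le_left.trans hW) (hs' j) ?_
    intro l hjl hjl' V' h hV'l
    rw [rs_rs]
    rfl

end Main

end Groth.Agent.H41.SheafGlueLim
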