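import Groth.Prelude.Def_KRR
import Groth.Agent.H41.LambdaBasic
import Mathlib.RingTheory.AdjoinRoot

set_option autoImplicit false
universe u

namespace Groth.Agent.H41

open PowerSeries Finset LambdaRing

variable {K : Type u} [CommRing K] [LambdaOps K]

theorem rescale_lamSeries_mul_sigmaSeries (e : K) :
    PowerSeries.rescale (-1 : K) (lamSeries e) * KRR.sigmaSeries e = 1 := by
  have hc : PowerSeries.constantCoeff (PowerSeries.rescale (-1 : K) (lamSeries e)) =
      ((1 : Kˣ) : K) := by
    rw [← PowerSeries.coeff_zero_eq_constantCoeff_apply, PowerSeries.coeff_rescale]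
    simp [lamSeries, LambdaOps.lam_zero]
  exact PowerSeries.mul_invOfUnit _ 1 hc

/-- the recursion satisfied by the `σ^i(e)` -/
theorem sigma_rec (e : K) (n : ℕ) :
    ∑ j ∈ range (n + 1), ((-1 : K) ^ j * LambdaOps.lam j e) * KRR.sigma (n - j) e =
      if n = 0 then 1 else 0 := by
  have h := congrArg (PowerSeries.coeff n) (rescale_lamSeries_mul_sigmaSeries e)
  rw [PowerSeries.coeff_mul, Finset.Nat.sum_antidiagonal_eq_sum_range_succ_mk,
    PowerSeries.coeff_one] at h
  rw [← h]
  apply Finset.sum_congr rfl
  intro j _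
  simp [PowerSeries.coeff_rescale, lamSeries, KRR.sigma]

theorem sigma_zero (e : K) : KRR.sigma 0 e = 1 := by
  have := sigma_rec e 0
  simpa [LambdaOps.lam_zero] using this

/-- truncated recursion when `λ^j(e) = 0` for `j > m` -/
theorem sigma_rec_trunc (e : K) (m : ℕ) (hm : ∀ j, m < j → LambdaOps.lam j e = 0) (n : ℕ)
    (hn : m ≤ n) :
    ∑ j ∈ range (m + 1), ((-1 : K) ^ j * LambdaOps.lam j e) * KRR.sigma (n - j) e =
      if n = 0 then 1 else 0 := by
  rw [← sigma_rec e n]
  apply Finset.sum_subset
  · intro j hj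
    simp only [Finset.mem_range] at hj ⊢
    omega
  · intro j _ hj
    simp only [Finset.mem_range, not_lt] at hj
    rw [hm j (by omega)]
    simp

/-- uniqueness for linear recursions with leading coefficient one -/
theorem rec_unique (m : ℕ) (c : ℕ → K) (hc0 : c 0 = 1) (d : ℕ → K) (hd : ∀ n, n < m → d n = 0)
    (hrec : ∀ n, m ≤ n → ∑ j ∈ range (m + 1), c j * d (n - j) = 0) : ∀ n, d n = 0 := by
  intro n
  induction n using Nat.strong_induction_on with
  | _ n ih =>
    rcases Nat.lt_or_ge n m with h | h
    · exact hd n h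
    · have := hrec n h
      rw [Finset.sum_range_succ'] at this
      have hz : ∑ j ∈ range m, c (j + 1) * d (n - (j + 1)) = 0 := by
        apply Finset.sum_eq_zero
        intro j hj
        simp only [Finset.mem_range] at hj
        rw [ih (n - (j + 1)) (by omega), mul_zero]
      rw [hz, zero_add, hc0, one_mul, Nat.sub_zero] at this
      exact this

/-- the relation satisfied by the root of `extPoly` -/
theorem extPoly_root_rel (P : PosStructure K) (e : K) (m : ℕ) (hm : (P.aug e).toNat = m) :
    ∑ j ∈ Finset.range (m + 1), ((-1 : K) ^ j * LambdaOps.lam j e) •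
      (AdjoinRoot.root (KRR.extPoly P e)) ^ (m - j) = 0 := by
  have h := AdjoinRoot.eval₂_root (KRR.extPoly P e)
  have hpe : KRR.extPoly P e = ∑ i ∈ Finset.range (m + 1),
      Polynomial.C ((-1 : K) ^ i * LambdaOps.lam i e) * Polynomial.X ^ (m - i) := by
    unfold KRR.extPoly
    rw [hm]
  rw [hpe, Polynomial.eval₂_finsetSum] at h
  rw [← hpe] at h
  rw [← h]
  apply Finset.sum_congr rfl
  intro j _
  rw [Polynomial.eval₂_mul, Polynomial.eval₂_C, Polynomial.eval₂_pow, Polynomial.eval₂_X,
    Algebra.smul_def, AdjoinRoot.algebraMap_eq]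

/-- a functional on the elementary extension with `f(ℓ^i) = σ^i(e)` for `i ≤ r` has this
property for all `i` -/
theorem functional_root_pow (P : PosStructure K) (e : K) (he : e ∈ P.pos) (r : ℕ)
    (hr : P.aug e = r + 1)
    (f : AdjoinRoot (KRR.extPoly P e) →ₗ[K] K)
    (hf : ∀ i : ℕ, i ≤ r → f (AdjoinRoot.root (KRR.extPoly P e) ^ i) = KRR.sigma i e) :
    ∀ i : ℕ, f (AdjoinRoot.root (KRR.extPoly P e) ^ i) = KRR.sigma i e := by
  classical
  set ℓ := AdjoinRoot.root (KRR.extPoly P e) with hℓ
  set m := r + 1 with hmdef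
  have hm : (P.aug e).toNat = m := by rw [hr]; omega
  set c : ℕ → K := fun j => (-1 : K) ^ j * LambdaOps.lam j e with hc
  have hc0 : c 0 = 1 := by simp [hc, LambdaOps.lam_zero]
  have hlam0 : ∀ j, m < j → LambdaOps.lam j e = 0 := by
    intro j hj
    apply P.lam_eq_zero e he
    rw [hr]
    have : (m : ℤ) < (j : ℤ) := by exact_mod_cast hj
    rw [hmdef] at this
    push_cast at this
    linarith
  have hroot : ∑ j ∈ Finset.range (m + 1), c j • ℓ ^ (m - j) = 0 := extPoly_root_rel P e m hm
  have hd := rec_unique m c hc0 (fun n => f (ℓ ^ n) - KRR.sigma n e)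
    (fun n hn => by
      have : n ≤ r := by omega
      simp only [hf n this, sub_self])
    (fun n hn => by
      have h1 : ∑ j ∈ Finset.range (m + 1), c j * f (ℓ ^ (n - j)) = 0 := by
        have : ∑ j ∈ Finset.range (m + 1), c j * f (ℓ ^ (n - j)) =
            f (ℓ ^ (n - m) * ∑ j ∈ Finset.range (m + 1), c j • ℓ ^ (m - j)) := by
          rw [Finset.mul_sum, map_sum]
          apply Finset.sum_congr rfl
          intro j hj
          have hj' : j ≤ m := by
            have := Finset.mem_range.1 hj
            omega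
          rw [mul_smul_comm, map_smul, smul_eq_mul, ← pow_add]
          congr 3
          omega
        rw [this, hroot, mul_zero, map_zero]
      have h2 := sigma_rec_trunc e m hlam0 n hn
      have hn0 : n ≠ 0 := by omega
      rw [if_neg hn0] at h2
      simp only [mul_sub, Finset.sum_sub_distrib]
      rw [h1, h2, sub_zero])
  intro i
  exact sub_eq_zero.1 (hd i)

end Groth.Agent.H41
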