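import Groth.Agent.H41.Sigma

set_option autoImplicit false
universe u

namespace Groth.Agent.H41

open PowerSeries Finset LambdaRing

variable {K : Type u} [CommRing K] [LambdaOps K]

/-- `ε(σ_t(e)) = (1 - t)^{-(r+1)}` -/
theorem map_aug_sigmaSeries (P : PosStructure K) (hK : HasSplitting K P) (e : K) (he : e ∈ P.pos)
    (r : ℕ) (hr : P.aug e = r + 1) :
    PowerSeries.map P.aug (KRR.sigmaSeries e) = (PowerSeries.invOneSubPow ℤ (r + 1)).val := by
  classical
  have hlam := map_aug_lamSeries P hK e he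
  have hnat : (P.aug e).toNat = r + 1 := by rw [hr]; omega
  rw [hnat] at hlam
  have h1 : KRR.sigmaSeries e * PowerSeries.rescale (-1 : K) (lamSeries e) = 1 := by
    rw [mul_comm]
    exact rescale_lamSeries_mul_sigmaSeries e
  have h2 : PowerSeries.map P.aug (KRR.sigmaSeries e) *
      PowerSeries.map P.aug (PowerSeries.rescale (-1 : K) (lamSeries e)) = 1 := by
    rw [← map_mul, h1, map_one]
  have h3 : PowerSeries.map P.aug (PowerSeries.rescale (-1 : K) (lamSeries e)) =
      (1 - PowerSeries.X : PowerSeries ℤ) ^ (r + 1) := by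
    have : PowerSeries.map P.aug (PowerSeries.rescale (-1 : K) (lamSeries e)) =
        PowerSeries.rescale (-1 : ℤ) (PowerSeries.map P.aug (lamSeries e)) := by
      ext i
      simp [PowerSeries.coeff_rescale, PowerSeries.coeff_map]
    rw [this, hlam, map_pow, map_add, map_one, PowerSeries.rescale_X]
    congr 1
    simp [sub_eq_add_neg]
  rw [h3] at h2
  have hinv : (PowerSeries.invOneSubPow ℤ (r + 1)).val * (1 - PowerSeries.X : PowerSeries ℤ) ^ (r + 1) = 1 :=
    (PowerSeries.invOneSubPow ℤ (r + 1)).val_inv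
  calc PowerSeries.map P.aug (KRR.sigmaSeries e)
      = PowerSeries.map P.aug (KRR.sigmaSeries e) *
          ((1 - PowerSeries.X : PowerSeries ℤ) ^ (r + 1) * (PowerSeries.invOneSubPow ℤ (r + 1)).val) := by
        rw [mul_comm ((1 - PowerSeries.X : PowerSeries ℤ) ^ (r + 1)), hinv, mul_one]
    _ = (PowerSeries.invOneSubPow ℤ (r + 1)).val := by
        rw [← mul_assoc, h2, one_mul]

theorem coeff_one_sub_X_pow (r a : ℕ) :
    PowerSeries.coeff a ((1 - PowerSeries.X : PowerSeries ℤ) ^ r) = (-1) ^ a * (r.choose a : ℤ) := by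
  have h : (1 - PowerSeries.X : PowerSeries ℤ) ^ r =
      PowerSeries.rescale (-1 : ℤ) (((1 + Polynomial.X : Polynomial ℤ) ^ r : Polynomial ℤ) : PowerSeries ℤ) := by
    rw [Polynomial.coe_pow, map_pow]
    congr 1
    simp [PowerSeries.rescale_X, sub_eq_add_neg]
  rw [h, PowerSeries.coeff_rescale, Polynomial.coeff_coe, Polynomial.coeff_one_add_X_pow]

/-- the binomial identity `Σ_i (-1)^(r-i) C(r,i) C(r+i,i) = 1` -/
theorem alternating_choose_identity (r : ℕ) :
    ∑ i ∈ range (r + 1), (-1 : ℤ) ^ (r - i) * (r.choose i : ℤ) * ((r + i).choose i : ℤ) = 1 := by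
  have h1 : (1 - PowerSeries.X : PowerSeries ℤ) ^ r * (PowerSeries.invOneSubPow ℤ (r + 1)).val =
      (PowerSeries.mk 1 : PowerSeries ℤ) := by
    have hinv : (PowerSeries.invOneSubPow ℤ (r + 1)).val * (1 - PowerSeries.X : PowerSeries ℤ) ^ (r + 1) = 1 :=
      (PowerSeries.invOneSubPow ℤ (r + 1)).val_inv
    have hone := PowerSeries.mk_one_mul_one_sub_eq_one ℤ
    calc (1 - PowerSeries.X : PowerSeries ℤ) ^ r * (PowerSeries.invOneSubPow ℤ (r + 1)).val
        = (1 - PowerSeries.X : PowerSeries ℤ) ^ r * (PowerSeries.invOneSubPow ℤ (r + 1)).val *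
            ((PowerSeries.mk 1 : PowerSeries ℤ) * (1 - PowerSeries.X)) := by rw [hone, mul_one]
      _ = (PowerSeries.mk 1 : PowerSeries ℤ) *
            ((PowerSeries.invOneSubPow ℤ (r + 1)).val * (1 - PowerSeries.X : PowerSeries ℤ) ^ (r + 1)) := by
          rw [pow_succ]; ring
      _ = PowerSeries.mk 1 := by rw [hinv, mul_one]
  have h2 := congrArg (PowerSeries.coeff r) h1
  rw [PowerSeries.coeff_mul, Finset.Nat.sum_antidiagonal_eq_sum_range_succ_mk, PowerSeries.coeff_mk] at h2
  simp only [Pi.one_apply] at h2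
  calc ∑ i ∈ range (r + 1), (-1 : ℤ) ^ (r - i) * (r.choose i : ℤ) * ((r + i).choose i : ℤ)
      = ∑ i ∈ range (r + 1), (PowerSeries.coeff (r - i)) ((1 - PowerSeries.X : PowerSeries ℤ) ^ r) *
          (PowerSeries.coeff (r - (r - i))) (PowerSeries.invOneSubPow ℤ (r + 1)).val := by
        apply Finset.sum_congr rfl
        intro i hi
        have hi' : i ≤ r := by
          have := Finset.mem_range.1 hi
          omega
        rw [coeff_one_sub_X_pow, PowerSeries.invOneSubPow_val_succ_eq_mk_add_choose, PowerSeries.coeff_mk]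
        have e1 : r - (r - i) = i := by omega
        rw [e1, Nat.choose_symm hi']
        congr 1
        norm_cast
        rw [Nat.add_comm r i, Nat.choose_symm_add]
    _ = ∑ x ∈ range (r + 1), (PowerSeries.coeff x) ((1 - PowerSeries.X : PowerSeries ℤ) ^ r) *
          (PowerSeries.coeff (r - x)) (PowerSeries.invOneSubPow ℤ (r + 1)).val :=
        Finset.sum_flip (fun x => (PowerSeries.coeff x) ((1 - PowerSeries.X : PowerSeries ℤ) ^ r) *
          (PowerSeries.coeff (r - x)) (PowerSeries.invOneSubPow ℤ (r + 1)).val)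
    _ = 1 := h2

end Groth.Agent.H41
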