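import Mathlib
import Groth.Agent.H22.SymLoc

/-!
# Base change of symmetric algebras, as a universal property (helper41)

`existsUnique_of_baseChange`: if `ρ : M → M'` is `φ`-semilinear and exhibits `M'` as `R' ⊗_R M`, then
`Sym_{R'} M'` with `symMap φ ρ` and `algebraMap` is the pushout of `R' ← R → Sym_R M` in commutative rings.
-/

set_option autoImplicit false
set_option linter.style.haveILetI false
universe u
open scoped TensorProduct

namespace Groth.Agent.H41.SymBC

open SymmetricAlgebra Groth.Agent.H22.SymLoc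

variable {R R' : Type u} [CommRing R] [CommRing R'] {M M' : Type u} [AddCommGroup M] [Module R M]
  [AddCommGroup M'] [Module R' M']
  (φ : R →+* R') (ρ : M →+ M') (hρ : ∀ (r : R) (m : M), ρ (r • m) = φ r • ρ m)

theorem existsUnique_of_baseChange
    (hbc : letI := φ.toAlgebra; ∃ E : M' ≃ₗ[R'] R' ⊗[R] M, ∀ x : M, E (ρ x) = (1 : R') ⊗ₜ[R] x)
    {T : Type u} [CommRing T] (a : R' →+* T) (b : SymmetricAlgebra R M →+* T)
    (hab : ∀ r : R, a (φ r) = b (algebraMap R (SymmetricAlgebra R M) r)) :
    ∃! c : SymmetricAlgebra R' M' →+* T,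
      (∀ r' : R', c (algebraMap R' (SymmetricAlgebra R' M') r') = a r') ∧
        ∀ s : SymmetricAlgebra R M, c (symMap φ ρ hρ s) = b s := by
  letI := φ.toAlgebra
  obtain ⟨E, hE⟩ := hbc
  letI : Algebra R' T := a.toAlgebra
  letI : Algebra R T := (a.comp φ).toAlgebra
  haveI : IsScalarTower R R' T := IsScalarTower.of_algebraMap_eq (fun r => rfl)
  let ℓ₀ : M →ₗ[R] T :=
    { toFun := fun m => b (ι R M m)
      map_add' := fun x y => by rw [map_add, map_add]
      map_smul' := fun r m => by
        rw [map_smul, Algebra.smul_def, map_mul, ← hab, RingHom.id_apply, Algebra.smul_def]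
        rfl }
  let ℓ : M' →ₗ[R'] T := (ℓ₀.liftBaseChange R').comp E.toLinearMap
  have hℓρ : ∀ m : M, ℓ (ρ m) = b (ι R M m) := by
    intro m
    show ℓ₀.liftBaseChange R' (E (ρ m)) = _
    rw [hE, LinearMap.liftBaseChange_one_tmul]
    rfl
  have hspan : Submodule.span R' (Set.range ρ) = ⊤ := by
    refine top_unique ?_
    intro m' _
    have key : ∀ z : R' ⊗[R] M, E.symm z ∈ Submodule.span R' (Set.range ρ) := by
      intro z
      induction z using TensorProduct.induction_on with
      | zero => rw [map_zero]; exact zero_mem _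
      | tmul r' m =>
        have h1 : r' ⊗ₜ[R] m = r' • ((1 : R') ⊗ₜ[R] m) := by
          rw [TensorProduct.smul_tmul', smul_eq_mul, mul_one]
        rw [h1, map_smul, ← hE, LinearEquiv.symm_apply_apply]
        exact Submodule.smul_mem _ _ (Submodule.subset_span ⟨m, rfl⟩)
      | add x y hx hy => rw [map_add]; exact add_mem hx hy
    have := key (E m')
    rwa [LinearEquiv.symm_apply_apply] at this
  let c : SymmetricAlgebra R' M' →+* T :=
    (SymmetricAlgebra.lift (R := R') (M := M') (A := T) ℓ).toRingHom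
  have hc1 : ∀ r' : R', c (algebraMap R' (SymmetricAlgebra R' M') r') = a r' := fun r' =>
    AlgHom.commutes (SymmetricAlgebra.lift (R := R') (M := M') (A := T) ℓ) r'
  have hcι : ∀ m' : M', c (ι R' M' m') = ℓ m' := fun m' => lift_ι_apply _ m'
  have hc2 : c.comp (symMap φ ρ hρ) = b := by
    refine ringHom_ext (fun r => ?_) (fun m => ?_)
    · rw [RingHom.comp_apply, symMap_algebraMap, hc1, hab]
    · rw [RingHom.comp_apply, symMap_ι, hcι, hℓρ]
  refine ⟨c, ⟨hc1, fun s => congrArg (fun k : SymmetricAlgebra R M →+* T => k s) hc2⟩, ?_⟩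
  rintro c' ⟨h1, h2⟩
  refine ringHom_ext (fun r' => by rw [h1, hc1]) (fun m' => ?_)
  have hm' : m' ∈ Submodule.span R' (Set.range ρ) := by rw [hspan]; trivial
  induction hm' using Submodule.span_induction with
  | mem x hx =>
    obtain ⟨m, rfl⟩ := hx
    have e1 := h2 (ι R M m)
    rw [symMap_ι] at e1
    rw [e1, hcι, hℓρ]
  | zero => rw [map_zero, map_zero, map_zero]
  | add x y _ _ hx hy => rw [map_add, map_add, map_add, hx, hy]
  | smul r' x _ hx =>
    rw [map_smul, Algebra.smul_def, map_mul, map_mul, hx, h1, hc1]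

end Groth.Agent.H41.SymBC
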