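import Mathlib
import Groth.Agent.H22.SymLoc
import Groth.Agent.H41.SymBC

/-!
# Base change of symmetric algebras as a pushout square of commutative rings (helper41)
-/

set_option autoImplicit false
set_option linter.style.haveILetI false
universe u
open scoped TensorProduct
open CategoryTheory CategoryTheory.Limits

namespace Groth.Agent.H41.SymBC

open SymmetricAlgebra Groth.Agent.H22.SymLoc

theorem isPushout_of_sym {R R' AU BU : CommRingCat.{u}} (f : R ⟶ R') (sA : R ⟶ AU) (sB : R' ⟶ BU)
    (w : AU ⟶ BU) (comm : f ≫ sB = sA ≫ w)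
    {M M' : Type u} [AddCommGroup M] [Module R M] [AddCommGroup M'] [Module R' M']
    (ρ : M →+ M') (hρ : ∀ (r : R) (m : M), ρ (r • m) = f.hom r • ρ m)
    (hbc : letI := f.hom.toAlgebra; ∃ E : M' ≃ₗ[R'] R' ⊗[R] M, ∀ x : M, E (ρ x) = (1 : R') ⊗ₜ[R] x)
    (θA : SymmetricAlgebra R M →+* AU) (hθA : Function.Bijective θA)
    (θB : SymmetricAlgebra R' M' →+* BU) (hθB : Function.Bijective θB)
    (hA1 : ∀ r : R, θA (algebraMap R (SymmetricAlgebra R M) r) = sA.hom r)
    (hB1 : ∀ r' : R', θB (algebraMap R' (SymmetricAlgebra R' M') r') = sB.hom r')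
    (hKι : ∀ m : M, w.hom (θA (ι R M m)) = θB (ι R' M' (ρ m))) :
    IsPushout f sA sB w := by
  have hK : w.hom.comp θA = θB.comp (symMap f.hom ρ hρ) := by
    refine ringHom_ext (fun r => ?_) (fun m => ?_)
    · rw [RingHom.comp_apply, RingHom.comp_apply, symMap_algebraMap, hA1, hB1]
      exact (congrArg (fun k : R ⟶ BU => k.hom r) comm).symm
    · rw [RingHom.comp_apply, RingHom.comp_apply, symMap_ι, hKι]
  have hKs : ∀ s, w.hom (θA s) = θB (symMap f.hom ρ hρ s) := fun s =>
    congrArg (fun k : SymmetricAlgebra R M →+* BU => k s) hK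
  let eB : SymmetricAlgebra R' M' ≃+* BU := RingEquiv.ofBijective θB hθB
  have heB : ∀ z, eB z = θB z := fun z => rfl
  have key : ∀ s : PushoutCocone f sA, ∃! c : SymmetricAlgebra R' M' →+* s.pt,
      (∀ r' : R', c (algebraMap R' (SymmetricAlgebra R' M') r') = s.inl.hom r') ∧
        ∀ y : SymmetricAlgebra R M, c (symMap f.hom ρ hρ y) = (s.inr.hom.comp θA) y := by
    intro s
    refine existsUnique_of_baseChange f.hom ρ hρ hbc s.inl.hom (s.inr.hom.comp θA) (fun r => ?_)
    rw [RingHom.comp_apply, hA1]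
    exact congrArg (fun k : R ⟶ s.pt => k.hom r) s.condition
  refine ⟨⟨comm⟩, ⟨PushoutCocone.IsColimit.mk _
    (fun s => CommRingCat.ofHom ((key s).exists.choose.comp eB.symm.toRingHom)) ?_ ?_ ?_⟩⟩
  · intro s
    ext r'
    have h1 := (key s).exists.choose_spec.1 r'
    show (key s).exists.choose (eB.symm (sB.hom r')) = s.inl.hom r'
    rw [← hB1, ← heB, RingEquiv.symm_apply_apply, h1]
  · intro s
    ext x
    obtain ⟨y, rfl⟩ := hθA.2 x
    have h2 := (key s).exists.choose_spec.2 y
    show (key s).exists.choose (eB.symm (w.hom (θA y))) = s.inr.hom (θA y)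
    rw [hKs, ← heB, RingEquiv.symm_apply_apply, h2]
    rfl
  · intro s m hm1 hm2
    have huniq := (key s).unique (y₁ := m.hom.comp eB.toRingHom) (y₂ := (key s).exists.choose) ?_
      (key s).exists.choose_spec
    · ext z
      show m.hom z = (key s).exists.choose (eB.symm z)
      rw [← huniq]
      show m.hom z = m.hom (eB (eB.symm z))
      rw [RingEquiv.apply_symm_apply]
    · refine ⟨fun r' => ?_, fun y => ?_⟩
      · show m.hom (θB (algebraMap R' _ r')) = _
        rw [hB1]
        exact congrArg (fun k : R' ⟶ s.pt => k.hom r') hm1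
      · show m.hom (θB (symMap f.hom ρ hρ y)) = _
        rw [← hKs]
        exact congrArg (fun k : AU ⟶ s.pt => k.hom (θA y)) hm2

end Groth.Agent.H41.SymBC
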