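import Groth.Agent.H22.SymConstr
import Groth.Prelude.Def_RelProj2

/-!
# The GRADED symmetric algebra of a quasi-coherent module (helper41)

* `gradedAlgebra`: `SymmetricAlgebra R M` is graded by the powers of the range of `ι`.
* `transportGradedRing`: transport of a grading along a bijective ring homomorphism.
* `exists_isGrSymAlg`: for a quasi-coherent `O_S`-module `E` there are a quasi-coherent graded
  algebra `𝒮 : RelProj.QCGrAlg S` and `j : E ⟶ 𝒮` with `RelProj.IsGrSymAlg E 𝒮 j`.
-/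

set_option autoImplicit false
set_option linter.style.haveILetI false
set_option linter.unusedSectionVars false
universe u
open CategoryTheory CategoryTheory.Limits AlgebraicGeometry TopologicalSpace Opposite
open scoped DirectSum

noncomputable section

namespace Groth.Agent.H41.SymGraded

open SymmetricAlgebra

section Alg

variable (R M : Type*) [CommRing R] [AddCommGroup M] [Module R M]

/-- The graded pieces of the symmetric algebra: the powers of the range of `ι`. -/
abbrev gr (i : ℕ) : Submodule R (SymmetricAlgebra R M) := LinearMap.range (ι R M) ^ i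

instance gradedMonoid : SetLike.GradedMonoid (gr R M) :=
  Submodule.nat_power_gradedMonoid (LinearMap.range (ι R M))

/-- `ι` into the direct sum of the graded pieces. -/
def gι : M →ₗ[R] ⨁ i : ℕ, gr R M i :=
  DirectSum.lof R ℕ (fun i => gr R M i) 1 ∘ₗ
    (ι R M).codRestrict _ fun m => by simpa only [pow_one] using LinearMap.mem_range_self _ m

theorem gι_apply (m : M) :
    gι R M m = DirectSum.of (fun i : ℕ => gr R M i) 1
      ⟨ι R M m, by simpa only [pow_one] using LinearMap.mem_range_self _ m⟩ :=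
  rfl

/-- The lift of `gι` to the symmetric algebra. -/
def liftι : SymmetricAlgebra R M →ₐ[R] ⨁ i : ℕ, gr R M i :=
  lift (gι R M)

theorem liftι_eq (i : ℕ) (x : gr R M i) :
    liftι R M x = DirectSum.of (fun i => gr R M i) i x := by
  obtain ⟨x, hx⟩ := x
  dsimp only [Subtype.coe_mk]
  induction hx using Submodule.pow_induction_on_left' with
  | algebraMap r => simp_rw [AlgHom.commutes, DirectSum.algebraMap_apply]; rfl
  | add _ _ _ _ _ ihx ihy => simp_rw [map_add, ihx, ihy, ← map_add]; rfl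
  | mem_mul _ hm _ _ _ ih =>
      obtain ⟨_, rfl⟩ := hm
      simp_rw [map_mul, ih, liftι, lift_ι_apply, gι_apply R M, DirectSum.of_mul_of]
      exact DirectSum.of_eq_of_gradedMonoid_eq (Sigma.subtype_ext (add_comm _ _) rfl)

/-- The symmetric algebra is graded by the powers of the range of `ι`. -/
instance gradedAlgebra : GradedAlgebra (gr R M) :=
  GradedAlgebra.ofAlgHom _ (liftι R M)
    (by
      apply SymmetricAlgebra.algHom_ext
      ext m
      show DirectSum.coeAlgHom (gr R M) (lift (gι R M) (ι R M m)) = ι R M m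
      rw [lift_ι_apply, gι_apply R M, DirectSum.coeAlgHom_of])
    (by apply liftι_eq R M)

end Alg

section Transport

variable {R S A : Type*} [CommRing R] [CommRing S] [Algebra R S] [CommRing A]
  (𝒢 : ℕ → Submodule R S) [GradedAlgebra 𝒢] (θ : S →+* A)

/-- The transported graded pieces. -/
def tdeg (d : ℕ) : AddSubgroup A := (𝒢 d).toAddSubgroup.map θ.toAddMonoidHom

theorem mem_tdeg {d : ℕ} {a : A} : a ∈ tdeg 𝒢 θ d ↔ ∃ s ∈ 𝒢 d, θ s = a := Iff.rfl

instance tGradedMonoid : SetLike.GradedMonoid (tdeg 𝒢 θ) where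
  one_mem := ⟨1, (SetLike.GradedOne.one_mem : (1 : S) ∈ 𝒢 0), map_one θ⟩
  mul_mem := by
    rintro i j _ _ ⟨a, ha, rfl⟩ ⟨b, hb, rfl⟩
    exact ⟨a * b, (SetLike.GradedMul.mul_mem (show a ∈ 𝒢 i from ha) (show b ∈ 𝒢 j from hb) :
      a * b ∈ 𝒢 (i + j)), map_mul θ a b⟩

/-- `θ` on a graded piece. -/
def tmap (d : ℕ) : 𝒢 d →+ tdeg 𝒢 θ d where
  toFun s := ⟨θ (s : S), ⟨(s : S), s.2, rfl⟩⟩
  map_zero' := Subtype.ext (map_zero θ)
  map_add' a b := Subtype.ext (map_add θ (a : S) (b : S))

theorem isInternal_tdeg (hθ : Function.Bijective θ) : DirectSum.IsInternal (tdeg 𝒢 θ) := by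
  classical
  have hsq : ∀ w : ⨁ i, 𝒢 i, DirectSum.coeAddMonoidHom (tdeg 𝒢 θ) (DirectSum.map (tmap 𝒢 θ) w) =
      θ (DirectSum.coeAddMonoidHom 𝒢 w) := by
    intro w
    induction w using DirectSum.induction_on with
    | zero => simp
    | of i x =>
      rw [DirectSum.map_of, DirectSum.coeAddMonoidHom_of, DirectSum.coeAddMonoidHom_of]
      rfl
    | add a b ha hb => rw [map_add, map_add, map_add, map_add, ha, hb]
  have hmp : Function.Surjective (DirectSum.map (tmap 𝒢 θ)) := by
    rw [DirectSum.map_surjective]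
    rintro i ⟨_, s, hs, rfl⟩
    exact ⟨⟨s, hs⟩, rfl⟩
  have hint : Function.Bijective (DirectSum.coeAddMonoidHom 𝒢) :=
    DirectSum.Decomposition.isInternal 𝒢
  constructor
  · rw [injective_iff_map_eq_zero]
    intro z hz
    obtain ⟨w, rfl⟩ := hmp z
    rw [hsq] at hz
    have h1 : DirectSum.coeAddMonoidHom 𝒢 w = 0 := hθ.1 (by rw [hz, map_zero])
    have hw : w = 0 := hint.1 (by rw [h1, map_zero])
    rw [hw, map_zero]
  · intro a
    obtain ⟨s, rfl⟩ := hθ.2 a
    obtain ⟨w, rfl⟩ := hint.2 s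
    exact ⟨DirectSum.map (tmap 𝒢 θ) w, hsq w⟩

/-- Transport of a grading along a bijective ring homomorphism. -/
@[reducible] def transportGradedRing (hθ : Function.Bijective θ) : GradedRing (tdeg 𝒢 θ) :=
  { tGradedMonoid 𝒢 θ, (isInternal_tdeg 𝒢 θ hθ).chooseDecomposition with }

end Transport

section Sheaf

open Groth.Agent.H22.SymConstr Groth.Agent.H22.SymLoc Groth.Agent.H8

variable {S : Scheme.{u}} (E : S.Modules)

theorem symRes_mem_gr {U V : S.Opens} (h : V ≤ U) {d : ℕ} {s : Sym E U}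
    (hs : s ∈ gr Γ(S, U) Γ(E, U) d) : symRes E h s ∈ gr Γ(S, V) Γ(E, V) d := by
  induction hs using Submodule.pow_induction_on_left' with
  | algebraMap r =>
    rw [symRes_algebraMap]
    show _ ∈ LinearMap.range (ι Γ(S, V) Γ(E, V)) ^ 0
    rw [pow_zero]
    exact Submodule.algebraMap_mem _
  | add x y i hx hy ihx ihy =>
    rw [map_add]
    exact add_mem ihx ihy
  | mem_mul m hm i x hx ih =>
    obtain ⟨m₀, rfl⟩ := hm
    rw [map_mul, symRes_ι]
    show _ ∈ LinearMap.range (ι Γ(S, V) Γ(E, V)) ^ (i + 1)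
    rw [pow_succ']
    exact Submodule.mul_mem_mul (LinearMap.mem_range_self _ _) ih

variable [E.IsQuasicoherent]

/-- **The graded symmetric algebra of a quasi-coherent module exists.** -/
theorem exists_isGrSymAlg :
    ∃ (𝒮 : RelProj.QCGrAlg S) (j : E ⟶ 𝒮.toModule), RelProj.IsGrSymAlg E 𝒮 j := by
  obtain ⟨A, j, hsym, hbij⟩ := exists_isSymAlg_bijective E
  let D : ∀ (U : S.Opens), IsAffineOpen U → ℕ → AddSubgroup (A.presheaf.obj (op U)) :=
    fun U _ d => tdeg (gr Γ(S, U) Γ(E, U)) (theta A j U) d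
  have hgraded : ∀ (U : S.Opens) (hU : IsAffineOpen U), GradedRing (D U hU) := fun U hU =>
    transportGradedRing (gr Γ(S, U) Γ(E, U)) (theta A j U) (hbij U hU)
  have hmap : ∀ {U V : S.Opens} (hU : IsAffineOpen U) (hV : IsAffineOpen V) (i : V ≤ U) {d : ℕ}
      {x : A.presheaf.obj (op U)}, x ∈ D U hU d →
        (A.presheaf.map (homOfLE i).op).hom x ∈ D V hV d := by
    rintro U V hU hV i d _ ⟨s, hs, rfl⟩
    refine ⟨symRes E i s, symRes_mem_gr E i hs, ?_⟩
    exact congrArg (fun k : Sym E U →+* A.presheaf.obj (op V) => k s) (theta_res A j i)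
  have hstr : ∀ (U : S.Opens) (hU : IsAffineOpen U) (r : Γ(S, U)),
      (A.str.app (op U)).hom r ∈ D U hU 0 := by
    intro U hU r
    refine ⟨algebraMap Γ(S, U) (Sym E U) r, ?_, theta_algebraMap A j U r⟩
    show algebraMap Γ(S, U) (Sym E U) r ∈ LinearMap.range (ι Γ(S, U) Γ(E, U)) ^ 0
    rw [pow_zero]
    exact Submodule.algebraMap_mem _
  let 𝒮 : RelProj.QCGrAlg S :=
    { toQCAlg := A
      deg := D
      graded := hgraded
      map_mem := fun hU hV i => fun hx => hmap hU hV i hx
      str_mem := hstr }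
  refine ⟨𝒮, j, hsym, fun U hU x => ?_⟩
  refine ⟨ι Γ(S, U) Γ(E, U) x, ?_, theta_ι A j U x⟩
  show ι Γ(S, U) Γ(E, U) x ∈ LinearMap.range (ι Γ(S, U) Γ(E, U)) ^ 1
  rw [pow_one]
  exact LinearMap.mem_range_self _ _

end Sheaf

end Groth.Agent.H41.SymGraded
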