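import Groth.Agent.H41.SymGraded
import Groth.Agent.H41.RelTildeTN2

/-!
# The graded symmetric algebra: explicit grading, generation, induced graded maps (helper41)

* `exists_isGrSymAlg_deg`: the graded symmetric algebra of `SymGraded.exists_isGrSymAlg` together
  with the description of its graded pieces as the images of the symmetric powers.
* `isGenDegOne_of_isGrSymAlg`: a graded symmetric algebra is generated in degree one.
* `exists_gradedHom`: a module map `E ⟶ 𝒮` into degree one extends to a graded homomorphism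
  `Sym(E) ⟶ 𝒮`.
* `irrelevant_le_map`: if moreover `E ⟶ 𝒮_1` is onto and `𝒮` is generated in degree one, the
  irrelevant ideal of `𝒮` is generated by the image of that of `Sym(E)`.
-/

set_option autoImplicit false
set_option linter.style.haveILetI false
set_option linter.unusedSectionVars false
universe u
open CategoryTheory CategoryTheory.Limits AlgebraicGeometry TopologicalSpace Opposite
open scoped DirectSum HomogeneousIdeal

noncomputable section

namespace Groth.Agent.H41.SymGraded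

open SymmetricAlgebra
open Groth.Agent.H22 Groth.Agent.H22.SymConstr Groth.Agent.H22.SymLoc Groth.Agent.H8

variable {S : Scheme.{u}} (E : S.Modules) [E.IsQuasicoherent]

/-- The graded symmetric algebra of a quasi-coherent module, with its graded pieces described. -/
theorem exists_isGrSymAlg_deg :
    ∃ (𝒮 : RelProj.QCGrAlg S) (j : E ⟶ 𝒮.toModule), RelProj.IsGrSymAlg E 𝒮 j ∧
      ∀ (U : S.Opens) (hU : IsAffineOpen U) (d : ℕ) (x : 𝒮.presheaf.obj (op U)),
        x ∈ 𝒮.deg U hU d ↔ ∃ s ∈ gr Γ(S, U) Γ(E, U) d, theta 𝒮.toQCAlg j U s = x := by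
  obtain ⟨A, j, hsym, hbij⟩ := exists_isSymAlg_bijective E
  let D : ∀ (U : S.Opens), IsAffineOpen U → ℕ → AddSubgroup (A.presheaf.obj (op U)) :=
    fun U _ d => tdeg (gr Γ(S, U) Γ(E, U)) (theta A j U) d
  have hgraded : ∀ (U : S.Opens) (hU : IsAffineOpen U), GradedRing (D U hU) := fun U hU =>
    transportGradedRing (gr Γ(S, U) Γ(E, U)) (theta A j U) (hbij U hU)
  have hmap : ∀ {U V : S.Opens} (hU : IsAffineOpen U) (hV : IsAffineOpen V) (i : V ≤ U) {d : ℕ}
      {x : A.presheaf.obj (op U)}, x ∈ D U hU d →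
        (A.presheaf.map (homOfLE i).op).hom x ∈ D V hV d := by
    rintro U V hU hV i d _ ⟨s, hs, rfl⟩
    refine ⟨symRes E i s, symRes_mem_gr E i hs, ?_⟩
    exact congrArg (fun k : Sym E U →+* A.presheaf.obj (op V) => k s) (theta_res A j i)
  have hstr : ∀ (U : S.Opens) (hU : IsAffineOpen U) (r : Γ(S, U)),
      (A.str.app (op U)).hom r ∈ D U hU 0 := by
    intro U hU r
    refine ⟨algebraMap Γ(S, U) (Sym E U) r, ?_, theta_algebraMap A j U r⟩
    show algebraMap Γ(S, U) (Sym E U) r ∈ LinearMap.range (ι Γ(S, U) Γ(E, U)) ^ 0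
    rw [pow_zero]
    exact Submodule.algebraMap_mem _
  let 𝒮 : RelProj.QCGrAlg S :=
    { toQCAlg := A
      deg := D
      graded := hgraded
      map_mem := fun hU hV i => fun hx => hmap hU hV i hx
      str_mem := hstr }
  refine ⟨𝒮, j, ⟨hsym, fun U hU x => ?_⟩, fun U hU d x => Iff.rfl⟩
  refine ⟨ι Γ(S, U) Γ(E, U) x, ?_, theta_ι A j U x⟩
  show ι Γ(S, U) Γ(E, U) x ∈ LinearMap.range (ι Γ(S, U) Γ(E, U)) ^ 1
  rw [pow_one]
  exact LinearMap.mem_range_self _ _

variable {E}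

/-- A graded symmetric algebra is generated in degree one. -/
theorem isGenDegOne_of_isGrSymAlg (𝒯 : RelProj.QCGrAlg S) (jT : E ⟶ 𝒯.toModule)
    (hT : RelProj.IsGrSymAlg E 𝒯 jT) : 𝒯.IsGenDegOne := by
  intro U hU
  rw [eq_top_iff]
  rintro a -
  obtain ⟨s, rfl⟩ := (theta_bijective E 𝒯.toQCAlg jT hT.1 U hU).2 a
  induction s using SymmetricAlgebra.induction with
  | algebraMap r =>
    rw [theta_algebraMap]
    exact Subring.subset_closure (Or.inl (𝒯.str_mem U hU r))
  | ι m =>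
    rw [theta_ι]
    exact Subring.subset_closure (Or.inr (hT.2 U hU m))
  | mul a b ha hb =>
    rw [map_mul]
    exact Subring.mul_mem _ ha hb
  | add a b ha hb =>
    rw [map_add]
    exact Subring.add_mem _ ha hb

/-- A module map into the degree-one part of a graded algebra extends to a graded homomorphism
out of the graded symmetric algebra. -/
theorem exists_gradedHom (𝒯 : RelProj.QCGrAlg S) (jT : E ⟶ 𝒯.toModule)
    (hT : RelProj.IsGrSymAlg E 𝒯 jT)
    (hdeg : ∀ (U : S.Opens) (hU : IsAffineOpen U) (d : ℕ) (x : 𝒯.presheaf.obj (op U)),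
      x ∈ 𝒯.deg U hU d ↔ ∃ s ∈ gr Γ(S, U) Γ(E, U) d, theta 𝒯.toQCAlg jT U s = x)
    (𝒮 : RelProj.QCGrAlg S) (u : E ⟶ 𝒮.toModule)
    (hu1 : ∀ (U : S.Opens) (hU : IsAffineOpen U) (x : Γ(E, U)), (u.app U) x ∈ 𝒮.deg U hU 1) :
    ∃ ubar : 𝒯.toQCAlg ⟶ 𝒮.toQCAlg, RelProj.IsGradedHom ubar ∧
      jT ≫ RelSpec.QCAlg.Hom.toModuleMap ubar = u := by
  obtain ⟨ubar, hju, -⟩ := hT.1 𝒮.toQCAlg u
  refine ⟨ubar, ?_, hju⟩
  have key : ∀ U : S.Opens,
      (ubar.hom.app (op U)).hom.comp (theta 𝒯.toQCAlg jT U) = theta 𝒮.toQCAlg u U := by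
    intro U
    refine ringHom_ext (fun r => ?_) (fun x => ?_)
    · rw [RingHom.comp_apply, theta_algebraMap, theta_algebraMap]
      exact congrArg (fun χ : S.presheaf ⟶ 𝒮.presheaf => (χ.app (op U)).hom r) ubar.comm
    · rw [RingHom.comp_apply, theta_ι, theta_ι, ← toModuleMap_app]
      exact congrArg (toB 𝒮.toQCAlg U) (congrArg (fun χ : E ⟶ 𝒮.toModule => χ.app U x) hju)
  intro U hU d x hx
  have hmem : ∀ (d : ℕ) (s : Sym E U), s ∈ gr Γ(S, U) Γ(E, U) d →
      theta 𝒮.toQCAlg u U s ∈ 𝒮.deg U hU d := by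
    intro d s hs
    induction hs using Submodule.pow_induction_on_left' with
    | algebraMap r =>
      rw [theta_algebraMap]
      exact 𝒮.str_mem U hU r
    | add x y i hx hy ihx ihy =>
      rw [map_add]
      exact add_mem ihx ihy
    | mem_mul m hm i x hx ih =>
      obtain ⟨m₀, rfl⟩ := hm
      rw [map_mul, theta_ι]
      have h1 := SetLike.mul_mem_graded
        (show toB 𝒮.toQCAlg U (u.app U m₀) ∈ 𝒮.deg U hU 1 from hu1 U hU m₀) ih
      rwa [add_comm] at h1
  obtain ⟨s, hs, rfl⟩ := (hdeg U hU d x).mp hx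
  have e : (ubar.hom.app (op U)).hom (theta 𝒯.toQCAlg jT U s) = theta 𝒮.toQCAlg u U s :=
    congrArg (fun k : Sym E U →+* 𝒮.presheaf.obj (op U) => k s) (key U)
  rw [e]
  exact hmem d s hs

/-- If `u : E ⟶ 𝒮_1` is onto and `𝒮` is generated in degree one, the induced graded homomorphism
`ū : Sym(E) ⟶ 𝒮` satisfies Mathlib's hypothesis on irrelevant ideals. -/
theorem irrelevant_le_map (𝒯 : RelProj.QCGrAlg S) (jT : E ⟶ 𝒯.toModule)
    (hT : RelProj.IsGrSymAlg E 𝒯 jT)
    (𝒮 : RelProj.QCGrAlg S) (h𝒮 : 𝒮.IsGenDegOne) (u : E ⟶ 𝒮.toModule)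
    (husurj : ∀ (U : S.Opens) (hU : IsAffineOpen U) (s : 𝒮.presheaf.obj (op U)),
      s ∈ 𝒮.deg U hU 1 → ∃ x : Γ(E, U), (u.app U) x = s)
    (ubar : 𝒯.toQCAlg ⟶ 𝒮.toQCAlg) (hubar : RelProj.IsGradedHom ubar)
    (hju : jT ≫ RelSpec.QCAlg.Hom.toModuleMap ubar = u)
    (U : S.Opens) (hU : IsAffineOpen U) :
    (𝒮.deg U hU)₊ ≤ ((𝒯.deg U hU)₊).map (RelProj.gradedHomAt ubar hubar U hU) := by
  have hgenU := Groth.Agent.H41.RelTildeTN2.irrelevant_eq_span_of_closure (𝒮.deg U hU) (h𝒮 U hU)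
  intro b hb
  have hb1 : b ∈ Ideal.span ((𝒮.deg U hU 1 : AddSubgroup _) : Set (𝒮.presheaf.obj (op U))) := by
    rw [← hgenU]; exact hb
  show b ∈ Ideal.map (RelProj.gradedHomAt ubar hubar U hU)
    ((HomogeneousIdeal.irrelevant (𝒯.deg U hU)).toIdeal)
  refine (Ideal.span_le).mpr ?_ hb1
  intro s hs
  obtain ⟨x, hx⟩ := husurj U hU s hs
  have hs' : s = RelProj.gradedHomAt ubar hubar U hU (toB 𝒯.toQCAlg U (jT.app U x)) := by
    rw [← hx]
    exact (congrArg (fun χ : E ⟶ 𝒮.toModule => χ.app U x) hju).symm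
  rw [hs']
  exact Ideal.mem_map_of_mem _
    (HomogeneousIdeal.mem_irrelevant_of_mem (𝒯.deg U hU) one_pos (hT.2 U hU x))

end Groth.Agent.H41.SymGraded
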