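import Groth.Agent.H41.SymGraded2
import Mathlib

/-!
# The graded pieces of an arbitrary graded symmetric algebra (helper41)

* `theta_mem_deg`: `theta` maps the `d`-th symmetric power into degree `d`.
* `mem_deg_iff_of_isGrSymAlg`: for ANY datum `RelProj.IsGrSymAlg E 𝒯 jT`, the degree-`d` part of
  `𝒯(U)` (`U` affine) is the image of the `d`-th symmetric power.
* `exists_app_eq_of_mem_deg_one`: in particular `jT : E(U) → 𝒯(U)_1` is onto.
-/

set_option autoImplicit false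
set_option linter.style.haveILetI false
set_option linter.unusedSectionVars false
universe u
open CategoryTheory CategoryTheory.Limits AlgebraicGeometry TopologicalSpace Opposite
open scoped DirectSum HomogeneousIdeal

noncomputable section

namespace Groth.Agent.H41.SymGraded

open SymmetricAlgebra
open Groth.Agent.H22 Groth.Agent.H22.SymConstr Groth.Agent.H22.SymLoc Groth.Agent.H8

variable {S : Scheme.{u}} {E : S.Modules} [E.IsQuasicoherent]

/-- `theta` maps the `d`-th symmetric power into degree `d`. -/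
theorem theta_mem_deg (𝒮 : RelProj.QCGrAlg S) (u : E ⟶ 𝒮.toModule)
    (hu1 : ∀ (U : S.Opens) (hU : IsAffineOpen U) (x : Γ(E, U)), (u.app U) x ∈ 𝒮.deg U hU 1)
    (U : S.Opens) (hU : IsAffineOpen U) (d : ℕ) (s : Sym E U)
    (hs : s ∈ gr Γ(S, U) Γ(E, U) d) : theta 𝒮.toQCAlg u U s ∈ 𝒮.deg U hU d := by
  induction hs using Submodule.pow_induction_on_left' with
  | algebraMap r =>
    rw [theta_algebraMap]
    exact 𝒮.str_mem U hU r
  | add x y i hx hy ihx ihy =>
    rw [map_add]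
    exact add_mem ihx ihy
  | mem_mul m hm i x hx ih =>
    obtain ⟨m₀, rfl⟩ := hm
    rw [map_mul, theta_ι]
    have h1 := SetLike.mul_mem_graded
      (show toB 𝒮.toQCAlg U (u.app U m₀) ∈ 𝒮.deg U hU 1 from hu1 U hU m₀) ih
    rwa [add_comm] at h1

/-- The graded pieces of any graded symmetric algebra are the images of the symmetric powers. -/
theorem mem_deg_iff_of_isGrSymAlg (𝒯 : RelProj.QCGrAlg S) (jT : E ⟶ 𝒯.toModule)
    (hT : RelProj.IsGrSymAlg E 𝒯 jT) (U : S.Opens) (hU : IsAffineOpen U) (d : ℕ)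
    (x : 𝒯.presheaf.obj (op U)) :
    x ∈ 𝒯.deg U hU d ↔ ∃ s ∈ gr Γ(S, U) Γ(E, U) d, theta 𝒯.toQCAlg jT U s = x := by
  classical
  constructor
  · intro hx
    obtain ⟨s, rfl⟩ := (theta_bijective E 𝒯.toQCAlg jT hT.1 U hU).2 x
    refine ⟨((DirectSum.decompose (gr Γ(S, U) Γ(E, U)) s d : gr Γ(S, U) Γ(E, U) d) : Sym E U),
      SetLike.coe_mem _, ?_⟩
    have hmem : ∀ (i : ℕ) (t : Sym E U), t ∈ gr Γ(S, U) Γ(E, U) i →
        theta 𝒯.toQCAlg jT U t ∈ 𝒯.deg U hU i :=
      fun i t ht => theta_mem_deg 𝒯 jT hT.2 U hU i t ht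
    have h1 : GradedRing.proj (𝒯.deg U hU) d (theta 𝒯.toQCAlg jT U s) =
        theta 𝒯.toQCAlg jT U s := by
      rw [GradedRing.proj_apply]
      exact DirectSum.decompose_of_mem_same _ hx
    have h2 : GradedRing.proj (𝒯.deg U hU) d (theta 𝒯.toQCAlg jT U
        (∑ i ∈ (DirectSum.decompose (gr Γ(S, U) Γ(E, U)) s).support,
          ((DirectSum.decompose (gr Γ(S, U) Γ(E, U)) s i : gr Γ(S, U) Γ(E, U) i) : Sym E U))) =
        theta 𝒯.toQCAlg jT U
          ((DirectSum.decompose (gr Γ(S, U) Γ(E, U)) s d : gr Γ(S, U) Γ(E, U) d) : Sym E U) := by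
      rw [map_sum, map_sum, Finset.sum_eq_single d]
      · rw [GradedRing.proj_apply]
        exact DirectSum.decompose_of_mem_same _ (hmem d _ (SetLike.coe_mem _))
      · intro i _ hid
        rw [GradedRing.proj_apply]
        exact DirectSum.decompose_of_mem_ne _ (hmem i _ (SetLike.coe_mem _)) hid
      · intro hd
        rw [DFinsupp.notMem_support_iff.mp hd]
        simp
    rw [DirectSum.sum_support_decompose] at h2
    exact h2.symm.trans h1
  · rintro ⟨s, hs, rfl⟩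
    exact theta_mem_deg 𝒯 jT hT.2 U hU d s hs

/-- For any graded symmetric algebra, `jT : E(U) → 𝒯(U)_1` is onto (`U` affine). -/
theorem exists_app_eq_of_mem_deg_one (𝒯 : RelProj.QCGrAlg S) (jT : E ⟶ 𝒯.toModule)
    (hT : RelProj.IsGrSymAlg E 𝒯 jT) (U : S.Opens) (hU : IsAffineOpen U)
    (s : 𝒯.presheaf.obj (op U)) (hs : s ∈ 𝒯.deg U hU 1) :
    ∃ m : Γ(E, U), (jT.app U) m = s := by
  obtain ⟨t, ht, rfl⟩ := (mem_deg_iff_of_isGrSymAlg 𝒯 jT hT U hU 1 s).mp hs
  change t ∈ LinearMap.range (ι Γ(S, U) Γ(E, U)) ^ 1 at ht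
  rw [pow_one] at ht
  obtain ⟨m, rfl⟩ := ht
  exact ⟨m, (theta_ι 𝒯.toQCAlg jT U m).symm⟩

end Groth.Agent.H41.SymGraded
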