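import Mathlib
import Groth.Prelude.Def_RelProj4
import Groth.Agent.H41.QHomExt
import Groth.Agent.H41.SymBCPush
import Groth.Agent.H41.SymGraded3
import Groth.Agent.H22.SymConstr
import Groth.Agent.H39.PullTrack5
import Groth.Agent.H8.PullbackStalk
import Groth.Agent.H8.QCohQcqs
import Groth.Agent.H22.QCohLimits

/-!
# The canonical morphism `Sym(E) → ψ_* Sym(ψ^* E)` over a morphism `ψ` of bases (helper41)

* `exists_qhom_sym`: for `(A, j)` the symmetric algebra of the quasi-coherent `E` on `Y` and any algebra `B` on `Y'`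
  with a module map `j' : ψ^*E ⟶ B`, there is a `ψ`-morphism `u : A → B` with `u(j x) = j'(ψ^* x)` over affine opens.
* `isQBaseChange_of_sym`: if moreover `(B, j')` is the symmetric algebra of `ψ^*E`, such a `u` is a base change.
* `exists_qgrhom_sym`: the graded version.
-/

set_option autoImplicit false
set_option linter.style.haveILetI false
set_option linter.unusedSectionVars false
universe u
open CategoryTheory CategoryTheory.Limits AlgebraicGeometry TopologicalSpace Opposite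
open scoped TensorProduct

noncomputable section

namespace Groth.Agent.H41.SymQHom

open SymmetricAlgebra Groth.Agent.H22.SymLoc Groth.Agent.H22.SymConstr Groth.Agent.H22
  Groth.Agent.H41.SymGraded

section Alg

variable {R R' : Type*} [CommRing R] [CommRing R'] {M M' : Type*} [AddCommGroup M] [Module R M]
  [AddCommGroup M'] [Module R' M']
  (φ : R →+* R') (ρ : M →+ M') (hρ : ∀ (r : R) (m : M), ρ (r • m) = φ r • ρ m)

theorem symMap_mem_gr {d : ℕ} {s : SymmetricAlgebra R M} (hs : s ∈ gr R M d) :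
    symMap φ ρ hρ s ∈ gr R' M' d := by
  induction hs using Submodule.pow_induction_on_left' with
  | algebraMap r =>
    rw [symMap_algebraMap]
    show _ ∈ LinearMap.range (ι R' M') ^ 0
    rw [pow_zero]
    exact Submodule.algebraMap_mem _
  | add x y i hx hy ihx ihy =>
    rw [map_add]
    exact add_mem ihx ihy
  | mem_mul m hm i x hx ih =>
    obtain ⟨m₀, rfl⟩ := hm
    rw [map_mul, symMap_ι]
    show _ ∈ LinearMap.range (ι R' M') ^ (i + 1)
    rw [pow_succ']
    exact Submodule.mul_mem_mul (LinearMap.mem_range_self _ _) ih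

end Alg

variable {Y Y' : Scheme.{u}} (ψ : Y' ⟶ Y) (E : Y.Modules)

/-- Pulling back sections, as an additive map. -/
def pS (U : Y.Opens) : Γ(E, U) →+ Γ((Scheme.Modules.pullback ψ).obj E, ψ ⁻¹ᵁ U) :=
  (OmegaSh.pullSect ψ E U).hom

lemma pS_smul (U : Y.Opens) (r : Γ(Y, U)) (m : Γ(E, U)) :
    pS ψ E U (r • m) = (ψ.app U).hom r • pS ψ E U m :=
  Scheme.Modules.Hom.app_smul _ r m

lemma pS_res {U V : Y.Opens} (h : V ≤ U) (m : Γ(E, U)) :
    pS ψ E V (E.presheaf.map (homOfLE h).op m) =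
      ((Scheme.Modules.pullback ψ).obj E).presheaf.map (homOfLE (ψ.preimage_mono h)).op
        (pS ψ E U m) :=
  congr($((Scheme.Modules.Hom.mapPresheaf
    ((Scheme.Modules.pullbackPushforwardAdjunction ψ).unit.app E)).naturality (homOfLE h).op) m)

/-- `Sym E(U) → Sym (ψ^*E)(ψ⁻¹ U)`. -/
def sM (U : Y.Opens) : Sym E U →+* Sym ((Scheme.Modules.pullback ψ).obj E) (ψ ⁻¹ᵁ U) :=
  symMap (ψ.app U).hom (pS ψ E U) (pS_smul ψ E U)

lemma sM_res {U V : Y.Opens} (h : V ≤ U) :
    (symRes ((Scheme.Modules.pullback ψ).obj E) (ψ.preimage_mono h)).comp (sM ψ E U) =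
      (sM ψ E V).comp (symRes E h) := by
  refine ringHom_ext (fun r => ?_) (fun m => ?_)
  · rw [RingHom.comp_apply, RingHom.comp_apply, sM, sM, symMap_algebraMap, symRes_algebraMap,
      symRes_algebraMap, symMap_algebraMap]
    congr 1
    exact congr($(ψ.naturality (homOfLE h).op) r).symm
  · rw [RingHom.comp_apply, RingHom.comp_apply, sM, sM, symMap_ι, symRes_ι, symRes_ι, symMap_ι]
    congr 1
    exact (pS_res ψ E h m).symm

section Family

variable [E.IsQuasicoherent] (A : RelSpec.QCAlg Y) (j : E ⟶ A.toModule) (hA : RelSpec.IsSymAlg E A j)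
  (B : RelSpec.QCAlg Y') (j' : (Scheme.Modules.pullback ψ).obj E ⟶ B.toModule)

/-- The map `Sym E(U) → B(ψ⁻¹ U)`. -/
def wU (U : Y.Opens) : Sym E U →+* B.presheaf.obj (op (ψ ⁻¹ᵁ U)) :=
  (theta B j' (ψ ⁻¹ᵁ U)).comp (sM ψ E U)

/-- `Sym E(U) ≃ A(U)` for `U` affine. -/
def eA (U : Y.Opens) (hU : IsAffineOpen U) : Sym E U ≃+* A.presheaf.obj (op U) :=
  RingEquiv.ofBijective (theta A j U) (theta_bijective E A j hA U hU)

/-- The family of ring homomorphisms over the affine opens. -/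
def vU (U : Y.Opens) (hU : IsAffineOpen U) :
    A.presheaf.obj (op U) ⟶ B.presheaf.obj (op (ψ ⁻¹ᵁ U)) :=
  CommRingCat.ofHom ((wU ψ E B j' U).comp (eA E A j hA U hU).symm.toRingHom)

lemma vU_theta (U : Y.Opens) (hU : IsAffineOpen U) (s : Sym E U) :
    (vU ψ E A j hA B j' U hU).hom (theta A j U s) = wU ψ E B j' U s := by
  show wU ψ E B j' U ((eA E A j hA U hU).symm (theta A j U s)) = _
  congr 1
  exact (eA E A j hA U hU).symm_apply_apply s

lemma theta_res_apply (C : RelSpec.QCAlg Y) (φ : E ⟶ C.toModule) {U V : Y.Opens} (h : V ≤ U)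
    (s : Sym E U) :
    (C.presheaf.map (homOfLE h).op).hom (theta C φ U s) = theta C φ V (symRes E h s) :=
  (congrArg (fun k : Sym E U →+* C.presheaf.obj (op V) => k s) (theta_res C φ h)).symm

include hA in
theorem exists_qhom_sym :
    ∃ u : RelSpec.QHom ψ A B, ∀ (U : Y.Opens) (_ : IsAffineOpen U) (s : Sym E U),
      (u.app U).hom (theta A j U s) = theta B j' (ψ ⁻¹ᵁ U) (sM ψ E U s) := by
  haveI : ((Scheme.Modules.pullback ψ).obj E).IsQuasicoherent :=
    Groth.Agent.H8.isQuasicoherent_pullback ψ E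
  have hnat : ∀ (U V : Y.Opens) (hU : IsAffineOpen U) (hV : IsAffineOpen V) (i : V ≤ U),
      vU ψ E A j hA B j' U hU ≫ B.presheaf.map (homOfLE (ψ.preimage_mono i)).op =
        A.presheaf.map (homOfLE i).op ≫ vU ψ E A j hA B j' V hV := by
    intro U V hU hV i
    ext x
    obtain ⟨s, rfl⟩ := (theta_bijective E A j hA U hU).2 x
    show (B.presheaf.map (homOfLE (ψ.preimage_mono i)).op).hom
        ((vU ψ E A j hA B j' U hU).hom (theta A j U s)) =
      (vU ψ E A j hA B j' V hV).hom ((A.presheaf.map (homOfLE i).op).hom (theta A j U s))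
    rw [vU_theta, theta_res_apply E A j i s, vU_theta, wU, wU, RingHom.comp_apply,
      RingHom.comp_apply]
    have h1 := theta_res_apply ((Scheme.Modules.pullback ψ).obj E) B j' (ψ.preimage_mono i)
      (sM ψ E U s)
    rw [h1]
    congr 1
    exact congrArg (fun k : Sym E U →+* Sym ((Scheme.Modules.pullback ψ).obj E) (ψ ⁻¹ᵁ V) => k s)
      (sM_res ψ E i)
  have hstr : ∀ (U : Y.Opens) (hU : IsAffineOpen U),
      A.str.app (op U) ≫ vU ψ E A j hA B j' U hU = ψ.app U ≫ B.str.app (op (ψ ⁻¹ᵁ U)) := by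
    intro U hU
    ext r
    show (vU ψ E A j hA B j' U hU).hom ((A.str.app (op U)).hom r) =
      (B.str.app (op (ψ ⁻¹ᵁ U))).hom ((ψ.app U).hom r)
    rw [← theta_algebraMap A j U r, vU_theta, wU, RingHom.comp_apply, sM, symMap_algebraMap,
      theta_algebraMap]
  obtain ⟨u, hu⟩ := Groth.Agent.H41.QHomExt.exists_qhom ψ A B (vU ψ E A j hA B j') hnat hstr
  exact ⟨u, fun U hU s => by rw [hu U hU]; exact vU_theta ψ E A j hA B j' U hU s⟩

include hA in
/-- If `(B, j')` is the symmetric algebra of `ψ^*E`, the canonical `ψ`-morphism is a base change. -/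
theorem isQBaseChange_of_sym (hB : RelSpec.IsSymAlg ((Scheme.Modules.pullback ψ).obj E) B j')
    (u : RelSpec.QHom ψ A B)
    (hu : ∀ (U : Y.Opens) (_ : IsAffineOpen U) (s : Sym E U),
      (u.app U).hom (theta A j U s) = theta B j' (ψ ⁻¹ᵁ U) (sM ψ E U s)) :
    RelSpec.IsQBaseChange u := by
  haveI : ((Scheme.Modules.pullback ψ).obj E).IsQuasicoherent :=
    Groth.Agent.H8.isQuasicoherent_pullback ψ E
  intro U hU U' hU' hle
  have hρ : ∀ (r : Γ(Y, U)) (m : Γ(E, U)),
      Groth.Agent.H39.PullTrack.pullSectLE ψ E U U' hle (r • m) =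
        (ψ.appLE U U' hle).hom r • Groth.Agent.H39.PullTrack.pullSectLE ψ E U U' hle m := by
    intro r m
    have e1 : OmegaSh.pullSect ψ E U (r • m) = ψ.app U r • OmegaSh.pullSect ψ E U m :=
      Scheme.Modules.Hom.app_smul _ r m
    rw [Groth.Agent.H39.PullTrack.pullSectLE_apply, Groth.Agent.H39.PullTrack.pullSectLE_apply,
      e1, Groth.Agent.H8.res_smul]
    rfl
  refine Groth.Agent.H41.SymBC.isPushout_of_sym (ψ.appLE U U' hle) (A.str.app (op U))
    (B.str.app (op U')) (u.appLE U U' hle) (u.str_appLE U U' hle).symm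
    (M := Γ(E, U)) (M' := Γ((Scheme.Modules.pullback ψ).obj E, U'))
    (Groth.Agent.H39.PullTrack.pullSectLE ψ E U U' hle) hρ
    (Groth.Agent.H39.PullTrack.exists_sectionsPullbackEquiv ψ E hU hU' hle)
    (theta A j U) (theta_bijective E A j hA U hU) (theta B j' U')
    (theta_bijective ((Scheme.Modules.pullback ψ).obj E) B j' hB U' hU')
    (fun r => theta_algebraMap A j U r) (fun r' => theta_algebraMap B j' U' r') ?_
  intro m
  have h2 : (u.appLE U U' hle).hom (theta A j U (ι Γ(Y, U) Γ(E, U) m)) =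
      (B.presheaf.map (homOfLE hle).op).hom
        ((u.app U).hom (theta A j U (ι Γ(Y, U) Γ(E, U) m))) := rfl
  rw [h2, hu U hU, theta_res_apply ((Scheme.Modules.pullback ψ).obj E) B j' hle, sM, symMap_ι,
    symRes_ι]
  rfl

end Family

section Graded

variable [E.IsQuasicoherent] (𝒮 : RelProj.QCGrAlg Y) (j : E ⟶ 𝒮.toModule)
  (hj : RelProj.IsGrSymAlg E 𝒮 j) (𝒮' : RelProj.QCGrAlg Y')
  (j' : (Scheme.Modules.pullback ψ).obj E ⟶ 𝒮'.toModule)
  (hj' : RelProj.IsGrSymAlg ((Scheme.Modules.pullback ψ).obj E) 𝒮' j')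

include hj hj' in
/-- The canonical graded `ψ`-morphism `Sym(E) → Sym(ψ^*E)`, which is a base change. -/
theorem exists_qgrhom_sym :
    ∃ u : RelProj.QGrHom ψ 𝒮 𝒮', RelSpec.IsQBaseChange u.toQHom := by
  haveI : ((Scheme.Modules.pullback ψ).obj E).IsQuasicoherent :=
    Groth.Agent.H8.isQuasicoherent_pullback ψ E
  obtain ⟨u, hu⟩ := exists_qhom_sym ψ E 𝒮.toQCAlg j hj.1 𝒮'.toQCAlg j'
  refine ⟨{ toQHom := u, map_mem := ?_ }, isQBaseChange_of_sym ψ E 𝒮.toQCAlg j hj.1 𝒮'.toQCAlg j'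
    hj'.1 u hu⟩
  intro U hU U' hU' hle d x hx
  obtain ⟨s, hs, rfl⟩ := (mem_deg_iff_of_isGrSymAlg 𝒮 j hj U hU d x).mp hx
  rw [hu U hU s, theta_res_apply ((Scheme.Modules.pullback ψ).obj E) 𝒮'.toQCAlg j' hle]
  exact theta_mem_deg 𝒮' j' hj'.2 U' hU' d _
    (symRes_mem_gr ((Scheme.Modules.pullback ψ).obj E) hle
      (symMap_mem_gr (ψ.app U).hom (pS ψ E U) (pS_smul ψ E U) hs))

end Graded

end Groth.Agent.H41.SymQHom
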