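import Mathlib
import Groth.Agent.H22.TwistSeq
import Groth.Agent.H22.IdealTwist
import Groth.Agent.H22.VeryAmpleIso
import Groth.Agent.H22.FTExt
import Groth.Agent.H53.ModEpi
import Groth.Agent.H18.GlobGen

/-!
# Tensoring an epimorphism with an invertible module; the multiplication `O ⊗ F ⟶ F` (helper41)

* `epi_tmMap`: `κ ⊗ N` is an epimorphism if `κ` is and `N` is invertible.
* `epi_mulHom_id`: the multiplication `O_X ⊗ F ⟶ F` is an epimorphism.
-/

set_option autoImplicit false
set_option linter.style.haveILetI false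
set_option linter.unusedSectionVars false
universe u
open CategoryTheory CategoryTheory.Limits AlgebraicGeometry TopologicalSpace Opposite

namespace Groth.Agent.H41.TensorEpi

open Groth.Agent.H8 (res_res res_smul ringRes_res section_eq_of_cover)
open Groth.Agent.H18.SecTw Groth.Agent.H18.TensorGen Groth.Agent.H18.TensorSec
open Groth.Agent.H22.TwistSeq Groth.Agent.H22.IdealTwist
open AlgebraicGeometry.Scheme.Modules

variable {X : Scheme.{u}}

/-- Tensoring an epimorphism with an invertible module gives an epimorphism. -/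
theorem epi_tmMap {G' G : X.Modules} (κ : G' ⟶ G) [Epi κ] (N : X.Modules)
    (hN : PicF.IsInvertible N) : Epi (tmMap κ N) := by
  apply Groth.Agent.H18.GlobGen.epi_of_locally
  intro U t x hxU
  obtain ⟨A, μ, hxA, hμ⟩ := exists_isGen hN x
  have hμ' := hμ.res (inf_le_left : A ⊓ U ≤ A)
  obtain ⟨b, hb⟩ := surjective_tm (F := G) hμ'
    ((CohB1.tensorMod G N).presheaf.map (homOfLE (inf_le_right : A ⊓ U ≤ U)).op t)
  have hb' : tm G N b (N.presheaf.map (homOfLE (inf_le_left : A ⊓ U ≤ A)).op μ) =
      (CohB1.tensorMod G N).presheaf.map (homOfLE (inf_le_right : A ⊓ U ≤ U)).op t := hb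
  obtain ⟨V, hV, a, hxV, ha⟩ :=
    Groth.Agent.H53.modules_epi_locally_surjective κ (A ⊓ U) b x ⟨hxA, hxU⟩
  refine ⟨V, hV.trans inf_le_right, hxV,
    tm G' N a (N.presheaf.map (homOfLE hV).op
      (N.presheaf.map (homOfLE (inf_le_left : A ⊓ U ≤ A)).op μ)), ?_⟩
  rw [tmMap_tm, ha, ← tm_res, hb', res_res]

/-- The multiplication `O_X ⊗ F ⟶ F` is an epimorphism. -/
theorem epi_mulHom_id (F : X.Modules) :
    Epi (mulHom (𝟙 (Coh.structureModule X)) F) := by
  apply Groth.Agent.H18.GlobGen.epi_of_locally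
  intro U t x hxU
  refine ⟨U, le_rfl, hxU,
    tm (Coh.structureModule X) F (Groth.Agent.H22.VeryAmpleIso.one U) t, ?_⟩
  rw [mulHom_tm]
  have h1 : coef (𝟙 (Coh.structureModule X)) (Groth.Agent.H22.VeryAmpleIso.one U) = 1 := rfl
  rw [h1, one_smul, Groth.Agent.H22.SubSh.res_self']

end Groth.Agent.H41.TensorEpi
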