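import Groth.Agent.H41.RelTwistInv
import Mathlib

/-!
# Multiplication `M(a)~ × O(n) → M(a+n)~` on `Proj` of a graded ring
-/

set_option autoImplicit false
set_option linter.style.haveILetI false
set_option linter.unusedSectionVars false
universe u

open CategoryTheory AlgebraicGeometry HomogeneousIdeal TopologicalSpace Opposite
open Groth.Agent.H41.GrModQCoh

noncomputable section

namespace Groth.Agent.H41.TildeMul

variable {A σ : Type u} [CommRing A] [SetLike σ A] [AddSubgroupClass σ A] (𝒜 : ℕ → σ) [GradedRing 𝒜]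
variable {M τ : Type u} [AddCommGroup M] [Module A M] [SetLike τ M] [AddSubgroupClass τ M]
  (ℳ : ℕ → τ) [SetLike.GradedSMul 𝒜 ℳ]

theorem smul_mk_mem (a n : ℤ) (x : ProjectiveSpectrum 𝒜) {c : GrTwist.Loc 𝒜 x}
    (hc : c ∈ GrTwist.twistAt 𝒜 n x) {i j : ℕ} (m : ℳ i) (s : 𝒜 j)
    (hs : (s : A) ∉ x.asHomogeneousIdeal) (hij : (i : ℤ) = j + a) :
    c • (LocalizedModule.mk (m : M) ⟨(s : A), hs⟩ : GrMod.LocMod 𝒜 (M := M) x) ∈
      GrMod.tildeAt 𝒜 ℳ (a + n) x := by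
  induction hc using Submodule.span_induction with
  | mem c h =>
    obtain ⟨k, l, r, t, ht, hkl, rfl⟩ := h
    rw [LocalizedModule.mk_smul_mk]
    exact Submodule.subset_span ⟨k + i, l + j,
      ⟨(r : A) • (m : M), SetLike.GradedSMul.smul_mem r.2 m.2⟩,
      ⟨(t : A) * s, SetLike.mul_mem_graded t.2 s.2⟩,
      fun h => (x.isPrime.mem_or_mem h).elim ht hs, by push_cast; omega, rfl⟩
  | zero => rw [zero_smul]; exact zero_mem _
  | add c c' _ _ h h' => rw [add_smul]; exact add_mem h h'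
  | smul e c _ h =>
    rw [Algebra.smul_def, HomogeneousLocalization.algebraMap_apply, mul_smul, ← GrMod.a0_smul_def]
    exact Submodule.smul_mem _ e h

theorem smul_mem_tildeAt (a n : ℤ) (x : ProjectiveSpectrum 𝒜) {c : GrTwist.Loc 𝒜 x}
    (hc : c ∈ GrTwist.twistAt 𝒜 n x) {q : GrMod.LocMod 𝒜 (M := M) x}
    (hq : q ∈ GrMod.tildeAt 𝒜 ℳ a x) : c • q ∈ GrMod.tildeAt 𝒜 ℳ (a + n) x := by
  induction hq using Submodule.span_induction with
  | mem q h =>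
    obtain ⟨i, j, m, s, hs, hij, rfl⟩ := h
    exact smul_mk_mem 𝒜 ℳ a n x hc m s hs hij
  | zero => rw [smul_zero]; exact zero_mem _
  | add q q' _ _ h h' => rw [smul_add]; exact add_mem h h'
  | smul e q _ h =>
    rw [GrMod.a0_smul_def, smul_comm]
    exact Submodule.smul_mem _ e h

/-- The product of a section of `M(a)~` and a section of `O(n)`. -/
def mulSect {a n : ℤ} {U : (Opens (ProjectiveSpectrum.top 𝒜))ᵒᵖ}
    (s : GrMod.sect 𝒜 ℳ a U) (t : GrTwist.sectN (𝒜 := 𝒜) n U) : GrMod.sect 𝒜 ℳ (a + n) U :=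
  ⟨fun x => ⟨((t.1 x).1 : GrTwist.Loc 𝒜 x.1) • ((s.1 x).1 : GrMod.LocMod 𝒜 (M := M) x.1),
      smul_mem_tildeAt 𝒜 ℳ a n x.1 (t.1 x).2 (s.1 x).2⟩, fun x => by
    obtain ⟨Va, ma, ia, i, j, m, c, nina, ca, wa⟩ := s.2 x
    obtain ⟨Vb, mb, ib, i', j', b, e, ninb, cb, wb⟩ := t.2 x
    refine ⟨Va ⊓ Vb, ⟨ma, mb⟩, Opens.infLELeft _ _ ≫ ia, i' + i, j' + j,
      ⟨(b : A) • (m : M), SetLike.GradedSMul.smul_mem b.2 m.2⟩,
      ⟨(e : A) * c, SetLike.mul_mem_graded e.2 c.2⟩,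
      fun y h => (y.1.isPrime.mem_or_mem h).elim (ninb ⟨y.1, y.2.2⟩) (nina ⟨y.1, y.2.1⟩),
      ?_, fun y => ?_⟩
    · rcases ca with ha | ha
      · rcases cb with hb | hb
        · exact Or.inl (by push_cast; omega)
        · exact Or.inr (show (b : A) • (m : M) = 0 by rw [hb, zero_smul])
      · exact Or.inr (show (b : A) • (m : M) = 0 by rw [ha, smul_zero])
    · have e1 : ((s.1 (ia ⟨y.1, y.2.1⟩)).1 : GrMod.LocMod 𝒜 (M := M) y.1) =
          LocalizedModule.mk (m : M) ⟨(c : A), nina ⟨y.1, y.2.1⟩⟩ := wa ⟨y.1, y.2.1⟩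
      have e2 : ((t.1 (ib ⟨y.1, y.2.2⟩)).1 : GrTwist.Loc 𝒜 y.1) =
          Localization.mk (b : A) ⟨(e : A), ninb ⟨y.1, y.2.2⟩⟩ := wb ⟨y.1, y.2.2⟩
      show ((t.1 (ib ⟨y.1, y.2.2⟩)).1 : GrTwist.Loc 𝒜 y.1) •
        ((s.1 (ia ⟨y.1, y.2.1⟩)).1 : GrMod.LocMod 𝒜 (M := M) y.1) = _
      rw [e1, e2, LocalizedModule.mk_smul_mk]
      rfl⟩

/-- Existence of the product section, with the target shift given up to equality. -/
theorem exists_mul {a n c : ℤ} (hc : a + n = c) {V : (Proj 𝒜).Opens}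
    (s : Γ(GrMod.tilde 𝒜 ℳ a, V)) (t : Γ(GrTwist.twist 𝒜 n, V)) :
    ∃ w : Γ(GrMod.tilde 𝒜 ℳ c, V), ∀ x : V,
      GrMod.val w x = GrTwist.val t x • GrMod.val s x := by
  subst hc
  exact ⟨(mulSect 𝒜 ℳ (s : GrMod.sect 𝒜 ℳ a (op V)) (t : GrTwist.sectN (𝒜 := 𝒜) n (op V)) :
    GrMod.sect 𝒜 ℳ (a + n) (op V)), fun x => rfl⟩

/-- The section of `O(n)` given by one fraction. -/
def twFrac (n : ℤ) (V : (Proj 𝒜).Opens) {i j : ℕ} (hij : (i : ℤ) = j + n) (u : 𝒜 i) (v : 𝒜 j)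
    (hv : ∀ x : V, (v : A) ∉ x.1.asHomogeneousIdeal) : Γ(GrTwist.twist 𝒜 n, V) :=
  fracSect 𝒜 𝒜 n V hij u v hv

theorem val_twFrac (n : ℤ) (V : (Proj 𝒜).Opens) {i j : ℕ} (hij : (i : ℤ) = j + n) (u : 𝒜 i)
    (v : 𝒜 j) (hv : ∀ x : V, (v : A) ∉ x.1.asHomogeneousIdeal) (x : V) :
    GrTwist.val (twFrac 𝒜 n V hij u v hv) x = Localization.mk (u : A) ⟨v, hv x⟩ := rfl

/-- A map on sections which multiplies values by a unit fraction of degree `n` is bijective. -/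
theorem bijective_mul_unitFrac {a n c : ℤ} (hc : a + n = c) {V : (Proj 𝒜).Opens}
    {p q : ℕ} (u : 𝒜 p) (v : 𝒜 q) (hpq : (p : ℤ) = q + n)
    (hux : ∀ x : V, (u : A) ∉ x.1.asHomogeneousIdeal)
    (hvx : ∀ x : V, (v : A) ∉ x.1.asHomogeneousIdeal)
    (β : Γ(GrMod.tilde 𝒜 ℳ a, V) → Γ(GrMod.tilde 𝒜 ℳ c, V))
    (hβ : ∀ s x, GrMod.val (β s) x =
      (Localization.mk (u : A) ⟨v, hvx x⟩ : GrTwist.Loc 𝒜 x.1) • GrMod.val s x) :
    Function.Bijective β := by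
  have hswap : ∀ x : V, (Localization.mk (v : A) ⟨u, hux x⟩ : GrTwist.Loc 𝒜 x.1) *
      Localization.mk (u : A) ⟨v, hvx x⟩ = 1 :=
    fun x => RelTwistInv.mk_mul_mk_swap (v : A) u (hvx x) (hux x)
  have hswap' : ∀ x : V, (Localization.mk (u : A) ⟨v, hvx x⟩ : GrTwist.Loc 𝒜 x.1) *
      Localization.mk (v : A) ⟨u, hux x⟩ = 1 :=
    fun x => RelTwistInv.mk_mul_mk_swap (u : A) v (hux x) (hvx x)
  constructor
  · intro s s' h
    refine sect_ext 𝒜 ℳ a _ _ fun x => ?_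
    have h1 : (Localization.mk (u : A) ⟨v, hvx x⟩ : GrTwist.Loc 𝒜 x.1) • GrMod.val s x =
        (Localization.mk (u : A) ⟨v, hvx x⟩ : GrTwist.Loc 𝒜 x.1) • GrMod.val s' x := by
      rw [← hβ s x, ← hβ s' x, h]
    have h2 := congrArg (fun z => (Localization.mk (v : A) ⟨u, hux x⟩ : GrTwist.Loc 𝒜 x.1) • z) h1
    simp only [smul_smul, hswap x, one_smul] at h2
    exact h2
  · intro w
    have hqp : (q : ℤ) = p + (-n) := by omega
    have hc' : c + (-n) = a := by omega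
    obtain ⟨s, hs⟩ := exists_mul 𝒜 ℳ hc' w (twFrac 𝒜 (-n) V hqp v u hux)
    refine ⟨s, sect_ext 𝒜 ℳ c _ _ fun x => ?_⟩
    rw [hβ s x, hs x, val_twFrac, smul_smul, hswap' x, one_smul]

end Groth.Agent.H41.TildeMul
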