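import Groth.Agent.H41.RelTwistXf
import Groth.Agent.H41.RelTwistInv
import Groth.Agent.H41.FundMap
import Groth.Agent.H41.RelTildeTN2
import Groth.Agent.H22.AmpleLocal
import Groth.Agent.H18.TensorPowIso
import Groth.Agent.H18.ProjOpenAmple
import Groth.Agent.H18.RestrictTensor
import Groth.Agent.H8.InvRestrict

/-!
# `O(1)` on a relative `Proj` is ample on finite unions of the opens `D₊(a)` (helper41)

For `𝒮` generated in degree one, `p : P ⟶ Y` its relative `Proj` and `L = O_P(1)`: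

* `D V hV a`: the image in `P` of `D₊(a) ⊆ Proj 𝒮(V)`.
* `isGen_of_reads`: a section reading `a/1` generates `L` on `D(a)`.
* `mem_D_of_genAt`: conversely it generates `L` at no other point of `p⁻¹(V)`.
* `isAmple_restrict_iSup`: `L` restricted to a finite union of opens `D(a)`, `a ∈ 𝒮(V)_1`, is ample.
-/

set_option autoImplicit false
set_option linter.style.haveILetI false
set_option linter.unusedSectionVars false
universe u
open CategoryTheory CategoryTheory.Limits AlgebraicGeometry TopologicalSpace Opposite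
open scoped HomogeneousIdeal

noncomputable section

namespace Groth.Agent.H41.TwistAmpleRel

open Groth.Agent.H8 Groth.Agent.H41.RelTildeMaps Groth.Agent.H41.RelTwistXf
open Groth.Agent.H18.TensorGen Groth.Agent.H18.SecTw Groth.Agent.H18.TensorPowIso
open Groth.Agent.H18.RestrictTensor Groth.Agent.H22.AmpleLocal

variable {Y P : Scheme.{u}} (𝒮 : RelProj.QCGrAlg Y) (p : P ⟶ Y)
  (chart : ∀ (U : Y.Opens) (hU : IsAffineOpen U),
    (((p ⁻¹ᵁ U : P.Opens) : Scheme.{u}) ≅ Proj (𝒮.deg U hU)))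

/-- The image in `P` of the basic open `D₊(a)` of the chart over `V`. -/
def D (V : Y.Opens) (hV : IsAffineOpen V) (a : 𝒮.presheaf.obj (op V)) : P.Opens :=
  RelProj.emb p chart V hV ''ᵁ Proj.basicOpen (𝒮.deg V hV) a

theorem D_le (V : Y.Opens) (hV : IsAffineOpen V) (a : 𝒮.presheaf.obj (op V)) :
    D 𝒮 p chart V hV a ≤ p ⁻¹ᵁ V := by
  rintro _ ⟨z, -, rfl⟩
  have : (RelProj.emb p chart V hV).base z ∈ (RelProj.emb p chart V hV).opensRange := ⟨z, rfl⟩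
  rwa [opensRange_emb] at this

theorem emb_mem_D_iff (V : Y.Opens) (hV : IsAffineOpen V) (a : 𝒮.presheaf.obj (op V))
    (z : ProjectiveSpectrum (𝒮.deg V hV)) :
    (RelProj.emb p chart V hV).base z ∈ D 𝒮 p chart V hV a ↔ a ∉ z.asHomogeneousIdeal := by
  constructor
  · intro h
    have h2 : z ∈ RelProj.emb p chart V hV ⁻¹ᵁ
        (RelProj.emb p chart V hV ''ᵁ Proj.basicOpen (𝒮.deg V hV) a) := h
    rw [(RelProj.emb p chart V hV).preimage_image_eq] at h2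
    exact (ProjectiveSpectrum.mem_basicOpen (𝒮.deg V hV) a z).mp h2
  · intro h
    exact ⟨z, (ProjectiveSpectrum.mem_basicOpen (𝒮.deg V hV) a z).mpr h, rfl⟩

theorem isAffineOpen_D (V : Y.Opens) (hV : IsAffineOpen V) {a : 𝒮.presheaf.obj (op V)}
    (ha : a ∈ 𝒮.deg V hV 1) : IsAffineOpen (D 𝒮 p chart V hV a) :=
  (Proj.isAffineOpen_basicOpen (𝒮.deg V hV) a ha one_pos).image_of_isOpenImmersion _

theorem exists_degOne_not_mem (hgen : 𝒮.IsGenDegOne) (V : Y.Opens) (hV : IsAffineOpen V)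
    (z : ProjectiveSpectrum (𝒮.deg V hV)) :
    ∃ b ∈ 𝒮.deg V hV 1, b ∉ z.asHomogeneousIdeal := by
  have hgenV := RelTildeTN2.irrelevant_eq_span_of_closure (𝒮.deg V hV) (hgen V hV)
  by_contra hcon
  push Not at hcon
  apply z.not_irrelevant_le
  intro c hc
  have h1 : c ∈ Ideal.span ((𝒮.deg V hV 1 : AddSubgroup _) : Set (𝒮.presheaf.obj (op V))) := by
    rw [← hgenV]; exact hc
  exact (Ideal.span_le (I := z.asHomogeneousIdeal.toIdeal)).mpr (fun c hc => hcon c hc) h1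

theorem exists_mem_D (hgen : 𝒮.IsGenDegOne) (V : Y.Opens) (hV : IsAffineOpen V) {x : P}
    (hx : x ∈ p ⁻¹ᵁ V) : ∃ b ∈ 𝒮.deg V hV 1, x ∈ D 𝒮 p chart V hV b := by
  obtain ⟨z, hz⟩ : ∃ z : ProjectiveSpectrum (𝒮.deg V hV),
      (RelProj.emb p chart V hV).base z = x := by
    have : x ∈ (RelProj.emb p chart V hV).opensRange := by
      rw [opensRange_emb]; exact hx
    exact this
  obtain ⟨b, hb1, hbz⟩ := exists_degOne_not_mem 𝒮 hgen V hV z
  exact ⟨b, hb1, hz ▸ (emb_mem_D_iff 𝒮 p chart V hV b z).mpr hbz⟩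

variable (L : P.Modules)
  (lam : ∀ (U : Y.Opens) (hU : IsAffineOpen U),
    L ⟶ (Scheme.Modules.pushforward (RelProj.emb p chart U hU)).obj
      (GrTwist.twist (𝒮.deg U hU) 1))

theorem isGen_of_reads (hL : RelProj.IsRelTwist 𝒮 p chart 1 L lam)
    {V : Y.Opens} {hV : IsAffineOpen V} {a : 𝒮.presheaf.obj (op V)}
    (ha : a ∈ 𝒮.deg V hV 1) {σ : Γ(L, p ⁻¹ᵁ V)}
    (hσ : ReadsFrac 𝒮 p chart 1 L lam V hV (p ⁻¹ᵁ V) σ a 1) :
    IsGen L (D 𝒮 p chart V hV a)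
      (L.presheaf.map (homOfLE (D_le 𝒮 p chart V hV a)).op σ) := by
  intro V' hV'
  have hVU := D_le 𝒮 p chart V hV a
  have hr' := ReadsFrac.res 𝒮 p chart 1 L lam (hV'.trans hVU) hσ
  have hux : ∀ x' : (RelProj.emb p chart V hV ⁻¹ᵁ V' : (Proj (𝒮.deg V hV)).Opens),
      a ∉ x'.1.asHomogeneousIdeal := by
    intro x'
    exact (emb_mem_D_iff 𝒮 p chart V hV a x'.1).mp (hV' x'.2)
  have hb := ReadsFrac.bijective_smul 𝒮 p chart 1 L lam hL (hV'.trans hVU)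
    (⟨a, ha⟩ : 𝒮.deg V hV 1) (⟨1, SetLike.GradedOne.one_mem⟩ : 𝒮.deg V hV 0) (by norm_num) hux
    (Groth.Agent.H41.FundMap.one_not_mem 𝒮 p chart V hV _) hr'
  have he : (fun r : Γ(P, V') => r • L.presheaf.map (homOfLE hV').op
      (L.presheaf.map (homOfLE hVU).op σ)) =
      fun r : Γ(P, V') => r • L.presheaf.map (homOfLE (hV'.trans hVU)).op σ := by
    funext r
    rw [res_res]
  rw [he]
  exact hb

theorem mem_D_of_genAt (hL : RelProj.IsRelTwist 𝒮 p chart 1 L lam) (hgen : 𝒮.IsGenDegOne)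
    {V : Y.Opens} {hV : IsAffineOpen V} {a : 𝒮.presheaf.obj (op V)}
    {σ : Γ(L, p ⁻¹ᵁ V)} (hσ : ReadsFrac 𝒮 p chart 1 L lam V hV (p ⁻¹ᵁ V) σ a 1) {x : P}
    (hx : GenAt L σ x) : x ∈ D 𝒮 p chart V hV a := by
  classical
  obtain ⟨N, hN, hxN, hg⟩ := hx
  have hxV : x ∈ p ⁻¹ᵁ V := hN hxN
  obtain ⟨z, hz⟩ : ∃ z : ProjectiveSpectrum (𝒮.deg V hV),
      (RelProj.emb p chart V hV).base z = x := by
    have : x ∈ (RelProj.emb p chart V hV).opensRange := by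
      rw [opensRange_emb]; exact hxV
    exact this
  by_contra hxD
  have haz : a ∈ z.asHomogeneousIdeal.toIdeal := by
    by_contra h
    exact hxD (hz ▸ (emb_mem_D_iff 𝒮 p chart V hV a z).mpr h)
  obtain ⟨b, hb1, hbz⟩ := exists_degOne_not_mem 𝒮 hgen V hV z
  obtain ⟨σb, hσb⟩ := exists_readsFrac 𝒮 p chart 1 L lam hL V hV (p ⁻¹ᵁ V) le_rfl
    (⟨b, hb1⟩ : 𝒮.deg V hV 1) (⟨1, SetLike.GradedOne.one_mem⟩ : 𝒮.deg V hV 0) (by norm_num)
    (Groth.Agent.H41.FundMap.one_not_mem 𝒮 p chart V hV _)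
  obtain ⟨c, hc⟩ := (hg N le_rfl).2 (L.presheaf.map (homOfLE hN).op σb)
  have hc' : c • L.presheaf.map (homOfLE (le_refl N)).op (L.presheaf.map (homOfLE hN).op σ) =
      L.presheaf.map (homOfLE hN).op σb := hc
  rw [res_res] at hc'
  have hc'' : c • L.presheaf.map (homOfLE hN).op σ = L.presheaf.map (homOfLE hN).op σb := hc'
  have hzN : z ∈ RelProj.emb p chart V hV ⁻¹ᵁ N := by
    show (RelProj.emb p chart V hV).base z ∈ N
    rw [hz]; exact hxN
  have h1z : (1 : 𝒮.presheaf.obj (op V)) ∉ z.asHomogeneousIdeal :=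
    Groth.Agent.H41.FundMap.one_not_mem 𝒮 p chart V hV N ⟨z, hzN⟩
  have hrσ := ReadsFrac.res 𝒮 p chart 1 L lam hN hσ
  have hrb := ReadsFrac.res 𝒮 p chart 1 L lam hN hσb
  have e1 := hrb ⟨z, hzN⟩ h1z
  have e2 := val_lam_smul 𝒮 p chart 1 L lam V hV N c (L.presheaf.map (homOfLE hN).op σ) ⟨z, hzN⟩
  rw [hrσ ⟨z, hzN⟩ h1z, hc'', e1] at e2
  have hmax : ∀ (w : 𝒮.presheaf.obj (op V)) (hw : w ∈ z.asHomogeneousIdeal.toIdeal)
      (s : z.asHomogeneousIdeal.toIdeal.primeCompl),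
      (Localization.mk w s : GrTwist.Loc (𝒮.deg V hV) z) ∈
        IsLocalRing.maximalIdeal (GrTwist.Loc (𝒮.deg V hV) z) := by
    intro w hw s
    rw [Localization.mk_eq_mk']
    exact (IsLocalization.AtPrime.mk'_mem_maximal_iff (GrTwist.Loc (𝒮.deg V hV) z)
      z.asHomogeneousIdeal.toIdeal w s).mpr hw
  have hbmax : (Localization.mk b (⟨1, h1z⟩ : z.asHomogeneousIdeal.toIdeal.primeCompl) :
      GrTwist.Loc (𝒮.deg V hV) z) ∈ IsLocalRing.maximalIdeal (GrTwist.Loc (𝒮.deg V hV) z) := by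
    rw [show (Localization.mk b (⟨1, h1z⟩ : z.asHomogeneousIdeal.toIdeal.primeCompl) :
      GrTwist.Loc (𝒮.deg V hV) z) = _ from e2]
    exact Ideal.mul_mem_left _ _ (hmax a haz _)
  rw [Localization.mk_eq_mk'] at hbmax
  exact hbz ((IsLocalization.AtPrime.mk'_mem_maximal_iff (GrTwist.Loc (𝒮.deg V hV) z)
    z.asHomogeneousIdeal.toIdeal b _).mp hbmax)

/-- `O(1)` is ample on a finite union of the opens `D(a)`, `a` of degree one. -/
theorem isAmple_restrict_iSup (hL : RelProj.IsRelTwist 𝒮 p chart 1 L lam) (hgen : 𝒮.IsGenDegOne)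
    (V : Y.Opens) (hV : IsAffineOpen V) {ι : Type*} [Finite ι]
    (a : ι → 𝒮.presheaf.obj (op V)) (ha : ∀ i, a i ∈ 𝒮.deg V hV 1) :
    CohB1.IsAmple (L.restrict (⨆ i, D 𝒮 p chart V hV (a i)).ι) := by
  classical
  obtain ⟨W, hW⟩ : ∃ W : P.Opens, W = ⨆ i, D 𝒮 p chart V hV (a i) := ⟨_, rfl⟩
  rw [← hW]
  have hLinv : PicF.IsInvertible L :=
    RelTwistInv.isInvertible_of_isGenDegOne 𝒮 p chart 1 L lam hL hgen
  have hDW : ∀ i, D 𝒮 p chart V hV (a i) ≤ W := fun i => by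
    rw [hW]; exact le_iSup (fun i => D 𝒮 p chart V hV (a i)) i
  have hWV : W ≤ p ⁻¹ᵁ V := by
    rw [hW]; exact iSup_le fun i => D_le 𝒮 p chart V hV (a i)
  have hMinv : PicF.IsInvertible (L.restrict W.ι) := isInvertible_restrict W.ι hLinv
  haveI : CompactSpace ((W : P.Opens) : Scheme.{u}) := by
    refine isCompact_iff_compactSpace.mp ?_
    have hc : ((W : P.Opens) : Set P) = ⋃ i, ((D 𝒮 p chart V hV (a i) : P.Opens) : Set P) := by
      rw [hW, Opens.coe_iSup]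
    rw [hc]
    exact isCompact_iUnion fun i => (isAffineOpen_D 𝒮 p chart V hV (ha i)).isCompact
  refine ⟨hMinv, inferInstance, fun x => ?_⟩
  have hxW : W.ι.base x ∈ W := x.2
  obtain ⟨i, hi⟩ : ∃ i, W.ι.base x ∈ D 𝒮 p chart V hV (a i) := by
    have h1 : W.ι.base x ∈ ⨆ i, D 𝒮 p chart V hV (a i) := hW ▸ hxW
    exact Opens.mem_iSup.mp h1
  obtain ⟨σ, hσ0⟩ := exists_readsFrac 𝒮 p chart 1 L lam hL V hV (p ⁻¹ᵁ V) le_rfl
    (⟨a i, ha i⟩ : 𝒮.deg V hV 1) (⟨1, SetLike.GradedOne.one_mem⟩ : 𝒮.deg V hV 0) (by norm_num)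
    (Groth.Agent.H41.FundMap.one_not_mem 𝒮 p chart V hV _)
  have hσ : ReadsFrac 𝒮 p chart 1 L lam V hV (p ⁻¹ᵁ V) σ (a i) 1 := hσ0
  have htopV : W.ι ''ᵁ ⊤ ≤ p ⁻¹ᵁ V := by
    rintro _ ⟨w, -, rfl⟩
    exact hWV w.2
  obtain ⟨t, ht⟩ : ∃ t : Γ(L.restrict W.ι, ⊤),
      t = toRes W.ι L (L.presheaf.map (homOfLE htopV).op σ) := ⟨_, rfl⟩
  have hG : ∀ w : ↥((W : P.Opens) : Scheme.{u}),
      w ∈ CohB1.genLocus (L.restrict W.ι) (secHom (L.restrict W.ι) t) ↔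
        W.ι.base w ∈ D 𝒮 p chart V hV (a i) := by
    intro w
    have hw : W.ι.base w ∈ W.ι ''ᵁ ⊤ := ⟨w, trivial, rfl⟩
    have h2 : GenAt L (ofRes W.ι L t) (W.ι.base w) ↔ GenAt L σ (W.ι.base w) := by
      rw [ht]
      exact genAt_res htopV σ hw
    refine (mem_genLocus_secHom (L.restrict W.ι) t w).trans
      ((genAt_restrict W.ι L t w).trans (h2.trans ⟨?_, ?_⟩))
    · exact mem_D_of_genAt 𝒮 p chart L lam hL hgen hσ
    · intro hD
      exact ⟨_, D_le 𝒮 p chart V hV (a i), hD, isGen_of_reads 𝒮 p chart L lam hL (ha i) hσ⟩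
  have hGeq : CohB1.genLocus (L.restrict W.ι) (secHom (L.restrict W.ι) t) =
      W.ι ⁻¹ᵁ D 𝒮 p chart V hV (a i) := Opens.ext (Set.ext fun w => hG w)
  have hT := Groth.Agent.H18.ProjOpenAmple.genLocus_tmulHom_id hMinv (secHom (L.restrict W.ι) t)
  have h3 : x ∈ CohB1.genLocus
      (CohB1.tensorMod (Coh.structureModule ((W : P.Opens) : Scheme.{u})) (L.restrict W.ι))
      (SecTwist.tmulHom (𝟙 (Coh.structureModule ((W : P.Opens) : Scheme.{u})))
        (secHom (L.restrict W.ι) t)) := by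
    rw [hT, hGeq]
    exact hi
  have h4 : IsAffineOpen (CohB1.genLocus
      (CohB1.tensorMod (Coh.structureModule ((W : P.Opens) : Scheme.{u})) (L.restrict W.ι))
      (SecTwist.tmulHom (𝟙 (Coh.structureModule ((W : P.Opens) : Scheme.{u})))
        (secHom (L.restrict W.ι) t))) := by
    rw [hT, hGeq]
    apply W.ι.isAffineOpen_iff_of_isOpenImmersion.mp
    have h5 : W.ι ''ᵁ (W.ι ⁻¹ᵁ D 𝒮 p chart V hV (a i)) = D 𝒮 p chart V hV (a i) := by
      rw [Scheme.Hom.image_preimage_eq_opensRange_inf, Scheme.Opens.opensRange_ι]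
      exact inf_eq_right.mpr (hDW i)
    rw [h5]
    exact isAffineOpen_D 𝒮 p chart V hV (ha i)
  exact ⟨0, SecTwist.tmulHom (𝟙 (Coh.structureModule ((W : P.Opens) : Scheme.{u})))
    (secHom (L.restrict W.ι) t), h3, h4⟩

end Groth.Agent.H41.TwistAmpleRel
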