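import Mathlib
import Groth.Prelude.Def_Omega3
import Groth.Prelude.Def_MoreMor
import Groth.Agent.H70.UTTrans.Defs

set_option autoImplicit false
universe u
open AlgebraicGeometry CategoryTheory Limits
open Groth.Agent.H70.UTTrans

namespace Groth.Agent.H41.UTS_FS

theorem exists_ring_lift_of_isFormallySmoothHom {X Y : Scheme.{u}} (p : X ⟶ Y)
    (hp : MoreMor.IsFormallySmoothHom p)
    {V : Y.Opens} (hV : IsAffineOpen V) {U : X.Opens} (hU : IsAffineOpen U) (e : U ≤ p ⁻¹ᵁ V)
    (D : Type u) [CommRing D] (L : Ideal D) (hL : L ^ 2 = ⊥)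
    (β : Γ(X, U) →+* D ⧸ L) (α : Γ(Y, V) →+* D)
    (h : (Ideal.Quotient.mk L).comp α = β.comp (p.appLE V U e).hom) :
    ∃ l : Γ(X, U) →+* D, (Ideal.Quotient.mk L).comp l = β ∧ l.comp (p.appLE V U e).hom = α := by
  classical
  set q : CommRingCat.of D ⟶ CommRingCat.of (D ⧸ L) :=
    CommRingCat.ofHom (Ideal.Quotient.mk L) with hq
  set a : Spec (CommRingCat.of (D ⧸ L)) ⟶ X := Spec.map (CommRingCat.ofHom β) ≫ hU.fromSpec with ha
  set b : Spec (CommRingCat.of D) ⟶ Y := Spec.map (CommRingCat.ofHom α) ≫ hV.fromSpec with hb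
  have hfac : hU.fromSpec ≫ p = Spec.map (p.appLE V U e) ≫ hV.fromSpec :=
    (IsAffineOpen.SpecMap_appLE_fromSpec p hV hU e).symm
  have hh : CommRingCat.ofHom α ≫ q = p.appLE V U e ≫ CommRingCat.ofHom β := by
    ext x
    exact congrArg (fun f => f x) h
  have hsq : Spec.map q ≫ b = a ≫ p := by
    rw [hb, ha, Category.assoc, hfac, ← Spec.map_comp_assoc, ← Spec.map_comp_assoc, hh]
  obtain ⟨l₀, hl₁, hl₂⟩ := hp D L hL a b hsq
  -- `Spec.map q` is surjective on points
  have hsurj : Function.Surjective (Spec.map q) := by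
    intro x
    have hx : x ∈ Set.range (PrimeSpectrum.comap (Ideal.Quotient.mk L)) := by
      rw [_root_.range_comap_of_surjective _ _ Ideal.Quotient.mk_surjective,
        Ideal.mk_ker]
      intro y hy
      have hy2 : y ^ 2 ∈ L ^ 2 := Ideal.pow_mem_pow hy 2
      rw [hL] at hy2
      have : y ^ 2 ∈ x.asIdeal := by
        rw [(Submodule.mem_bot D).mp hy2]; exact x.asIdeal.zero_mem
      exact x.isPrime.mem_of_pow_mem 2 this
    obtain ⟨y, hy⟩ := hx
    exact ⟨y, hy⟩
  have hrange : Set.range l₀ ⊆ Set.range hU.fromSpec := by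
    rintro _ ⟨x, rfl⟩
    obtain ⟨y, rfl⟩ := hsurj x
    have : l₀ (Spec.map q y) = a y := by
      rw [← hl₁]; rfl
    rw [this, ha]
    exact ⟨Spec.map (CommRingCat.ofHom β) y, rfl⟩
  set t : Spec (CommRingCat.of D) ⟶ Spec Γ(X, U) :=
    IsOpenImmersion.lift hU.fromSpec l₀ hrange with ht
  have htfac : t ≫ hU.fromSpec = l₀ := IsOpenImmersion.lift_fac _ _ _
  set lc : Γ(X, U) ⟶ CommRingCat.of D := Spec.preimage t with hlc
  have hlct : Spec.map lc = t := Spec.map_preimage t
  refine ⟨lc.hom, ?_, ?_⟩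
  · have h1 : Spec.map q ≫ t = Spec.map (CommRingCat.ofHom β) := by
      rw [← cancel_mono hU.fromSpec, Category.assoc, htfac, hl₁]
    rw [← hlct, ← Spec.map_comp, Spec.map_inj] at h1
    have := congrArg CommRingCat.Hom.hom h1
    simpa [hq] using this
  · have h2 : t ≫ Spec.map (p.appLE V U e) = Spec.map (CommRingCat.ofHom α) := by
      rw [← cancel_mono hV.fromSpec, Category.assoc, ← hfac, ← Category.assoc, htfac, hl₂]
    rw [← hlct, ← Spec.map_comp, Spec.map_inj] at h2
    have := congrArg CommRingCat.Hom.hom h2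
    simpa using this

end Groth.Agent.H41.UTS_FS
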