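import Mathlib
import Groth.Prelude.Def_Omega3
import Groth.Prelude.Def_MoreMor
import Groth.Agent.H70.UTTrans.Defs
import Groth.Agent.H41.ModGlue

set_option autoImplicit false
universe u
open AlgebraicGeometry CategoryTheory Limits
open Groth.Agent.H70.UTTrans

namespace Groth.Agent.H41.UTS_HM

/-- Transport of a section-level retraction along an equality of opens. -/
lemma transport {X : Scheme.{u}} {F G : X.Modules} (ψ : G ⟶ F) {V W : X.Opens} (h : V = W)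
    (ρ : Γ(F, W) →ₗ[Γ(X, W)] Γ(G, W)) (hρ : ∀ y : Γ(G, W), ρ (ψ.app W y) = y) :
    ∃ ρ' : Γ(F, V) →ₗ[Γ(X, V)] Γ(G, V), ∀ y : Γ(G, V), ρ' (ψ.app V y) = y := by
  subst h
  exact ⟨ρ, hρ⟩

theorem exists_restrict_retraction {X : Scheme.{u}} {F G : X.Modules} [F.IsQuasicoherent]
    [G.IsQuasicoherent] (ψ : G ⟶ F) {W : X.Opens} (hW : IsAffineOpen W)
    (ρ : Γ(F, W) →ₗ[Γ(X, W)] Γ(G, W)) (hρ : ∀ y : Γ(G, W), ρ (ψ.app W y) = y) :
    ∃ r : (Scheme.Modules.restrictFunctor W.ι).obj F ⟶ (Scheme.Modules.restrictFunctor W.ι).obj G,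
      (Scheme.Modules.restrictFunctor W.ι).map ψ ≫ r = 𝟙 _ := by
  classical
  have : IsAffine W.toScheme := hW
  obtain ⟨ρ₁, hρ₁⟩ := transport ψ (V := W.ι ''ᵁ ⊤) (W := W) (by simp) ρ hρ
  let F' := (Scheme.Modules.restrictFunctor W.ι).obj F
  let G' := (Scheme.Modules.restrictFunctor W.ι).obj G
  let ρ' : Γ(F', (⊤ : W.toScheme.Opens)) →ₗ[Γ(W.toScheme, ⊤)] Γ(G', (⊤ : W.toScheme.Opens)) :=
    { toFun := fun x => ρ₁ x
      map_add' := fun x y => ρ₁.map_add x y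
      map_smul' := fun r x => ρ₁.map_smul ((W.ι.appIso ⊤).inv r) x }
  have hdir : Groth.Agent.H41.ModGlue.FamDirected (F := F') (G := G')
      (fun _ : Unit => (⊤ : W.toScheme.Opens)) (fun _ => ρ') := by
    intro i j y hy _
    refine ⟨(), hy, le_rfl, le_rfl, ?_, ?_⟩ <;>
    · intro x
      have h1 : (homOfLE (le_refl (⊤ : W.toScheme.Opens))).op = 𝟙 _ := Subsingleton.elim _ _
      rw [h1, F'.presheaf.map_id, G'.presheaf.map_id]
      rfl
  have hcov : TopologicalSpace.IsOpenCover (fun _ : Unit => (⊤ : W.toScheme.Opens)) := by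
    rw [TopologicalSpace.IsOpenCover]
    simp
  obtain ⟨r, hr⟩ := Groth.Agent.H41.ModGlue.exists_hom_of_affine_family (F := F') (G := G')
    (fun _ : Unit => (⊤ : W.toScheme.Opens)) (fun _ => isAffineOpen_top _) (fun _ => ρ') hdir hcov
  refine ⟨r, ?_⟩
  refine Groth.Agent.H41.ModGlue.hom_ext_of_affine_cover (A := G') (B := G') _ _
    (fun _ : Unit => (⊤ : W.toScheme.Opens)) hcov (fun _ => isAffineOpen_top _) ?_
  intro _ x
  change r.app ⊤ (ψ.app (W.ι ''ᵁ ⊤) x) = x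
  rw [hr ()]
  exact hρ₁ x

end Groth.Agent.H41.UTS_HM
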