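import Mathlib

/-!
# Veronese-type lemma for ℕ-graded rings of finite type over their degree-zero part

`veronese`: if `S` is of finite type over `𝒜 0`, there is `d₀ > 0` such that for every multiple `d = m * d₀`
(`m > 0`): `𝒜 (k * d) = (𝒜 d) ^ k` for all `k > 0` (as ℤ-submodules), and `𝒜 d` is finitely generated over `𝒜 0`.
-/

namespace Groth.Agent.H41.Veronese

variable {S : Type*} [CommRing S] (𝒜 : ℕ → AddSubgroup S) [GradedRing 𝒜]

/-- the degree-`e` part as a `ℤ`-submodule -/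
abbrev I (e : ℕ) : Submodule ℤ S := AddSubgroup.toIntSubmodule (𝒜 e)

lemma mem_I {e : ℕ} {x : S} : x ∈ I 𝒜 e ↔ x ∈ 𝒜 e := Iff.rfl

lemma I_mul_le (a b : ℕ) : I 𝒜 a * I 𝒜 b ≤ I 𝒜 (a + b) :=
  Submodule.mul_le.mpr fun _ hx _ hy => SetLike.mul_mem_graded (A := 𝒜) hx hy

lemma I_pow_le (a : ℕ) : ∀ k : ℕ, I 𝒜 a ^ k ≤ I 𝒜 (k * a)
  | 0 => by
      rw [pow_zero, zero_mul, Submodule.one_le]
      exact (SetLike.GradedOne.one_mem : (1 : S) ∈ 𝒜 0)
  | k + 1 => by
      rw [pow_succ, Nat.succ_mul]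
      exact (mul_le_mul' (I_pow_le a k) le_rfl).trans (I_mul_le 𝒜 _ _)

lemma pow_mono' {M N : Submodule ℤ S} (h : M ≤ N) : ∀ k : ℕ, M ^ k ≤ N ^ k
  | 0 => by simp
  | k + 1 => by
      rw [pow_succ, pow_succ]
      exact mul_le_mul' (pow_mono' h k) h

/-- `FiniteType` over a ring mapping into degree zero gives `FiniteType` over the degree-zero subring. -/
lemma finiteType_zero {R : Type*} [CommRing R] (f : R →+* S) (hf : f.FiniteType)
    (h0 : ∀ r, f r ∈ 𝒜 0) : Algebra.FiniteType (𝒜 0) S := by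
  let _ := f.toAlgebra
  obtain ⟨t, ht⟩ := (show Algebra.FiniteType R S from hf).out
  refine ⟨⟨t, ?_⟩⟩
  rw [eq_top_iff]
  intro x _
  have hx : x ∈ Algebra.adjoin R (t : Set S) := ht ▸ Algebra.mem_top
  refine Algebra.adjoin_induction (p := fun x _ => x ∈ Algebra.adjoin (𝒜 0) (t : Set S)) ?_ ?_ ?_ ?_ hx
  · intro y hy; exact Algebra.subset_adjoin hy
  · intro r
    show f r ∈ _
    exact Subalgebra.algebraMap_mem (Algebra.adjoin (𝒜 0) (t : Set S)) (⟨f r, h0 r⟩ : 𝒜 0)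
  · intro a b _ _ ha hb; exact add_mem ha hb
  · intro a b _ _ ha hb; exact mul_mem ha hb

section gens

variable (s : Finset S) (n : S → ℕ)

/-- the monomial with exponent vector `a` in the elements of `s` -/
def mono (a : s →₀ ℕ) : S := ∏ i : s, (i : S) ^ a i

/-- the weighted degree of the exponent vector `a` -/
def wt (a : s →₀ ℕ) : ℕ := ∑ i : s, a i * n i

open scoped Classical in
/-- complementary product -/
noncomputable def kk (i : s) : ℕ := ∏ j ∈ Finset.univ.erase i, n j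

open scoped Classical in
lemma kk_mul (i : s) : kk s n i * n i = ∏ j : s, n j := by
  unfold kk
  exact Finset.prod_erase_mul _ _ (Finset.mem_univ i)

lemma mono_single_add (i : s) (k : ℕ) (a' : s →₀ ℕ) :
    mono s (Finsupp.single i k + a') = (i : S) ^ k * mono s a' := by
  classical
  unfold mono
  simp only [Finsupp.add_apply, pow_add, Finset.prod_mul_distrib]
  congr 1
  rw [Finset.prod_eq_single i]
  · simp
  · intro j _ hj
    simp [Finsupp.single_apply, hj.symm]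
  · intro h; exact absurd (Finset.mem_univ i) h

lemma wt_single_add (i : s) (k : ℕ) (a' : s →₀ ℕ) :
    wt s n (Finsupp.single i k + a') = k * n i + wt s n a' := by
  classical
  unfold wt
  simp only [Finsupp.add_apply, add_mul, Finset.sum_add_distrib]
  congr 1
  rw [Finset.sum_eq_single i]
  · simp
  · intro j _ hj
    simp [Finsupp.single_apply, hj.symm]
  · intro h; exact absurd (Finset.mem_univ i) h

variable {s n}

lemma mono_mem (hn : ∀ i ∈ s, n i ≠ 0 ∧ i ∈ 𝒜 (n i)) (a : s →₀ ℕ) : mono s a ∈ 𝒜 (wt s n a) := by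
  have := SetLike.prod_pow_mem_graded 𝒜 (fun i : s => n i) (fun i : s => (i : S)) (fun i => a i)
    (F := Finset.univ) (fun k _ => (hn k.1 k.2).2)
  simpa only [mono, wt, smul_eq_mul] using this

/-- Every element of degree `e` is an `𝒜 0`-combination of monomials of weighted degree `e`. -/
lemma exists_repr (hs : Algebra.adjoin (𝒜 0) (s : Set S) = ⊤)
    (hn : ∀ i ∈ s, n i ≠ 0 ∧ i ∈ 𝒜 (n i)) {e : ℕ} {x : S} (hx : x ∈ 𝒜 e) :
    ∃ (F : Finset (s →₀ ℕ)) (c : (s →₀ ℕ) → S), (∀ a ∈ F, wt s n a = e) ∧ (∀ a, c a ∈ 𝒜 0) ∧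
      x = ∑ a ∈ F, c a * mono s a := by
  classical
  have hrange : Set.range (fun i : s => (i : S)) = (s : Set S) := by
    ext y; simp
  have hx' : x ∈ (MvPolynomial.aeval (R := 𝒜 0) (fun i : s => (i : S))).range := by
    rw [← Algebra.adjoin_range_eq_range_aeval, hrange, hs]
    exact Algebra.mem_top
  obtain ⟨p, hp⟩ := hx'
  have hp' : MvPolynomial.aeval (fun i : s => (i : S)) p = x := hp
  refine ⟨p.support.filter (fun a => wt s n a = e), fun a => ((MvPolynomial.coeff a p : 𝒜 0) : S), ?_, ?_, ?_⟩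
  · intro a ha; exact (Finset.mem_filter.mp ha).2
  · intro a; exact (p.coeff a).2
  · have h1 : MvPolynomial.aeval (fun i : s => (i : S)) p =
        ∑ a ∈ p.support, ((MvPolynomial.coeff a p : 𝒜 0) : S) * mono s a := by
      refine (congrArg _ (MvPolynomial.as_sum p)).trans ?_
      rw [map_sum]
      refine Finset.sum_congr rfl fun a _ => ?_
      rw [MvPolynomial.aeval_monomial, Finsupp.prod_fintype _ _ (fun i => pow_zero _)]
      rfl
    have h2 : ∀ a : s →₀ ℕ, GradedRing.proj 𝒜 e (((MvPolynomial.coeff a p : 𝒜 0) : S) * mono s a) =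
        if wt s n a = e then ((MvPolynomial.coeff a p : 𝒜 0) : S) * mono s a else 0 := by
      intro a
      have hm : ((MvPolynomial.coeff a p : 𝒜 0) : S) * mono s a ∈ 𝒜 (wt s n a) := by
        have := SetLike.mul_mem_graded (A := 𝒜) (p.coeff a).2 (mono_mem 𝒜 hn a)
        rwa [zero_add] at this
      rw [GradedRing.proj_apply]
      split_ifs with h
      · rw [h] at hm
        exact DirectSum.decompose_of_mem_same 𝒜 hm
      · exact DirectSum.decompose_of_mem_ne 𝒜 hm h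
    calc x = GradedRing.proj 𝒜 e x := by
          rw [GradedRing.proj_apply, DirectSum.decompose_of_mem_same 𝒜 hx]
      _ = ∑ a ∈ p.support, GradedRing.proj 𝒜 e (((MvPolynomial.coeff a p : 𝒜 0) : S) * mono s a) := by
          rw [← hp', h1, map_sum]
      _ = ∑ a ∈ p.support, if wt s n a = e then ((MvPolynomial.coeff a p : 𝒜 0) : S) * mono s a else 0 :=
          Finset.sum_congr rfl fun a _ => h2 a
      _ = ∑ a ∈ p.support.filter (fun a => wt s n a = e), ((MvPolynomial.coeff a p : 𝒜 0) : S) * mono s a :=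
          (Finset.sum_filter _ _).symm

/-- the span of the powers `i ^ kk i`, all of degree `q = ∏ n i` -/
noncomputable def Z (s : Finset S) (n : S → ℕ) : Submodule ℤ S :=
  Submodule.span ℤ (Set.range fun i : s => (i : S) ^ kk s n i)

lemma Z_le (hn : ∀ i ∈ s, n i ≠ 0 ∧ i ∈ 𝒜 (n i)) : Z s n ≤ I 𝒜 (∏ j : s, n j) := by
  refine Submodule.span_le.mpr ?_
  rintro _ ⟨i, rfl⟩
  have := SetLike.pow_mem_graded (A := 𝒜) (kk s n i) (hn i.1 i.2).2
  rw [smul_eq_mul, kk_mul] at this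
  exact this

lemma step (hs : Algebra.adjoin (𝒜 0) (s : Set S) = ⊤)
    (hn : ∀ i ∈ s, n i ≠ 0 ∧ i ∈ 𝒜 (n i)) (D : ℕ) (hD : s.card * (∏ i : s, n i) ≤ D) :
    I 𝒜 (D + ∏ i : s, n i) ≤ Z s n * I 𝒜 D := by
  classical
  intro x hx
  obtain ⟨F, c, hF, hc, rfl⟩ := exists_repr 𝒜 hs hn hx
  refine Submodule.sum_mem _ fun a ha => ?_
  have hqpos : 0 < ∏ j : s, n j := Finset.prod_pos fun i _ => Nat.pos_of_ne_zero (hn i.1 i.2).1
  obtain ⟨i, hi⟩ : ∃ i : s, kk s n i ≤ a i := by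
    by_contra hcon
    push Not at hcon
    have h1 : wt s n a ≤ s.card * ∏ j : s, n j := by
      unfold wt
      calc ∑ i : s, a i * n i ≤ ∑ _i : s, ∏ j : s, n j := Finset.sum_le_sum fun i _ => by
              rw [← kk_mul s n i]; exact Nat.mul_le_mul_right _ (hcon i).le
        _ = s.card * ∏ j : s, n j := by simp
    have := hF a ha
    omega
  obtain ⟨a', haa⟩ : ∃ a' : s →₀ ℕ, a = Finsupp.single i (kk s n i) + a' := by
    refine ⟨a - Finsupp.single i (kk s n i), ?_⟩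
    ext j
    simp only [Finsupp.add_apply, Finsupp.tsub_apply, Finsupp.single_apply]
    split_ifs with h
    · subst h; omega
    · omega
  have hmono : mono s a = (i : S) ^ kk s n i * mono s a' := by rw [haa, mono_single_add]
  have hw : wt s n a' = D := by
    have h1 := hF a ha
    rw [haa, wt_single_add, kk_mul] at h1
    omega
  have hmem : c a * mono s a' ∈ 𝒜 D := by
    have := SetLike.mul_mem_graded (A := 𝒜) (hc a) (mono_mem 𝒜 hn a')
    rwa [zero_add, hw] at this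
  rw [hmono, mul_left_comm]
  exact Submodule.mul_mem_mul (Submodule.subset_span ⟨i, rfl⟩) hmem

lemma iter_step (hs : Algebra.adjoin (𝒜 0) (s : Set S) = ⊤)
    (hn : ∀ i ∈ s, n i ≠ 0 ∧ i ∈ 𝒜 (n i)) (D : ℕ) (hD : s.card * (∏ i : s, n i) ≤ D) :
    ∀ j : ℕ, I 𝒜 (D + j * ∏ i : s, n i) ≤ Z s n ^ j * I 𝒜 D
  | 0 => by simp
  | j + 1 => by
      have e : D + (j + 1) * (∏ i : s, n i) = (D + j * ∏ i : s, n i) + ∏ i : s, n i := by ring
      rw [e, pow_succ', mul_assoc]
      exact (step 𝒜 hs hn (D + j * ∏ i : s, n i) (hD.trans (Nat.le_add_right _ _))).trans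
        (mul_le_mul' le_rfl (iter_step hs hn D hD j))

lemma exists_T (hs : Algebra.adjoin (𝒜 0) (s : Set S) = ⊤)
    (hn : ∀ i ∈ s, n i ≠ 0 ∧ i ∈ 𝒜 (n i)) (e : ℕ) :
    ∃ T : Finset S, (↑T : Set S) ⊆ (𝒜 e : Set S) ∧
      I 𝒜 e = I 𝒜 0 * Submodule.span ℤ (↑T : Set S) := by
  classical
  have hfin : {a : s →₀ ℕ | wt s n a = e}.Finite := by
    have := Finsupp.finite_of_nat_weight_eq (fun i : s => n i) (fun i => (hn i.1 i.2).1) e
    refine this.subset ?_
    intro a ha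
    simp only [Set.mem_ofPred_eq] at ha ⊢
    rw [Finsupp.weight_eq_sum]
    simpa only [wt, smul_eq_mul] using ha
  have hT : ∀ t, t ∈ (hfin.toFinset.image (mono s) : Finset S) ↔ ∃ a, wt s n a = e ∧ mono s a = t := by
    intro t; simp
  refine ⟨hfin.toFinset.image (mono s), ?_, le_antisymm ?_ ?_⟩
  · intro t ht
    obtain ⟨a, ha, rfl⟩ := (hT t).mp ht
    exact ha ▸ mono_mem 𝒜 hn a
  · intro x hx
    obtain ⟨F, c, hF, hc, rfl⟩ := exists_repr 𝒜 hs hn hx
    refine Submodule.sum_mem _ fun a ha =>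
      Submodule.mul_mem_mul (hc a) (Submodule.subset_span ?_)
    exact (hT _).mpr ⟨a, hF a ha, rfl⟩
  · refine Submodule.mul_le.mpr fun x hx y hy => ?_
    have hy' : y ∈ I 𝒜 e := by
      refine Submodule.span_le.mpr ?_ hy
      intro t ht
      obtain ⟨a, ha, rfl⟩ := (hT t).mp ht
      exact ha ▸ mono_mem 𝒜 hn a
    have := SetLike.mul_mem_graded (A := 𝒜) hx hy'
    rwa [zero_add] at this

end gens

theorem veronese [Algebra.FiniteType (𝒜 0) S] :
    ∃ d₀ : ℕ, 0 < d₀ ∧ ∀ m : ℕ, 0 < m →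
      (∀ k : ℕ, 0 < k → I 𝒜 (k * (m * d₀)) = I 𝒜 (m * d₀) ^ k) ∧
      ∃ T : Finset S, (↑T : Set S) ⊆ (𝒜 (m * d₀) : Set S) ∧
        I 𝒜 (m * d₀) = I 𝒜 0 * Submodule.span ℤ (↑T : Set S) := by
  classical
  obtain ⟨s, hs, hs'⟩ := GradedAlgebra.exists_finset_adjoin_eq_top_and_homogeneous_ne_zero 𝒜
  choose! n hn using hs'
  have hqpos : 0 < ∏ i : s, n i := Finset.prod_pos fun i _ => Nat.pos_of_ne_zero (hn i.1 i.2).1
  refine ⟨(s.card + 1) * ∏ i : s, n i, Nat.mul_pos (Nat.succ_pos _) hqpos, fun m hm =>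
    ⟨fun k hk => ?_, exists_T 𝒜 hs hn _⟩⟩
  obtain ⟨J, hJ⟩ : ∃ J : ℕ, J = m * (s.card + 1) := ⟨_, rfl⟩
  have hd : m * ((s.card + 1) * ∏ i : s, n i) = J * ∏ i : s, n i := by rw [hJ, mul_assoc]
  rw [hd]
  have hJge : s.card ≤ J := by rw [hJ]; nlinarith
  have hDge : s.card * (∏ i : s, n i) ≤ J * ∏ i : s, n i := Nat.mul_le_mul_right _ hJge
  refine le_antisymm ?_ (I_pow_le 𝒜 _ k)
  obtain ⟨k', rfl⟩ : ∃ k', k = k' + 1 := ⟨k - 1, by omega⟩
  have e1 : (k' + 1) * (J * ∏ i : s, n i) = J * (∏ i : s, n i) + (k' * J) * ∏ i : s, n i := by ring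
  rw [e1]
  refine (iter_step 𝒜 hs hn _ hDge (k' * J)).trans ?_
  rw [pow_succ]
  refine mul_le_mul' ?_ le_rfl
  rw [mul_comm k' J, pow_mul]
  refine pow_mono' ?_ k'
  exact (pow_mono' (Z_le 𝒜 hn) J).trans (I_pow_le 𝒜 _ J)

end Groth.Agent.H41.Veronese
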